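import Cfsg.Agent.Lib.Amalg.Ops
import Cfsg.Agent.Lib.Core.Fitting
import Cfsg.Agent.Lib.Core.Subnormal
import Cfsg.Agent.S0071
import Cfsg.Agent.S0205

/-! A product-order criterion for nilpotency of a term of the lower central series. -/

set_option autoImplicit false
set_option linter.unusedSectionVars false

namespace Cfsg.Lib.Amalg.BW

open Subgroup
open Cfsg.Lib.Core hiding isPGroup_subgroupOf isPGroup_subgroupOf_iff isPGroup_map_subtype_iff
  isPGroup_zpowers_of_orderOf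
open scoped commutatorElement

attribute [local instance] fitting_normal solvableRadical_normal

variable {G : Type*} [Group G] {p k : ℕ} {B L : Subgroup G}

/-- left normed commutators with first entry in `B` and `k` further entries in `L` -/
def Val (B L : Subgroup G) : ℕ → G → Prop
  | 0, x => x ∈ B
  | k + 1, x => ∃ u c, Val B L k u ∧ c ∈ L ∧ x = ⁅u, c⁆

theorem comm_mem {u c : G} (hu : u ∈ B) (hc : c ∈ 𝐍 B) : ⁅u, c⁆ ∈ B := by
  rw [show ⁅u, c⁆ = u * (c * u⁻¹ * c⁻¹) by rw [commutatorElement_def]; group]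
  exact B.mul_mem hu (conj_mem_of_mem_normalizer hc (B.inv_mem hu))

theorem Val.mem (h : L ≤ 𝐍 B) : ∀ {k : ℕ} {x : G}, Val B L k x → x ∈ B
  | 0, _, hx => hx
  | _ + 1, _, ⟨_, _, hu, hc, e⟩ => e ▸ comm_mem (hu.mem h) (h hc)

theorem Val.succ (h : L ≤ 𝐍 B) : ∀ {k : ℕ} {x : G}, Val B L (k + 1) x → Val B L k x
  | 0, _, hx => hx.mem h
  | _ + 1, _, ⟨u, c, hu, hc, e⟩ => ⟨u, c, hu.succ h, hc, e⟩

theorem Val.map {Q : Type*} [Group Q] (f : G →* Q) {B' L' : Subgroup Q} (h1 : B.map f ≤ B') (h2 : L.map f ≤ L') :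
    ∀ {k : ℕ} {x : G}, Val B L k x → Val B' L' k (f x)
  | 0, _, hx => h1 ⟨_, hx, rfl⟩
  | _ + 1, _, ⟨u, c, hu, hc, e⟩ => ⟨f u, f c, hu.map f h1 h2, h2 ⟨c, hc, rfl⟩, e ▸ map_commutatorElement f u c⟩

theorem Val.lift {Q : Type*} [Group Q] (f : G →* Q) {B' L' : Subgroup Q} (h1 : B' ≤ B.map f) (h2 : L' ≤ L.map f) :
    ∀ {k : ℕ} {y : Q}, Val B' L' k y → ∃ x, Val B L k x ∧ f x = y
  | 0, _, hx => h1 hx
  | _ + 1, _, ⟨u, c, hu, hc, e⟩ => by
    obtain ⟨u', hu', rfl⟩ := hu.lift f h1 h2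
    obtain ⟨c', hc', rfl⟩ := h2 hc
    exact ⟨_, ⟨u', c', hu', hc', rfl⟩, e ▸ map_commutatorElement f u' c'⟩

theorem Val.le_ucs : ∀ {k j : ℕ}, (∀ x, Val B ⊤ k x → x ∈ Subgroup.upperCentralSeries G j) → B ≤ Subgroup.upperCentralSeries G (j + k)
  | 0, _, h => h
  | k + 1, j, h => by
    rw [show j + (k + 1) = j + 1 + k by omega]
    exact Val.le_ucs fun x hx => Subgroup.mem_upperCentralSeries_succ_iff.2 fun y => h _ ⟨x, y, hx, trivial, rfl⟩

theorem Val.mem_lcs : ∀ {k : ℕ} {x : G}, Val ⊤ ⊤ k x → x ∈ (⊤ : Subgroup G).lowerCentralSeries k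
  | 0, _, hx => hx
  | _ + 1, _, ⟨_, _, hu, hc, e⟩ => e ▸ commutator_mem_commutator hu.mem_lcs hc

/-- iterated commutator with a fixed element -/
def it (a : G) (k : ℕ) (b : G) : G := (fun u => ⁅u, a⁆)^[k] b

theorem it_succ (a : G) (k : ℕ) (b : G) : it a (k + 1) b = it a k ⁅b, a⁆ := Function.iterate_succ_apply _ _ _

theorem it_succ' (a : G) (k : ℕ) (b : G) : it a (k + 1) b = ⁅it a k b, a⁆ := Function.iterate_succ_apply' _ _ _

theorem val_it {a b : G} (ha : a ∈ L) (hb : b ∈ B) : ∀ k, Val B L k (it a k b)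
  | 0 => hb
  | k + 1 => ⟨_, a, val_it ha hb k, ha, it_succ' a k b⟩

theorem it_eq_one {a : G} (ha : a ∈ 𝐍 B) (hc : (Nat.card B).Coprime (orderOf a)) :
    ∀ (k : ℕ) {v : G}, v ∈ B → it a (k + 1) v = 1 → ⁅v, a⁆ = 1
  | 0, _, _, h => h
  | k + 1, v, hv, h => by
    rw [it_succ] at h
    have h1 : Commute ⁅v, a⁆ a := commutatorElement_eq_one_iff_commute.1 (it_eq_one ha hc k (comm_mem hv ha) h)
    have h2 := h1.mul_pow (orderOf a)
    rw [show ⁅v, a⁆ * a = v * a * v⁻¹ by rw [commutatorElement_def]; group, conj_pow, pow_orderOf_eq_one, mul_one,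
      mul_one, mul_inv_cancel] at h2
    exact orderOf_eq_one_iff.1 (Nat.eq_one_of_dvd_coprimes hc (B.orderOf_dvd_natCard (comm_mem hv ha))
      (orderOf_dvd_of_pow_eq_one h2.symm))

/-- `x` centralizes every subgroup of coprime order that it normalizes -/
def Good (x : G) : Prop := ∀ N : Subgroup G, x ∈ 𝐍 N → (Nat.card N).Coprime (orderOf x) → x ∈ 𝐂 N

theorem Good.sub {H : Subgroup G} {x : H} (h : Good (x : G)) : Good x := fun N h1 h2 n hn =>
  Subtype.ext (h (N.map H.subtype) (le_normalizer_map H.subtype ⟨x, h1, rfl⟩)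
    (by rwa [card_map_of_injective H.subtype_injective, orderOf_coe]) n ⟨n, hn, rfl⟩)

variable [Finite G]

theorem good_of_cond (h : ∀ x y : G, Val ⊤ ⊤ k x → Val ⊤ ⊤ k y → (orderOf x).Coprime (orderOf y) →
    (∀ r : ℕ, r.Prime → r ∣ orderOf x * orderOf y → r ∣ orderOf (x * y)) ∨ orderOf x * orderOf y ≤ orderOf (x * y))
    {x : G} (hx : Val ⊤ ⊤ k x) : Good x := by
  intro N h1 h2 n hn
  refine commutatorElement_eq_one_iff_mul_comm.1 (it_eq_one h1 h2 k hn (orderOf_eq_one_iff.1 ?_))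
  have hc : (orderOf (it x (k + 1) n)).Coprime (orderOf x) :=
    coprime_orderOf_of_mem h2 ((val_it h1 hn (k + 1)).mem le_rfl)
  have := h _ _ ((val_it (mem_top x) (mem_top n) (k + 1)).succ le_normalizer) hx hc
  rw [show orderOf (it x (k + 1) n * x) = orderOf x by
    rw [it_succ', commutatorElement_def, inv_mul_cancel_right]; exact (MulAut.conj _).orderOf_eq x] at this
  rcases this with h3 | h3
  · exact Nat.eq_one_iff_not_exists_prime_dvd.2 fun r hr hd =>
      hr.one_lt.ne' (Nat.eq_one_of_dvd_coprimes hc hd (h3 r hr (hd.mul_right _)))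
  · have := orderOf_pos x
    have := orderOf_pos (it x (k + 1) n)
    nlinarith

variable [hp : Fact p.Prime]

theorem exists_pow_order (hB : IsPGroup p B) {w : G} (hw : w ∈ B) (h1 : w ≠ 1) : ∃ m, orderOf (w ^ m) = p := by
  obtain ⟨n, hn⟩ := pow_eq_one_iff_orderOf.1 (isPGroup_iff_mem.1 hB w hw)
  refine ⟨_, orderOf_pow_orderOf_div (orderOf_pos w).ne' (hn ▸ dvd_pow_self p ?_)⟩
  rintro rfl
  exact h1 (orderOf_eq_one_iff.1 hn)

theorem exists_order (hB : IsPGroup p B) {a : G} (ha : a ∈ 𝐍 B) (hc : (orderOf a).Coprime p) (ha' : a ∉ 𝐂 B) :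
    ∃ x, Val B (𝐍 B) k x ∧ orderOf x = p := by
  by_cases h : ∃ u ∈ B, Val B (𝐍 B) k u ∧ u ∉ 𝐂 B
  · obtain ⟨W, -, ⟨h1, h2, u, hu, h3, h4⟩, h5⟩ := exists_minimal_le
      (fun W => W ≤ B ∧ B ≤ 𝐍 W ∧ ∃ u ∈ W, Val B (𝐍 B) k u ∧ u ∉ 𝐂 B) ⟨le_rfl, le_normalizer, h⟩
    have h6 := commutator_lt_of_isPGroup (hB.to_le h1) hB h2 fun e => h4 (by
      rw [e, mem_bot] at hu; rw [hu]; exact one_mem _)
    obtain ⟨c, hc, h7⟩ : ∃ c ∈ B, ⁅u, c⁆ ≠ 1 := by
      by_contra! e
      exact h4 fun c hc => (commutatorElement_eq_one_iff_mul_comm.1 (e c hc)).symm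
    have v : ∀ c ∈ B, Val B (𝐍 B) k ⁅u, c⁆ := fun c hc => Val.succ le_rfl ⟨u, c, h3, le_normalizer hc, rfl⟩
    have h8 : Commute ⁅u, c⁆ c := by
      by_contra e
      exact h6.ne (h5 _ ⟨h6.le.trans h1, right_le_normalizer_comm _ _, _, commutator_mem_commutator hu hc, v c hc,
        fun e' => e (e' c hc).symm⟩ h6.le)
    obtain ⟨m, hm⟩ := exists_pow_order hB ((v c hc).mem le_rfl) h7
    refine ⟨_, v _ (B.pow_mem hc m), ?_⟩
    have := h8.mul_pow m
    rw [commutatorElement_def, inv_mul_cancel_right, conj_pow] at this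
    rwa [commutatorElement_def, this, mul_inv_cancel_right]
  push Not at h
  obtain ⟨b, hb, h7⟩ : ∃ b ∈ B, ⁅b, a⁆ ≠ 1 := by
    by_contra! e
    exact ha' fun c hc => commutatorElement_eq_one_iff_mul_comm.1 (e c hc)
  have hz := (val_it ha hb (k + 1)).succ le_rfl
  have hn : zpowers a ≤ 𝐍 (B ⊓ 𝐂 B) := le_normalizer_inf (zpowers_le.2 ha) (le_normalizer_centralizer (zpowers_le.2 ha))
  have pw : ∀ (m j : ℕ), ∀ w ∈ B ⊓ 𝐂 B, it a j (w ^ m) = it a j w ^ m := by
    intro m j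
    induction j with
    | zero => exact fun _ _ => rfl
    | succ j ih =>
      intro w hw
      rw [it_succ, it_succ, ← ih _ (comm_mem hw (hn (mem_zpowers a)))]
      congr 1
      have : Commute w (a * w⁻¹ * a⁻¹) := (hw.2 _ (conj_mem_of_mem_normalizer ha (B.inv_mem hw.1))).symm
      rw [show ⁅w, a⁆ = w * (a * w⁻¹ * a⁻¹) by rw [commutatorElement_def]; group, this.mul_pow, conj_pow,
        commutatorElement_def]
      group
  have h8 : it a k (it a (k + 1) b) ≠ 1 := fun e => h7 (it_eq_one ha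
    (coprime_card_of_isPGroup hp.out hB hc) (k + k) hb ((Function.iterate_add_apply _ k (k + 1) b).trans e))
  obtain ⟨m, hm⟩ := exists_pow_order hB ((val_it ha (hz.mem le_rfl) k).mem le_rfl) h8
  exact ⟨_, val_it ha (B.pow_mem (hz.mem le_rfl) m) k, by rwa [pw m k _ ⟨hz.mem le_rfl, h _ (hz.mem le_rfl) hz⟩]⟩

theorem lift_val {Q : Type*} [Group Q] {f : G →* Q} (hf : Function.Surjective f) {B : Subgroup Q} (hB : IsPGroup p B)
    {y : Q} (hy : Val B (𝐍 B) k y) : ∃ x, Val ⊤ ⊤ k x ∧ (∃ n, x ^ p ^ n = 1) ∧ f x = y := by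
  obtain ⟨P, hP⟩ := exists_syl p (B.comap f)
  have e : P.map f = B := by
    have := hP.map f
    rw [map_comap_eq_self_of_surjective hf] at this
    exact this.eq_of_isPGroup hB
  obtain ⟨x, hx, rfl⟩ := hy.lift f (B := P) (L := 𝐍 P) e.ge (by
    intro g hg
    obtain ⟨g, rfl⟩ := hf g
    obtain ⟨n, hn, a, ha, rfl⟩ := hP.frattini_mem (le_normalizer_comap f hg)
    obtain ⟨t, ht, e'⟩ := e.ge hn
    exact ⟨t * a, (𝐍 P).mul_mem (le_normalizer ht) ha, by rw [map_mul, map_mul, e']⟩)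
  exact ⟨x, hx.map (MonoidHom.id G) le_top le_top, isPGroup_iff_mem.1 hP.isPGroup x (hx.mem le_rfl), rfl⟩

theorem mem_fitting {y : G} (hy : (y : G ⧸ fittingSubgroup G) ∈ pCore p _)
    (h : ∀ r : ℕ, r.Prime → r ≠ p → y ∈ 𝐂 (pCore r G)) : y ∈ fittingSubgroup G := by
  let U : Subgroup G := ⨆ r : {r : ℕ // r.Prime ∧ r ≠ p}, pCore r.1 G
  haveI : U.Normal := normalizer_eq_top_iff.1 (eq_top_iff.2 (le_normalizer_iSup fun _ => le_normalizer_of_normal))
  have hF : fittingSubgroup G ≤ pCore p G ⊔ U := fitting_le_of_forall_pCore_le fun r hr => by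
    by_cases e : r = p
    · rw [e]; exact le_sup_left
    · exact le_sup_of_le_right (le_iSup (fun r : {r : ℕ // r.Prime ∧ r ≠ p} => pCore r.1 G) ⟨r, hr, e⟩)
  let C : Subgroup G := (pCore p _).comap (QuotientGroup.mk' (fittingSubgroup G)) ⊓ 𝐂 U
  let f : C →* G ⧸ U := (QuotientGroup.mk' U).comp C.subtype
  have h1 : IsPGroup p f.range := isPGroup_iff_mem.2 (by
    rintro _ ⟨z, rfl⟩
    obtain ⟨n, hn⟩ := isPGroup_iff_mem.1 (isPGroup_pCore p _) _ z.2.1
    rw [← map_pow, QuotientGroup.mk'_apply, QuotientGroup.eq_one_iff] at hn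
    obtain ⟨a, ha, u, hu, e⟩ := mem_sup_of_normal_right.1 (hF hn)
    obtain ⟨m, hm⟩ := isPGroup_iff_mem.1 (isPGroup_pCore p _) _ ha
    refine ⟨n + m, ?_⟩
    change (QuotientGroup.mk' U (z : G)) ^ _ = 1
    rw [pow_add, pow_mul, ← map_pow, ← e, map_mul, QuotientGroup.mk'_apply U u, (QuotientGroup.eq_one_iff u).2 hu,
      mul_one, ← map_pow, hm, map_one])
  haveI := h1.isNilpotent
  have h2 : Group.IsNilpotent C := Subgroup.isNilpotent_of_ker_le_center f.rangeRestrict fun z hz =>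
    mem_center_iff.2 fun g => Subtype.ext (g.2.2 z ((QuotientGroup.eq_one_iff _).1 (congrArg Subtype.val hz))).symm
  exact le_fitting h2 ⟨hy, by rw [centralizer_iSup]; exact mem_iInf.2 fun r => h r.1 r.2.1 r.2.2⟩

theorem Good.mem_fitting {y : G} (h : Good y) (hy : (y : G ⧸ fittingSubgroup G) ∈ pCore p _) (h1 : ∃ n, y ^ p ^ n = 1) :
    y ∈ fittingSubgroup G := by
  obtain ⟨n, hn⟩ := pow_eq_one_iff_orderOf.1 h1
  exact BW.mem_fitting hy fun r hr e => h _ (le_normalizer_of_normal (mem_top y)) (coprime_card_of_isPGroup hr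
    (isPGroup_pCore r G) (hn ▸ ((Nat.coprime_primes hp.out hr).2 e.symm).pow_left n))

omit hp in
theorem exists_bad [Group.IsSolvable G] (h : ¬ Group.IsNilpotent G) :
    ∃ (q : ℕ) (a : G), q.Prime ∧ (orderOf a).Coprime q ∧ a ∉ 𝐂 (pCore q G) := by
  haveI := QuotientGroup.nontrivial_iff.2 fun e => h (fitting_eq_top_iff.1 e)
  obtain ⟨p, hp, h1⟩ := exists_pCore_ne_bot_of_fitting_ne_bot (G := G ⧸ fittingSubgroup G)
    (by simpa using fitting_inf_ne_bot_of_solvable (⊤ : Subgroup (G ⧸ fittingSubgroup G)) top_ne_bot)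
  haveI := Fact.mk hp
  obtain ⟨y, hy, hy1⟩ := (bot_or_exists_ne_one _).resolve_left h1
  obtain ⟨x, -, hx, rfl⟩ := lift_val (k := 0) (QuotientGroup.mk'_surjective _) (isPGroup_pCore p _) hy
  obtain ⟨n, hn⟩ := pow_eq_one_iff_orderOf.1 hx
  by_contra! e
  exact hy1 ((QuotientGroup.eq_one_iff x).2 (mem_fitting hy fun r hr e' =>
    e r x hr (hn ▸ ((Nat.coprime_primes hp hr).2 e'.symm).pow_left n)))

omit hp in
theorem val_eq_one (hA : ∀ x : G, Val ⊤ ⊤ k x → Good x) {q : ℕ} (hq : q.Prime) {y : G ⧸ fittingSubgroup G}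
    (hy : Val (pCore q _) (𝐍 (pCore q _)) k y) : y = 1 := by
  haveI := Fact.mk hq
  obtain ⟨x, h1, h2, rfl⟩ := lift_val (QuotientGroup.mk'_surjective _) (isPGroup_pCore q _) hy
  exact (QuotientGroup.eq_one_iff x).2 ((hA x h1).mem_fitting (hy.mem le_rfl) h2)

omit hp in
theorem quot_nilp [Group.IsSolvable G] (hA : ∀ x : G, Val ⊤ ⊤ k x → Good x) :
    Group.IsNilpotent (G ⧸ fittingSubgroup G) := by
  by_contra h
  obtain ⟨q, a, hq, h1, h2⟩ := exists_bad h
  haveI := Fact.mk hq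
  obtain ⟨x, h3, h4⟩ := exists_order (k := k) (isPGroup_pCore q _) (le_normalizer_of_normal (mem_top a)) h1 h2
  rw [val_eq_one hA hq h3, orderOf_one] at h4
  exact hq.one_lt.ne h4

theorem Good.mem_pCore [Group.IsSolvable G] (hA : ∀ x : G, Val ⊤ ⊤ k x → Good x) {y : G} (h : Good y)
    (h1 : ∃ n, y ^ p ^ n = 1) : y ∈ pCore p G := by
  haveI := quot_nilp hA
  obtain ⟨n, hn⟩ := h1
  refine le_pCore_of_le_fitting hp.out (isPGroup_zpowers_of_pow hn) (zpowers_le.2 (h.mem_fitting ?_ ⟨n, hn⟩))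
    (mem_zpowers y)
  exact le_pCore_of_nilpotent (isPGroup_zpowers_of_pow (k := n) (by rw [← QuotientGroup.mk_pow, hn]; rfl))
    (mem_zpowers _)

omit hp in
theorem solvable (hA : ∀ x : G, Val ⊤ ⊤ k x → Good x) : Group.IsSolvable G := by

  haveI := isSolvable_solvableRadical G
  suffices h : Group.IsSolvable (G ⧸ solvableRadical G) from isSolvable_of_normal_of_quotient (solvableRadical G)
  by_contra h
  obtain ⟨P⟩ : Nonempty (Sylow 2 (G ⧸ solvableRadical G)) := inferInstance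
  have h1 := mt (Cfsg.Agent.S0071.result P).2 (by
    rintro ⟨N, hN, hc⟩
    haveI := Cfsg.Agent.S0205.result (G := N) (by
      rw [← hc.index_eq_card, ← Nat.not_even_iff_odd, even_iff_two_dvd]; exact P.not_dvd_index)
    haveI := isSolvable_of_isPGroup Nat.prime_two P.isPGroup'
    exact h (isSolvable_top_iff.1 (hc.sup_eq_top ▸ isSolvable_sup_of_normal _ N)))
  push Not at h1
  obtain ⟨B, hB, a, ha, h2, h3⟩ := h1
  obtain ⟨y, hy, h4⟩ := exists_order (k := k) (P.isPGroup'.to_le hB) ha h2 h3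
  obtain ⟨x, h5, ⟨n, hn⟩, rfl⟩ := lift_val (QuotientGroup.mk'_surjective _) (P.isPGroup'.to_le hB) hy
  set f := QuotientGroup.mk' (solvableRadical G)
  have h6 : zpowers x ≤ pCore 2 G := baer_suzuki Nat.prime_two fun g => by
    have s2 : f x * f x = 1 := by rw [← sq, ← h4, pow_orderOf_eq_one]
    have t2 : f (g * x * g⁻¹) * f (g * x * g⁻¹) = 1 := by
      rw [map_mul, map_mul, map_inv, show ∀ u v : G ⧸ solvableRadical G, u * v * u⁻¹ * (u * v * u⁻¹) =
        u * (v * v) * u⁻¹ from fun u v => by group, s2]; group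
    haveI : Group.IsSolvable (zpowers (f x) ⊔ zpowers (f x * f (g * x * g⁻¹)) : Subgroup _) :=
      isSolvable_sup_of_le_normalizer (zpowers_le.2 (mem_normalizer_of_conj_mem (by
        rintro _ ⟨j, rfl⟩
        rw [← conj_zpow, ← mul_assoc, s2, one_mul]
        refine zpow_mem (inv_mem_iff.1 ?_) j
        rw [mul_inv_rev, inv_inv, inv_eq_of_mul_eq_one_right t2]
        exact mem_zpowers _)))
    haveI := isSolvable_comap_mk' _ (zpowers (f x) ⊔ zpowers (f x * f (g * x * g⁻¹)))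
    set H := (zpowers (f x) ⊔ zpowers (f x * f (g * x * g⁻¹))).comap f
    have hA' : ∀ z : H, Val ⊤ ⊤ k z → Good z := fun z hz => (hA _ (hz.map H.subtype le_top le_top)).sub
    have m1 : x ∈ H := mem_sup_left (mem_zpowers _)
    have m2 : g * x * g⁻¹ ∈ H := (mul_mem_cancel_left m1).1 (mem_sup_right (by rw [map_mul]; exact mem_zpowers _))
    have m3 := Good.mem_pCore (p := 2) hA' (y := ⟨x, m1⟩) (hA x h5).sub ⟨n, Subtype.ext hn⟩
    have m4 := Good.mem_pCore (p := 2) hA' (y := ⟨_, m2⟩) (hA _ (h5.map (MulAut.conj g).toMonoidHom le_top le_top)).sub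
      ⟨n, Subtype.ext (by change (g * x * g⁻¹) ^ _ = 1; rw [conj_pow, hn]; group)⟩
    rw [MonoidHom.map_zpowers]
    exact (isPGroup_pCoreOf H).to_le (sup_le (zpowers_le.2 ⟨_, m3, rfl⟩) (zpowers_le.2 ⟨_, m4, rfl⟩))
  have h7 := le_solvableRadical (isSolvable_of_isPGroup Nat.prime_two (isPGroup_pCore 2 G)) (h6 (mem_zpowers x))
  rw [QuotientGroup.mk'_apply, (QuotientGroup.eq_one_iff x).2 h7, orderOf_one] at h4
  exact absurd h4 (by decide)

omit hp in
theorem lcs_nilp (hA : ∀ x : G, Val ⊤ ⊤ k x → Good x) :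
    Group.IsNilpotent ((⊤ : Subgroup G).lowerCentralSeries k) := by
  haveI := solvable hA
  haveI := isNilpotent_fitting G
  have h1 : Subgroup.upperCentralSeries (G ⧸ fittingSubgroup G) (0 + k) = ⊤ := by
    rw [eq_top_iff, ← fitting_eq_top_iff.2 (quot_nilp hA)]
    exact fitting_le_of_forall_pCore_le fun q hq => Val.le_ucs fun x hx =>
      val_eq_one hA hq (by rwa [normalizer_eq_top])
  rw [zero_add, ← lowerCentralSeries_eq_bot_iff_upperCentralSeries_eq_top,
    ← map_top_of_surjective _ (QuotientGroup.mk'_surjective _), ← map_lowerCentralSeries, Subgroup.map_eq_bot_iff,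
    QuotientGroup.ker_mk'] at h1
  exact isNilpotent_of_le h1

omit hp [Finite G] in
theorem val_iff {x : G} : (∃ f : Fin (k + 1) → G, x = ((List.ofFn f).tail).foldl (fun a b => a * b * a⁻¹ * b⁻¹) (f 0)) ↔
    Val ⊤ ⊤ k x := by
  constructor
  · rintro ⟨f, rfl⟩
    have : ∀ (l : List G) (j : ℕ) (a : G), Val ⊤ ⊤ j a →
        Val ⊤ ⊤ (j + l.length) (l.foldl (fun a b => a * b * a⁻¹ * b⁻¹) a) := by
      intro l
      induction l with
      | nil => exact fun _ _ h => h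
      | cons b l ih =>
        intro j a h
        rw [List.length_cons, show j + (l.length + 1) = j + 1 + l.length by omega]
        exact ih _ _ ⟨a, b, h, trivial, rfl⟩
    simpa using this (List.ofFn f).tail 0 (f 0) trivial
  · intro h
    have : ∀ (k : ℕ) (x : G), Val ⊤ ⊤ k x →
        ∃ (l : List G) (a : G), l.length = k ∧ x = l.foldl (fun a b => a * b * a⁻¹ * b⁻¹) a := by
      intro k
      induction k with
      | zero => exact fun x _ => ⟨[], x, rfl, rfl⟩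
      | succ k ih =>
        rintro _ ⟨u, c, hu, -, rfl⟩
        obtain ⟨l, a, h1, rfl⟩ := ih u hu
        exact ⟨l ++ [c], a, by simp [h1], by rw [List.foldl_append]; rfl⟩
    obtain ⟨l, a, rfl, rfl⟩ := this k x h
    exact ⟨Fin.cons a l.get, by simp⟩

omit hp in
theorem main (k : ℕ) : Group.IsNilpotent ((⊤ : Subgroup G).lowerCentralSeries k) ↔
    ∀ x y : G, Val ⊤ ⊤ k x → Val ⊤ ⊤ k y → (orderOf x).Coprime (orderOf y) →
    (∀ r : ℕ, r.Prime → r ∣ orderOf x * orderOf y → r ∣ orderOf (x * y)) ∨ orderOf x * orderOf y ≤ orderOf (x * y) :=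
  ⟨fun _ _ _ hx hy hc => Or.inr ((commute_of_coprime_of_mem_nilpotent hx.mem_lcs hy.mem_lcs
    hc).orderOf_mul_eq_mul_orderOf_of_coprime hc).ge, fun h => lcs_nilp fun _ => good_of_cond h⟩

end Cfsg.Lib.Amalg.BW
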