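import Cfsg.Agent.Lib.Amalg.WcTI
import Cfsg.Agent.Lib.Amalg.TVAmb
import Cfsg.Agent.Lib.Amalg.CharP
import Cfsg.Agent.Lib.Core.Frattini

/-! Large elementary abelian TI `2`-subgroups (Timmesfeld). -/

set_option autoImplicit false
set_option linter.unusedSectionVars false

namespace Cfsg.Lib.Amalg.BigTI

open Subgroup
open Cfsg.Lib.Core hiding isPGroup_subgroupOf isPGroup_subgroupOf_iff isPGroup_map_subtype_iff
open scoped commutatorElement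

variable {G : Type*} [Group G] [Finite G] {V X Y Z U A : Subgroup G} {a b d e f g v w x y z : G}

/-- centralizer of `P` modulo `V` -/
def cmd (V P : Subgroup G) : Subgroup G where
  carrier := {g | g ∈ 𝐍 V ∧ ∀ y ∈ P, ⁅g, y⁆ ∈ V}
  one_mem' := ⟨one_mem _, fun y _ => by simp⟩
  mul_mem' := fun {g h} hg hh => ⟨mul_mem hg.1 hh.1, fun y hy => by
    convert mul_mem (conj_mem_of_mem_normalizer hg.1 (hh.2 y hy)) (hg.2 y hy) using 1
    simp only [commutatorElement_def]; group⟩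
  inv_mem' := fun {g} hg => ⟨inv_mem hg.1, fun y hy => by
    convert conj_mem_of_mem_normalizer (inv_mem hg.1) (inv_mem (hg.2 y hy)) using 1
    simp only [commutatorElement_def]; group⟩

theorem norm_cmd {M P : Subgroup G} (h1 : M ≤ 𝐍 V) (h2 : M ≤ 𝐍 P) : M ≤ 𝐍 (cmd V P) :=
  le_normalizer_of_cj_le fun m hm => cj_le_iff'.2 fun g hg => ⟨mul_mem (mul_mem (h1 hm) hg.1) (inv_mem (h1 hm)),
    fun y hy => by
      convert conj_mem_of_mem_normalizer (h1 hm) (hg.2 _ (conj_mem_of_mem_normalizer (inv_mem (h2 hm)) hy)) using 1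
      simp only [commutatorElement_def]; group⟩

theorem comm_cmd (P : Subgroup G) : ⁅cmd V P, P⁆ ≤ V := commutator_le.2 fun _ hg => hg.2

theorem symm_mem (h : ⁅x, y⁆ ∈ V) : ⁅y, x⁆ ∈ V := commutatorElement_inv x y ▸ inv_mem h

theorem cent_of (h : ∀ y ∈ V, Commute x y) : x ∈ 𝐂 V := mem_centralizer_comm.2 fun y hy => (h y hy).symm

theorem comm_of (h : x ∈ 𝐂 V) (hy : y ∈ V) : Commute x y := (mem_centralizer_comm.1 h y hy).symm

theorem br_left (hx : x ∈ V) (hy : y ∈ 𝐍 V) : ⁅x, y⁆ ∈ V := comm_le_left (zpowers_le.2 hy)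
  (commutator_mem_commutator hx (mem_zpowers y))

theorem br_right (hx : x ∈ 𝐍 V) (hy : y ∈ V) : ⁅x, y⁆ ∈ V := symm_mem (br_left hy hx)

theorem br_one : ⁅x, y⁆ = 1 ↔ Commute x y := commutatorElement_eq_one_iff_commute

theorem inv_br (ha : a * a = 1) : a * ⁅a, x⁆ * a⁻¹ = ⁅a, x⁆⁻¹ := by
  have i1 := inv_eq_of_mul_eq_one_right ha
  simp only [commutatorElement_def, i1, mul_inv_rev, inv_inv, mul_assoc]
  rw [← mul_assoc a a, ha, one_mul]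

/-- `C_Q(V)` -/
def Pv (V : Subgroup G) : Subgroup G := pCoreOf 2 (𝐍 V) ⊓ 𝐂 V

theorem P_le (V : Subgroup G) : Pv V ≤ 𝐍 V := inf_le_left.trans (op_le _)

theorem P_cent (V : Subgroup G) : Pv V ≤ 𝐂 V := inf_le_right

theorem P_two (V : Subgroup G) : IsPGroup 2 (Pv V) := (op_isPGroup _).to_le inf_le_left

theorem norm_P (V : Subgroup G) : 𝐍 V ≤ 𝐍 (Pv V) :=
  le_normalizer_inf (le_norm_op _) (le_normalizer_centralizer le_rfl)

theorem cj_P (g : G) (V : Subgroup G) : cj g (Pv V) = Pv (cj g V) := by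
  rw [Pv, Pv, cj_inf, cj_op, cj_normalizer, cj_centralizer]

/-- the hypothesis -/
structure St (V : Subgroup G) : Prop where
  ea : IsElementaryAbelian 2 V
  ti : ∀ g, cj g V = V ∨ cj g V ⊓ V = ⊥
  mx : ∀ A, V ≤ A → A ≤ 𝐍 V → A ≤ 𝐂 A → 𝐍 V ≤ 𝐍 A → A = V
  ch : CharP 2 (𝐍 V)

namespace St

theorem conj (h : St V) (g : G) : St (cj g V) := by
  refine ⟨elemAb_map h.ea _, fun k => ?_, fun A h1 h2 h3 h4 => ?_, cj_normalizer g V ▸ h.ch.conj g⟩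
  · rcases h.ti (g⁻¹ * k * g) with e | e
    · left; rw [← cj_mul, ← cj_inj (g := g⁻¹), ← cj_mul, ← mul_assoc, e, cj_inv_cj]
    · right; rw [← cj_eq_bot_iff (g := g⁻¹), cj_inf, ← cj_mul, ← cj_mul, cj_inv_cj, e]
  · rw [← cj_inj (g := g⁻¹), cj_inv_cj]
    refine h.mx _ (le_cj_iff.2 (by rwa [inv_inv])) (cj_le_iff.2 (by rwa [inv_inv, cj_normalizer]))
      (by rw [← cj_centralizer]; exact cj_mono _ h3) ?_
    rw [← cj_normalizer, le_cj_iff, inv_inv, cj_normalizer]; exact h4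

theorem le_P (h : St V) : V ≤ Pv V :=
  le_inf (le_op le_normalizer le_rfl (elemAb_isPGroup h.ea)) (elemAb_le_cent h.ea)

theorem sq (h : St V) (hx : x ∈ V) : x * x = 1 := by rw [← pow_two]; exact h.ea.2 x hx

theorem ab_le (h : St V) (h1 : A ≤ Pv V) (h2 : A ≤ 𝐂 A) (h3 : 𝐍 V ≤ 𝐍 A) : A ≤ V := by
  have h4 := h1.trans (P_cent V)
  refine le_sup_left.trans (h.mx (A ⊔ V) le_sup_right (sup_le (h1.trans (P_le V)) le_normalizer) ?_
    (le_normalizer_sup h3 le_rfl)).le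
  rw [centralizer_sup]
  exact sup_le (le_inf h2 h4) (le_inf (le_cent_symm h4) (elemAb_le_cent h.ea))

theorem center (h : St V) (hx : x ∈ Pv V) (hc : ∀ y ∈ Pv V, Commute x y) : x ∈ V :=
  h.ab_le (A := Pv V ⊓ 𝐂 (Pv V)) inf_le_left (inf_le_right.trans (centralizer_anti inf_le_left))
    (le_normalizer_inf (norm_P V) (le_normalizer_centralizer (norm_P V))) ⟨hx, cent_of hc⟩

theorem comm_P (h : St V) : ⁅Pv V, Pv V⁆ ≤ V := by
  obtain ⟨Y, hY⟩ : ∃ Y, Y = Pv V ⊓ cmd V (Pv V) := ⟨_, rfl⟩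
  have y1 : Y ≤ Pv V := hY ▸ inf_le_left
  have y2 : ⁅Y, Pv V⁆ ≤ V := (commutator_mono (hY ▸ inf_le_right) le_rfl).trans (comm_cmd _)
  have y3 : 𝐍 V ≤ 𝐍 Y := hY ▸ le_normalizer_inf (norm_P V) (norm_cmd le_rfl (norm_P V))
  have c1 : 𝐍 V ≤ 𝐍 (Pv V ⊓ 𝐂 Y) := le_normalizer_inf (norm_P V) (le_normalizer_centralizer y3)
  have c2 : Pv V ⊓ 𝐂 Y ≤ V := by
    by_contra hn
    have := normal_subgroupOf_of_le_normalizer (P_le V)
    have := normal_subgroupOf_of_le_normalizer ((P_le V).trans c1)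
    obtain ⟨c, i1, i2, -, i3⟩ := PGrp.exists_mem_central_mod (P_two V) (V.subgroupOf (Pv V))
      ((Pv V ⊓ 𝐂 Y).subgroupOf (Pv V)) fun i => hn fun u hu => i (show (⟨u, hu.1⟩ : Pv V) ∈ _ from hu)
    refine i2 (h.ab_le (A := (Pv V ⊓ 𝐂 Y) ⊓ Y) (inf_le_left.trans inf_le_left)
      ((inf_le_left.trans inf_le_right).trans (centralizer_anti inf_le_right)) (le_normalizer_inf c1 y3) ⟨i1, ?_⟩)
    exact hY ▸ ⟨c.2, P_le V c.2, fun y hy => i3 ⟨y, hy⟩⟩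
  have c3 : ⁅V, Pv V⁆ = ⊥ := comm_eq_bot_iff'.2 (P_cent V)
  refine le_trans (le_inf (comm_le_of_le le_rfl le_rfl) (comm_eq_bot_iff.1 ?_)) c2
  refine commutator_commutator_eq_bot_of_rotate (le_bot_iff.1 ?_) (le_bot_iff.1 ?_)
  · exact (commutator_mono (commutator_comm Y _ ▸ y2) le_rfl).trans c3.le
  · exact (commutator_mono y2 le_rfl).trans c3.le

theorem br (h : St V) (hx : x ∈ Pv V) (hy : y ∈ Pv V) : ⁅x, y⁆ ∈ V := h.comm_P (commutator_mem_commutator hx hy)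

theorem sq_P (h : St V) (hx : x ∈ Pv V) : x * x ∈ V := h.center (mul_mem hx hx) fun y hy => by
  have h1 := h.br hx hy
  have h2 := (comm_of (P_cent V hx) h1).eq
  rw [← br_one]
  calc ⁅x * x, y⁆ = x * ⁅x, y⁆ * x⁻¹ * ⁅x, y⁆ := by simp only [commutatorElement_def]; group
    _ = 1 := by rw [h2, mul_inv_cancel_right, h.sq h1]

theorem cstar (h : St V) (h1 : g ∈ 𝐂 V) (h2 : ∀ y ∈ Pv V, ⁅g, y⁆ ∈ V) : g ∈ Pv V := by
  refine ⟨le_op (K := 𝐂 V ⊓ cmd V (Pv V)) (inf_le_left.trans (cent_le_norm V)) (le_normalizer_inf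
    (le_normalizer_centralizer le_rfl) (norm_cmd le_rfl (norm_P V))) ?_ ⟨h1, cent_le_norm V h1, h2⟩, h1⟩
  refine isPGroup_of_forall_pPrime fun A a1 a2 => ?_
  have a3 := a1.trans inf_le_left
  have a4 := a3.trans (cent_le_norm V)
  have a5 : A ≤ 𝐂 (Pv V) := le_cent_of_comm_le_cent a2 (P_two V) (a4.trans (norm_P V))
    ((commutator_comm _ _).le.trans (((commutator_mono (a1.trans inf_le_right) le_rfl).trans (comm_cmd _)).trans
      (le_cent_symm a3)))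
  refine h.ch.eq_bot a2 a4 (le_cent_of_comm_le_cent a2 (op_isPGroup _) (a4.trans (le_norm_op _))
    (le_trans (fun u hu => ?_) (le_cent_symm a3)))
  have u1 : u ∈ 𝐂 (Pv V) := comm_le_right ((op_le _).trans (le_normalizer_centralizer (norm_P V)))
    (commutator_mono le_rfl a5 hu)
  exact h.center ⟨comm_le_left (a4.trans (le_norm_op _)) hu, centralizer_anti h.le_P u1⟩ fun y hy => comm_of u1 hy

end St

/-- a conjugate -/
structure Cl (V X : Subgroup G) : Prop where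
  st : St V
  ex : ∃ g, X = cj g V

namespace Cl

theorem St (h : Cl V X) : St X := let ⟨g, e⟩ := h.ex; e ▸ h.st.conj g

theorem conj (h : Cl V X) (g : G) : Cl V (cj g X) := let ⟨k, e⟩ := h.ex; ⟨h.st, g * k, by rw [e, cj_mul]⟩

theorem card (h : Cl V X) : Nat.card X = Nat.card V := let ⟨g, e⟩ := h.ex; e ▸ card_cj g V

theorem eq_of_mem (h : Cl V X) (h' : Cl V Y) (hx : x ∈ X) (hy : x ∈ Y) (h1 : x ≠ 1) : X = Y := by
  obtain ⟨g, e⟩ := h.ex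
  obtain ⟨k, e'⟩ := h'.ex
  have : X = cj (g * k⁻¹) Y := by rw [e, e', ← cj_mul, inv_mul_cancel_right]
  refine (h'.St.ti (g * k⁻¹)).elim (this ▸ id) fun i => absurd (mem_bot.1 (i ▸ ⟨this ▸ hx, hy⟩)) h1

theorem one (h : Cl V X) (h' : Cl V Y) (hne : X ≠ Y) (hx : x ∈ X) (hy : x ∈ Y) : x = 1 :=
  by_contra fun i => hne (h.eq_of_mem h' hx hy i)

theorem norm (h : Cl V X) (hx : x ∈ X) (h1 : x ≠ 1) (hc : Commute g x) : g ∈ 𝐍 X :=
  cj_eq_self_iff.1 ((h.conj g).eq_of_mem h (by simpa [hc.eq] using conj_mem_cj g hx) hx h1)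

theorem exists_ne (h : Cl V X) (h' : Cl V Y) (hne : X ≠ Y) : ∃ x ∈ X, x ≠ 1 := by
  by_contra! i
  have : X = ⊥ := eq_bot_iff.2 i
  exact hne (eq_of_le_of_card_le' (this ▸ bot_le) (h'.card.trans h.card.symm).le)

theorem cent_of_norm (h : Cl V X) (h' : Cl V Y) (hne : X ≠ Y) (hl : Y ≤ 𝐍 X) : Y ≤ 𝐂 X := by
  have key : ∀ x ∈ X, x ∈ 𝐍 Y → ∀ a ∈ Y, Commute a x := fun x hx i a ha =>
    br_one.1 (h.one h' hne (br_right (hl ha) hx) (br_left ha i))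
  intro a ha
  refine cent_of fun x hx => key x hx ?_ a ha
  by_contra hn
  have := (WcTI.inj_br (A := Y) (B := X ⊓ 𝐍 Y) (x := x) (fun a ha => ⟨br_right (hl ha) hx, ?_⟩)
    fun a ha i => by_contra fun j => hn (h'.norm ha j i.symm)).1
  · exact hn ((eq_of_le_of_card_le' inf_le_left ((h.card.trans h'.card.symm).le.trans this)).ge hx).2
  by_cases j : a = 1
  · rw [j, commutatorElement_one_left]; exact one_mem _
  refine h'.norm ha j ?_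
  refine (mul_inv_eq_iff_eq_mul.1 ?_).symm
  rw [inv_br (h'.St.sq ha), inv_eq_of_mul_eq_one_right (h.St.sq (br_right (hl ha) hx))]

end Cl

/-- a conjugate inside `P` -/
structure Pr (V X Y : Subgroup G) : Prop where
  cx : Cl V X
  cy : Cl V Y
  ne : X ≠ Y
  le : Y ≤ Pv X

namespace Pr

theorem conj (h : Pr V X Y) (g : G) : Pr V (cj g X) (cj g Y) :=
  ⟨h.cx.conj g, h.cy.conj g, fun e => h.ne (cj_inj.1 e), cj_P g X ▸ cj_mono g h.le⟩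

theorem conj' (h : Pr V X Y) (hg : g ∈ 𝐍 X) : Pr V X (cj g Y) := by
  have := h.conj g; rwa [cj_of_mem_normalizer hg] at this

theorem one (h : Pr V X Y) (hx : x ∈ X) (hy : x ∈ Y) : x = 1 := h.cx.one h.cy h.ne hx hy

theorem cent (h : Pr V X Y) : X ≤ 𝐂 Y := le_cent_symm (h.le.trans (P_cent X))

theorem cent_elt (h : Pr V X Y) (hx : x ∈ Pv X) (ha : a ∈ Y) (h1 : a ≠ 1) (hc : Commute x a) : x ∈ 𝐂 Y :=
  cent_of fun _ hy => br_one.1 (h.one (h.cx.St.br hx (h.le hy)) (br_right (h.cy.norm ha h1 hc) hy))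

theorem partner (h : Pr V X Y) : ∃ Z, Pr V X Z ∧ ¬ Z ≤ 𝐂 Y := by
  by_contra! hn
  have h1 : ⨆ m : 𝐍 X, cj (m : G) Y ≤ X := h.cx.St.ab_le (iSup_cj_le h.le (norm_P X)) (by
    rw [centralizer_iSup]
    refine iSup_le fun m => le_iInf fun k => ?_
    rw [← cj_centralizer, le_cj_iff, ← cj_mul]
    exact hn _ (h.conj' (k⁻¹ * m).2)) (le_normalizer_iSup_cj _ _)
  obtain ⟨a, ha, h2⟩ := h.cy.exists_ne h.cx h.ne.symm
  exact h2 (h.one (h1 (le_iSup_cj Y _ ha)) ha)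

theorem inj (h : Pr V X Y) (h' : Pr V X Z) (hn : ¬ Z ≤ 𝐂 Y) (hb : b ∈ Z) (ha : a ∈ Y) (h1 : a ≠ 1)
    (hc : Commute b a) : b = 1 := by_contra fun i => hn (le_cent_symm fun _ hy =>
  h'.cent_elt (h.le hy) hb i (comm_of (h.cent_elt (h'.le hb) ha h1 hc) hy).symm)

theorem surj' (h : Pr V X Y) (h' : Pr V X Z) (hn : ¬ Z ≤ 𝐂 Y) (ha : a ∈ Y) (h1 : a ≠ 1) (hv : v ∈ X) :
    ∃ b ∈ Z, ⁅b, a⁆ = v :=
  (WcTI.inj_br (fun _ hb => h.cx.St.br (h'.le hb) (h.le ha)) fun _ hb => h.inj h' hn hb ha h1).2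
    (h.cx.card.trans h'.cy.card.symm).le v hv

theorem surj (h : Pr V X Y) (ha : a ∈ Y) (h1 : a ≠ 1) (hv : v ∈ X) : ∃ x ∈ Pv X, ⁅x, a⁆ = v :=
  let ⟨_, h', hn⟩ := h.partner
  let ⟨b, hb, e⟩ := h.surj' h' hn ha h1 hv
  ⟨b, h'.le hb, e⟩

theorem dec (h : Pr V X Y) (h' : Pr V X Z) (hn : ¬ Z ≤ 𝐂 Y) (hx : x ∈ Pv X) : ∃ b ∈ Z, b⁻¹ * x ∈ 𝐂 Y := by
  obtain ⟨a, ha, h1⟩ := h.cy.exists_ne h.cx h.ne.symm
  obtain ⟨b, hb, e⟩ := h.surj' h' hn ha h1 (h.cx.St.br hx (h.le ha))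
  refine ⟨b, hb, h.cent_elt (mul_mem (inv_mem (h'.le hb)) hx) ha h1 ?_⟩
  rw [commutatorElement_def, commutatorElement_def, mul_left_inj] at e
  calc b⁻¹ * x * a = b⁻¹ * (x * a * x⁻¹) * x := by group
    _ = _ := by rw [← e]; group

theorem mem (h : Pr V X Y) : w ∈ X ⊔ Y ↔ ∃ v ∈ X, ∃ a ∈ Y, v * a = w :=
  mem_sup_of_le_normalizer (h.cent.trans (cent_le_norm Y))

theorem W_le (h : Pr V X Y) : X ⊔ Y ≤ Pv X := sup_le h.cx.St.le_P h.le

theorem W_ea (h : Pr V X Y) : IsElementaryAbelian 2 (X ⊔ Y : Subgroup G) := elemAb_sup h.cx.St.ea h.cy.St.ea h.cent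

theorem norm_W (h : Pr V X Y) : Pv X ≤ 𝐍 (X ⊔ Y) := le_normalizer_of_between
  (((commutator_mono le_rfl le_rfl).trans h.cx.St.comm_P).trans le_sup_left) h.W_le

theorem part (h : Pr V X Y) (hw : w ∈ X ⊔ Y) (hn : w ∉ X) : ∃ x ∈ Pv X, w ∈ cj x Y := by
  obtain ⟨v, hv, a, ha, rfl⟩ := h.mem.1 hw
  obtain ⟨x, hx, rfl⟩ := h.surj ha (fun e => hn (by rwa [e, mul_one])) hv
  exact ⟨x, hx, by simpa [commutatorElement_def] using conj_mem_cj x ha⟩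

theorem le_W (h : Pr V X Y) (hU : Cl V U) (hw : w ∈ X ⊔ Y) (hu : w ∈ U) (h1 : w ≠ 1) : U ≤ X ⊔ Y := by
  by_cases hn : w ∈ X
  · exact (hU.eq_of_mem h.cx hu hn h1).le.trans le_sup_left
  obtain ⟨x, hx, e⟩ := h.part hw hn
  exact (hU.eq_of_mem (h.cy.conj x) hu e h1).le.trans (cj_le_of_le_of_mem_normalizer le_sup_right (h.norm_W hx))

theorem centerD (h : Pr V X Y) (hz : z ∈ Pv X) (hc : ∀ d ∈ Pv X, d ∈ 𝐂 Y → Commute z d) : z ∈ X ⊔ Y := by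
  obtain ⟨Z, h', hn⟩ := h.partner
  obtain ⟨a, ha, e⟩ := h'.dec h (fun i => hn (le_cent_symm i)) hz
  have : a⁻¹ * z ∈ X := h.cx.St.center (mul_mem (inv_mem (h.le ha)) hz) fun y hy => by
    obtain ⟨b, hb, e'⟩ := h.dec h' hn hy
    have := (comm_of e hb).mul_right
      ((comm_of e' ha).symm.inv_left.mul_left (hc _ (mul_mem (inv_mem (h'.le hb)) hy) e'))
    rwa [mul_inv_cancel_left] at this
  simpa using mul_mem (mem_sup_right ha) (mem_sup_left (T := Y) this)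

theorem symm_of (h : Pr V X Y) (hg : g ∈ 𝐍 (X ⊔ Y)) (hn : g ∉ 𝐍 X) : X ≤ Pv Y := by
  have h1 : X ≠ cj g X := fun e => hn (cj_eq_self_iff.1 e.symm)
  obtain ⟨u, hu, h2⟩ := (h.cx.conj g).exists_ne h.cx h1.symm
  obtain ⟨x, hx, e⟩ := h.part (cj_le_of_le_of_mem_normalizer le_sup_left hg hu) fun i =>
    h2 (h.cx.one (h.cx.conj g) h1 i hu)
  have h3 : cj (x⁻¹ * g) X = Y := by rw [cj_mul, (h.cx.conj g).eq_of_mem (h.cy.conj x) hu e h2, cj_inv_cj]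
  have h4 := (h.conj (x⁻¹ * g)).W_le
  rw [← cj_sup, cj_of_mem_normalizer (mul_mem (inv_mem (h.norm_W hx)) hg), h3] at h4
  exact le_sup_left.trans h4

theorem symm (h : Pr V X Y) : Pr V Y X := by
  refine ⟨h.cy, h.cx, h.ne.symm, by_contra fun hn => ?_⟩
  have hN : 𝐍 (X ⊔ Y) ≤ 𝐍 X := fun g hg => by_contra fun i => hn (h.symm_of hg i)
  have s0 : ∀ y ∈ Pv Y, ∀ v ∈ X, v ≠ 1 → ⁅y, v⁆ ∈ Y → y ∈ 𝐍 X := fun y hy v hv h1 i => by
    refine hN (mem_normalizer_of_cj_le ?_)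
    rw [cj_sup, cj_of_mem_normalizer (P_le Y hy)]
    refine sup_le (h.le_W (h.cx.conj y) ?_ (conj_mem_cj y hv) (by simpa using h1)) le_sup_right
    simpa [commutatorElement_def] using mul_mem (mem_sup_right (S := X) i) (mem_sup_left hv)
  have s1 : ∀ u ∈ X, u ∈ Pv Y → u = 1 := fun u hu i => by_contra fun j => j (h.one hu (h.cy.St.center i fun y hy =>
    (br_one.1 (h.one (br_right (s0 y hy u hu j (h.cy.St.br hy i)) hu) (h.cy.St.br hy i))).symm))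
  have s2 : ∀ u ∈ X, (∀ y ∈ Pv Y, ⁅u, y⁆ ∈ Y) → u = 1 := fun u hu i => s1 u hu (h.cy.St.cstar (h.cent hu) i)
  have nP : 𝐂 Y ≤ 𝐍 (Pv Y) := (cent_le_norm Y).trans (norm_P Y)
  have s3 : ∀ e ∈ Pv X, e ∈ Pv Y → e ∈ Y := fun e he i => by
    obtain ⟨v, hv, a, ha, rfl⟩ := h.mem.1 (h.centerD he fun d hd j =>
      br_one.1 (s1 _ (h.cx.St.br he hd) (br_left i (nP j))))
    rw [s1 v hv (by simpa using mul_mem i (inv_mem (h.cy.St.le_P ha))), one_mul]; exact ha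
  have s4 : ⁅Pv Y ⊓ 𝐍 X, Pv X ⊓ 𝐂 Y⁆ ≤ Y := commutator_le.2 fun f hf d hd =>
    s3 _ (br_right (norm_P X hf.2) hd.1) (br_left hf.1 (nP hd.2))
  obtain ⟨v, hv, v1⟩ := h.cx.exists_ne h.cy h.ne
  have s5 : ∀ y ∈ Pv Y, ⁅v, y⁆ ∈ Pv Y ⊓ 𝐍 X := fun y hy => by
    have i := br_right (nP (h.cent hv)) hy
    refine ⟨i, s0 _ i v hv v1 (symm_mem ?_)⟩
    rw [commutatorElement_def v, inv_br (h.cx.St.sq hv)]
    exact h.cy.St.sq_P (inv_mem i)
  have s6 : ⁅Pv Y, Pv X ⊓ 𝐂 Y⁆ ≤ Pv Y ⊓ 𝐍 X := commutator_le.2 fun y hy d hd => by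
    have i := br_left hy (nP hd.2)
    refine ⟨i, s0 _ i v hv v1 ?_⟩
    have i1 := s4 (commutator_mem_commutator (s5 _ (inv_mem hy)) hd)
    have i2 : d⁻¹ * v * d = v := by rw [mul_assoc, ← (comm_of (P_cent X hd.1) hv).eq, inv_mul_cancel_left]
    have i3 : v⁻¹ * d⁻¹ * v = d⁻¹ := by rw [mul_assoc, (comm_of (P_cent X hd.1) hv).inv_left.eq, inv_mul_cancel_left]
    convert conj_mem_of_mem_normalizer (mul_mem (P_le Y hy) (inv_mem (P_le Y (s5 _ (inv_mem hy)).1))) i1 using 1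
    calc ⁅⁅y, d⁆, v⁆ = y * d * y⁻¹ * (d⁻¹ * v * d) * y * d⁻¹ * y⁻¹ * v⁻¹ := by
          simp only [commutatorElement_def]; group
      _ = y * d * y⁻¹ * v * y * (v⁻¹ * d⁻¹ * v) * y⁻¹ * v⁻¹ := by rw [i2, i3]
      _ = _ := by simp only [commutatorElement_def]; group
  have dY : Pv X ⊓ 𝐂 Y ≤ 𝐍 Y := inf_le_right.trans (cent_le_norm Y)
  have s7 : ⁅⁅Pv X ⊓ 𝐂 Y, Pv X ⊓ 𝐂 Y⁆, Pv Y⁆ ≤ Y := PGrp.three_subgroups_of_le_normalizer dY dY (P_le Y)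
    ((commutator_mono (commutator_comm (Pv Y) _ ▸ s6) le_rfl).trans s4) ((commutator_mono s6 le_rfl).trans s4)
  have s8 : Pv X ⊓ 𝐂 Y ≤ X ⊔ Y := fun d hd => h.centerD hd.1 fun e he i => br_one.1 (s2 _ (h.cx.St.br hd.1 he)
    fun y hy => s7 (commutator_mem_commutator (commutator_mem_commutator hd ⟨he, i⟩) hy))
  obtain ⟨Z, h', hZ⟩ := h.partner
  refine v1 (s2 v hv fun y hy => ?_)
  obtain ⟨f1, f2⟩ := s5 y hy
  generalize ⁅v, y⁆ = f at f1 f2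
  have f3 : f ∈ 𝐂 X := cent_of fun u hu => br_one.1 (s1 _ (br_right f2 hu) (br_left f1 (nP (h.cent hu))))
  have f4 : f ∈ 𝐂 (X ⊔ Y) := centralizer_sup X Y ▸ ⟨f3, P_cent Y f1⟩
  refine s3 f (h.cx.St.cstar f3 fun x hx => ?_) f1
  obtain ⟨b, hb, e⟩ := h.dec h' hZ hx
  have b1 := h'.le hb
  have b2 : b⁻¹ * (f * b * f⁻¹) ∈ Pv X := mul_mem (inv_mem b1) (conj_mem_of_mem_normalizer (norm_P X f2) b1)
  have b3 : b⁻¹ * (f * b * f⁻¹) ∈ 𝐂 Y := cent_of fun a ha => by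
    have i1 := (comm_of (P_cent Y f1) ha).eq
    have i2 := (comm_of f3 (h.cx.St.br b1 (h.le ha))).eq
    have i3 : f⁻¹ * a * f = a := by rw [mul_assoc, ← i1, inv_mul_cancel_left]
    calc b⁻¹ * (f * b * f⁻¹) * a = b⁻¹ * (f * b * (f⁻¹ * a * f) * f⁻¹) := by group
      _ = b⁻¹ * (f * ⁅b, a⁆ * a * b * f⁻¹) := by rw [i3, commutatorElement_def]; group
      _ = b⁻¹ * (⁅b, a⁆ * (f * a) * b * f⁻¹) := by rw [i2]; group
      _ = _ := by rw [i1, commutatorElement_def]; group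
  have b4 := s8 ⟨b2, b3⟩
  obtain ⟨u, hu, a, ha, e1⟩ := h.mem.1 b4
  have b5 : Commute b (u * a) := by
    have i1 : b * (u * a) * (b * (u * a)) = 1 := by
      rw [e1, mul_inv_cancel_left]
      calc f * b * f⁻¹ * (f * b * f⁻¹) = f * (b * b) * f⁻¹ := by group
        _ = 1 := by rw [h'.cy.St.sq hb]; group
    have i2 : u * a * (u * a) = 1 := by rw [← pow_two]; exact h.W_ea.2 _ (e1 ▸ b4)
    have i3 := inv_eq_of_mul_eq_one_right i1
    rw [mul_inv_rev, inv_eq_of_mul_eq_one_right i2, inv_eq_of_mul_eq_one_right (h'.cy.St.sq hb)] at i3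
    exact i3.symm
  have b6 : b⁻¹ * (f * b * f⁻¹) ∈ X := by
    by_cases i : a = 1
    · rw [← e1, i, mul_one]; exact hu
    have := h.inj h' hZ hb ha i (by simpa using (comm_of (P_cent X b1) hu).inv_right.mul_right b5)
    simp [this]
  have b7 := (comm_of f4 (s8 (mem_inf.2 ⟨mul_mem (inv_mem b1) hx, e⟩))).eq
  convert conj_mem_of_mem_normalizer (P_le X b1) b6 using 1
  calc ⁅f, x⁆ = f * b * f⁻¹ * (f * (b⁻¹ * x)) * f⁻¹ * x⁻¹ := by rw [commutatorElement_def]; group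
    _ = _ := by rw [b7]; group

theorem trans (h : Pr V X Y) (hv : v ∈ X) (h1 : v ≠ 1) (hw : w ∈ X) (h2 : w ≠ 1) : ∃ g ∈ 𝐍 X, g * v * g⁻¹ = w := by
  obtain ⟨a, ha, a1⟩ := h.cy.exists_ne h.cx h.ne.symm
  obtain ⟨y, -, e1⟩ := h.symm.surj hv h1 ha
  obtain ⟨z, -, e2⟩ := h.symm.surj hw h2 ha
  obtain ⟨x, hx, e3⟩ := h.surj ha a1 (mul_mem hw (inv_mem hv))
  rw [commutatorElement_def, mul_inv_eq_iff_eq_mul] at e1 e2 e3
  have e4 : x * v * x⁻¹ = v := by rw [(comm_of (P_cent X hx) hv).eq, mul_inv_cancel_right]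
  have e : z⁻¹ * x * y * v * (z⁻¹ * x * y)⁻¹ = w := by
    calc _ = z⁻¹ * (x * (y * v * y⁻¹) * x⁻¹) * z := by group
      _ = z⁻¹ * (x * a * x⁻¹ * (x * v * x⁻¹)) * z := by rw [e1]; group
      _ = z⁻¹ * (w * (v⁻¹ * (a * v))) * z := by rw [e3, e4]; group
      _ = z⁻¹ * (z * w * z⁻¹) * z := by
        rw [e2, ← (comm_of (h.cent hv) ha).eq, inv_mul_cancel_left, (comm_of (h.cent hw) ha).eq]
      _ = w := by group
  exact ⟨_, cj_eq_self_iff.1 ((h.cx.conj _).eq_of_mem h.cx (e ▸ conj_mem_cj _ hv) hw h2), e⟩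

theorem P_eq (h : Pr V X Y) : Pv X = pCoreOf 2 (𝐍 X) := by
  refine inf_eq_left.2 (le_cent_symm fun w hw => ?_)
  obtain ⟨u, hu, u1⟩ := h.cx.exists_ne h.cy h.ne
  obtain ⟨⟨v, hv⟩, v1⟩ := ne_bot_iff_exists_ne_one.1 (inf_center_ne_bot (op_isPGroup (p := 2) (𝐍 X))
    (h.cx.St.le_P.trans inf_le_left) (op_le _) fun e => u1 (mem_bot.1 (e ▸ hu)))
  by_cases h2 : w = 1
  · rw [h2]; exact one_mem _
  obtain ⟨g, hg, rfl⟩ := h.trans hv.1 (fun e => v1 (Subtype.ext e)) hw h2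
  exact conj_mem_of_mem_normalizer (le_normalizer_centralizer (le_norm_op _) hg) hv.2

theorem comm_eq (h : Pr V X Y) : ⁅Pv X, Pv X⁆ = X := le_antisymm h.cx.St.comm_P fun v hv => by
  obtain ⟨a, ha, a1⟩ := h.cy.exists_ne h.cx h.ne.symm
  obtain ⟨x, hx, rfl⟩ := h.surj ha a1 hv
  exact commutator_mem_commutator hx (h.le ha)

theorem frattini_eq (h : Pr V X Y) : (frattini (Pv X)).map (Pv X).subtype = X := by
  refine le_antisymm (map_le_iff_le_comap.2 (frattini_le_of_commutator_le_of_pow_mem Nat.prime_two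
    (commutator_le.2 fun x _ y _ => h.cx.St.br x.2 y.2) fun x => ?_)) (h.comm_eq.ge.trans
      (commutator_le_frattiniOf (P_two X)))
  rw [pow_two]; exact h.cx.St.sq_P x.2

theorem center_eq (h : Pr V X Y) : Pv X ⊓ 𝐂 (Pv X) = X :=
  le_antisymm (fun _ hx => h.cx.St.center hx.1 fun _ hy => comm_of hx.2 hy)
    (le_inf h.cx.St.le_P (le_cent_symm (P_cent X)))

theorem conn (h : Pr V X Y) (hx : x ∈ Pv X) (hn : x ∉ 𝐂 Y) : ∃ y ∈ Pv Y, ∀ a ∈ Y, ⁅y, ⁅x, a⁆⁆ = a := by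
  obtain ⟨a, ha, a1⟩ := h.cy.exists_ne h.cx h.ne.symm
  have h1 := h.cx.St.br hx (h.le ha)
  obtain ⟨y, hy, e⟩ := h.symm.surj h1 (fun i => hn (h.cent_elt hx ha a1 (br_one.1 i))) ha
  have h2 : cj y X = cj x Y := (h.cx.conj y).eq_of_mem (h.cy.conj x) (conj_mem_cj y h1) (by
    rw [commutatorElement_def, mul_inv_eq_iff_eq_mul] at e
    rw [e, ← (comm_of (h.cent h1) ha).eq]
    simpa [commutatorElement_def] using conj_mem_cj x ha) (by
      simpa using fun i => hn (h.cent_elt hx ha a1 (br_one.1 i)))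
  refine ⟨y, hy, fun b hb => ?_⟩
  obtain ⟨u, hu, e1⟩ := mem_cj'.1 (h2.ge (conj_mem_cj x hb))
  have h3 := h.cx.St.br hx (h.le hb)
  have h4 := h.cy.St.br hy (h.symm.le hu)
  have e2 : ⁅y, u⁆ * u = b * ⁅x, b⁆ := by
    rw [← (comm_of (h.cent h3) hb).eq]; simp only [commutatorElement_def, inv_mul_cancel_right, e1]
  have e3 : ⁅x, b⁆ * u⁻¹ = b⁻¹ * ⁅y, u⁆ := by rw [eq_inv_mul_iff_mul_eq, ← mul_assoc, ← e2, mul_inv_cancel_right]
  have e4 := h.one (mul_mem h3 (inv_mem hu)) (e3 ▸ mul_mem (inv_mem hb) h4)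
  rw [mul_inv_eq_one.1 e4]
  exact (inv_mul_eq_one.1 (e3 ▸ e4)).symm

open TV BG1 in
theorem opp {W₀ H : Subgroup G} {P W : Type*} [Group P] [AddCommGroup W] [DistribMulAction P W] [Finite P] [Finite W]
    {π : H →* P} {ι : Multiplicative W →* G} (h : Pr V X Y) (e : W₀ = X ⊔ Y) (br : Br W₀ H π ι) (hX : Pv X ≤ H)
    (hY : Pv Y ≤ H) : Opp W (mim π (Pv X)) (mim π (Pv Y)) ∧ Nat.card (mim π (Pv X)) = Nat.card V ∧
      ∀ w ∈ fx W (mim π (Pv X)), w ∈ fx W (mim π (Pv Y)) → w = 0 := by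
  subst e
  have f1 : ∀ w, w ∈ fx W (mim π (Pv X)) ↔ ι (.ofAdd w) ∈ X := fun w => by
    rw [br.mem_fx_mim hX]; exact ⟨fun i => h.center_eq.le ⟨h.W_le (br.mem w), i⟩, fun i => (h.center_eq.ge i).2⟩
  have f2 : ∀ w, w ∈ fx W (mim π (Pv Y)) ↔ ι (.ofAdd w) ∈ Y := fun w => by
    rw [br.mem_fx_mim hY]
    exact ⟨fun i => h.symm.center_eq.le ⟨h.symm.W_le (sup_comm X Y ▸ br.mem w), i⟩, fun i => (h.symm.center_eq.ge i).2⟩
  have f3 : ∀ g (hg : g ∈ H) w, ι (.ofAdd (dl W (π ⟨g, hg⟩) w)) = ⁅g, ι (.ofAdd w)⁆ := fun g hg w => by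
    rw [dl_apply, ofAdd_sub, map_div, br.conj', div_eq_mul_inv, commutatorElement_def]
  have f4 : ∀ g (hg : g ∈ H), g ∈ Pv X → (π ⟨g, hg⟩ = 1 ↔ g ∈ 𝐂 Y) := fun g hg i => by
    rw [← mem_mker_iff, br.mker_eq, centralizer_sup]; exact ⟨fun j => j.2.2, fun j => ⟨hg, P_cent X i, j⟩⟩
  have f5 : Nat.card (mim π (Pv X)) = Nat.card V := by
    obtain ⟨Z, h', hn⟩ := h.partner
    obtain ⟨a, ha, a1⟩ := h.cy.exists_ne h.cx h.ne.symm
    rw [← h'.cy.card]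
    refine (Nat.card_eq_of_bijective (fun b : Z => (⟨π ⟨b, hX (h'.le b.2)⟩, mem_mim_of_mem _ (h'.le b.2)⟩ :
      mim π (Pv X))) ⟨fun b c i => ?_, ?_⟩).symm
    · have i1 := inv_mul_eq_one.2 (congrArg Subtype.val i)
      simp only [← map_inv, ← map_mul] at i1
      exact inv_mul_eq_one.1 (Subtype.ext (h.inj h' hn (b⁻¹ * c).2 ha a1
        (comm_of ((f4 _ _ (h'.le (b⁻¹ * c).2)).1 i1) ha)))
    · rintro ⟨_, hx⟩
      obtain ⟨x, x1, x2, rfl⟩ := mem_mim.1 hx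
      obtain ⟨b, hb, i⟩ := h.dec h' hn x2
      refine ⟨⟨b, hb⟩, Subtype.ext (inv_mul_eq_one.1 ?_)⟩
      simp only [← map_inv, ← map_mul]
      exact (f4 _ _ (mul_mem (inv_mem (h'.le hb)) x2)).2 i
  have f6 : ∀ w ∈ fx W (mim π (Pv X)), w ∈ fx W (mim π (Pv Y)) → w = 0 := fun w a b =>
    br.inj' ((h.one ((f1 w).1 a) ((f2 w).1 b)).trans (map_one ι).symm)
  refine ⟨⟨fun a ha v => ?_, fun a ha a1 w hw i => ?_, fun a ha a1 => ?_, fun v => ?_, ?_, ?_⟩, f5, f6⟩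
  · obtain ⟨x, x1, x2, rfl⟩ := mem_mim.1 ha
    rw [f1, f3]; exact h.cx.St.br x2 (h.W_le (br.mem v))
  · obtain ⟨x, x1, x2, rfl⟩ := mem_mim.1 ha
    rw [f2] at hw i
    rw [f3] at i
    rw [f1]
    by_contra j
    exact a1 ((f4 x x1 x2).2 (h.cent_elt x2 hw (fun k => j (k ▸ one_mem _))
      (br_one.1 (h.one (h.cx.St.br x2 (h.le hw)) i))))
  · obtain ⟨x, x1, x2, rfl⟩ := mem_mim.1 ha
    obtain ⟨y, hy, i⟩ := h.conn x2 fun j => a1 ((f4 x x1 x2).2 j)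
    refine ⟨_, mem_mim_of_mem (hY hy) hy, fun w hw => ?_⟩
    rw [br.inj' (w := dl W _ _) (w' := w) (by rw [f3, f3, i _ ((f2 w).1 hw)]), sub_self]
    exact zero_mem _
  · obtain ⟨u, hu, a, ha, i⟩ := h.mem.1 (br.mem v)
    obtain ⟨u', rfl⟩ := br.ex (mem_sup_left hu)
    obtain ⟨a', rfl⟩ := br.ex (mem_sup_right ha)
    exact ⟨u', (f1 _).2 hu, a', (f2 _).2 ha, br.inj' (by rw [← i, ofAdd_add, map_mul])⟩
  · have i1 := AddSubgroup.card_mul_index (fx W (mim π (Pv X)))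
    have i2 : X ⊓ Y = ⊥ := eq_bot_iff.2 fun u hu => h.one hu.1 hu.2
    rw [br.card, card_sup_of_disjoint (h.cent.trans (cent_le_norm Y)) i2, ← br.card_am, br.am_fx hX,
      show (X ⊔ Y) ⊓ 𝐂 (Pv X) = X from le_antisymm ((inf_le_inf_right _ h.W_le).trans h.center_eq.le)
        (le_inf le_sup_left (h.center_eq.ge.trans inf_le_right))] at i1
    rw [f5, ← h.cy.card]
    exact Nat.eq_of_mul_eq_mul_left Nat.card_pos i1
  · obtain ⟨a, ha, a1⟩ := h.cy.exists_ne h.cx h.ne.symm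
    obtain ⟨a', rfl⟩ := br.ex (mem_sup_right ha)
    exact ⟨a', fun i => a1 (h.one ((f1 _).1 i) ha)⟩

theorem norm_W' (h : Pr V X Y) : Pv X ⊔ Pv Y ≤ 𝐍 (X ⊔ Y) := sup_le h.norm_W (sup_comm X Y ▸ h.symm.norm_W)

open TV BG1 in
theorem sl2 (h : Pr V X Y) : ∃ (F : Type) (_ : Field F) (_ : Fintype F), Fintype.card F = Nat.card V ∧
    ∃ ρ : ↥(Pv X ⊔ Pv Y) →* Matrix.SpecialLinearGroup (Fin 2) F, Function.Surjective ρ ∧
      ρ.ker = (𝐂 (X ⊔ Y)).subgroupOf (Pv X ⊔ Pv Y) := by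
  obtain ⟨P, W, _, _, _, _, _, π, ι, br⟩ := exists_br h.W_ea.1 h.norm_W'
  obtain ⟨o1, c1, f⟩ := h.opp rfl br le_sup_left le_sup_right
  obtain ⟨o2, c2, -⟩ := h.symm.opp (sup_comm X Y) br le_sup_right le_sup_left
  obtain ⟨F, _, _, hF, hρ⟩ := plane (br.hp h.W_ea) o1 o2 (c2.trans c1.symm)
  rw [← mim_sup le_sup_left le_sup_right] at hρ
  obtain ⟨ρ, ψ, hN, -⟩ := hρ
  refine ⟨F, _, _, hF.trans c1, ρ.comp (Br.res π le_rfl), hN.rs.comp (Br.res_surj le_rfl),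
    br.ker_comp_res le_rfl ((injective_iff_map_eq_one ρ).2 fun l hl => Subtype.ext (br.faith _ fun w => ?_))⟩
  have := hN.dl_mem_of_ker.1 hl w
  exact dl_eq_zero.1 (f _ (fun a ha => this a (mim_mono π le_sup_left ha)) fun a ha =>
    this a (mim_mono π le_sup_right ha))

end Pr

end Cfsg.Lib.Amalg.BigTI
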