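import Cfsg.Agent.Lib.Amalg.BkSt2
import Cfsg.Agent.Lib.Linear.SmallIso
import Cfsg.Prelude.Def_LocalEven

/-! Overgroups of `SL₂(q)` on the natural module whose Sylow subgroup normalizes `SL₂(q)`. -/

set_option autoImplicit false
set_option linter.unusedSectionVars false

namespace Cfsg.Lib.Amalg.Bk

open Subgroup TV
open Cfsg.Lib.BG1 (mim mpre mker mem_mim mem_mim_of_mem mem_mker mem_mker_iff)
open Cfsg.Lib.Transfer (maxEl)
open Cfsg.Lib.Core (le_normalizer_inf le_normalizer_sup le_normalizer_centralizer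
  le_normalizer_commutator SubnormalIn)
open scoped commutatorElement MatrixGroups

universe u

theorem alt_of_index {G : Type*} [Group G] [Finite G] [IsSimpleGroup G] {n : ℕ} (hn : 0 < n) {K : Subgroup G}
    (hK : K.index = n + 1) (hG : 2 * Nat.card G = (n + 1).factorial) : Nonempty (K ≃* alternatingGroup (Fin n)) := by
  let e : G ⧸ K ≃ Fin (n + 1) := Finite.equivFinOfCardEq hK
  let φ : G →* Equiv.Perm (Fin (n + 1)) := e.permCongrHom.toMonoidHom.comp (MulAction.toPermHom G (G ⧸ K))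
  have m : ∀ g, φ g (e (1 : G)) = e (1 : G) ↔ g ∈ K := fun g => by
    change e (g • e.symm (e _)) = _ ↔ _
    rw [e.symm_apply_apply, e.injective.eq_iff, MulAction.Quotient.smul_coe, QuotientGroup.eq]; simp
  have inj : Function.Injective φ := (MonoidHom.ker_eq_bot_iff φ).1 (φ.normal_ker.eq_bot_or_eq_top.resolve_right fun c => by
    rw [show K = ⊤ from eq_top_iff.2 fun g _ => (m g).1 (by rw [show φ g = 1 from c.ge (mem_top g)]; rfl), index_top] at hK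
    omega)
  have r : φ.range = alternatingGroup _ := Equiv.Perm.eq_alternatingGroup_of_index_eq_two (by
    have := φ.range.index_mul_card
    rw [← Nat.card_congr (MonoidHom.ofInjective inj).toEquiv, Nat.card_perm, Nat.card_fin, ← hG] at this
    exact Nat.eq_of_mul_eq_mul_right Nat.card_pos this)
  obtain ⟨i⟩ := stab_equiv (e (1 : G)) (K := K.map φ) fun σ => by
    rw [← r]
    exact ⟨by rintro ⟨g, hg, rfl⟩; exact ⟨⟨g, rfl⟩, (m g).2 hg⟩, by rintro ⟨⟨g, rfl⟩, hg⟩; exact ⟨g, (m g).1 hg, rfl⟩⟩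
  exact ⟨(equivMapOfInjective _ _ inj).trans i⟩

theorem cj_le_of_perfect {G : Type*} [Group G] [Finite G] {H M L : Subgroup G} (hL : ⁅L, L⁆ = L) (h1 : L ≤ H)
    (h2 : M.relIndex H ≤ 4) {g : G} (hg : g ∈ H) : cj g L ≤ M := by
  let e : H ⧸ M.subgroupOf H ≃ Fin (M.relIndex H) := Finite.equivFinOfCardEq rfl
  let φ : H →* Equiv.Perm (Fin _) := e.permCongrHom.toMonoidHom.comp (MulAction.toPermHom H _)
  haveI := Linear.isSolvable_perm_of_le_four h2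
  have h3 : mim φ L = ⊥ := by
    by_contra c
    have := Group.IsSolvable.commutator_lt_of_ne_bot c
    rw [← BG1.mim_commutator h1 h1, hL] at this
    exact this.false
  refine cj_le_iff'.2 fun x hx => ?_
  have h4 := (mem_mker_iff (h1 hx)).1 ((BG1.mim_eq_bot_iff h1).1 h3 hx)
  have h5 : φ (⟨g, hg⟩ * ⟨x, h1 hx⟩ * ⟨g, hg⟩⁻¹) (e (1 : H)) = e (1 : H) := by
    rw [map_mul, map_mul, h4, mul_one, map_inv, mul_inv_cancel]; rfl
  change e ((⟨g, hg⟩ * ⟨x, h1 hx⟩ * ⟨g, hg⟩⁻¹ : H) • e.symm (e _)) = _ at h5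
  rw [e.symm_apply_apply, e.injective.eq_iff, MulAction.Quotient.smul_coe, QuotientGroup.eq, smul_eq_mul, mul_one,
    mul_one, inv_mem_iff] at h5
  exact h5

theorem ga_equiv {X : Type*} [AddCommGroup X] [Finite X] (h2 : ∀ x : X, 2 • x = 0) (hX : Nat.card X = 16) :
    Nonempty (GA X ≃* alternatingGroup (Fin 8)) := by
  haveI : Fact (Nat.Prime 2) := ⟨Nat.prime_two⟩
  letI : Module (ZMod 2) X := AddCommGroup.zmodModule h2
  haveI : Module.Finite (ZMod 2) X := Module.Finite.of_finite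
  have h4 : Module.finrank (ZMod 2) X = 4 := Nat.pow_right_injective (le_refl 2) (by
    have := Module.natCard_eq_pow_finrank (K := ZMod 2) (V := X)
    rw [Nat.card_zmod, hX] at this
    exact this.symm)
  let e1 : GA X ≃* (X ≃ₗ[ZMod 2] X) :=
    { toFun := fun g => { g.toAddEquiv with map_smul' := ZMod.map_smul g.toAddEquiv }
      invFun := fun g => g.toAddEquiv.toIntLinearEquiv
      left_inv := fun _ => rfl
      right_inv := fun _ => rfl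
      map_mul' := fun _ _ => rfl }
  obtain ⟨e2⟩ := Linear.gl4_two_equiv (F := ZMod 2) (Nat.card_zmod 2)
  exact ⟨((e1.trans (LinearMap.GeneralLinearGroup.generalLinearEquiv _ _).symm).trans
    (Matrix.GeneralLinearGroup.toLin' (Module.finBasisOfFinrankEq _ _ h4)).symm).trans e2⟩

variable {F : Type} [Field F] [Finite F] {p : ℕ} [Fact p.Prime] [_root_.CharP F p]
  {Γ A A' P : Subgroup (GA (Fin 2 → F))} {g x : GA (Fin 2 → F)}

/-- Overgroups of `SL₂(F)` whose `p`-subgroups are conjugate into the normalizer. -/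
structure NS (p : ℕ) (Γ : Subgroup (GA (Fin 2 → F))) : Prop where
  le : SA F ≤ Γ
  syl : ∀ P ≤ Γ, IsPGroup p P → ∃ g ∈ Γ, cj g P ≤ 𝐍 (DL F)

/-- The conjugates of the unitriangular group. -/
def CU (Γ A : Subgroup (GA (Fin 2 → F))) : Prop := ∃ g ∈ Γ, A = cj g (Ul F)

local notation "𝐔" => fx (Fin 2 → F)

namespace CU

theorem base : CU Γ (Ul F) := ⟨1, one_mem _, (cj_one _).symm⟩

theorem conj (h : CU Γ A) (hx : x ∈ Γ) : CU Γ (cj x A) := h.elim fun g e => ⟨_, mul_mem hx e.1, by rw [e.2, cj_mul]⟩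

theorem el (h : CU Γ A) : IsElementaryAbelian p A := h.elim fun _ e => e.2 ▸ elemAb_map Ul_elemAb _

theorem quad (h : CU Γ A) : Quad (Fin 2 → F) A := h.elim fun g e => e.2 ▸ quad_Ul.cj g

theorem card (h : CU Γ A) : Nat.card A = Nat.card F := h.elim fun g e => e.2 ▸ card_cj_Ul g

theorem cardU (h : CU Γ A) : Nat.card (𝐔 A) = Nat.card F := h.elim fun g e => by rw [e.2, card_fx_cj, card_fx_Ul]

theorem fx1 (h : CU Γ A) (hx : x ∈ A) (h1 : x ≠ 1) {v : Fin 2 → F} (e : x • v = v) : v ∈ 𝐔 A := by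
  obtain ⟨g, -, rfl⟩ := h
  rw [mem_fx_cj, ← fx_of_mem_Ul (mem_cj.1 hx) (fun c => h1 (by rwa [mul_assoc, inv_mul_eq_one, eq_comm, mul_eq_right] at c)),
    mem_fx_zpowers, mul_smul, mul_smul, smul_inv_smul, e]

end CU

namespace NS
variable (h : NS p Γ)
include h

theorem cu_le (a : CU Γ A) : A ≤ Γ := a.elim fun _ e => e.2 ▸ cj_le_of_le_of_mem (Ul_le_SA.trans h.le) e.1

theorem k0 (a : CU Γ A) (h1 : A ≤ P) (h2 : P ≤ Γ) (h3 : IsPGroup p P) : ∃ y ∈ Γ, cj y A = Ul F ∧ cj y P ≤ 𝐍 (DL F) := by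
  obtain ⟨x, hx, h4⟩ := h.syl P h2 h3
  have b := a.conj hx
  obtain ⟨d, hd, e⟩ := off_DL (p := p) b.el ((cj_mono x h1).trans h4) (fun c => by
    have := b.card; rw [c, card_bot] at this; exact Finite.one_lt_card.ne this) (by
      obtain ⟨g, -, e⟩ := b; rw [e, index_fx_cj_Ul, card_cj_Ul])
  exact ⟨d⁻¹ * x, mul_mem (inv_mem (h.le (DL_le_SA hd))) hx, by rw [cj_mul, e, cj_inv_cj], by
    rw [cj_mul]; exact cj_le_of_le_of_mem h4 (inv_mem (le_normalizer hd))⟩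

theorem k2 (a : CU Γ A) (a' : CU Γ A') (e : 𝐔 A ≤ 𝐔 A') : A = A' := by
  replace e := AddSubgroup.eq_of_le_of_card_ge e (a'.cardU.trans a.cardU.symm).le
  have el := (quad_St (P := GA (Fin 2 → F)) (𝐔 A)).elemAb ga_faith (p_smul_vec (p := p))
  have h1 : A ⊔ A' ≤ St _ (𝐔 A) := sup_le (le_St.2 ⟨a.quad.cm_le, le_rfl⟩) (le_St.2 ⟨a'.quad.cm_le.trans e.ge, e.le⟩)
  obtain ⟨y, hy, h2, h3⟩ := h.k0 a le_sup_left (sup_le (h.cu_le a) (h.cu_le a')) ((elemAb_isPGroup el).to_le h1)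
  refine (eq_of_le_of_card_le' (fun x hx => ?_) (a.card.trans a'.card.symm).le).symm
  rw [← conj_mem_cj_iff (g := y), h2]
  refine mem_Ul_of_fix (p := p) (k := 1) (h3 (conj_mem_cj y (mem_sup_right hx)))
    (by rw [pow_one, conj_pow, (a'.el (p := p)).2 x hx]; simp) fun v hv => ?_
  rw [← h2, mem_fx_cj, e] at hv
  rw [mul_smul, mul_smul, hv x hx, smul_inv_smul]

theorem core (a : CU Γ A) (hne : A ≠ Ul F) (h0 : 𝐔 (A ⊔ Ul F) ≠ ⊥) (h1 : A ⊓ 𝐍 (Ul F) ≤ 𝐍 (DL F))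
    (h2 : Nat.card (𝐔 (A ⊔ Ul F)) ≤ Nat.card ↥(A ⊓ 𝐍 (Ul F))) :
    p = 2 ∧ Nat.card F = 4 ∧ Nat.card ↥(A ⊓ 𝐍 (Ul F)) = 2 ∧ Nat.card (𝐔 (A ⊔ Ul F)) = 2 := by
  obtain ⟨⟨w, hw⟩, w0⟩ := (AddSubgroup.ne_bot_iff_exists_ne_zero).1 h0
  replace w0 : w ≠ 0 := fun e => w0 (Subtype.ext e)
  have h3 := (AddSubgroup.one_lt_card_iff_ne_bot _).2 h0
  rw [fx_sup] at hw h2 h3 ⊢
  have w1 := mem_fx_Ul.1 hw.2
  have inj : ∀ {x y : F}, x • w = y • w → x = y := fun e => smul_left_injective F w0 e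
  obtain ⟨c, hc⟩ : ∃ c : F, c • w ∉ 𝐔 A := by
    by_contra! c
    refine hne (h.k2 CU.base a fun v hv => ?_).symm
    have h4 : w 0 ≠ 0 := fun e => w0 (by rw [vec_eq w, e, w1]; simp)
    rw [show v = (v 0 / w 0) • w by ext i; fin_cases i <;> simp [h4, w1, mem_fx_Ul.1 hv]]
    exact c _
  have ex : ∀ x : ↥(A ⊓ 𝐍 (Ul F)), ∃ σ : F →+* F, (∀ y, x.1 • y • w = σ y • w) ∧ ∀ y, σ (σ y - y) = σ y - y := fun x => by
    choose σ hσ using exists_semi (h1 x.2)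
    have e : ∀ y, x.1 • y • w = σ y • w := fun y => by rw [hσ, hw.1 _ x.2.1]
    have ad : ∀ y z, σ (y + z) = σ y + σ z := fun y z => inj (by rw [← e, add_smul, smul_add, e, e, add_smul])
    refine ⟨RingHom.mk' ⟨⟨σ, inj (by rw [← e, one_smul, hw.1 _ x.2.1])⟩, fun y z => inj ?_⟩ ad, e, fun y => inj ?_⟩
    · change σ _ • w = (σ y * σ z) • w
      rw [← e, mul_smul, hσ, e, mul_smul]
    · have := a.quad.dl_dl x.2.1 x.2.1 (y • w)
      rwa [dl_apply _ (y • w), e, ← sub_smul, dl_eq_zero, e] at this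
  choose σ h4 h5 using ex
  have fix : ∀ x, x ≠ 1 → ∀ y, σ x y = y ↔ y • w ∈ 𝐔 A := fun x hx y =>
    ⟨fun e => a.fx1 x.2.1 (fun c => hx (Subtype.ext c)) (by rw [h4, e]), fun e => inj (by rw [← h4, e _ x.2.1])⟩
  haveI := Finite.one_lt_card_iff_nontrivial.1 (h3.trans_le h2)
  obtain ⟨x, hx⟩ := exists_ne (1 : ↥(A ⊓ 𝐍 (Ul F)))
  have nc : ∀ x, x ≠ 1 → σ x c - c ≠ 0 := fun x hx e => hc ((fix x hx c).1 (sub_eq_zero.1 e))
  have two : (2 : F) = 0 := by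
    have e1 := h5 x c
    have e2 := h5 x (c * c)
    simp only [map_sub, map_mul] at e1 e2
    rw [eq_add_of_sub_eq e1] at e2
    exact (mul_eq_zero.1 (show 2 * (σ x c - c) ^ 2 = 0 by linear_combination e2)).resolve_right (pow_ne_zero _ (nc x hx))
  have uq : ∀ y, y ≠ 1 → y = x := fun y hy => by
    have e1 := h5 x c
    rw [map_sub] at e1
    have e2 := (fix y hy _).2 ((fix x hx _).1 (h5 x c))
    have e3 := (fix y hy _).2 ((fix x hx (c * σ x c)).1 (by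
      rw [map_mul, eq_add_of_sub_eq e1]; linear_combination (σ x c * σ x c - σ x c * c) * two))
    rw [map_sub] at e2
    rw [map_mul, eq_add_of_sub_eq e2] at e3
    have e4 : σ y c = σ x c := sub_eq_zero.1 ((mul_eq_zero.1 (show (σ y c - c) * (σ y c - σ x c) = 0 by
      linear_combination e3 + (c * σ x c - σ y c * σ x c) * two)).resolve_left (nc y hy))
    by_contra e
    refine hc (a.fx1 (x⁻¹ * y).2.1 (fun e' => e (inv_mul_eq_one.1 (Subtype.ext e')).symm) ?_)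
    rw [coe_mul, mul_smul, h4, e4, ← h4, coe_inv, inv_smul_smul]
  have h6 : Nat.card ↥(A ⊓ 𝐍 (Ul F)) = 2 := (Nat.card_eq_two_iff' 1).2 ⟨x, hx, uq⟩
  have h7 : Nat.card ↥(𝐔 A ⊓ 𝐔 (Ul F)) = 2 := by omega
  have h8 : ∀ y, σ x y = y → y = 0 ∨ y = 1 := fun y e => or_iff_not_imp_left.2 fun y0 => inj (by
    obtain ⟨z, -, hz⟩ := (Nat.card_eq_two_iff' 0).1 h7
    rw [one_smul]
    exact congrArg Subtype.val ((hz ⟨y • w, (fix x hx y).1 e, mem_fx_Ul.2 (by simp [w1])⟩ fun e =>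
      smul_ne_zero y0 w0 (congrArg Subtype.val e)).trans (hz ⟨w, hw⟩ fun e => w0 (congrArg Subtype.val e)).symm))
  have p2 : p = 2 := (Nat.prime_dvd_prime_iff_eq Fact.out Nat.prime_two).1 ((CharP.cast_eq_zero_iff F p 2).1 two)
  refine ⟨p2, ?_, h6, h7⟩
  classical
  haveI := Fintype.ofFinite F
  have c0 : c ≠ 0 := fun e => nc x hx (by simp [e])
  have c1 : c ≠ 1 := fun e => nc x hx (by simp [e])
  have h9 := (h8 _ (h5 x c)).resolve_left (nc x hx)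
  have : (Finset.univ : Finset F) = {0, 1, c, c + 1} := Finset.ext fun y => by
    simp only [Finset.mem_univ, Finset.mem_insert, Finset.mem_singleton, true_iff]
    rcases h8 _ (h5 x y) with e | e
    · exact (h8 y (sub_eq_zero.1 e)).imp_right Or.inl
    · exact Or.inr (Or.inr ((h8 (y - c) (by rw [map_sub]; linear_combination e - h9)).imp sub_eq_zero.1
        fun e => by linear_combination e))
  rw [Nat.card_eq_fintype_card, ← Finset.card_univ, this, Finset.card_eq_four]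
  exact ⟨0, 1, c, c + 1, zero_ne_one, c0.symm, fun e => c1 (by linear_combination -e - two), c1.symm,
    fun e => c0 (by linear_combination -e), by simp, rfl⟩

theorem nrm (a : CU Γ A) (a' : CU Γ A') (mx : ∀ B B', CU Γ B → CU Γ B' → B ≠ B' →
    Nat.card (𝐔 (B ⊔ B')) ≤ Nat.card (𝐔 (A ⊔ A'))) {v : Fin 2 → F} (hv : v ∈ 𝐔 A') (hv' : v ∉ 𝐔 A) (hx : x ∈ A)
    (e : dl _ x v ∈ 𝐔 A') : x ∈ 𝐍 A' := by
  by_contra c
  refine (mx _ _ (a'.conj (h.cu_le a hx)) a' fun e => c (cj_eq_self_iff.1 e)) |> fun m => ?_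
  rw [fx_sup, fx_sup] at m
  have : 𝐔 A ⊓ 𝐔 A' ≤ 𝐔 (cj x A') ⊓ 𝐔 A' := fun w hw => ⟨mem_fx_cj.2 (by rw [hw.1 _ (inv_mem hx)]; exact hw.2), hw.2⟩
  refine hv' ((AddSubgroup.eq_of_le_of_card_ge this m).ge ⟨mem_fx_cj.2 ?_, hv⟩).1
  · rw [a.quad.inv_smul hx]; exact sub_mem hv e

theorem mid (a : CU Γ A) (a' : CU Γ A') (hne : A ≠ A') (h0 : 𝐔 (A ⊔ A') ≠ ⊥) (mx : ∀ B B', CU Γ B → CU Γ B' → B ≠ B' →
    Nat.card (𝐔 (B ⊔ B')) ≤ Nat.card (𝐔 (A ⊔ A'))) : p = 2 ∧ Nat.card F = 4 ∧ Nat.card ↥(A ⊓ 𝐍 A') = 2 ∧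
      Nat.card (𝐔 (A ⊔ A')) = 2 ∧ 8 ∣ Nat.card ↥(Γ ⊓ 𝐍 (DL F)) := by
  classical
  obtain ⟨v, hv, hv'⟩ := SetLike.not_le_iff_exists.1 fun e => hne (h.k2 a' a e).symm
  have h1 := relIndex_le_card (A := A) (B := 𝐍 A') (fun x => if hx : x ∈ A then
    (QuotientAddGroup.mk ⟨dl _ x v, fun y hy => dl_eq_zero.1 (a.quad.dl_dl hy hx v)⟩ :
      𝐔 A ⧸ (𝐔 A').addSubgroupOf (𝐔 A)) else 0) fun x hx y hy e => by
    rw [dif_pos hx, dif_pos hy, QuotientAddGroup.eq] at e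
    refine h.nrm a a' mx hv hv' (mul_mem (inv_mem hx) hy) ?_
    rw [a.quad.dl_mul (inv_mem hx) hy, a.quad.dl_inv hx]
    exact e
  have h2 : Nat.card (𝐔 (A ⊔ A')) ≤ Nat.card ↥(A ⊓ 𝐍 A') := by
    have e1 := card_inf_mul (𝐍 A') A
    have e2 := ((𝐔 A').addSubgroupOf (𝐔 A)).card_mul_index
    rw [a.cardU, ← a.card, ← e1, ← AddSubgroup.inf_addSubgroupOf_left,
      Nat.card_congr (AddSubgroup.addSubgroupOfEquivOfLe inf_le_left).toEquiv, AddSubgroup.inf_addSubgroupOf_left,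
      ← fx_sup] at e2
    exact Nat.le_of_mul_le_mul_right (e2.le.trans (Nat.mul_le_mul_left _ h1)) Nat.card_pos
  have h3 := isPGroup_sup_of_le_normalizer' (elemAb_isPGroup (a'.el (p := p)))
    ((elemAb_isPGroup (a.el (p := p))).to_le (inf_le_left (b := 𝐍 A'))) inf_le_right
  have h4 := sup_le (h.cu_le a') ((inf_le_left (b := 𝐍 A')).trans (h.cu_le a))
  obtain ⟨y, hy, h5, h6⟩ := h.k0 a' le_sup_left h4 h3
  have := h.core (a.conj hy) (fun e => hne (cj_inj.1 (e.trans h5.symm))) (fun e => h0 (AddSubgroup.card_eq_one.1 (by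
    rw [← card_fx_cj _ y, cj_sup, h5, e, AddSubgroup.card_bot]))) (by
    rw [← h5, ← cj_normalizer, ← cj_inf]; exact (cj_mono y le_sup_right).trans h6) (by
    rwa [← h5, ← cj_normalizer, ← cj_inf, ← cj_sup, card_fx_cj, card_cj])
  rw [← h5, ← cj_normalizer, ← cj_inf, ← cj_sup, card_fx_cj, card_cj] at this
  obtain ⟨rfl, e1, e2, e3⟩ := this
  refine ⟨rfl, e1, e2, e3, dvd_trans ?_ (card_dvd_of_le (le_inf (cj_le_of_le_of_mem h4 hy) h6))⟩
  obtain ⟨k, hk⟩ := h3.exists_card_eq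
  have h7 : 2 ^ 2 < Nat.card ↥(A' ⊔ A ⊓ 𝐍 A') := (a'.card.trans e1).ge.trans_lt (card_lt_of_lt' (lt_of_le_of_ne le_sup_left
    fun e => by
      obtain ⟨z, hz, -⟩ := (Nat.card_eq_two_iff' 1).1 e2
      have h7 := fun c => hz (Subtype.ext c)
      exact hv' (a.fx1 z.2.1 h7 (hv _ (e.ge (mem_sup_right z.2))))))
  rw [card_cj, hk] at *
  exact pow_dvd_pow 2 (Nat.succ_le_of_lt ((Nat.pow_lt_pow_iff_right one_lt_two).1 h7))

theorem dvd45 (a : CU Γ A) (a' : CU Γ A') (hne : A ≠ A') (h0 : 𝐔 (A ⊔ A') ≠ ⊥) (mx : ∀ B B', CU Γ B → CU Γ B' → B ≠ B' →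
    Nat.card (𝐔 (B ⊔ B')) ≤ Nat.card (𝐔 (A ⊔ A'))) : 45 ∣ Nat.card Γ := by
  obtain ⟨rfl, hF, h1, h2, h3⟩ := h.mid a a' hne h0 mx
  obtain ⟨-, -, h4, -⟩ := h.mid a' a hne.symm (sup_comm A A' ▸ h0) (sup_comm A A' ▸ mx)
  have two : ∀ v : Fin 2 → F, v + v = 0 := fun v => by rw [← two_nsmul, p_smul_vec (p := 2)]
  obtain ⟨u, hu, hu'⟩ := SetLike.not_le_iff_exists.1 fun e => hne (h.k2 a' a e).symm
  obtain ⟨x, hx, hx'⟩ := SetLike.not_le_iff_exists.1 fun e : A ≤ 𝐍 A' => by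
    rw [inf_eq_left.2 e, a.card] at h1; omega
  obtain ⟨y, hy, hy'⟩ := SetLike.not_le_iff_exists.1 fun e : A' ≤ 𝐍 A => by
    rw [inf_eq_left.2 e, a'.card] at h4; omega
  have k1 : dl _ x u ∈ 𝐔 A := fun y hy => dl_eq_zero.1 (a.quad.dl_dl hy hx u)
  have k2 : dl _ x u ∉ 𝐔 A' := fun e => hx' (h.nrm a a' mx hu hu' hx e)
  have k3 : dl _ y (dl _ x u) ∈ 𝐔 A' := fun z hz => dl_eq_zero.1 (a'.quad.dl_dl hz hy _)
  have k4 : dl _ y (dl _ x u) ∉ 𝐔 A := fun e => hy' (h.nrm a' a (sup_comm A A' ▸ mx) k1 k2 hy e)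
  have k5 : dl _ y (dl _ x u) + u ∈ 𝐔 A := by
    have i : ((𝐔 A).addSubgroupOf (𝐔 A')).index = 2 := by
      have e2 := ((𝐔 A).addSubgroupOf (𝐔 A')).card_mul_index
      rw [a'.cardU, ← AddSubgroup.inf_addSubgroupOf_right,
        Nat.card_congr (AddSubgroup.addSubgroupOfEquivOfLe inf_le_right).toEquiv, AddSubgroup.inf_addSubgroupOf_right,
        ← fx_sup, h2] at e2
      omega
    exact (AddSubgroup.add_mem_iff_of_index_two i (a := ⟨_, k3⟩) (b := ⟨u, hu⟩)).2 (iff_of_false k4 hu')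
  have e1 := smul_eq_add_dl x u
  have e2 := smul_eq_add_dl y (dl _ x u)
  have e3 := k1 x hx
  have e4 := k3 y hy
  have e5 := k5 x hx
  generalize dl _ x u = s at *
  generalize dl _ y s = r at *
  have e6 : x • r = r + s := by
    rw [smul_add, e1] at e5
    rw [eq_sub_of_add_eq e5, sub_eq_iff_eq_add, add_add_add_comm, add_comm s, ← add_assoc, add_assoc (r + u), two, add_zero]
  have t1 : (x * y) • s = r := by rw [mul_smul, e2, smul_add, e3, e6, add_comm r, ← add_assoc, two, zero_add]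
  have t2 : (x * y) • r = r + s := by rw [mul_smul, e4, e6]
  obtain ⟨⟨w, hw⟩, w0⟩ := (AddSubgroup.ne_bot_iff_exists_ne_zero).1 h0
  replace w0 : w ≠ 0 := fun e => w0 (Subtype.ext e)
  have t3 : 3 ∣ orderOf (x * y) := by
    by_contra c
    have := mem_zpowers_pow_iff.2 ((Nat.Prime.coprime_iff_not_dvd Nat.prime_three).2 c)
    refine k4 (t1.symm.trans ((mem_fx_zpowers (g := (x * y) ^ 3) (v := s)).2 ?_ _ this) ▸ k1)
    rw [pow_three, mul_smul (x * y), mul_smul (x * y), t1, t2, smul_add, t1, t2, add_comm r, add_assoc, two, add_zero]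
  have t4 : (MulAction.stabilizer _ w).relIndex Γ = 15 := by
    have : MulAction.orbit Γ w = {0}ᶜ := Set.ext fun z => ⟨by
      rintro ⟨g, rfl⟩ e
      exact w0 ((smul_eq_zero_iff_eq g).1 e), fun hz => (DL_trans' w0 hz).elim fun d e => ⟨⟨d, h.le (DL_le_SA e.1)⟩, e.2⟩⟩
    refine (MulAction.index_stabilizer Γ w).trans ?_
    rw [this, Set.ncard_compl, card_vec, hF, Set.ncard_singleton]
  rw [← card_inf_mul (MulAction.stabilizer _ w) Γ, t4]
  exact Nat.mul_dvd_mul_right (t3.trans (orderOf_dvd_natCard _ (mem_inf.2 ⟨mul_mem (h.cu_le a hx) (h.cu_le a' hy),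
    mem_fx_iff_le.1 hw (mul_mem_sup hx hy)⟩))) 15

theorem not16 (h2 : p = 2) (hF : Nat.card F = 4) : ¬ 16 ∣ Nat.card Γ := fun c => by
  subst h2
  obtain ⟨S, hS, h6⟩ := exists_syl_ge (syl_Ul (p := 2)).isPGroup (Ul_le_SA.trans h.le)
  obtain ⟨y, -, h7, h8⟩ := h.k0 CU.base h6 hS.le hS.isPGroup
  have h9 := card_inf_mul (Lin F) (cj y S)
  rw [le_antisymm (le_Ul_of_le ((isPGroup_cj y hS.isPGroup).to_le inf_le_left) inf_le_right (fx_anti (le_inf
    (h7 ▸ cj_mono y h6) (Ul_le_SA.trans SA_le_Lin)))) (le_inf (h7 ▸ cj_mono y h6) (Ul_le_SA.trans SA_le_Lin)),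
    Ul_card, card_cj, hF] at h9
  have h10 := relIndex_Lin_lt h8
  rw [← card_inf_mul S Γ, inf_eq_right.2 hS.le] at c
  have h11 := Nat.le_of_dvd Nat.card_pos ((Nat.Coprime.pow_left 4 ((Nat.Prime.coprime_iff_not_dvd Nat.prime_two).2
    hS.not_dvd_relIndex)).dvd_of_dvd_mul_right c)
  omega

theorem fin (h2 : p = 2) (hF : Nat.card F = 4) (nn : ¬ Γ ≤ 𝐍 (SA F)) (h3 : 8 ∣ Nat.card ↥(Γ ⊓ 𝐍 (DL F)))
    (h5 : 45 ∣ Nat.card Γ) : Nonempty (Γ ≃* alternatingGroup (Fin 7)) := by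
  have h6 := h.not16 h2 hF
  subst h2
  obtain ⟨i⟩ := ga_equiv (X := Fin 2 → F) (p_smul_vec (p := 2)) (by rw [card_vec, hF])
  have h7 := Γ.card_mul_index
  rw [Nat.card_congr i.toEquiv, Linear.card_A8] at h7
  have h8 := card_inf_mul (𝐍 (DL F)) Γ
  have h9 : 60 ∣ Nat.card ↥(Γ ⊓ 𝐍 (DL F)) := by
    have := card_dvd_of_le (le_inf h.le SA_le_norm)
    rwa [SA, ← Nat.card_congr (MonoidHom.ofInjective sA_inj).toEquiv, Linear.card_SL_two, hF] at this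
  obtain ⟨k, hk⟩ : 360 ∣ Nat.card Γ := Nat.Coprime.mul_dvd_of_dvd_of_dvd (by decide : Nat.Coprime 8 45)
    (h3.trans (card_dvd_of_le inf_le_left)) h5
  have h10 : k * Γ.index = 56 := by rw [hk, mul_assoc] at h7; omega
  have h11 : Γ.index = 8 := by
    have := Nat.le_of_dvd (by decide) (Dvd.intro _ h10)
    have h11 : k = 1 ∨ k = 7 := by interval_cases k <;> omega
    refine h11.elim (fun e => (nn fun g hg => ?_).elim) fun e => by rw [e] at h10; omega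
    have h12 : (𝐍 (DL F)).relIndex Γ ≤ 4 := by
      have := Nat.le_of_dvd Nat.card_pos (Nat.lcm_dvd h3 h9)
      by_contra! c
      have := Nat.mul_le_mul this c
      rw [h8, hk, e] at this
      exact absurd this (by decide)
    have pf := DL_perfect (F := F) (by omega)
    have le := DL_le_SA.trans h.le
    rw [← DL_eq_SA (by omega), ← cj_eq_self_iff]
    exact DL_uniq (p := 2) ((cj_le_of_perfect pf le h12 hg).trans le_rfl)
      (by rw [← cj_normalizer, le_cj_iff]; exact cj_le_of_perfect pf le h12 (inv_mem hg))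
  haveI := alternatingGroup.isSimpleGroup (α := Fin 8) (by simp)
  haveI := i.isSimpleGroup
  exact alt_of_index (by decide) h11 (by rw [Nat.card_congr i.toEquiv, Linear.card_A8]; rfl)

theorem main : Γ ≤ 𝐍 (SA F) ∨ (Nat.card F = 4 ∧ Nonempty (Γ ≃* alternatingGroup (Fin 7))) := by
  by_cases c : ∀ B, CU Γ B → B ≤ SA F
  · obtain ⟨x, hx, hx'⟩ : ∃ x ∈ SA F, x ∉ 𝐍 (cj 1 (Ul F)) := by
      by_contra! c
      rw [cj_one] at c
      have := Ul_card (F := F)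
      rw [le_bot_iff.1 ((le_op Ul_le_SA c (syl_Ul (p := p)).isPGroup).trans op_SA.le), card_bot] at this
      exact Finite.one_lt_card.ne this
    refine Or.inl fun g hg => mem_normalizer_of_cj_le ?_
    conv_lhs => rw [← sup_cj_Ul (p := p) (one_mem _) hx hx', cj_sup]
    exact sup_le (c _ ((CU.base.conj (one_mem _)).conj hg)) (c _ (((CU.base.conj (one_mem _)).conj (h.le hx)).conj hg))
  refine or_iff_not_imp_left.2 fun nn => ?_
  push Not at c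
  obtain ⟨B, b, hB⟩ := c
  obtain ⟨⟨v, hv⟩, v0⟩ := (AddSubgroup.ne_bot_iff_exists_ne_zero).1 ((AddSubgroup.one_lt_card_iff_ne_bot _).1
    (Finite.one_lt_card.trans_eq b.cardU.symm))
  obtain ⟨d, hd, e⟩ := DL_trans (v := v) fun e => v0 (Subtype.ext e)
  obtain ⟨A, A', a, a', hne, mx⟩ : ∃ A A', CU Γ A ∧ CU Γ A' ∧ A ≠ A' ∧ ∀ B B', CU Γ B → CU Γ B' → B ≠ B' →
      Nat.card (𝐔 (B ⊔ B')) ≤ Nat.card (𝐔 (A ⊔ A')) := by
    obtain ⟨x, h1, mx⟩ := Set.exists_max_image {x : Subgroup (GA (Fin 2 → F)) × Subgroup (GA (Fin 2 → F)) |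
      CU Γ x.1 ∧ CU Γ x.2 ∧ x.1 ≠ x.2} (fun x => Nat.card (𝐔 (x.1 ⊔ x.2))) (Set.toFinite _)
      ⟨(B, cj d (Ul F)), b, CU.base.conj (h.le (DL_le_SA hd)), fun e => hB ((le_of_eq e).trans (cj_Ul_le_SA hd))⟩
    exact ⟨x.1, x.2, h1.1, h1.2.1, h1.2.2, fun B B' h1 h2 h3 => mx (B, B') ⟨h1, h2, h3⟩⟩
  have h1 : v ∈ 𝐔 (B ⊔ cj d (Ul F)) := by
    rw [fx_sup]; exact ⟨hv, by rw [← e]; exact smul_mem_fx_cj.2 (mem_fx_Ul.2 rfl)⟩
  have h0 : 𝐔 (A ⊔ A') ≠ ⊥ := (AddSubgroup.one_lt_card_iff_ne_bot _).1 (lt_of_lt_of_le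
    ((AddSubgroup.one_lt_card_iff_ne_bot _).2 fun e => v0 (Subtype.ext (e.le h1)))
    (mx B _ b (CU.base.conj (h.le (DL_le_SA hd))) fun e => hB ((le_of_eq e).trans (cj_Ul_le_SA hd))))
  obtain ⟨h1, hF, -, -, h3⟩ := h.mid a a' hne h0 mx
  exact ⟨hF, h.fin h1 hF nn h3 (h.dvd45 a a' hne h0 mx)⟩

end NS

theorem natural_normal {X : Type*} [Group X] [Finite X] {V G L S : Subgroup X} (hGV : G ≤ 𝐍 V) (hf : G ⊓ 𝐂 V = ⊥)
    (hLG : L ≤ G) (hnat : IsNaturalSL2Module F V L) (hS : Syl p S G) (hn : S ≤ 𝐍 L) :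
    G ≤ 𝐍 L ∨ (Nat.card F = 4 ∧ Nonempty (G ≃* alternatingGroup (Fin 7))) := by
  classical
  obtain ⟨-, ρ, ψ, h1, -, h2⟩ := hnat
  let φ : X → Fin 2 → F := fun g => if hg : g ∈ V then ψ (.ofMul ⟨g, hg⟩) else 0
  have hφ : ∀ u : V, φ u = ψ (.ofMul u) := fun u => dif_pos u.2
  have s : Sc V ⊥ φ := ⟨bot_le, fun x hx y hy => by
      rw [hφ ⟨x, hx⟩, hφ ⟨y, hy⟩, ← map_add]; exact hφ ⟨x * y, mul_mem hx hy⟩,
    fun v => ⟨(ψ.symm v).toMul, (ψ.symm v).toMul.2, by rw [hφ]; simp⟩,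
    fun u hu => by rw [hφ ⟨u, hu⟩, map_eq_zero_iff _ ψ.injective, ofMul_eq_zero, mem_bot, Subtype.ext_iff]; rfl⟩
  have n : G ≤ NN V ⊥ := le_NN hGV le_normalizer_of_normal
  let f : G →* GA (Fin 2 → F) := s.sg.comp (inclusion n)
  have inj : Function.Injective f := (injective_iff_map_eq_one f).2 fun x e => Subtype.ext (hf.le ⟨x.2,
    mem_centralizer_comm.2 fun u hu => (commutatorElement_eq_one_iff_mul_comm.1 ((s.sg_eq_one (n x.2)).1 e u hu)).symm⟩)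
  have e : ∀ l : L, f ⟨l, hLG l.2⟩ = sA F (ρ l) := fun l => s.sg_eq _ fun u hu => by
    obtain ⟨w, hw, hw'⟩ := h2 l ⟨u, hu⟩
    rw [hφ ⟨u, hu⟩, ← hw, hφ, hw']; rfl
  have im : mim f L = SA F := by
    ext y
    rw [mem_mim]
    exact ⟨fun ⟨x, _, h, e'⟩ => ⟨_, (e ⟨x, h⟩).symm.trans e'⟩, fun ⟨M, e'⟩ => (h1 M).elim fun l hl =>
      ⟨l, hLG l.2, l.2, by rw [e, hl, e']⟩⟩
  have ns : NS p (mim f G) := ⟨im ▸ BG1.mim_mono f hLG, fun P h3 h4 => by
    obtain ⟨g, hg, h5⟩ := hS.exists_conj_le (BG1.isPGroup_mpre (f := f) (by rw [mker_bot inj]; exact IsPGroup.of_bot) h4)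
      (BG1.mpre_le f P)
    refine ⟨_, mem_mim_of_mem hg hg, ?_⟩
    rw [← BG1.mim_mpre (h3.trans (BG1.mim_le_range f G)), ← BG1.mim_cj hg, ← res_SA (p := p), ← im]
    exact (BG1.mim_norm f (h5.trans hn)).trans (norm_le_norm_res _)⟩
  refine ns.main.imp (fun h => (mim_le_norm inj le_rfl hLG).1 (im ▸ h)) fun h => ⟨h.1, h.2.elim fun i =>
    ⟨(BG1.mimEquiv le_rfl (by rw [mker_bot inj, bot_inf_eq])).trans i⟩⟩

end Cfsg.Lib.Amalg.Bk
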