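import Cfsg.Agent.Lib.Amalg.BkNear

/-! Odd order automorphism groups of a Sylow `2`-subgroup of a minimal parabolic. -/

set_option autoImplicit false
set_option linter.unusedSectionVars false

namespace Cfsg.Lib.Amalg.Bk

open Subgroup TV
open Cfsg.Lib.BG1 (mim mpre mker mem_mim mem_mim_of_mem mem_mker mem_mker_iff)
open Cfsg.Lib.Transfer (maxEl)
open Cfsg.Lib.Core (le_normalizer_inf le_normalizer_sup le_normalizer_centralizer
  le_normalizer_commutator SubnormalIn)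
open scoped commutatorElement MatrixGroups

universe u

variable {G : Type u} [Group G] [Finite G] {p q : ℕ} [Fact p.Prime] {A B E T M X Y Y' : Subgroup G}
  {F : Type} [Field F] {ψ : G → Fin 2 → F}

theorem au_conj (hX : X ≤ T) (t : T) : mim (au (MulAut.conj t)) X = cj (t : G) X := by
  ext y
  rw [mem_mim, mem_cj']
  exact ⟨fun ⟨x, _, h, e⟩ => ⟨x, h, e⟩, fun ⟨x, h, e⟩ => ⟨x, hX h, h, e⟩⟩

theorem PB.fix' (h : PB p (Bm p T) E F ψ) (hT : IsPGroup p T) {y b : G} (hy : y ∈ WE p E) (hb : b ∈ Bm p T)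
    (c : ⁅b, y⁆ ∈ 𝐂 E) : y ∈ 𝐂 (Bm p T) ∨ b ∈ 𝐂 (WE p E) := by
  have := h.fin
  have := h.ch
  have hW := h.WB.trans (bm_le T)
  obtain ⟨d, hd, -, e, e'⟩ := h.baum hT hW h.Bn (h.not_J_cent hW)
  refine or_iff_not_imp_right.2 fun hb' => (e'.ge (h.sw.mem_pre.2 ⟨hy, ?_⟩)).2
  have h1 := mem_cj.1 (e.le (mem_mim_of_mem (nNN h.Bn hb) hb))
  rw [mem_fx_cj, ← fx_of_mem_Ul h1 (fun c => hb' ((h.sg_eq_one (h.Bn hb)).1
    (by rwa [mul_assoc, inv_mul_eq_one, eq_comm, mul_eq_right] at c))),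
    mem_fx_zpowers, mul_smul, mul_smul, smul_inv_smul, (h.sc.smul_eq_iff _ (WE_le E hy)).2
      ⟨comm_mem_of_norm' (nW0 h.Bn hb) (WE_le E hy), c⟩]

theorem PB.fix1 (h : PB p (Bm p T) E F ψ) (hT : IsPGroup p T) {y b : G} (hy : y ∈ WE p E) (hb : b ∈ Bm p T)
    (c : ⁅b, y⁆ ∈ 𝐂 E) : ⁅b, y⁆ = 1 := commutatorElement_eq_one_iff_mul_comm.2 ((h.fix' hT hy hb c).elim
  (fun e => mem_centralizer_comm.1 e b hb) fun e => (mem_centralizer_comm.1 e y hy).symm)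

theorem PB.cent_le (h : PB p (Bm p T) E F ψ) (hT : IsPGroup p T) (n : NW p (Nat.card F) (Bm p T) Y)
    (hY : Y ≤ 𝐂 (WE p E)) (hn : ¬ ⁅Y, Bm p T⁆ ≤ 𝐂 E) : Bm p T ⊓ 𝐂 (WE p E) ≤ 𝐂 Y := by
  have n' := h.nw hT
  have key : ∀ A ∈ maxEl p (Bm p T), A ≤ 𝐂 Y → A ≤ 𝐂 (WE p E) := fun A hA c => by
    by_contra c'
    refine hn ((commutator_mono le_rfl (n'.off hA c').2.1).trans (le_trans (comm_sup_le' (N := Y ⊓ 𝐂 E) ?_
      (le_inf ((commutator_mono le_rfl inf_le_left).trans (comm_le_left n.nrm))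
        ((commutator_mono (le_inf n.le hY) le_rfl).trans h.qq)) ?_ ?_) inf_le_right))
    · rw [comm_eq_bot_iff'.2 c]; exact bot_le
    · exact le_normalizer_inf (hA.1.trans n.nrm) (le_normalizer_centralizer (hA.1.trans h.Bn))
    · exact le_normalizer_inf (inf_le_left.trans n.nrm) (le_normalizer_centralizer (inf_le_left.trans h.Bn))
  obtain ⟨A, hA, hA'⟩ := h.exists_off (h.WB.trans (bm_le T))
  rw [← Transfer.maxEl_eq_of_le (jt_le_bm T) (bm_le T)] at hA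
  obtain ⟨h1, h2, h3⟩ := n.off hA fun c => hA' (key A hA c)
  have el := elemAb_sup n.el n'.el hY
  have h6 := off_le hA el (sup_le n.le n'.le)
  rw [Core.centralizer_sup, ← inf_relIndex_left A, ← inf_assoc, inf_eq_left.2 (le_sup_left.trans
    (key _ h3 (sup_le inf_le_right (elemAb_le_cent n.el)))), inf_relIndex_left, h1] at h6
  have h7 := le_sup_left.trans (le_sup_of_relIndex le_sup_right (h6.trans (n'.relIndex_cent hA.1 hA').ge))
  refine fun b hb => mem_centralizer_comm.2 fun y hy => ?_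
  have h8 := h.qq (commutator_mem_commutator hb ⟨n.le hy, hY hy⟩)
  obtain ⟨a, ha, c, hc, rfl⟩ := (mem_sup_of_le_normalizer (le_normalizer_inf (hA.1.trans le_normalizer)
    (le_normalizer_centralizer (hA.1.trans n.nrm)))).1 (h2 hb.1)
  obtain ⟨w, hw, z, hz, e⟩ := (mem_sup_of_le_normalizer ((le_sup_right.trans ((elemAb_le_cent el).trans
    (cent_anti inf_le_left))).trans (cent_le_norm _))).1 (h7 hy)
  have e1 : ⁅a * c, y⁆ = ⁅a, w⁆ := by
    rw [commutatorElement_def, mul_inv_rev, mul_assoc a, ← mem_centralizer_comm.1 hc.2 y hy, ← e,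
      show a * (w * z * c) * (c⁻¹ * a⁻¹) * (w * z)⁻¹ = a * w * (a * z⁻¹)⁻¹ * z⁻¹ * w⁻¹ by group,
      mem_centralizer_comm.1 (inv_mem hz.2) a ha, commutatorElement_def]
    group
  rw [e1] at h8
  exact (commutatorElement_eq_one_iff_mul_comm.1 (e1.trans (h.fix1 hT hw (hA.1 ha) h8))).symm

theorem PB.le_cent2 (h : PB p (Bm p T) E F ψ) (h2 : p = 2) (hT : IsPGroup p T) (n : NW p (Nat.card F) (Bm p T) Y)
    (m : NW p (Nat.card F) (Bm p T) Y') (hY : ¬ Y ≤ 𝐂 (WE p E)) (hY' : ¬ Y' ≤ 𝐂 (WE p E)) : Y' ≤ 𝐂 Y := fun y' hy' => by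
  subst h2
  have n' := h.nw hT
  by_cases c : y' ∈ 𝐂 (WE 2 E)
  · obtain ⟨w, hw, c'⟩ := SetLike.not_le_iff_exists.1 fun e => hY' (le_cent_symm e)
    exact cent_anti n.le ((m.fix y' hy' w (n'.le hw) (mem_centralizer_comm.1 c w hw)).resolve_right c')
  obtain ⟨y, hy, r, hr, e⟩ := (mem_sup_of_le_normalizer (le_normalizer_inf (n.le.trans le_normalizer)
    (le_normalizer_centralizer (n.le.trans n'.nrm)))).1 (le_sup_of_relIndex n.le
      (n'.i1.trans (n.relIndex_cent n'.le fun c => hY (le_cent_symm c)).symm).le (m.le hy'))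
  obtain ⟨w, hw, s, hs, e'⟩ := (mem_sup_of_le_normalizer (le_normalizer_inf (n'.le.trans le_normalizer)
    (le_normalizer_centralizer (n'.le.trans n.nrm)))).1 (le_sup_of_relIndex n'.le
      (n.i1.trans (n'.relIndex_cent n.le hY).symm).le (m.le hy'))
  have h1 : r * r ∈ 𝐂 E := mem_centralizer_comm.2 fun x hx => by
    have h3 := (h.W_eq (Blk.two (Or.inl ⟨F, _, ψ, h.toBL⟩))).ge (h.comm_le (commutator_mem_commutator (inv_mem hr) hx))
    have h4 := (WE_el E).2 _ h3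
    rw [sq] at h4
    rw [show x * (r * r) = r * (⁅r⁻¹, x⁆ * r) * ⁅r⁻¹, x⁆ * x by simp only [commutatorElement_def]; group,
      mem_centralizer_comm.1 hr.2 _ h3, mul_assoc r, mul_assoc r, mul_assoc r, h4, mul_one, mul_assoc]
  have h3 : r * r = ⁅y, w⁆ := by
    have h4 := n.el.2 y hy
    have h5 := m.el.2 y' hy'
    rw [sq, mul_eq_one_iff_eq_inv] at h4 h5
    rw [eq_inv_mul_of_mul_eq e, ← h4, mul_assoc, ← mul_assoc y']
    nth_rw 2 [h4]
    nth_rw 2 [h5]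
    rw [← e', show y * (w * s * y⁻¹ * (w * s)⁻¹) = y * w * (y * s⁻¹)⁻¹ * s⁻¹ * w⁻¹ by group,
      mem_centralizer_comm.1 (inv_mem hs.2) y hy, commutatorElement_def]
    group
  rw [← e']
  exact mul_mem (cent_anti n.le ((h.fix' hT hw (n.le hy) (h3 ▸ h1)).resolve_right fun c' => c (e ▸ mul_mem c' hr.2))) hs.2

theorem odd_inv (h2 : p = 2) (hG : CharP p (⊤ : Subgroup G)) (hT : Syl p T ⊤) (hu : UMax T ⊤ M)
    {A : Subgroup (MulAut T)} (hA : Odd (Nat.card A)) :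
    ∃ U : Subgroup G, U ≠ ⊥ ∧ ⊤ ≤ 𝐍 U ∧ U ≤ T ∧ ∀ a ∈ A, mim (au a) U ≤ U := by
  by_contra! c
  have ch : ∀ C, Ch T C → C ≠ ⊥ → 𝐍 C ≤ M := fun C h1 h3 => (hu.eq_or_le (le_normalizer.trans h1.norm) le_top).resolve_left
    fun e => (c C h3 e.ge h1.1).elim fun a ha => ha.2 (h1.2 a)
  have h0 : T ≠ ⊥ := fun e => hu.not_le (le_trans (le_trans (by
    rw [le_bot_iff.1 (hT.pCore_le.trans e.le)]; exact centralizer_bot.ge) (charP_top.1 hG)) (hT.pCore_le.trans hu.le))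
  have hM : HM p T M := ⟨(cent_le_norm _).trans (ch _ (ch_zo T) (omZ_ne_bot hT.isPGroup h0)),
    fun C h1 => ch C ((ch_bm T).trans h1)⟩
  obtain ⟨F, _, E, ψ, b, -, hE⟩ := exists_pb hG hT hM le_top hu.not_le
  have n := b.nw hT.isPGroup
  have WT := n.le.trans (bm_le T)
  have nw : ∀ γ : T ≃* T, NW p (Nat.card F) (Bm p T) (mim (au γ) (WE p E)) := fun γ => by
    have := n.emb (au_inj γ) (bm_le T)
    rwa [(ch_bm T).eq] at this
  let Γ : Subgroup (MulAut T) := A ⊔ MulAut.conj.range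
  have inv : ∀ a ∈ Γ, mim (au a) (⨆ γ : Γ, mim (au γ.1) (WE p E)) ≤ ⨆ γ : Γ, mim (au γ.1) (WE p E) := fun a ha => by
    rw [BG1.mim_le_iff (iSup_le fun γ => au_le _ _)]
    refine iSup_le fun γ => ?_
    rw [← BG1.mim_le_iff (au_le _ _), au_au]
    exact le_iSup_of_le ⟨a * γ, mul_mem ha γ.2⟩ le_rfl
  have le : WE p E ≤ ⨆ γ : Γ, mim (au γ.1) (WE p E) := le_iSup_of_le 1 (au_refl WT).ge
  obtain ⟨γ, hγ⟩ : ∃ γ : Γ, ¬ mim (au γ.1) (WE p E) ≤ 𝐂 (WE p E) := by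
    by_contra! c'
    obtain ⟨a, ha, h1⟩ := c _ (fun e => b.W_ne (le_bot_iff.1 (le.trans e.le))) ((hu.eq_or_le
      (le_normalizer_of_cj_le fun t ht => (au_conj (iSup_le fun γ => au_le _ _) ⟨t, ht⟩).ge.trans
        (inv _ (mem_sup_right ⟨_, rfl⟩))) le_top).resolve_right fun e => hE (le_trans (le_normalizer_of_comm_le
          ((commutator_mono (le_inf (iSup_le fun γ => (nw _).le) (iSup_le c')) le_rfl).trans (b.comm_le.trans
            ((b.W_eq (by subst h2; exact Blk.two (Or.inl ⟨F, _, ψ, b.toBL⟩))).ge.trans le)))) e)).ge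
      (iSup_le fun γ => au_le _ _)
    exact h1 (inv a (mem_sup_left ha))
  have z0 : ¬ ⁅WE p E, Bm p T⁆ ≤ 𝐂 E := fun e => b.not_B_cent (Blk.centW_of (Or.inl ⟨F, _, ψ, b.toBL⟩) b.Bn
    (by rwa [commutator_comm]))
  have z1 := b.comm_eq hT.isPGroup (nw γ.1) fun e => hγ (Blk.centW_of (Or.inl ⟨F, _, ψ, b.toBL⟩) ((nw _).le.trans b.Bn)
    ((commutator_mono le_rfl n.le).trans e))
  have key : ∀ k : ℕ, ⁅mim (au (γ.1 ^ k)) (WE p E), Bm p T⁆ = ⁅WE p E, Bm p T⁆ ∧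
      (mim (au (γ.1 ^ k)) (WE p E) ≤ 𝐂 (WE p E) ↔ Even k) := fun k => by
    induction k with
    | zero => rw [pow_zero, show mim (au (1 : MulAut T)) (WE p E) = _ from au_refl WT]; simpa using elemAb_le_cent n.el
    | succ k ih =>
      have e : mim (au (γ.1 ^ (k + 1))) (WE p E) = mim (au (γ.1 ^ k)) (mim (au γ.1) (WE p E)) := by
        rw [au_au, pow_succ]; rfl
      have nc : ¬ mim (au (γ.1 ^ (k + 1))) (WE p E) ≤ 𝐂 (mim (au (γ.1 ^ k)) (WE p E)) := by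
        rwa [e, mim_le_cent (au_inj _) (au_le _ _) WT]
      refine ⟨?_, ?_⟩
      · rw [e, ← (ch_bm (p := p) T).eq (γ.1 ^ k), ← BG1.mim_commutator (au_le _ _) (bm_le T), z1,
          BG1.mim_commutator WT (bm_le T), (ch_bm T).eq, ih.1]
      rw [Nat.even_add_one, ← ih.2]
      exact ⟨fun h1 h3 => nc ((le_inf (nw _).le h1).trans (b.cent_le hT.isPGroup (nw _) h3 (ih.1 ▸ z0))),
        fun h1 => by_contra fun h3 => nc (b.le_cent2 h2 hT.isPGroup (nw _) (nw _) h1 h3)⟩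
  obtain ⟨t, ht⟩ : γ.1 ^ Nat.card A ∈ (MulAut.conj (G := T)).range := by
    haveI : (MulAut.conj (G := T)).range.Normal := ⟨by
      rintro _ ⟨t, rfl⟩ g
      exact ⟨g t, MulEquiv.ext fun x => by simp⟩⟩
    obtain ⟨a, ha, i, hi, e⟩ := (mem_sup_of_le_normalizer le_normalizer_of_normal).1 γ.2
    rw [← QuotientGroup.eq_one_iff, ← e, QuotientGroup.mk_pow, QuotientGroup.mk_mul, (QuotientGroup.eq_one_iff i).2 hi,
      mul_one, ← QuotientGroup.mk_pow, show a ^ Nat.card A = 1 from congrArg Subtype.val (pow_card_eq_one' (x := (⟨a, ha⟩ : A))),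
      QuotientGroup.mk_one]
  refine Nat.not_even_iff_odd.2 hA ((key _).2.1 ?_)
  have hW := b.W_le_V hG hT
  rw [← ht, au_conj WT]
  exact (cj_le_of_le_of_mem_normalizer hW (nV (mem_top _))).trans ((elemAb_le_cent (isElemAb_omZ _)).trans (cent_anti hW))

end Cfsg.Lib.Amalg.Bk
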