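import Mathlib.NumberTheory.LSeries.PrimesInAP
import Mathlib.NumberTheory.GaussSum
import Mathlib.NumberTheory.LegendreSymbol.QuadraticReciprocity
import Mathlib.FieldTheory.KummerExtension
import Mathlib.FieldTheory.Galois.Infinite
import Mathlib.RingTheory.RootsOfUnity.AlgebraicallyClosed
import Mathlib.Tactic

/-! In a field of characteristic zero containing `√5` and a primitive `p`-th root of unity (`p ≥ 7` prime),
`-1` is a sum of three squares. -/

set_option autoImplicit false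

namespace Cfsg.Lib.Amalg.Dv

open Finset

variable {K : Type*} [Field K] [CharZero K]

theorem sq2 {r : K} (hr : r ^ 2 = 5) (n : ℕ) : 0 < n → (∃ x : ℤ, (n : ℤ) ∣ x ^ 2 + 5) →
    ∃ a b : K, (n : K) = a ^ 2 + b ^ 2 := by
  induction n using Nat.strong_induction_on with
  | _ n ih =>
  rintro hn ⟨x, hx⟩
  by_cases h3 : n < 3
  · interval_cases n
    · exact ⟨1, 0, by norm_num⟩
    · exact ⟨1, 1, by norm_num⟩
  obtain ⟨y, hy, hb⟩ : ∃ y : ℤ, (n : ℤ) ∣ y ^ 2 + 5 ∧ (2 * y) ^ 2 ≤ (n : ℤ) ^ 2 := by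
    refine ⟨x.bmod n, ?_, ?_⟩
    · have h := Int.dvd_bmod_sub_self (x := x) (m := n)
      have e : (x.bmod n) ^ 2 + 5 = (x.bmod n - x) * (x.bmod n + x) + (x ^ 2 + 5) := by ring
      rw [e]; exact dvd_add (h.mul_right _) hx
    · have h1 := Int.le_bmod (x := x) hn
      have h2 := Int.bmod_lt (x := x) hn
      exact sq_le_sq' (by omega) (by omega)
  obtain ⟨m, hm⟩ := hy
  have hn' : (3 : ℤ) ≤ n := by omega
  have h0 : 0 < m := by
    by_contra h
    nlinarith [sq_nonneg y]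
  have h1 : m < n := by
    by_contra h
    nlinarith
  lift m to ℕ using h0.le
  obtain ⟨c, d, e⟩ := ih m (by omega) (by omega) ⟨y, (n : ℤ), by rw [hm, mul_comm]⟩
  have hm0 : (m : K) ≠ 0 := Nat.cast_ne_zero.2 (by omega)
  have hm' : (y : K) ^ 2 + 5 = n * m := by exact_mod_cast congrArg (Int.cast : ℤ → K) hm
  refine ⟨(y * c + r * d) / m, (y * d - r * c) / m, ?_⟩
  field_simp
  linear_combination (-(m : K)) * hm' + ((y : K) ^ 2 + r ^ 2) * e - m * hr

theorem gauss0 {L : Type*} [Field L] [CharZero L] [Algebra K L] [IsGalois K L] {l : ℕ} [hl : Fact l.Prime]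
    (h3 : l % 4 = 3) {η : L} (hη : IsPrimitiveRoot η l) (x : K) :
    ∃ a b : K, (x - 1) * (a ^ 2 + l * b ^ 2) = x ^ l - 1 := by
  classical
  set ψ : AddChar (ZMod l) L := AddChar.zmodChar l hη.pow_eq_one with hψ
  set q := quadraticChar (ZMod l) with hq
  set χ : MulChar (ZMod l) L := q.ringHomComp (Int.castRingHom L) with hχ
  have hc : ringChar (ZMod l) ≠ 2 := by rw [ZMod.ringChar_zmod_n]; omega
  have hg : gaussSum χ ψ ^ 2 = -(l : L) := by
    rw [gaussSum_sq ((MulChar.ringHomComp_ne_one_iff (RingHom.injective_int _)).2 (quadraticChar_ne_one hc))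
      ((quadraticChar_isQuadratic _).comp _) (AddChar.zmodChar_primitive_of_primitive_root l hη), ZMod.card,
      MulChar.ringHomComp_apply, quadraticChar_neg_one hc, ZMod.card, ZMod.χ₄_nat_three_mod_four h3]
    simp
  have hl0 : (l : L) ≠ 0 := Nat.cast_ne_zero.2 hl.out.ne_zero
  have hg0 : gaussSum χ ψ ≠ 0 := fun e => by
    rw [e] at hg; exact hl0 (by linear_combination hg)
  set X : L := algebraMap K L x with hX
  let P : ℤ → L := fun ε => ∏ a with q a = ε, (X - ψ a)
  have hP : (X - 1) * (P 1 * P (-1)) = X ^ l - 1 := by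
    have e1 : ∏ a : ZMod l, (X - ψ a) = X ^ l - 1 := by
      have := congrArg (Polynomial.eval X) (X_pow_sub_C_eq_prod hη hl.out.pos (one_pow l))
      simp only [Polynomial.eval_sub, Polynomial.eval_pow, Polynomial.eval_X, Polynomial.eval_C,
        Polynomial.eval_prod, mul_one] at this
      rw [this]
      exact prod_nbij' ZMod.val (fun i => (i : ZMod l)) (fun a _ => mem_range.2 (ZMod.val_lt a))
        (fun _ _ => mem_univ _) (fun a _ => ZMod.natCast_zmod_val a)
        (fun i hi => ZMod.val_cast_of_lt (mem_range.1 hi)) (fun a _ => rfl)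
    have e2 : (univ.filter fun a => ¬ q a = 1).filter (fun a => ¬ q a = -1) = {0} := by
      ext a
      simp only [mem_filter, mem_univ, true_and, mem_singleton]
      refine ⟨fun h => by_contra fun h0 => (quadraticChar_dichotomy h0).elim h.1 h.2, ?_⟩
      rintro rfl; rw [q.map_zero]; decide
    have e3 : (univ.filter fun a => ¬ q a = 1).filter (fun a => q a = -1) = univ.filter fun a => q a = -1 := by
      ext a
      simp only [mem_filter, mem_univ, true_and, and_iff_right_iff_imp]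
      intro h; rw [h]; decide
    rw [← e1, ← prod_filter_mul_prod_filter_not univ fun a => q a = 1,
      ← prod_filter_mul_prod_filter_not (univ.filter fun a => ¬ q a = 1) fun a => q a = -1, e2, e3, prod_singleton,
      AddChar.map_zero_eq_one]
    ring
  have hσ : ∀ σ : L ≃ₐ[K] L, ∃ δ : ℤ, (δ = 1 ∨ δ = -1) ∧ (∀ ε, σ (P ε) = P (δ * ε)) ∧
      σ (gaussSum χ ψ) = δ * gaussSum χ ψ := by
    intro σ
    obtain ⟨k, hk, e⟩ := hη.eq_pow_of_pow_eq_one (ξ := σ η) (by rw [← map_pow, hη.pow_eq_one, map_one])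
    have hk0 : (k : ZMod l) ≠ 0 := fun h => by
      have := Nat.eq_zero_of_dvd_of_lt ((ZMod.natCast_eq_zero_iff k l).1 h) hk
      rw [this, pow_zero, eq_comm, map_eq_one_iff _ σ.injective] at e
      exact hη.ne_one hl.out.one_lt e
    have h1 : ∀ a, σ (ψ a) = ψ (k * a) := fun a => by
      rw [hψ, AddChar.zmodChar_apply, map_pow, ← e, ← pow_mul, ← AddChar.zmodChar_apply' hη.pow_eq_one,
        Nat.cast_mul, ZMod.natCast_zmod_val]
    have h2 : q k * q k = 1 := by rw [← pow_two]; exact quadraticChar_sq_one hk0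
    refine ⟨q k, quadraticChar_dichotomy hk0, fun ε => ?_, ?_⟩
    · simp only [P, map_prod, map_sub, h1, hX, AlgEquiv.commutes]
      refine prod_nbij' (fun a => k * a) (fun b => (k : ZMod l)⁻¹ * b) (fun a ha => ?_) (fun b hb => ?_)
        (fun a _ => inv_mul_cancel_left₀ hk0 a) (fun b _ => mul_inv_cancel_left₀ hk0 b) (fun _ _ => rfl)
      · simp only [mem_filter, mem_univ, true_and] at ha ⊢
        rw [map_mul, ha]
      · simp only [mem_filter, mem_univ, true_and] at hb ⊢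
        rw [← one_mul (q _), ← h2, mul_assoc, ← map_mul, mul_inv_cancel_left₀ hk0, hb, ← mul_assoc, h2, one_mul]
    · have h3 := gaussSum_mulShift χ ψ (Units.mk0 _ hk0)
      have h4 : σ (gaussSum χ ψ) = gaussSum χ (ψ.mulShift (k : ZMod l)) := by
        simp only [gaussSum, map_sum, map_mul, h1, hχ, MulChar.ringHomComp_apply, eq_intCast, map_intCast,
          AddChar.mulShift_apply]
      have h5 : ((q k : ℤ) : L) * (q k : ℤ) = 1 := by exact_mod_cast h2
      rw [Units.val_mk0, hχ, MulChar.ringHomComp_apply, eq_intCast, ← hχ] at h3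
      rw [h4, ← h3, ← mul_assoc, h5, one_mul]
  obtain ⟨a, ha⟩ := (InfiniteGalois.mem_range_algebraMap_iff_fixed (k := K) ((P 1 + P (-1)) / 2)).2 fun σ => by
    obtain ⟨δ, hδ, h1, -⟩ := hσ σ
    rw [map_div₀, map_add, h1, h1, map_ofNat]
    rcases hδ with rfl | rfl <;> simp [add_comm]
  obtain ⟨b, hb⟩ := (InfiniteGalois.mem_range_algebraMap_iff_fixed (k := K)
      ((P 1 - P (-1)) / (2 * gaussSum χ ψ))).2 fun σ => by
    obtain ⟨δ, hδ, h1, h2⟩ := hσ σ
    rw [map_div₀, map_sub, h1, h1, map_mul, map_ofNat, h2]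
    rcases hδ with rfl | rfl
    · simp
    · simp only [mul_one, mul_neg, neg_neg, Int.cast_neg, Int.cast_one]
      field_simp
      ring
  refine ⟨a, b, (algebraMap K L).injective ?_⟩
  simp only [map_mul, map_sub, map_add, map_pow, map_one, map_natCast, ha, hb, ← hX]
  rw [← hP, ← neg_neg (l : L), ← hg]
  field_simp
  ring

theorem gauss {l : ℕ} [hl : Fact l.Prime] (h3 : l % 4 = 3) (x : K) :
    ∃ a b : K, (x - 1) * (a ^ 2 + l * b ^ 2) = x ^ l - 1 := by
  obtain ⟨η, hη⟩ := HasEnoughRootsOfUnity.exists_primitiveRoot (AlgebraicClosure K) l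
  exact gauss0 h3 hη x

theorem four {r ζ : K} (hr : r ^ 2 = 5) {p : ℕ} (hp : p.Prime) (h : p.Coprime 20) (hζ : ζ ^ p = 1) (h1 : ζ ≠ 1) :
    ∃ a b c : K, 1 + a ^ 2 + b ^ 2 + c ^ 2 = 0 := by
  obtain ⟨k, hk1, hk2⟩ := Nat.chineseRemainder h (p - 1) 3
  have hc : k.Coprime (p * 20) := by
    refine Nat.Coprime.mul_right ?_ ?_
    · rw [Nat.Coprime, hk1.gcd_eq]
      exact (Nat.coprime_self_sub_left hp.one_le).2 (Nat.coprime_one_left p)
    · rw [Nat.Coprime, hk2.gcd_eq]; rfl
  obtain ⟨l, -, hl, hm⟩ := Nat.forall_exists_prime_gt_and_modEq 0 (mul_ne_zero hp.ne_zero (by decide)) hc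
  have e1 : l ≡ p - 1 [MOD p] := (hm.of_mul_right 20).trans hk1
  have e2 : l % 20 = 3 := (hm.of_mul_left p).trans hk2
  haveI := Fact.mk hl
  haveI : Fact (Nat.Prime 5) := ⟨Nat.prime_five⟩
  have s1 : legendreSym l (-5) = 1 := by
    have h5 : legendreSym l 5 = -1 := by
      have := legendreSym.quadratic_reciprocity_one_mod_four (p := 5) (q := l) rfl (by omega)
      rw [Nat.cast_ofNat] at this
      rw [this, legendreSym.mod, show (l : ℤ) % ((5 : ℕ) : ℤ) = 3 by omega]
      rfl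
    rw [show (-5 : ℤ) = -1 * 5 by norm_num, legendreSym.mul, legendreSym.at_neg_one (by omega),
      ZMod.χ₄_nat_three_mod_four (by omega), h5]
    norm_num
  have s0 : ((-5 : ℤ) : ZMod l) ≠ 0 := fun e => by
    rw [(legendreSym.eq_zero_iff l _).2 e] at s1; exact zero_ne_one s1
  obtain ⟨y, hy⟩ := (legendreSym.eq_one_iff l s0).1 s1
  obtain ⟨c, d, hcd⟩ := sq2 hr l hl.pos ⟨(y.val : ℤ), (ZMod.intCast_zmod_eq_zero_iff_dvd _ l).1 (by
    push_cast at hy ⊢
    rw [ZMod.natCast_zmod_val]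
    linear_combination -hy)⟩
  obtain ⟨a, b, hab⟩ := gauss (l := l) (by omega) ζ
  obtain ⟨m, hm2⟩ : ∃ m, p = 2 * m + 1 := hp.odd_of_ne_two (by rintro rfl; revert h; decide)
  have e3 : ζ ^ l = (ζ ^ m) ^ 2 := by
    rw [pow_eq_pow_mod l hζ, e1, ← pow_eq_pow_mod _ hζ, ← pow_mul, hm2, Nat.add_sub_cancel, mul_comm]
  have e4 : (ζ ^ m) ^ 2 * ζ = 1 := by rw [← pow_mul, ← pow_succ, mul_comm, ← hm2, hζ]
  have e5 : ζ ^ m ≠ 0 := fun e => by rw [e] at e4; simp at e4
  have e6 : a ^ 2 + l * b ^ 2 = -(ζ ^ m) ^ 2 :=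
    mul_left_cancel₀ (sub_ne_zero.2 h1) (by rw [hab, e3]; linear_combination e4)
  refine ⟨a / ζ ^ m, c * b / ζ ^ m, d * b / ζ ^ m, ?_⟩
  field_simp
  linear_combination e6 - b ^ 2 * hcd

end Cfsg.Lib.Amalg.Dv
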