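import Cfsg.Agent.Lib.Amalg.Dv1
import Cfsg.Agent.Lib.Hall.FC6

/-! Copies of `SL(2,5)` in division rings. -/

set_option autoImplicit false

namespace Cfsg.Lib.Amalg.Dv

open Cfsg.Lib.Hall

variable {D : Type*} [DivisionRing D]

theorem quat0 (h2 : (2 : D) ≠ 0) {J K u v w : D} (hJ : J ≠ 0) (hK : K ≠ 0) (uJ : J * u = u * J) (vJ : J * v = -(v * J))
    (wJ : J * w = -(w * J)) (uK : K * u = -(u * K)) : 1 + u + v + w ≠ 0 := fun h => by
  have e1 : 2 * ((1 + u) * J) = J * (1 + u + v + w) + (1 + u + v + w) * J := by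
    simp only [mul_add, add_mul, uJ, vJ, wJ, two_mul, mul_one, one_mul]; abel
  rw [h, mul_zero, zero_mul, add_zero, mul_eq_zero, mul_eq_zero] at e1
  have e2 : 1 + u = 0 := (e1.resolve_left h2).resolve_right hJ
  have e3 : 2 * K = K * (1 + u) + (1 + u) * K := by
    simp only [mul_add, add_mul, uK, two_mul, mul_one, one_mul]; abel
  rw [e2, mul_zero, zero_mul, add_zero, mul_eq_zero] at e3
  exact e3.elim h2 hK

theorem quat {R : Type*} [CommRing R] (ι : R →+* D) (h2 : (2 : D) ≠ 0) {J K : D} (hJ : J * J = -1) (hK : K * K = -1)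
    (h : K * J = -(J * K)) (cJ : ∀ a, J * ι a = ι a * J) (cK : ∀ a, K * ι a = ι a * K) (a b c : R) :
    ι (1 + a ^ 2 + b ^ 2 + c ^ 2) ≠ 0 := fun h0 => by
  have hJ' : ∀ x, J * (J * x) = -x := fun x => by rw [← mul_assoc, hJ, neg_one_mul]
  have hK' : ∀ x, K * (K * x) = -x := fun x => by rw [← mul_assoc, hK, neg_one_mul]
  have h' : ∀ x, K * (J * x) = -(J * (K * x)) := fun x => by rw [← mul_assoc, h, neg_mul, mul_assoc]
  have cJ' : ∀ a x, J * (ι a * x) = ι a * (J * x) := fun a x => by rw [← mul_assoc, cJ, mul_assoc]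
  have cK' : ∀ a x, K * (ι a * x) = ι a * (K * x) := fun a x => by rw [← mul_assoc, cK, mul_assoc]
  have c1 : ∀ a b x, ι a * (ι b * x) = ι (a * b) * x := fun a b x => by rw [← mul_assoc, map_mul]
  have J0 : J ≠ 0 := fun e => by rw [e, mul_zero] at hJ; exact one_ne_zero (neg_eq_zero.1 hJ.symm)
  have K0 : K ≠ 0 := fun e => by rw [e, mul_zero] at hK; exact one_ne_zero (neg_eq_zero.1 hK.symm)
  have key : ∀ a b c : R, 1 + ι a * J + ι b * K + ι c * (J * K) ≠ 0 := fun a b c =>
    quat0 h2 J0 K0 (by rw [cJ', mul_assoc]) (by rw [cJ', mul_assoc, h, mul_neg, neg_neg])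
      (by simp only [cJ', mul_assoc, h, hJ', mul_neg, neg_neg]) (by rw [cK', mul_assoc, h, mul_neg])
  have e : (1 + ι a * J + ι b * K + ι c * (J * K)) * (1 + ι (-a) * J + ι (-b) * K + ι (-c) * (J * K)) =
      ι (1 + a ^ 2 + b ^ 2 + c ^ 2) := by
    simp only [mul_add, add_mul, mul_one, one_mul, mul_assoc, cJ', cK', cJ, c1, hJ, hK, h, hJ', hK', h', mul_neg,
      neg_mul, neg_neg, map_neg, map_add, map_one, pow_two, mul_comm b a, mul_comm c a, mul_comm c b, ← map_mul]
    abel
  rw [h0, mul_eq_zero] at e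
  exact e.elim (key _ _ _) (key _ _ _)

theorem geom {g : D} {n : ℕ} (h : g ^ n = 1) (h1 : g ≠ 1) : ∑ i ∈ Finset.range n, g ^ i = 0 := by
  have := geom_sum_mul g n
  rw [h, sub_self, mul_eq_zero, sub_eq_zero] at this
  exact this.resolve_right h1

theorem geom5 {g : D} (h : g ^ 5 = 1) (h1 : g ≠ 1) (x : D) :
    g * (g * (g * (g * x))) = -x - g * x - g * (g * x) - g * (g * (g * x)) := by
  have := congrArg (· * x) (geom h h1)
  simp only [Finset.sum_range_succ, Finset.sum_range_zero, pow_succ, pow_zero, add_mul, mul_assoc, one_mul,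
    zero_mul, zero_add] at this
  rw [← sub_eq_zero, ← this]; abel

theorem noFrob (h2 : (2 : D) ≠ 0) {g t : D} (h : g ^ 5 = 1) (h1 : g ≠ 1) (ht : t * g = g * (g * t))
    (h4 : t * (t * (t * t)) = -1) : False := by
  have g4 := geom5 h h1
  have g4' : g * (g * (g * g)) = -1 - g - g * g - g * (g * g) := by simpa using g4 1
  have ht' : ∀ x, t * (g * x) = g * (g * (t * x)) := fun x => by rw [← mul_assoc, ht, mul_assoc, mul_assoc]
  have h4' : ∀ x, t * (t * (t * (t * x))) = -x := fun x => by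
    rw [← neg_one_mul x, ← h4]; simp only [mul_assoc]
  have t0 : t ≠ 0 := fun e => by rw [e, zero_mul] at h4; exact one_ne_zero (neg_eq_zero.1 h4.symm)
  have g0 : g ≠ 0 := fun e => by rw [e, zero_pow (by decide)] at h; exact zero_ne_one h
  have g1 : g - 1 ≠ 0 := sub_ne_zero.2 h1
  have g2 : g + 1 ≠ 0 := fun e => by
    rw [eq_neg_of_add_eq_zero_left e, Odd.neg_one_pow (by decide)] at h
    exact h2 (by rw [← one_add_one_eq_two, ← eq_neg_iff_add_eq_zero, h])
  have key : ∀ z : D, (g + g * (g * (g * g))) * z = z * (g + g * (g * (g * g))) →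
      z ≠ (1 - g * (g * (g * g))) * t := fun z hz e => by
    have e1 : (g + g * (g * (g * g))) * z - z * (g + g * (g * (g * g))) =
        (g - 1) * (g - 1) * (g - 1) * (g + 1) * t := by
      simp only [e, mul_add, add_mul, mul_sub, sub_mul, mul_one, one_mul, mul_assoc, ht, ht', g4, g4', mul_neg, neg_mul]
      abel
    rw [hz, sub_self, eq_comm] at e1
    exact mul_ne_zero (mul_ne_zero (mul_ne_zero (mul_ne_zero g1 g1) g1) g2) t0 e1
  have e : (1 + g + t * t + (1 - g * (g * (g * g))) * t) *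
      (1 + g * (g * g) - g * (g * (g * (t * t))) - (1 - g * (g * (g * g))) * t) = 0 := by
    simp only [mul_add, add_mul, mul_sub, sub_mul, mul_one, one_mul, mul_assoc, ht, ht', g4, g4', h4, h4', mul_neg,
      neg_mul]
    abel
  rcases mul_eq_zero.1 e with e | e
  · refine key _ ?_ (neg_eq_of_add_eq_zero_right e)
    simp only [mul_add, add_mul, mul_sub, sub_mul, mul_one, one_mul, mul_assoc, ht, ht', g4, g4', mul_neg, neg_mul]
    abel
  · refine key _ ?_ (sub_eq_zero.1 e)
    simp only [mul_add, add_mul, mul_sub, sub_mul, mul_one, one_mul, mul_assoc, ht, ht', g4, g4', mul_neg, neg_mul]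
    abel

/-- an element of order four -/
def slJ : SL25 := ⟨!![0, 1; -1, 0], by decide⟩
/-- an element of order four -/
def slK : SL25 := ⟨!![2, 0; 0, 3], by decide⟩

variable {φ : SL25 →* D}

theorem phi_neg_one (hφ : Function.Injective φ) : φ (-1) = -1 :=
  (mul_self_eq_one_iff.1 (by rw [← map_mul, neg_one_mul, neg_neg, map_one])).resolve_left
    fun e => sl_neg_one_ne (hφ (e.trans (map_one φ).symm))

theorem phi_neg (hφ : Function.Injective φ) (x : SL25) : φ (-x) = -φ x := by
  rw [← neg_one_mul x, map_mul, phi_neg_one hφ, neg_one_mul]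

theorem two_ne (hφ : Function.Injective φ) : (2 : D) ≠ 0 := fun h =>
  sl_neg_one_ne (hφ (by rw [phi_neg_one hφ, map_one, neg_eq_iff_add_eq_zero, one_add_one_eq_two, h]))

theorem phi_quat (hφ : Function.Injective φ) {R : Type*} [CommRing R] (ι : R →+* D)
    (cJ : ∀ a, φ slJ * ι a = ι a * φ slJ) (cK : ∀ a, φ slK * ι a = ι a * φ slK) (a b c : R) :
    ι (1 + a ^ 2 + b ^ 2 + c ^ 2) ≠ 0 :=
  quat ι (two_ne hφ) (by rw [← map_mul, ← phi_neg_one hφ]; congr 1; decide)
    (by rw [← map_mul, ← phi_neg_one hφ]; congr 1; decide)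
    (by rw [← map_mul, ← map_mul, ← phi_neg hφ]; congr 1; decide) cJ cK a b c

theorem charZero (hφ : Function.Injective φ) : CharZero D := by
  obtain ⟨q, hq⟩ := CharP.exists D
  rcases eq_or_ne q 0 with rfl | h
  · exact CharP.charP_to_charZero D
  haveI : NeZero q := ⟨h⟩
  obtain ⟨a, b, e⟩ := CharP.sq_add_sq D q (-1)
  refine absurd ?_ (phi_quat hφ (Int.castRingHom D) (fun a => (Int.cast_commute a _).symm.eq)
    (fun a => (Int.cast_commute a _).symm.eq) a b 0)
  simp only [eq_intCast]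
  push_cast at e ⊢
  rw [add_assoc 1, e]; simp

theorem three (hφ : Function.Injective φ) {w : SL25} (h : w ^ 3 = 1) (h1 : w ≠ 1) : φ w + φ (w * w) = -1 := by
  have := geom (g := φ w) (n := 3) (by rw [← map_pow, h, map_one]) fun e => h1 (hφ (e.trans (map_one φ).symm))
  simp only [Finset.sum_range_succ, Finset.sum_range_zero, pow_succ, pow_zero, one_mul, zero_add] at this
  rw [map_mul, eq_neg_iff_add_eq_zero, ← this]; abel

theorem noCent (hφ : Function.Injective φ) {ζ : D} {p : ℕ} (hp : p.Prime) (h : p.Coprime 20) (hζ : ζ ^ p = 1)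
    (h1 : ζ ≠ 1) (hc : ∀ x, φ x * ζ = ζ * φ x) : False := by
  haveI := charZero hφ
  set s := φ slY + φ (slY ^ 4) with hs
  have sJ : s * φ slJ = φ slJ * s := by
    have a1 := three hφ (w := slY * slJ) (by decide) (by decide)
    have a2 := three hφ (w := slJ * slY) (by decide) (by decide)
    rw [show slY * slJ * (slY * slJ) = -(slJ * slY ^ 4) by decide, phi_neg hφ, map_mul, map_mul] at a1
    rw [show slJ * slY * (slJ * slY) = -(slY ^ 4 * slJ) by decide, phi_neg hφ, map_mul, map_mul] at a2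
    rw [hs, mul_add, add_mul, ← sub_eq_zero, ← sub_eq_zero.2 (a1.trans a2.symm)]
    abel
  have sK : s * φ slK = φ slK * s := by
    simp only [hs, mul_add, add_mul, ← map_mul]
    rw [add_comm, show slY ^ 4 * slK = slK * slY by decide, show slY * slK = slK * slY ^ 4 by decide]
  have hs2 : (2 * s + 1) ^ 2 = 5 := by
    have g5 : φ slY ^ 5 = 1 := by rw [← map_pow, slY_five, map_one]
    have g4 := geom5 g5 fun e => (by decide : slY ≠ 1) (hφ (e.trans (map_one φ).symm))
    have g4' := g4 1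
    simp only [mul_one] at g4'
    rw [show (5 : D) = 1 + 1 + 1 + 1 + 1 by norm_num, two_mul]
    simp only [hs, map_mul, pow_succ, pow_zero, mul_add, add_mul, mul_sub, sub_mul, mul_one, one_mul,
      mul_assoc, g4, g4', mul_neg, neg_mul]
    abel
  let F : Subfield D := { Subring.centralizer (Set.centralizer ({s, ζ} : Set D)) with
    inv_mem' := fun _ hx => Set.inv_mem_centralizer₀ hx }
  have hsz : s * ζ = ζ * s := by rw [hs, mul_add, add_mul, hc, hc]
  letI : Field F := { (inferInstance : DivisionRing F) with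
    mul_comm := fun x y => Subtype.ext (Set.centralizer_centralizer_comm_of_comm (S := ({s, ζ} : Set D)) (by
      rintro _ (rfl | rfl) _ (rfl | rfl) <;> first | rfl | exact hsz | exact hsz.symm) _ x.2 _ y.2) }
  haveI : CharZero F := F.subtype.charZero
  obtain ⟨a, b, c, e⟩ := four (K := F) (r := 2 * ⟨s, Set.subset_centralizer_centralizer (Or.inl rfl)⟩ + 1)
    (ζ := ⟨ζ, Set.subset_centralizer_centralizer (Or.inr rfl)⟩) (F.subtype.injective (by
      rw [map_pow, map_add, map_mul, map_one, map_ofNat, map_ofNat]; exact hs2)) hp h (Subtype.ext hζ)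
      fun e => h1 (congrArg Subtype.val e)
  refine phi_quat hφ F.subtype (fun a => a.2 _ ?_) (fun a => a.2 _ ?_) a b c (by rw [e, map_zero])
  · rintro _ (rfl | rfl)
    exacts [sJ, (hc _).symm]
  · rintro _ (rfl | rfl)
    exacts [sK, (hc _).symm]

theorem fA : ∀ x : SL25, x ^ 5 = 1 → x ≠ 1 → ∃ m : SL25, m * x = slY * m ∨ m * x = slY ^ 2 * m := by
  decide +kernel
theorem fB : ∀ x : SL25, x ^ 3 = 1 → (x * slY) ^ 2 = -1 → ∃ k : Fin 5, x * slY ^ k.1 = slY ^ k.1 * slX := by
  decide +kernel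
theorem fC : ∀ u : SL25, u * slY = slY ^ 4 * u → u * u = -1 := by decide +kernel
theorem fD : ∀ u : SL25, u * slY = slY * u → u * slX = slX * u → u = 1 ∨ u = -1 := by decide +kernel

theorem noOuter {G : Type*} [Group G] {ρ : G →* D} (hρ : Function.Injective ρ) {f : SL25 →* G}
    (hf : Function.Injective f) (hn : ∀ y x, ∃ x', f x' = y * f x * y⁻¹) (h2 : ∀ y, ∃ u, f u = y * y) (y : G) :
    y ∈ f.range := by
  have hφ : Function.Injective (ρ.comp f) := hρ.comp hf
  have n1 : ∀ x, ρ (f (-x)) = -ρ (f x) := phi_neg hφ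
  have s1 : ∀ c, c * f slY = f slY * c → c * f slX = f slX * c → c ∈ f.range := fun c hY hX => by
    obtain ⟨u, hu⟩ := h2 c
    rcases fD u (hf (by rw [map_mul, map_mul, hu, mul_assoc, hY, ← mul_assoc, hY, mul_assoc]))
      (hf (by rw [map_mul, map_mul, hu, mul_assoc, hX, ← mul_assoc, hX, mul_assoc])) with rfl | rfl
    · rcases mul_self_eq_one_iff.1 (show ρ c * ρ c = 1 by rw [← map_mul, ← hu, map_one, map_one]) with e | e
      · exact ⟨1, hρ (by rw [e, map_one, map_one])⟩
      · exact ⟨-1, hρ (by rw [e, n1, map_one, map_one])⟩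
    · have e1 : ρ c * ρ (f (slX * slY)) = ρ (f (slX * slY)) * ρ c := by
        rw [← map_mul, ← map_mul, map_mul f, ← mul_assoc, hX, mul_assoc, hY, mul_assoc]
      have e2 : ρ c * ρ c = ρ (f (slX * slY)) * ρ (f (slX * slY)) := by
        rw [← map_mul, ← hu, ← map_mul, ← map_mul, ← pow_two, slXY_sq]
      have e3 : (ρ c - ρ (f (slX * slY))) * (ρ c + ρ (f (slX * slY))) = 0 := by
        rw [sub_mul, mul_add, mul_add, e1, e2]; abel
      rcases mul_eq_zero.1 e3 with e | e
      · exact ⟨_, hρ (sub_eq_zero.1 e).symm⟩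
      · exact ⟨-(slX * slY), hρ (by rw [n1, eq_neg_of_add_eq_zero_left e])⟩
  have s2 : ∀ c, c * f slY = f slY * c → c ∈ f.range := fun c hY => by
    obtain ⟨x, hx⟩ := hn c slX
    have e0 : c * f (-1) = f (-1) * c := hρ (by
      rw [map_mul, map_mul, n1, map_one, map_one, mul_neg, neg_mul, one_mul, mul_one])
    obtain ⟨k, hk⟩ := fB x (hf (by rw [map_pow, hx, conj_pow, ← map_pow, slX_three, map_one]; group))
      (hf (by
        have : f (x * slY) = c * f (slX * slY) * c⁻¹ := by
          rw [map_mul, map_mul, hx, ← mul_assoc c, mul_assoc _ (f slY), mul_assoc _ c⁻¹]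
          congr 1
          rw [inv_mul_eq_iff_eq_mul, ← mul_assoc, hY, mul_inv_cancel_right]
        rw [map_pow, this, conj_pow, ← map_pow, slXY_sq, e0, mul_inv_cancel_right]))
    have hk' := congrArg f hk
    rw [map_mul, map_mul, hx] at hk'
    have c1 : Commute (f (slY ^ k.1)) (f slY) := ((Commute.refl slY).pow_left _).map f
    have c2 : Commute c (f (slY ^ k.1)) := by rw [map_pow]; exact Commute.pow_right hY _
    have := s1 ((f (slY ^ k.1))⁻¹ * c) (c1.inv_left.mul_left hY).eq (by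
      rw [mul_assoc, inv_mul_eq_iff_eq_mul, ← mul_assoc, ← mul_assoc, ← hk', mul_inv_cancel_right,
        inv_mul_cancel_right])
    simpa using f.range.mul_mem ⟨slY ^ k.1, rfl⟩ this
  obtain ⟨x, hx⟩ := hn y slY
  obtain ⟨m, hm⟩ := fA x (hf (by rw [map_pow, hx, conj_pow, ← map_pow, slY_five, map_one]; group)) (by
    rintro rfl
    rw [map_one, eq_comm, conj_eq_one_iff, map_eq_one_iff _ hf] at hx
    exact (by decide : slY ≠ 1) hx)
  have e0 : f m * y * f slY = f (m * x) * y := by rw [map_mul, hx]; group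
  rcases hm with hm | hm
  · have := s2 (f m * y) (by rw [e0, hm, map_mul, mul_assoc])
    simpa using f.range.mul_mem (f.range.inv_mem ⟨m, rfl⟩) this
  · exfalso
    rw [hm, map_mul, map_pow, mul_assoc (_ ^ 2)] at e0
    obtain ⟨u, hu⟩ := h2 (f m * y)
    generalize f m * y = t at e0 hu
    have e1 : u * u = -1 := fC u (hf (by
      rw [map_mul, map_mul, hu, map_pow, mul_assoc, e0, pow_two, ← mul_assoc, ← mul_assoc, e0, mul_assoc _ t, e0]
      simp only [pow_succ, pow_zero, one_mul, mul_assoc]))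
    refine noFrob (two_ne hφ) (g := ρ (f slY)) (t := ρ t) (by rw [← map_pow, ← map_pow, slY_five, map_one, map_one])
      (fun e => (by decide : slY ≠ 1) (hφ (e.trans (map_one _).symm))) ?_ ?_
    · rw [← map_mul, e0, pow_two, mul_assoc, map_mul, map_mul]
    · rw [← mul_assoc, ← map_mul, ← map_mul, ← hu, ← map_mul, e1, n1, map_one, map_one]

theorem main {G : Type*} [Group G] [Finite G] {ρ : G →* D} (hρ : Function.Injective ρ) {N S M : Subgroup G}
    (hN : N.Normal) (hi : N.index = 1 ∨ N.index = 2) (h1 : S ⊔ M = N) (h2 : ∀ s ∈ S, ∀ x ∈ M, s * x = x * s)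
    (e : S ≃* SL25) (hM : (Nat.card M).Coprime 30) : Nonempty (G ≃* SL25) := by
  let f : SL25 →* G := S.subtype.comp e.symm.toMonoidHom
  have hf : Function.Injective f := S.subtype_injective.comp e.symm.injective
  have hr : ∀ y, y ∈ f.range ↔ y ∈ S := fun y =>
    ⟨by rintro ⟨x, rfl⟩; exact (e.symm x).2, fun h => ⟨e ⟨y, h⟩, by simp [f]⟩⟩
  have hb : M = ⊥ := by
    by_contra h
    obtain ⟨p, hp, hd⟩ := Nat.exists_prime_and_dvd (mt Subgroup.card_eq_one.1 h)
    haveI := Fact.mk hp
    obtain ⟨z, hz⟩ := exists_prime_orderOf_dvd_card' p hd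
    rw [← Subgroup.orderOf_coe] at hz
    refine noCent (φ := ρ.comp f) (hρ.comp hf) (ζ := ρ z) hp ?_ (by rw [← map_pow, ← hz, pow_orderOf_eq_one, map_one])
      (fun h => ?_) fun x => ?_
    · exact ((hM.coprime_dvd_left hd).pow_right 2).coprime_dvd_right (by decide)
    · rw [map_eq_one_iff _ hρ] at h
      rw [h, orderOf_one] at hz
      exact hp.one_lt.ne hz
    · rw [MonoidHom.comp_apply, ← map_mul, ← map_mul, h2 _ ((hr _).1 ⟨x, rfl⟩) _ z.2]
  rw [hb, sup_bot_eq] at h1
  subst h1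
  have := noOuter hρ hf (fun y x => (hr _).2 (hN.conj_mem _ ((hr _).1 ⟨x, rfl⟩) y)) fun y => (hr _).2 (by
    rcases hi with h | h
    · rw [Subgroup.index_eq_one.1 h]; trivial
    · exact Subgroup.mul_self_mem_of_index_two h y)
  exact ⟨(MulEquiv.ofBijective f ⟨hf, this⟩).symm⟩

end Cfsg.Lib.Amalg.Dv
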