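import Cfsg.Agent.Lib.Amalg.Bridge
import Cfsg.Agent.Lib.Invol.Strong
import Cfsg.Agent.Lib.Coprime.Generation
import Cfsg.Agent.Lib.BN.SzCount
import Cfsg.Agent.Lib.Known.PSL2
import Cfsg.Agent.Lib.Linear.Card
import Cfsg.Agent.S0205
import Cfsg.Agent.S0217
import Cfsg.Agent.S0506
import Cfsg.Agent.S1169

/-! Abelian `2`-subgroups `A` with `⟨A, A^g⟩ = A O(⟨A, A^g⟩)` for all `g`: the simple case. -/

set_option autoImplicit false
set_option linter.unusedSectionVars false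

namespace Cfsg.Lib.Amalg.ExtCl

open Subgroup
open Cfsg.Lib.Core hiding isPGroup_subgroupOf isPGroup_subgroupOf_iff isPGroup_map_subtype_iff
open scoped commutatorElement

variable {G : Type*} [Group G] [Finite G] {A O V X P : Subgroup G} {a b g x y v : G}

abbrev oc (K : Subgroup G) : Subgroup G := (pPrimeCore 2 K).map K.subtype

theorem odd_oc (K : Subgroup G) : Odd (Nat.card (oc K)) :=
  Nat.coprime_two_right.1 (coprime_card_pPrimeCoreOf K)

theorem cj_oc (g : G) (K : Subgroup G) : cj g (oc K) = oc (cj g K) := map_conj_pPrimeCoreOf g K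

theorem odd_of_mem (ho : Odd (Nat.card O)) (hx : x ∈ O) : Odd (orderOf x) :=
  ho.of_dvd_nat (O.orderOf_dvd_natCard hx)

theorem eq_one_of_mem (ho : Odd (Nat.card O)) (hx : x ∈ O) (e : x * x = 1) : x = 1 := by
  by_contra h1
  have := odd_of_mem ho hx
  rw [Invol.two_of_mul_self e h1] at this
  exact absurd this (by decide)

theorem pow_mul_mem (hn : a ∈ 𝐍 O) (ho : x ∈ O) (m : ℕ) : (a ^ m)⁻¹ * (a * x) ^ m ∈ O := by
  induction m with
  | zero => simpa using one_mem O
  | succ m ih =>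
    rw [show (a ^ (m + 1))⁻¹ * (a * x) ^ (m + 1) = a⁻¹ * ((a ^ m)⁻¹ * (a * x) ^ m) * a⁻¹⁻¹ * x by
      rw [pow_succ, pow_succ]; group]
    exact mul_mem (conj_mem_of_mem_normalizer (inv_mem hn) ih) ho

theorem mem_of_odd (hA : IsPGroup 2 A) (hn : A ≤ 𝐍 O) (hx : x ∈ A ⊔ O) (ho : Odd (orderOf x)) :
    x ∈ O := by
  obtain ⟨a, ha, o, ho', rfl⟩ := (mem_sup_of_le_normalizer hn).1 hx
  obtain ⟨k, hk⟩ := isPGroup_iff_mem.1 hA a ha
  have := pow_mul_mem (hn ha) ho' (2 ^ k)
  rw [hk, inv_one, one_mul] at this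
  exact zpowers_le.2 this (mem_zpowers_pow_iff.2 ((Nat.coprime_two_left.2 ho).pow_left k))

theorem syl_sup (hA : IsPGroup 2 A) (hn : A ≤ 𝐍 O) (ho : Odd (Nat.card O)) : Syl 2 A (A ⊔ O) := by
  refine syl_of_not_dvd le_sup_left hA fun h => ?_
  have := card_sup_dvd hn
  rw [← card_mul_relIndex (le_sup_left (a := A) (b := O)), Nat.mul_dvd_mul_iff_left Nat.card_pos] at this
  exact ho.not_two_dvd_nat (h.trans this)

structure NP (A : Subgroup G) : Prop where
  pg : IsPGroup 2 A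
  cm : A ≤ 𝐂 A
  np : ∀ g, ∃ O : Subgroup G, Odd (Nat.card O) ∧ A ≤ 𝐍 O ∧ cj g A ≤ A ⊔ O

namespace NP

variable (h : NP A)
include h

theorem sc (hx : x ∈ cj g A) (hn : x ∈ 𝐍 A) : x ∈ A := by
  obtain ⟨O, ho, hO, hle⟩ := h.np g
  obtain ⟨k, hk⟩ := isPGroup_iff_mem.1 (isPGroup_cj g h.pg) x hx
  exact (syl_sup h.pg hO ho).mem_of_mem_normalizer hk (hle hx) hn

theorem le_norm (hP : IsPGroup 2 P) (hle : A ≤ P) : P ≤ 𝐍 A := by
  have : P ⊓ 𝐍 A = P := eq_of_inf_normalizer_le hP inf_le_left fun y hy => ⟨hy.1,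
    mem_normalizer_of_cj_le fun x hx => h.sc hx
      (cj_le_of_le_of_mem_normalizer (le_inf hle le_normalizer) hy.2 hx).2⟩
  exact this.ge.trans inf_le_right

theorem sub (hV : V ≤ A) (hn : 𝐍 A ≤ 𝐍 V) : NP V := by
  refine ⟨h.pg.to_le hV, hV.trans (h.cm.trans (centralizer_le hV)), fun g => ?_⟩
  obtain ⟨O, ho, hO, hle⟩ := h.np g
  refine ⟨O, ho, hV.trans hO, ?_⟩
  have s := syl_sup h.pg hO ho
  obtain ⟨k, hk, e⟩ := s.exists_conj (s.of_card_ge (isPGroup_cj g h.pg) hle (card_cj g A).ge)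
  have : k⁻¹ * g ∈ 𝐍 A := cj_eq_self_iff.1 (by rw [cj_mul, ← e, cj_inv_cj])
  rw [show g = k * (k⁻¹ * g) by group, cj_mul, cj_of_mem_normalizer (hn this)]
  rw [sup_comm] at hk
  obtain ⟨o, ho', a, ha, rfl⟩ := (mem_sup_of_le_normalizer' hO).1 hk
  rw [cj_mul, cj_of_mem_normalizer (hn (le_normalizer ha))]
  exact cj_le_of_le_of_mem le_sup_left (mem_sup_right ho')

theorem subgroupOf (hX : A ≤ X) : NP (A.subgroupOf X) := by
  refine ⟨isPGroup_subgroupOf h.pg X, fun a ha b hb => Subtype.ext (h.cm ha b hb), fun g => ?_⟩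
  obtain ⟨O, ho, hO, hle⟩ := h.np g
  refine ⟨O.subgroupOf X, ho.of_dvd_nat (card_comap_dvd_of_injective _ _ X.subtype_injective),
    fun a ha => le_normalizer_comap _ (hO ha), fun x hx => ?_⟩
  rw [cj_subgroupOf] at hx
  obtain ⟨a, ha, o, ho', e⟩ := (mem_sup_of_le_normalizer hO).1 (hle hx)
  have hoX : o ∈ X := by
    rw [show o = a⁻¹ * x from eq_inv_mul_iff_mul_eq.2 e]; exact mul_mem (inv_mem (hX ha)) x.2
  rw [show x = ⟨a, hX ha⟩ * ⟨o, hoX⟩ from Subtype.ext e.symm]
  exact mul_mem (mem_sup_left ha) (mem_sup_right ho')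

theorem map {G' : Type*} [Group G'] [Finite G'] {f : G →* G'} (hf : Function.Surjective f) :
    NP (A.map f) := by
  refine ⟨h.pg.map f, ?_, fun g => ?_⟩
  · rintro _ ⟨a, ha, rfl⟩ _ ⟨b, hb, rfl⟩
    rw [← map_mul, h.cm ha b hb, map_mul]
  · obtain ⟨g, rfl⟩ := hf g
    obtain ⟨O, ho, hO, hle⟩ := h.np g
    exact ⟨O.map f, ho.of_dvd_nat (card_map_dvd _ _), (map_mono hO).trans (le_normalizer_map f),
      by rw [← map_cj, ← Subgroup.map_sup]; exact map_mono hle⟩

theorem le_cent (ha : a ∈ A) : A ≤ centralizer {a} := fun b hb =>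
  mem_centralizer_singleton_iff.2 (h.cm ha b hb)

end NP

theorem ncard_le_of_cover {α β : Type*} [Finite α] [Finite β] (T : Set α) (Z : Set β) (f : β → Set α)
    (m : ℕ) (h : ∀ t ∈ T, ∃ z ∈ Z, t ∈ f z) (hm : ∀ z ∈ Z, (f z).ncard ≤ m) :
    T.ncard ≤ Z.ncard * m := by
  classical
  rw [Set.ncard_eq_toFinset_card T, Set.ncard_eq_toFinset_card Z]
  refine (Finset.card_le_card (t := (Set.toFinite Z).toFinset.biUnion
    fun z => (Set.toFinite (f z)).toFinset) fun t ht => ?_).trans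
    (Finset.card_biUnion_le_card_mul _ _ _ fun z hz => ?_)
  · simpa using h t (by simpa using ht)
  · rw [← Set.ncard_eq_toFinset_card]; exact hm z (by simpa using hz)

theorem tor {F B : Type*} [Field F] [Finite F] [CommGroup B] {τ : B →* Known.SL2 F}
    (h : Known.IsTorus τ) (a : B) (ha : a ^ 2 ≠ 1) :
    τ.range.index ≤ Nat.gcd 2 (Nat.card F - 1) * (centralizer {Known.pmk F (τ a)}).index := by
  by_cases h4 : (2 : F) = 0 ∨ a ^ 4 ≠ 1
  · rw [h.index_pmk ha h4]; exact Nat.le_mul_of_pos_left _ (Nat.gcd_pos_of_pos_left _ two_pos)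
  · push Not at h4
    rw [← h.two_mul_index_pmk h4.1 ha h4.2, Nat.gcd_eq_left]
    have := Fintype.ofFinite F
    have := FiniteField.odd_card_of_char_ne_two (F := F) fun e => h4.1 (by
      rw [← Nat.cast_ofNat, ← e]; exact CharP.cast_eq_zero F _)
    rw [Nat.card_eq_fintype_card]; omega

theorem psl_index {F : Type*} [Field F] [Finite F] {x : Linear.PSL2 F} (hx : x ≠ 1) :
    Nat.card F * (Nat.card F - 1) ≤ Nat.gcd 2 (Nat.card F - 1) * (centralizer {x}).index := by
  have cjx : ∀ {y : Linear.PSL2 F}, IsConj x y → (centralizer {x}).index = (centralizer {y}).index :=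
    fun h => by
      obtain ⟨c, rfl⟩ := isConj_iff.1 h
      rw [← cj_centralizer_singleton, index_cj]
  have h1 : 1 < Nat.card F := Finite.one_lt_card
  rcases Known.PSL2_types x with e | ⟨b, hb, e⟩ | ⟨a, ha, e⟩ | ⟨a, ha, e⟩
  · exact absurd e hx
  · rw [cjx e, Known.index_centralizer_pmk_par hb, Nat.mul_sub_one, pow_two]; omega
  · rw [cjx e]
    refine le_trans ?_ (tor Known.isTorus_torusS a ha)
    rw [Known.index_range_torusS]; exact Nat.mul_le_mul_left _ (by omega)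
  · have := tor Known.isTorus_singerS a ha
    rwa [Known.index_range_singerS, ← cjx e] at this

/-- the minimal counterexample -/
structure MC (A : Subgroup G) : Prop extends NP A where
  simple : IsSimpleGroup G
  el : ∀ a ∈ A, a * a = 1
  ne : A ≠ ⊥
  nn : ¬ A.Normal
  mv : ∀ a ∈ A, a ≠ 1 → ∃ n ∈ 𝐍 A, n * a * n⁻¹ ≠ a
  loc : ∀ a ∈ A, a ≠ 1 → centralizer {a} ≤ 𝐍 (A ⊔ oc (centralizer {a}))

namespace MC

variable (h : MC A)
include h

theorem exists_ne : ∃ a ∈ A, a ≠ 1 := by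
  obtain ⟨⟨a, ha⟩, h1⟩ := ne_bot_iff_exists_ne_one.1 h.ne
  exact ⟨a, ha, fun e => h1 (Subtype.ext e)⟩

theorem nA (ha : a ∈ A) : A ≤ 𝐍 (oc (centralizer {a})) :=
  (h.le_cent ha).trans (le_normalizer_pPrimeCoreOf _)

theorem four_sub (hv : v ∈ A) (h1 : v ≠ 1) : ∃ w ∈ A, w ≠ 1 ∧ w ≠ v ∧ IsConj v w ∧
    ({1, v, w, v * w} : Set G).ncard = 4 ∧ ({1, v, w, v * w} : Set G) ⊆ A := by
  obtain ⟨n, hn, e⟩ := h.mv v hv h1
  have hw := conj_mem_of_mem_normalizer hn hv
  have w1 : n * v * n⁻¹ ≠ 1 := fun e => h1 (conj_eq_one_iff.1 e)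
  refine ⟨_, hw, w1, e, isConj_iff.2 ⟨n, rfl⟩, ?_, ?_⟩
  · generalize n * v * n⁻¹ = w at *
    have e1 : v * w ≠ 1 := fun e' => e (by rw [← one_mul w, ← h.el v hv, mul_assoc, e', mul_one])
    rw [Set.ncard_insert_of_notMem (by simp [h1.symm, w1.symm, e1.symm]),
      Set.ncard_insert_of_notMem (by simp [e.symm, w1]), Set.ncard_pair (by simp [h1])]
  · rintro x (rfl | rfl | rfl | rfl)
    exacts [one_mem A, hv, hw, mul_mem hv hw]

theorem four_le : 4 ≤ Nat.card A := by
  obtain ⟨v, hv, h1⟩ := h.exists_ne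
  obtain ⟨w, -, -, -, -, h4, hs⟩ := h.four_sub hv h1
  exact h4.ge.trans (Set.ncard_le_ncard hs)

theorem gam (hX : ∀ a ∈ A, a ≠ 1 → centralizer {a} ≤ X) : X = ⊤ := by
  have := h.simple
  have : IsMulCommutative A := isMulCommutative_iff_le_cent.2 h.cm
  have nc : ¬ IsCyclic A := fun hc => by
    have : Nat.card A ∣ 2 := by
      rw [← IsCyclic.exponent_eq_card]
      exact Monoid.exponent_dvd_of_forall_pow_eq_one fun a => Subtype.ext (by
        rw [pow_two]; exact h.el _ a.2)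
    have := Nat.le_of_dvd two_pos this
    have := h.four_le
    omega
  obtain ⟨v, hv, h1⟩ := h.exists_ne
  rw [eq_top_iff, ← (normalClosure_normal (s := (A : Set G))).eq_bot_or_eq_top.resolve_left
    fun e => h.ne (eq_bot_iff.2 (e ▸ le_normalClosure)), normalClosure_eq_iSup_cj]
  refine iSup_le fun g => ?_
  obtain ⟨O, ho, hO, hle⟩ := h.np g
  refine hle.trans (sup_le ((h.le_cent hv).trans (hX v hv h1)) ?_)
  exact Coprime.le_of_forall_centralizer_le nc hO (Coprime.coprime_card_of_isPGroup h.pg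
    (Nat.coprime_two_right.2 ho)).symm fun a ha a1 => inf_le_right.trans (hX a ha a1)

theorem frat (ha : a ∈ A) (h1 : a ≠ 1) (hg : g ∈ centralizer {a}) :
    ∃ n ∈ A ⊔ oc (centralizer {a}), ∃ m ∈ 𝐍 A, g = n * m :=
  (syl_sup h.pg (h.nA ha) (odd_oc _)).frattini_mem (h.loc a ha h1 hg)

theorem bal (ha : a ∈ A) (hb : b ∈ A) (b1 : b ≠ 1) :
    oc (centralizer {a}) ⊓ centralizer {b} ≤ oc (centralizer {b}) := by
  have hn : A ≤ 𝐍 (oc (centralizer {a}) ⊓ centralizer {b}) :=
    le_normalizer_inf (h.nA ha) ((h.le_cent hb).trans le_normalizer)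
  have ho : Odd (Nat.card ↥(oc (centralizer {a}) ⊓ centralizer {b})) :=
    (odd_oc _).of_dvd_nat (card_dvd_of_le inf_le_left)
  have cA : ∀ c ∈ A, 𝐂 A ≤ centralizer {c} := fun c hc => centralizer_le (Set.singleton_subset_iff.2 hc)
  rw [← Coprime.commutator_sup_centralizer hn (Coprime.coprime_card_of_isPGroup h.pg
    (Nat.coprime_two_right.2 ho)).symm (Or.inl (Coprime.isSolvable_of_isPGroup h.pg))]
  refine sup_le (fun x hx => mem_of_odd h.pg (h.nA hb) ?_ (odd_of_mem ho (comm_le_left hn hx))) ?_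
  · exact comm_le_right (inf_le_right.trans (h.loc b hb b1)) (commutator_mono le_rfl le_sup_left hx)
  · refine (inf_le_inf_right _ inf_le_left).trans ((pPrimeCoreOf_inf_le (cA a ha)).trans ?_)
    have c1 : oc (𝐂 A) ≤ centralizer {b} := (pPrimeCoreOf_le _).trans (cA b hb)
    refine le_sup_left.trans (le_pPrimeCoreOf (sup_le c1 (pPrimeCoreOf_le _)) (fun g hg => ?_)
      (coprime_sup (coprime_card_pPrimeCoreOf _) (coprime_card_pPrimeCoreOf _)
        (c1.trans (le_normalizer_pPrimeCoreOf _))))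
    obtain ⟨n, hn, m, hm, rfl⟩ := h.frat hb b1 hg
    have hn' : n ∈ centralizer {b} := sup_le (h.le_cent hb) (pPrimeCoreOf_le _) hn
    refine mul_mem (sup_le (le_normalizer_sup (h.cm.trans (le_normalizer_pPrimeCoreOf _)) (h.nA hb))
      (le_sup_right.trans le_normalizer) hn) (cj_eq_self_iff.1 ?_)
    rw [cj_sup, cj_oc, cj_centralizer, cj_of_mem_normalizer hm, cj_oc,
      cj_of_mem (by simpa using mul_mem (inv_mem hn') hg)]

theorem big (h8 : 8 ≤ Nat.card A) : False := by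
  have := h.simple
  obtain ⟨ho, -⟩ := Cfsg.Agent.S0217.result (p := 2) A (fun a ha b hb => h.cm hb a ha)
    (fun a ha => by rw [pow_two]; exact h.el a ha) h8 (fun a => oc (centralizer {a}))
    (fun a _ _ => pPrimeCoreOf_le _) (fun a _ _ => (odd_oc _).not_two_dvd_nat)
    (fun a ha _ b hb x hx => conj_mem_of_mem_normalizer (h.nA ha hb) hx)
    (fun a _ _ => Cfsg.Agent.S0205.result (odd_oc _)) fun a ha _ b hb b1 => h.bal ha hb b1
  set W := ⨆ a : {a : G // a ∈ A ∧ a ≠ 1}, oc (centralizer {(a : G)}) with hW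
  have hN : 𝐍 A ≤ 𝐍 W := fun n hn => mem_normalizer_of_cj_le (by
    rw [hW, cj_iSup]
    refine iSup_le fun a => ?_
    rw [cj_oc, cj_centralizer_singleton]
    exact le_iSup (fun a : {a : G // a ∈ A ∧ a ≠ 1} => oc (centralizer {(a : G)}))
      ⟨_, conj_mem_of_mem_normalizer hn a.2.1, fun e => a.2.2 (conj_eq_one_iff.1 e)⟩)
  have top : 𝐍 (A ⊔ W) = ⊤ := h.gam fun a ha a1 g hg => by
    obtain ⟨n, hn, m, hm, rfl⟩ := h.frat ha a1 hg
    refine mul_mem (le_normalizer (sup_le_sup_left (le_iSup (fun a : {a : G // a ∈ A ∧ a ≠ 1} =>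
      oc (centralizer {(a : G)})) ⟨a, ha, a1⟩) A hn)) (le_normalizer_sup le_rfl hN hm)
  have top' : A ⊔ W = ⊤ := (normal_of_top_le_normalizer top.ge).eq_bot_or_eq_top.resolve_left
    fun e => h.ne (eq_bot_iff.2 (e ▸ le_sup_left))
  rcases (normal_of_top_le_normalizer (top' ▸ sup_le (le_normalizer.trans hN) le_normalizer :
    ⊤ ≤ 𝐍 W)).eq_bot_or_eq_top with e | e
  · rw [e, sup_bot_eq] at top'
    exact h.nn (top' ▸ inferInstance)
  · exact ho (dvd_card_of_isPGroup_le h.pg h.ne (e ▸ le_top))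

theorem d1 (ha : a ∈ A) (a1 : a ≠ 1) (hy : y ∈ cj g A) (hc : y ∈ centralizer {a}) :
    y ∈ A ⊔ oc (centralizer {a}) := by
  obtain ⟨T, hT, hAT⟩ := exists_syl_ge h.pg (h.le_cent ha)
  obtain ⟨c, hc', e⟩ := hT.exists_conj_le ((isPGroup_cj g h.pg).to_le (zpowers_le.2 hy)) (zpowers_le.2 hc)
  have e1 : c * y * c⁻¹ ∈ A := h.sc (g := c * g) (by rw [cj_mul]; exact conj_mem_cj c hy)
    (h.le_norm hT.isPGroup hAT (e (conj_mem_cj c (mem_zpowers y))))
  have := conj_mem_of_mem_normalizer (h.loc a ha a1 (inv_mem hc')) (mem_sup_left e1)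
  simpa [mul_assoc] using this

theorem count (h4 : Nat.card A = 4) (hv : v ∈ A) (h1 : v ≠ 1) :
    16 * (centralizer {v}).index ≤ 3 * Nat.card (centralizer {v}) ^ 2 := by
  obtain ⟨w, hw, w1, wv, cw, s4, hs⟩ := h.four_sub hv h1
  have enum : ∀ a ∈ A, a = 1 ∨ a = v ∨ a = w ∨ a = v * w := fun a ha => by
    have : ({1, v, w, v * w} : Set G) = A := Set.eq_of_subset_of_ncard_le hs (h4.trans s4.symm).le
    simpa using (this ▸ ha : a ∈ ({1, v, w, v * w} : Set G))
  have u1 : v * w ≠ 1 := fun e' => wv (by rw [← one_mul w, ← h.el v hv, mul_assoc, e', mul_one])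
  have cu : IsConj v (v * w) := by
    obtain ⟨n, hn, e⟩ := h.mv _ (mul_mem hv hw) u1
    rcases enum _ (conj_mem_of_mem_normalizer hn (mul_mem hv hw)) with e' | e' | e' | e'
    · exact absurd (conj_eq_one_iff.1 e') u1
    · exact (isConj_iff.2 ⟨n, e'⟩).symm
    · exact cw.trans (isConj_iff.2 ⟨n, e'⟩).symm
    · exact absurd e' e
  have cja : ∀ a ∈ A, a ≠ 1 → IsConj v a := fun a ha a1 => by
    rcases enum a ha with rfl | rfl | rfl | rfl
    exacts [absurd rfl a1, IsConj.refl _, cw, cu]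
  set S : G → Set G := fun a => {g | Odd (orderOf (v * (g⁻¹ * a * g)))} with hS
  have s1 : ∀ a, IsConj v a → (S a).ncard = (S v).ncard := fun a e => by
    obtain ⟨c, rfl⟩ := isConj_iff.1 e
    refine Set.ncard_congr (fun g _ => c⁻¹ * g) (fun g hg => ?_) (fun _ _ _ _ e => mul_left_cancel e)
      fun g hg => ⟨c * g, ?_, by group⟩
    · simpa [hS, mul_assoc] using hg
    · simpa [hS, mul_assoc] using hg
  have s2 : ∀ a ∈ A, ∀ b ∈ A, a ≠ b → Disjoint (S a) (S b) := fun a ha b hb ne =>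
    Set.disjoint_left.2 fun g ga gb => by
      obtain ⟨O, ho, hO, hle⟩ := h.np g⁻¹
      have m : ∀ c ∈ A, g ∈ S c → v * (g⁻¹ * c * g) ∈ O := fun c hc e => mem_of_odd h.pg hO
        (mul_mem (mem_sup_left hv) (hle (by simpa using conj_mem_cj g⁻¹ hc))) e
      have e1 := eq_one_of_mem ho (mul_mem (inv_mem (m a ha ga)) (m b hb gb)) (by
        rw [show (v * (g⁻¹ * a * g))⁻¹ * (v * (g⁻¹ * b * g)) = g⁻¹ * (a⁻¹ * b) * g by group,
          show g⁻¹ * (a⁻¹ * b) * g * (g⁻¹ * (a⁻¹ * b) * g) = g⁻¹ * ((a⁻¹ * b) * (a⁻¹ * b)) * g by group,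
          h.el _ (mul_mem (inv_mem ha) hb)]; group)
      exact ne (by simpa using inv_mul_eq_one.1 e1)
  have s3 : 3 * (S v).ncard ≤ Nat.card G := by
    have := Set.ncard_le_card (S v ∪ S w ∪ S (v * w))
    rw [Set.ncard_union_eq (Set.disjoint_union_left.2 ⟨s2 _ hv _ (mul_mem hv hw) (by simp [w1]),
      s2 _ hw _ (mul_mem hv hw) (by simp [h1])⟩), Set.ncard_union_eq (s2 _ hv _ hw wv.symm), s1 w cw,
      s1 _ cu] at this
    omega
  set o := Nat.card (oc (centralizer {v})) with ho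
  set c := Nat.card (centralizer {v}) with hc
  have s4 : (S v)ᶜ.ncard ≤ ({z | w⁻¹ * z ∈ oc (centralizer {v})} ∪
      {z | (v * w)⁻¹ * z ∈ oc (centralizer {v})} : Set G).ncard * (o * c) := by
    refine ncard_le_of_cover _ _ (fun z => {g | IsConj v z ∧ g⁻¹ * v * g ∈
      {y | (v⁻¹ * z)⁻¹ * y ∈ oc (centralizer {z})}}) _ (fun g hg => ?_) fun z _ => ?_
    · have y2 : g⁻¹ * v * g * (g⁻¹ * v * g) = 1 := by
        rw [show g⁻¹ * v * g * (g⁻¹ * v * g) = g⁻¹ * (v * v) * g by group, h.el v hv]; group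
      have yA : g⁻¹ * v * g ∈ cj g⁻¹ A := by simpa using conj_mem_cj g⁻¹ hv
      have y1 : g⁻¹ * v * g ≠ 1 := fun e => h1 (conj_eq_one_iff.1 (show g⁻¹ * v * g⁻¹⁻¹ = 1 by
        rwa [inv_inv]))
      replace hg : ¬ Odd (orderOf (v * (g⁻¹ * v * g))) := hg
      show ∃ z ∈ _, IsConj v z ∧ (v⁻¹ * z)⁻¹ * (g⁻¹ * v * g) ∈ oc (centralizer {z})
      generalize g⁻¹ * v * g = y at *
      obtain ⟨z, hz, c1, c2, hm⟩ : ∃ z, orderOf z = 2 ∧ Commute z v ∧ Commute z y ∧
          z ∈ zpowers (v * y) := by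
        obtain ⟨e1, e2, e3⟩ := Invol.exists_central_of_even (h.el v hv) y2 (Nat.not_odd_iff_even.1 hg)
        exact ⟨_, e1, e2, e3, pow_mem (mem_zpowers _) _⟩
      obtain ⟨O, ho, hO, hle⟩ := h.np g⁻¹
      obtain ⟨k, -, hk⟩ := (syl_sup h.pg hO ho).exists_le_conj (isPGroup_zpowers_of_pow (k := 1)
        (by rw [pow_one]; exact Invol.sq_of_two hz)) (zpowers_le.2 (zpowers_le.2 (mul_mem
          (mem_sup_left hv) (hle yA)) hm))
      replace hk := hk (mem_zpowers z)
      have z2 := Invol.mul_self_of_two hz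
      have z1 := Invol.ne_one_of_two hz
      have e1 : z⁻¹ * (v * y) ∈ oc (centralizer {z}) := by
        obtain ⟨a, ha, rfl⟩ := mem_cj'.1 hk
        have a1 : a ≠ 1 := fun e => z1 (by simp [e])
        have dd : ∀ x l, x ∈ cj l A → Commute (k * a * k⁻¹) x →
            k⁻¹ * x * k⁻¹⁻¹ ∈ A ⊔ oc (centralizer {a}) := fun x l hx e =>
          h.d1 ha a1 (g := k⁻¹ * l) (by rw [cj_mul]; exact conj_mem_cj _ hx) (by
            rw [inv_inv, ← mem_cj, cj_centralizer_singleton]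
            exact mem_centralizer_singleton_iff.2 e.eq.symm)
        obtain ⟨a', ha', o, ho', e⟩ := (mem_sup_of_le_normalizer (h.nA ha)).1
          (mul_mem (dd v 1 (by simpa using hv) c1) (dd y _ yA c2))
        obtain ⟨m, hm⟩ := (mem_powers_iff_mem_zpowers.2 hm : _ ∈ Submonoid.powers _)
        have e2 : (a' * o) ^ m = a := by
          rw [e, show k⁻¹ * v * k⁻¹⁻¹ * (k⁻¹ * y * k⁻¹⁻¹) = k⁻¹ * (v * y) * k⁻¹⁻¹ by group, conj_pow]
          simp only at hm
          rw [hm]; group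
        have e3 := pow_mul_mem (h.nA ha ha') ho' m
        rw [e2] at e3
        have e4 := inv_mul_eq_one.1 (eq_one_of_mem (odd_oc _) e3 (h.el _ (mul_mem (inv_mem (pow_mem ha' m)) ha)))
        have e5 : a' = a := by
          rw [pow_eq_pow_mod m (show a' ^ 2 = 1 by rw [pow_two]; exact h.el _ ha')] at e4
          rcases Nat.mod_two_eq_zero_or_one m with e' | e' <;> rw [e'] at e4
          · exact absurd e4.symm (by simpa using a1)
          · simpa using e4
        rw [← cj_centralizer_singleton, ← cj_oc, mem_cj, show k⁻¹ * ((k * a * k⁻¹)⁻¹ * (v * y)) * k =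
          a⁻¹ * (k⁻¹ * v * k⁻¹⁻¹ * (k⁻¹ * y * k⁻¹⁻¹)) by group, ← e, e5, inv_mul_cancel_left]
        exact ho'
      refine ⟨z, ?_, ?_, by simpa [mul_assoc] using e1⟩
      · obtain ⟨a, ha, t, ho', rfl⟩ := (mem_sup_of_le_normalizer (h.nA hv)).1
          (h.d1 hv h1 hk (mem_centralizer_singleton_iff.2 c1.eq))
        rcases enum a ha with rfl | rfl | rfl | rfl
        · rw [one_mul] at z1 z2
          exact absurd (eq_one_of_mem (odd_oc _) ho' z2) z1
        · have e2 : t = 1 := eq_one_of_mem (odd_oc _) ho' (by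
            have e3 := mem_centralizer_singleton_iff.1 (pPrimeCoreOf_le _ ho')
            rw [mul_assoc, ← mul_assoc t, e3, mul_assoc, ← mul_assoc, h.el a ha, one_mul] at z2
            exact z2)
          rw [e2, mul_one, inv_mul_cancel_left] at e1
          exact absurd (eq_one_of_mem (odd_oc _) e1 y2) y1
        · exact Or.inl (by simpa using ho')
        · exact Or.inr (by simpa [mul_assoc] using ho')
      · obtain ⟨a, ha, rfl⟩ := mem_cj'.1 hk
        exact (cja a ha fun e => z1 (by simp [e])).trans (isConj_iff.2 ⟨k, rfl⟩)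
    · by_cases e : IsConj v z
      · simp only [e, true_and]
        rw [BN.ncard_conj_mem]
        refine Nat.mul_le_mul_right _ ((Set.ncard_le_ncard (Set.sep_subset _ _)).trans ?_)
        obtain ⟨k, rfl⟩ := isConj_iff.1 e
        rw [BN.ncard_coset, ← cj_centralizer_singleton, ← cj_oc, card_cj]
      · simp only [e, false_and, Set.setOf_false, Set.ncard_empty, Nat.zero_le]
  replace s4 := s4.trans (Nat.mul_le_mul_right _ (Set.ncard_union_le _ _))
  rw [BN.ncard_coset, BN.ncard_coset, ← ho] at s4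
  have s5 := Set.ncard_add_ncard_compl (S v)
  have s6 : 4 * o ≤ c := by
    rw [← h4, ← card_sup_of_disjoint (h.nA hv) (eq_bot_iff.2 fun x hx =>
      eq_one_of_mem (odd_oc _) hx.2 (h.el x hx.1))]
    exact card_le_of_le (sup_le (h.le_cent hv) (pPrimeCoreOf_le _))
  have s7 := (centralizer {v}).card_mul_index
  have s8 : c * (centralizer {v}).index ≤ c * (3 * o ^ 2) := by rw [s7]; nlinarith
  have s9 := Nat.le_of_mul_le_mul_left s8 Nat.card_pos
  nlinarith

theorem psl (h4 : Nat.card A = 4) {F : Type*} [Field F] [Finite F] (e : G ≃* Linear.PSL2 F) : False := by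
  have h1 : 1 < Nat.card F := Finite.one_lt_card
  have ix : ∀ a, a ≠ 1 → Nat.card F * (Nat.card F - 1) ≤
      Nat.gcd 2 (Nat.card F - 1) * (centralizer {a} : Subgroup G).index := fun a a1 => by
    have := psl_index (x := e a) (by simpa using a1)
    rwa [← index_comap_of_surjective (f := e.toMonoidHom) _ e.surjective, show
      (centralizer {e a}).comap e.toMonoidHom = centralizer {a} from Subgroup.ext fun x => by
        simp only [mem_comap, mem_centralizer_singleton_iff, MulEquiv.toMonoidHom_eq_coe,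
          MonoidHom.coe_coe, ← map_mul, e.injective.eq_iff]] at this
  have cb : ∀ a, a ≠ 1 → Nat.card (centralizer {a} : Subgroup G) ≤ Nat.card F + 1 := fun a a1 => by
    have e1 := Linear.card_PSL_two (F := F)
    rw [← Nat.card_congr e.toEquiv, ← (centralizer {a}).card_mul_index] at e1
    refine Nat.le_of_mul_le_mul_left (c := Nat.card F * (Nat.card F - 1)) ?_
      (Nat.mul_pos (zero_lt_one.trans h1) (Nat.sub_pos_of_lt h1))
    rw [← e1]
    have := ix a a1
    nlinarith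
  by_cases h3 : Nat.card F ≤ 3
  · refine h.nn (h.gam (X := A) (fun a ha a1 => ?_) ▸ inferInstance)
    exact (eq_of_le_of_card_ge (h.le_cent ha) (by have := cb a a1; omega)).ge
  · obtain ⟨v, hv, v1⟩ := h.exists_ne
    have e1 := ix v v1
    have e2 := h.count h4 hv v1
    have e3 := Nat.pow_le_pow_left (cb v v1) 2
    have e4 := Nat.mul_le_mul_right (centralizer {v}).index (Nat.gcd_le_left (Nat.card F - 1) two_pos)
    obtain ⟨q, hq⟩ : ∃ q, Nat.card F = q + 1 := ⟨Nat.card F - 1, by omega⟩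
    rw [hq] at e1 e3 e4 h3
    simp only [Nat.add_sub_cancel] at e1 e4
    nlinarith

theorem eight (h4 : Nat.card A = 4) {u : ℕ} (hu : Odd u) (e : Nat.card G = 8 * u) : False := by
  have := h.simple
  obtain ⟨S, hS⟩ := h.pg.exists_le_sylow
  have hn := h.le_norm S.isPGroup' hS
  have c8 : Nat.card S = 8 := by
    rw [S.card_eq_multiplicity, e, Nat.factorization_mul (by decide) hu.pos.ne', Finsupp.add_apply,
      Nat.factorization_eq_zero_of_not_dvd hu.not_two_dvd_nat,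
      show 8 = 2 ^ 3 from rfl, Nat.Prime.factorization_pow Nat.prime_two]
    simp
  have i2 : A.relIndex S = 2 := by
    have := card_mul_relIndex hS
    rw [h4, c8] at this; omega
  have top : commutator G = ⊤ := (inferInstance : (commutator G).Normal).eq_bot_or_eq_top.resolve_left
    fun e => h.nn (Normal.of_commutator_le G (e.le.trans bot_le))
  have := Subgroup.commutator_inf_eq_focalSubgroup S
  rw [top, top_inf_eq] at this
  have le : (S : Subgroup G) ≤ A := by
    rw [this, focalSubgroup_def, closure_le]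
    rintro _ ⟨hg, x, hx, u, rfl⟩
    have hy : u * x⁻¹ * u⁻¹ ∈ (S : Subgroup G) := by
      simpa [commutatorElement_def, mul_assoc] using mul_mem (inv_mem hx) hg
    have := (mul_mem_iff_of_index_two i2 (a := ⟨x, hx⟩) (b := ⟨_, hy⟩)).2
      ⟨fun e => h.sc (conj_mem_cj u (inv_mem e)) (hn hy), fun e => h.sc (g := u⁻¹)
        (by simpa [mul_assoc] using conj_mem_cj u⁻¹ (inv_mem e)) (hn hx)⟩
    simpa [commutatorElement_def, mul_assoc, mem_subgroupOf] using this
  have := card_le_of_le le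
  omega

theorem false : False := by
  have := h.simple
  have h4 : Nat.card A = 4 := by
    obtain ⟨n, hn⟩ := h.pg.exists_card_eq
    have := h.four_le
    have := mt h.big not_false
    rw [hn] at *
    rcases n with _ | _ | _ | n
    · omega
    · omega
    · rfl
    · have : 2 ^ 3 ≤ 2 ^ (n + 3) := Nat.pow_le_pow_right two_pos (by omega)
      omega
  obtain ⟨S, hS⟩ := h.pg.exists_le_sylow
  rcases Cfsg.Agent.S1169.result S A h.ne (isMulCommutative_iff_le_cent.2 h.cm)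
    ⟨hS, fun x hx g hg => h.sc (conj_mem_cj g hx) (h.le_norm S.isPGroup' hS hg)⟩ with hc | ⟨M, hM⟩
  · rcases Cfsg.Agent.S0506.result (fun e => h.nn inferInstance) S hc with
      ⟨_, _, F, _, _, _, ⟨e⟩⟩ | ⟨F, _, _, _, ⟨e⟩⟩ | ⟨-, m, -, e⟩ | ⟨-, e⟩
    · exact h.psl h4 e
    · exact h.psl h4 e
    · obtain ⟨k, hk⟩ : ∃ k, 3 ^ (2 * m + 1) = 8 * k + 3 := ⟨3 ^ (2 * m + 1) / 8, by
        have : 3 ^ (2 * m + 1) % 8 = 3 := by simp [pow_succ, pow_mul, Nat.mul_mod, Nat.pow_mod]
        omega⟩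
      refine h.eight h4 (u := (8 * k + 3) ^ 3 * (2 * (64 * k ^ 3 + 72 * k ^ 2 + 27 * k + 3) + 1) *
        (2 * (2 * k) + 1)) (((show Odd (8 * k + 3) from ⟨4 * k + 1, by ring⟩).pow.mul
          (odd_two_mul_add_one _)).mul (odd_two_mul_add_one _)) ?_
      rw [e, hk, show 8 * k + 3 - 1 = 8 * k + 2 from rfl]; ring
    · exact h.eight h4 (u := 21945) (by decide) e
  · obtain ⟨P, hP⟩ := Invol.se_exists_sylow_le hM
    obtain ⟨g, rfl⟩ := MulAction.exists_smul_eq G P S
    rw [coe_smul_sylow] at hS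
    have hM' := Invol.se_conj hM g
    exact hM'.1 (h.gam fun a ha a1 x hx => Invol.se_mem_of_commute hM'
      (Invol.two_of_mul_self (h.el a ha) a1) (cj_mono g hP (hS ha)) (mem_centralizer_singleton_iff.1 hx))

end MC

end Cfsg.Lib.Amalg.ExtCl
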