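import Cfsg.Agent.Lib.Amalg.ExtCl1
import Cfsg.Agent.Lib.Block.ZStar

/-! Abelian `2`-subgroups `A` with `⟨A, A^g⟩ = A O(⟨A, A^g⟩)` for all `g` satisfy `A O(G) ⊴ G`. -/

set_option autoImplicit false
set_option linter.unusedSectionVars false

namespace Cfsg.Lib.Amalg.ExtCl

open Subgroup
open Cfsg.Lib.Core hiding isPGroup_subgroupOf isPGroup_subgroupOf_iff isPGroup_map_subtype_iff
open scoped commutatorElement

universe u

theorem step {G : Type u} [Group G] [Finite G] {A : Subgroup G} (h : NP A) (hO : oddCore G = ⊥)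
    (IH : ∀ (G' : Type u) [Group G'] [Finite G'], Nat.card G' < Nat.card G → ∀ A' : Subgroup G',
      NP A' → (A' ⊔ oddCore G').Normal)
    (IH' : ∀ V : Subgroup G, V < A → NP V → V.Normal) : A.Normal := by
  by_contra nn
  have IHs : ∀ X : Subgroup G, X ≠ ⊤ → A ≤ X → X ≤ 𝐍 (A ⊔ oc X) := fun X hX hle => by
    have := IH X (by simpa using card_lt_of_lt (lt_top_iff_ne_top.2 hX)) _ (h.subgroupOf hle)
    have := le_normalizer_map_of_normal (A.subgroupOf X ⊔ oddCore X)
    rwa [Subgroup.map_sup, map_subgroupOf_of_le hle] at this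
  have odd0 : ∀ N : Subgroup G, N.Normal → Odd (Nat.card N) → N = ⊥ := fun N _ hN =>
    eq_bot_iff.2 (hO ▸ le_oddCore hN)
  have top : ∀ N : Subgroup G, N.Normal → A ≤ N → N = ⊤ := fun N _ hN => by
    by_contra e
    have := IHs N e hN
    rw [eq_bot_iff.2 (hO ▸ map_subtype_pPrimeCore_le N : oc N ≤ ⊥), sup_bot_eq] at this
    exact nn (normal_of_cj_le fun g x hx => h.sc hx (this (cj_normal g N ▸ cj_mono g hN hx)))
  have quo : ∀ (N : Subgroup G) [N.Normal], N ≠ ⊥ →
      A ⊔ (oddCore (G ⧸ N)).comap (QuotientGroup.mk' N) = ⊤ := fun N _ hN => by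
    have := IH (G ⧸ N) (by
      rw [N.card_eq_card_quotient_mul_card_subgroup]
      exact lt_mul_of_one_lt_right Nat.card_pos (N.one_lt_card_iff_ne_bot.2 hN)) _
      (h.map (QuotientGroup.mk'_surjective N))
    have e := top _ (this.comap (QuotientGroup.mk' N)) (map_le_iff_le_comap.1 le_sup_left)
    rw [← e, ← comap_sup_eq _ _ _ (QuotientGroup.mk'_surjective N), comap_map_eq, sup_assoc,
      sup_eq_right.2 (ker_le_comap _ _)]
  have cen : ∀ Z : Subgroup G, Z.Normal → IsPGroup 2 Z → A ≤ 𝐂 Z → Z = ⊥ := fun Z _ hZ hc => by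
    by_contra e
    have c := top _ inferInstance hc
    set M := (oddCore (G ⧸ Z)).comap (QuotientGroup.mk' Z) with hM
    have s : Syl 2 Z M := syl_of_not_dvd (fun x hx => by simp [hM, (QuotientGroup.eq_one_iff x).2 hx])
      hZ (by rw [hM, relIndex_comap_mk']; exact (odd_card_oddCore _).not_two_dvd_nat)
    have e1 := s.res_sup
    rw [odd0 _ (normal_of_top_le_normalizer (le_normalizer_of_normal'.trans (norm_le_norm_res M)))
      (Nat.coprime_two_right.1 (s.coprime_res (c ▸ le_top))), bot_sup_eq] at e1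
    have e2 := quo Z e
    rw [← hM, ← e1] at e2
    exact nn (normal_of_top_le_normalizer (h.le_norm
      (e2 ▸ isPGroup_sup_of_le_normalizer h.pg hZ le_normalizer_of_normal') le_top))
  have two0 : ∀ N : Subgroup G, N.Normal → IsPGroup 2 N → N = ⊥ := fun N _ hN => by
    have hn : N ≤ 𝐍 A := le_sup_right.trans
      (h.le_norm (isPGroup_sup_of_le_normalizer h.pg hN le_normalizer_of_normal') le_sup_left)
    have e := cen (N ⊓ A) (normal_of_cj_le fun g x hx => by
      rw [cj_inf, cj_normal] at hx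
      exact ⟨hx.1, h.sc hx.2 (hn hx.1)⟩) (hN.to_le inf_le_left)
      (h.cm.trans (centralizer_le inf_le_right))
    exact cen N inferInstance hN (comm_eq_bot_iff'.1
      (eq_bot_iff.2 (e ▸ comm_le_inf le_normalizer_of_normal' hn)))
  have irr : ∀ V, V ≤ A → 𝐍 A ≤ 𝐍 V → V ≠ ⊥ → V = A := fun V hV hn hne => by
    by_contra e
    exact hne (two0 V (IH' V (lt_of_le_of_ne hV e) (h.sub hV hn)) (h.pg.to_le hV))
  have ne : A ≠ ⊥ := fun e => nn (e ▸ inferInstance)
  have el : ∀ a ∈ A, a * a = 1 := fun a ha => by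
    rw [← pow_two]
    refine pow_eq_one_of_mem_om (isMulCommutative_iff_le_cent.2 h.cm) ?_
    rwa [irr _ (om_le A) (norm_le_norm_om A) (om_ne_bot h.pg ne)]
  have nc : ∀ a ∈ A, a ≠ 1 → a ∉ center G := fun a ha a1 e => a1 (zpowers_eq_bot.1 (two0 _
    (normal_of_top_le_normalizer fun g _ => cent_le_norm _ fun y hy =>
      (mem_center_iff.1 (zpowers_le.2 e hy) g).symm) (h.pg.to_le (zpowers_le.2 ha))))
  have mv : ∀ a ∈ A, a ≠ 1 → ∃ n ∈ 𝐍 A, n * a * n⁻¹ ≠ a := fun a ha a1 => by
    by_contra! e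
    have e1 := irr (zpowers a) (zpowers_le.2 ha) (fun n hn => cj_eq_self_iff.1 (by
      rw [cj_zpowers, e n hn])) (by simpa using a1)
    refine nc a ha a1 (Block.z_star_center hO ⟨Invol.two_of_mul_self (el a ha) a1, fun g hg => ?_⟩)
    have e2 := h.sc (conj_mem_cj g ha) (cj_eq_self_iff.1 (by
      rw [← e1, cj_zpowers, ← hg.eq, mul_inv_cancel_right]))
    rw [← e1] at e2
    obtain ⟨m, hm⟩ := (mem_powers_iff_mem_zpowers.2 e2 : _ ∈ Submonoid.powers _)
    simp only at hm
    rw [pow_eq_pow_mod m (show a ^ 2 = 1 by rw [pow_two]; exact el _ ha)] at hm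
    rcases Nat.mod_two_eq_zero_or_one m with e' | e' <;> rw [e'] at hm
    · exact absurd (conj_eq_one_iff.1 (hm.symm.trans (pow_zero a))) a1
    · rw [← hm, pow_one]
  obtain ⟨⟨a, ha⟩, a1⟩ := ne_bot_iff_exists_ne_one.1 ne
  replace a1 : a ≠ 1 := fun e => a1 (Subtype.ext e)
  refine MC.false (A := A) ⟨h, { exists_pair_ne := ⟨a, 1, a1⟩, eq_bot_or_eq_top_of_normal := ?_ }, el, ne,
    nn, mv, fun b hb b1 => IHs _ (fun e => nc b hb b1 (mem_center_iff.2 fun g =>
      mem_centralizer_singleton_iff.1 (e.ge (mem_top g)))) (h.le_cent hb)⟩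
  refine fun N _ => or_iff_not_imp_left.2 fun hN => top N inferInstance ?_
  have e := quo N hN
  set M := (oddCore (G ⧸ N)).comap (QuotientGroup.mk' N) with hM
  obtain ⟨n, hn, e1⟩ := mv a ha a1
  have e2 := irr (A ⊓ M) inf_le_left (le_normalizer_inf le_rfl le_normalizer_of_normal') fun e2 => by
    have : n * a * n⁻¹ * a⁻¹ ∈ A ⊓ M := mem_inf.2 ⟨mul_mem (conj_mem_of_mem_normalizer hn ha) (inv_mem ha), by
      obtain ⟨b, hb, m, hm, rfl⟩ := (mem_sup_of_le_normalizer le_normalizer_of_normal').1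
        (e.ge (mem_top n))
      rw [show b * m * a * (b * m)⁻¹ * a⁻¹ = b * (m * (a * m⁻¹ * a⁻¹)) * b⁻¹ * (b * a * (a * b)⁻¹) by group,
        h.cm ha b hb, mul_inv_cancel, mul_one]
      exact Normal.conj_mem inferInstance _ (mul_mem hm
        (Normal.conj_mem inferInstance _ (inv_mem hm) a)) b⟩
    exact e1 (mul_inv_eq_one.1 (e2.le this))
  intro b hb
  refine (QuotientGroup.eq_one_iff b).1 (eq_one_of_mem (odd_card_oddCore _) (e2.ge hb).2 ?_)
  rw [← QuotientGroup.mk_mul, el b hb, QuotientGroup.mk_one]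

theorem main_aux (n : ℕ) : ∀ (G : Type u) [Group G] [Finite G], Nat.card G = n →
    ∀ A : Subgroup G, NP A → (A ⊔ oddCore G).Normal := by
  induction n using Nat.strong_induction_on with
  | _ n IH =>
  intro G _ _ hG A h
  subst hG
  by_cases hO : oddCore G = ⊥
  · rw [hO, sup_bot_eq]
    induction A using WellFoundedLT.induction with
    | _ A IH' => exact step h hO (fun G' _ _ hlt => IH _ hlt G' rfl) IH'
  · have := IH _ (by
      rw [(oddCore G).card_eq_card_quotient_mul_card_subgroup]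
      exact lt_mul_of_one_lt_right Nat.card_pos ((oddCore G).one_lt_card_iff_ne_bot.2 hO)) _ rfl _
      (h.map (QuotientGroup.mk'_surjective (oddCore G)))
    rw [show oddCore (G ⧸ oddCore G) = ⊥ from pPrimeCore_quotient_pPrimeCore, sup_bot_eq] at this
    have := this.comap (QuotientGroup.mk' _)
    rwa [comap_map_eq, QuotientGroup.ker_mk'] at this

theorem NP.normal {G : Type*} [Group G] [Finite G] {A : Subgroup G} (h : NP A) :
    (A ⊔ oddCore G).Normal := main_aux _ G rfl A h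

theorem NP.sup_eq_top {G : Type*} [Group G] [Finite G] {A : Subgroup G} (h : NP A) :
    𝐍 A ⊔ oddCore G = ⊤ := eq_top_iff.2 fun g _ => by
  have := h.normal
  obtain ⟨n, hn, m, hm, rfl⟩ := (syl_sup h.pg le_normalizer_of_normal' (odd_card_oddCore G)).frattini_mem
    (le_normalizer_of_normal' (mem_top g))
  exact mul_mem (sup_le_sup_right le_normalizer _ hn) (mem_sup_left hm)

end Cfsg.Lib.Amalg.ExtCl
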