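import Cfsg.Agent.Lib.HH.Std
import Cfsg.Agent.Lib.Conj.Wt
import Cfsg.Agent.Lib.Hall.MinNormal

/-! Fixed spaces of elements of prime order `p ≥ 5` in solvable linear groups, part 1: counting lemmas. -/

set_option autoImplicit false
set_option linter.unusedSectionVars false

namespace Cfsg.Lib.Amalg.Fl
open Subgroup Module
open scoped commutatorElement

universe u v w

theorem exists_reps {Ω : Type*} [Fintype Ω] {p : ℕ} (hp : p.Prime) (π : Equiv.Perm Ω) (h : π ^ p = 1) :
    ∃ R : Finset Ω, (∀ ω, ∃ i : ℕ, ∃ r ∈ R, (π ^ i) r = ω) ∧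
      p * R.card ≤ Fintype.card Ω + (p - 1) * Nat.card {ω // π ω = ω} := by
  classical
  by_cases h1 : π = 1
  · subst h1
    refine ⟨Finset.univ, fun ω => ⟨0, ω, Finset.mem_univ _, rfl⟩, ?_⟩
    have e : Nat.card {ω // (1 : Equiv.Perm Ω) ω = ω} = Fintype.card Ω := by simp
    rw [e, Finset.card_univ]
    obtain ⟨k, rfl⟩ : ∃ k, p = k + 1 := ⟨p - 1, by have := hp.pos; omega⟩
    simp [add_mul, add_comm]
  haveI := Fact.mk hp
  have ho : orderOf π = p := orderOf_eq_prime h h1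
  have hc : Nat.card (zpowers π) = p := by rw [Nat.card_zpowers, ho]
  haveI : Fintype (MulAction.orbitRel.Quotient (zpowers π) Ω) := Fintype.ofFinite _
  have hb := MulAction.sum_card_fixedBy_eq_card_orbits_mul_card_group (zpowers π) Ω
  refine ⟨Finset.univ.image (fun c : MulAction.orbitRel.Quotient (zpowers π) Ω => c.out), fun ω => ?_, ?_⟩
  · have h2 : (MulAction.orbitRel (zpowers π) Ω) ω (Quotient.out (Quotient.mk _ ω : MulAction.orbitRel.Quotient (zpowers π) Ω)) :=
      Quotient.exact (Quotient.out_eq _).symm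
    obtain ⟨⟨a, ha⟩, h3⟩ := MulAction.orbitRel_apply.1 h2
    obtain ⟨i, rfl⟩ := (mem_powers_iff_mem_zpowers.2 ha)
    exact ⟨i, _, Finset.mem_image_of_mem _ (Finset.mem_univ _), h3⟩
  · have h2 : (Finset.univ.image (fun c : MulAction.orbitRel.Quotient (zpowers π) Ω => c.out)).card ≤
        Fintype.card (MulAction.orbitRel.Quotient (zpowers π) Ω) := Finset.card_image_le
    have h3 : Fintype.card (zpowers π) = p := by rw [← Nat.card_eq_fintype_card, hc]
    rw [h3, ← Finset.add_sum_erase _ _ (Finset.mem_univ (1 : zpowers π))] at hb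
    have h4 : Fintype.card (MulAction.fixedBy Ω (1 : zpowers π)) ≤ Fintype.card Ω := Fintype.card_subtype_le _
    have h5 : ∑ a ∈ Finset.univ.erase (1 : zpowers π), Fintype.card (MulAction.fixedBy Ω a) ≤
        (p - 1) * Nat.card {ω // π ω = ω} := by
      refine (Finset.sum_le_card_nsmul _ _ (Nat.card {ω // π ω = ω}) fun a ha => ?_).trans ?_
      · rw [← Nat.card_eq_fintype_card]
        have h6 : (⟨π, mem_zpowers π⟩ : zpowers π) ∈ zpowers a :=
          mem_zpowers_of_prime_card hc (Finset.ne_of_mem_erase ha)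
        refine Nat.card_le_card_of_injective (fun ω => ⟨ω.1, ?_⟩) fun a b e => Subtype.ext (by simpa using e)
        exact (zpowers_le (H := MulAction.stabilizer (zpowers π) ω.1)).2 ω.2 h6
      · rw [Finset.card_erase_of_mem (Finset.mem_univ _), Finset.card_univ, h3, smul_eq_mul]
    nlinarith

section Three
variable {G : Type*} [Group G] {p : ℕ}

theorem three_aux (hp : p.Prime) (hp2 : p ≠ 2) {L : Subgroup G} [L.Normal] (hc : ∀ a ∈ L, ∀ b ∈ L, a * b = b * a)
    {g l : G} (hg : g ^ p = 1) (hl : l ∈ L) (hn : ¬ Commute l g) :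
    ∃ x : Fin 3 → G, (∀ i, x i ∈ L) ∧ ∀ i j, x i * g * (x i)⁻¹ = x j * g * (x j)⁻¹ → i = j := by
  have key : ∀ a b : G, a * g * a⁻¹ = b * g * b⁻¹ → Commute (b⁻¹ * a) g := fun a b h => by
    change b⁻¹ * a * g = g * (b⁻¹ * a)
    calc b⁻¹ * a * g = b⁻¹ * (a * g * a⁻¹) * a := by group
      _ = _ := by rw [h]; group
  obtain ⟨m, hm, h1, h2⟩ : ∃ m ∈ L, ¬ Commute m g ∧ ¬ Commute (l⁻¹ * m) g := by
    by_cases h2 : Commute (l * l) g
    · refine ⟨g * l * g⁻¹, ‹L.Normal›.conj_mem _ hl g, fun h => hn ?_, fun h => hn ?_⟩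
      · change l * g = g * l
        calc l * g = g⁻¹ * (g * l * g⁻¹ * g) * g := by group
          _ = _ := by rw [h.eq]; group
      · set u := l⁻¹ * (g * l * g⁻¹) with hu
        have huL : u ∈ L := L.mul_mem (L.inv_mem hl) (‹L.Normal›.conj_mem _ hl g)
        have e : g * l * g⁻¹ = l * u := by rw [hu]; group
        have e2 : ∀ k : ℕ, g ^ k * l * (g ^ k)⁻¹ = l * u ^ k := fun k => by
          induction k with
          | zero => simp
          | succ k ih =>
            calc g ^ (k + 1) * l * (g ^ (k + 1))⁻¹ = g * (g ^ k * l * (g ^ k)⁻¹) * g⁻¹ := by rw [pow_succ']; group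
              _ = g * l * g⁻¹ * (g * u ^ k * g⁻¹) := by rw [ih]; group
              _ = _ := by rw [e, ← (h.pow_left k).eq, pow_succ']; group
        have e3 : u ^ p = 1 := by simpa [hg] using (e2 p).symm
        have e4 : u ^ 2 = 1 := by
          have : l * l = l * u * (l * u) := by
            rw [← e]
            calc l * l = g * (l * l) * g⁻¹ := by rw [← h2.eq]; group
              _ = _ := by group
          rw [mul_assoc l u, ← mul_assoc u, hc u huL l hl] at this
          have h5 := mul_left_cancel this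
          rw [mul_assoc] at h5
          rw [sq]; exact (left_eq_mul.1 h5)
        have e5 : u = 1 := by
          have := pow_gcd_eq_one.2 ⟨e3, e4⟩
          rwa [((Nat.coprime_primes hp Nat.prime_two).2 hp2).gcd_eq_one, pow_one] at this
        rw [e5, mul_one] at e
        change l * g = g * l
        calc l * g = g * l * g⁻¹ * g := by rw [e]
          _ = _ := by group
    · exact ⟨l * l, L.mul_mem hl hl, h2, by simpa using hn⟩
  refine ⟨![1, l, m], fun i => by fin_cases i <;> simp [hl, hm, L.one_mem], fun i j h => ?_⟩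
  have h3 := key _ _ h
  have h4 := key _ _ h.symm
  fin_cases i <;> fin_cases j
  all_goals first | rfl | exact absurd (by simpa using h3) hn | exact absurd (by simpa using h4) hn |
    exact absurd (by simpa using h3) h1 | exact absurd (by simpa using h4) h1 | exact absurd h3 h2 | exact absurd h4 h2

theorem three_fix [Finite G] [Group.IsSolvable G] (hp : p.Prime) (hp2 : p ≠ 2) {g : G} (hg : g ^ p = 1)
    (hn : normalClosure {g} = ⊤) {Ω : Type*} [Finite Ω] [Nontrivial Ω] [MulAction G Ω]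
    [MulAction.IsPretransitive G Ω] : 3 * Nat.card {ω : Ω // g • ω = ω} ≤ Nat.card Ω := by
  obtain ⟨ω₀, ω₁, hω⟩ := exists_pair_ne Ω
  obtain ⟨M, hM, hle⟩ : ∃ M : Subgroup G, IsCoatom M ∧ MulAction.stabilizer G ω₀ ≤ M := by
    refine (eq_top_or_exists_le_coatom _).resolve_left fun h => hω ?_
    obtain ⟨y, rfl⟩ := MulAction.exists_smul_eq G ω₀ ω₁
    exact (show y ∈ MulAction.stabilizer G ω₀ from h ▸ mem_top y).symm
  have hfix : ∀ (h : G) (ω : Ω), ∃ y : G, ∀ h : G, h • ω = ω → y⁻¹ * h * y ∈ M := fun h ω => by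
    obtain ⟨y, rfl⟩ := MulAction.exists_smul_eq G ω₀ ω
    refine ⟨y, fun h e => hle ?_⟩
    rw [MulAction.mem_stabilizer_iff, mul_smul, mul_smul, e, inv_smul_smul]
  by_cases hMn : M.Normal
  · have : IsEmpty {ω : Ω // g • ω = ω} := ⟨fun ω => by
      obtain ⟨y, hy⟩ := hfix g ω.1
      have h1 : g ∈ M := by simpa [mul_assoc] using hMn.conj_mem _ (hy g ω.2) y
      exact hM.1 (top_le_iff.1 (hn ▸ normalClosure_le_normal (by simpa using h1)))⟩
    simp
  obtain ⟨L, -, hL⟩ := exists_minimal_le_of_wellFoundedLT (fun L : Subgroup G => L.Normal ∧ ¬ L ≤ M) ⊤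
    ⟨inferInstance, fun h => hM.1 (top_le_iff.1 h)⟩
  haveI := hL.1.1
  have hlt := Group.IsSolvable.commutator_lt_of_ne_bot (show L ≠ ⊥ from fun h => hL.1.2 (h ▸ bot_le))
  have hLL : ⁅L, L⁆ ≤ M := by
    by_contra h
    exact hlt.not_ge (hL.2 ⟨inferInstance, h⟩ hlt.le)
  have hsup : L ⊔ M = ⊤ := hM.2 _ (right_lt_sup.2 hL.1.2)
  have hdec : ∀ y : G, ∃ l ∈ L, ∃ m ∈ M, l * m = y := fun y => by
    have : y ∈ L ⊔ M := hsup ▸ mem_top y
    rw [← SetLike.mem_coe, normal_mul] at this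
    exact this
  haveI hD : (L ⊓ M).Normal := ⟨fun d hd y => by
    obtain ⟨l, hl, m, hm, rfl⟩ := hdec y
    refine ⟨‹L.Normal›.conj_mem _ hd.1 _, ?_⟩
    have h1 : m * d * m⁻¹ ∈ L := ‹L.Normal›.conj_mem _ hd.1 _
    have e : l * m * d * (l * m)⁻¹ = ⁅l, m * d * m⁻¹⁆ * (m * d * m⁻¹) := by rw [commutatorElement_def]; group
    rw [e]
    exact M.mul_mem (hLL (commutator_mem_commutator hl h1)) (M.mul_mem (M.mul_mem hm hd.2) (M.inv_mem hm))⟩
  set f := QuotientGroup.mk' (L ⊓ M) with hf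
  have hfe : ∀ a, f a = 1 ↔ a ∈ L ⊓ M := fun a => QuotientGroup.eq_one_iff a
  haveI : (L.map f).Normal := ‹L.Normal›.map f (QuotientGroup.mk'_surjective _)
  obtain ⟨l, hl, hlg⟩ : ∃ l ∈ L, ¬ Commute (f l) (f g) := by
    by_contra h
    push Not at h
    have h1 : normalClosure {g} ≤ (centralizer (L.map f : Set _)).comap f := by
      refine normalClosure_le_normal ?_
      rintro _ rfl _ ⟨l, hl, rfl⟩
      exact (h l hl).eq
    refine hMn ⟨fun d hd y => ?_⟩
    obtain ⟨l, hl, m, hm, rfl⟩ := hdec y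
    have h2 : m * d * m⁻¹ ∈ M := M.mul_mem (M.mul_mem hm hd) (M.inv_mem hm)
    have e : l * m * d * (l * m)⁻¹ = ⁅l, m * d * m⁻¹⁆ * (m * d * m⁻¹) := by rw [commutatorElement_def]; group
    rw [e]
    refine M.mul_mem ((hfe _).1 ?_).2 h2
    rw [map_commutatorElement, commutatorElement_eq_one_iff_mul_comm]
    exact h1 (hn ▸ mem_top _) _ ⟨l, hl, rfl⟩
  obtain ⟨x, hx, hxi⟩ := three_aux (L := L.map f) hp hp2 (by
    rintro _ ⟨a, ha, rfl⟩ _ ⟨b, hb, rfl⟩
    rw [← commutatorElement_eq_one_iff_mul_comm, ← map_commutatorElement, hfe]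
    exact ⟨hlt.le (commutator_mem_commutator ha hb), hLL (commutator_mem_commutator ha hb)⟩)
    (g := f g) (by rw [← map_pow, hg, map_one]) ⟨l, hl, rfl⟩ hlg
  choose z hz hzx using hx
  have h3 : 3 * Nat.card {ω : Ω // g • ω = ω} = Nat.card (Fin 3 × {ω : Ω // g • ω = ω}) := by simp
  rw [h3]
  refine Nat.card_le_card_of_injective (fun t => z t.1 • t.2.1) ?_
  rintro ⟨i, a, ha⟩ ⟨j, b, hb⟩ e
  simp only at e
  obtain rfl : i = j := by
    obtain ⟨y, hy⟩ := hfix g (z i • a)
    have h4 := hy (z i * g * (z i)⁻¹) (by rw [mul_smul, mul_smul, inv_smul_smul, ha])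
    have h5 := hy (z j * g * (z j)⁻¹) (by rw [e, mul_smul, mul_smul, inv_smul_smul, hb])
    have h6 : (z j * g * (z j)⁻¹)⁻¹ * (z i * g * (z i)⁻¹) ∈ L := by
      have e2 : (z j * g * (z j)⁻¹)⁻¹ * (z i * g * (z i)⁻¹) =
        z j * (g⁻¹ * ((z j)⁻¹ * z i) * g⁻¹⁻¹) * (z i)⁻¹ := by group
      rw [e2]
      exact L.mul_mem (L.mul_mem (hz j) (‹L.Normal›.conj_mem _ (L.mul_mem (L.inv_mem (hz j)) (hz i)) _)) (L.inv_mem (hz i))
    have h7 := hD.conj_mem _ (show y⁻¹ * ((z j * g * (z j)⁻¹)⁻¹ * (z i * g * (z i)⁻¹)) * y ∈ L ⊓ M from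
      ⟨by simpa using ‹L.Normal›.conj_mem _ h6 y⁻¹, by
        have := M.mul_mem (M.inv_mem h5) h4
        rwa [show (y⁻¹ * (z j * g * (z j)⁻¹) * y)⁻¹ * (y⁻¹ * (z i * g * (z i)⁻¹) * y) =
          y⁻¹ * ((z j * g * (z j)⁻¹)⁻¹ * (z i * g * (z i)⁻¹)) * y by group] at this⟩) y
    apply hxi
    rw [← hzx i, ← hzx j, ← map_inv, ← map_inv, ← map_mul, ← map_mul, ← map_mul, ← map_mul, eq_comm, ← inv_mul_eq_one,
      ← map_inv, ← map_mul, hfe]
    convert h7 using 1; group
  rw [Prod.mk.injEq]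
  exact ⟨rfl, Subtype.ext (MulAction.injective _ e)⟩

end Three

section Lin
variable {K : Type u} [Field K] {V : Type v} [AddCommGroup V] [Module K V]

/-- dimension of the fixed space -/
noncomputable def fx (T : End K V) : ℕ := finrank K (LinearMap.ker (T - 1))

theorem finrank_biSup [FiniteDimensional K V] {ι : Type*} {U : ι → Submodule K V} (h : iSupIndep U) (S : Finset ι) :
    finrank K ↥(⨆ i ∈ S, U i) = ∑ i ∈ S, finrank K (U i) := by
  classical
  induction S using Finset.induction_on with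
  | empty => simp
  | insert a S ha ih =>
    rw [Finset.iSup_insert, Finset.sum_insert ha, ← ih]
    have h1 := Submodule.finrank_sup_add_finrank_inf_eq (U a) (⨆ i ∈ S, U i)
    have h2 : U a ⊓ (⨆ i ∈ S, U i) = ⊥ := disjoint_iff.1 (h.disjoint_biSup (y := (S : Set ι)) (by simpa using ha))
    rw [h2, finrank_bot] at h1
    exact h1

theorem biSup_inf {ι : Type*} [DecidableEq ι] {U : ι → Submodule K V} (h : iSupIndep U) (S T : Finset ι) :
    (⨆ i ∈ S, U i) ⊓ (⨆ i ∈ T, U i) ≤ ⨆ i ∈ S ∩ T, U i := by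
  have e : (⨆ i ∈ S, U i) = (⨆ i ∈ S ∩ T, U i) ⊔ ⨆ i ∈ S \ T, U i := by
    rw [← Finset.iSup_union, Finset.union_comm, Finset.sdiff_union_inter]
  have h1 : (⨆ i ∈ S ∩ T, U i) ≤ ⨆ i ∈ T, U i := biSup_mono fun i hi => (Finset.mem_inter.1 hi).2
  have h2 := h.disjoint_biSup_biSup (s := ((S \ T : Finset ι) : Set ι)) (t := (T : Set ι)) (by
    rw [Finset.disjoint_coe]; exact Finset.sdiff_disjoint)
  rw [e, sup_inf_assoc_of_le _ h1]
  exact sup_le le_rfl (le_trans (disjoint_iff.1 h2).le bot_le)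

variable {G : Type w} [Group G] {p : ℕ}

theorem imprim [Finite G] [Group.IsSolvable G] (hp : p.Prime) (hp5 : 5 ≤ p) {g : G} (hg : g ^ p = 1)
    (hn : normalClosure {g} = ⊤) {Ω : Type*} [Finite Ω] [Nontrivial Ω] [MulAction G Ω]
    [MulAction.IsPretransitive G Ω] [FiniteDimensional K V] [Nontrivial V] (ρ : G →* End K V)
    (U : Ω → Submodule K V) (hU : ∀ x ω, (U ω).map (ρ x) = U (x • ω)) (hi : iSupIndep U) (ht : ⨆ ω, U ω = ⊤) :
    2 * fx (ρ g) < finrank K V := by
  classical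
  haveI := Fintype.ofFinite Ω
  obtain ⟨ω₀⟩ : Nonempty Ω := inferInstance
  have hm : ∀ ω, finrank K (U ω) = finrank K (U ω₀) := fun ω => by
    obtain ⟨x, rfl⟩ := MulAction.exists_smul_eq G ω₀ ω
    rw [← hU]
    exact (LinearEquiv.finrank_eq (Submodule.equivMapOfInjective _ (HH.rep_injective ρ x) _)).symm
  have hB : ∀ S : Finset Ω, finrank K ↥(⨆ i ∈ S, U i) = S.card * finrank K (U ω₀) := fun S => by
    rw [finrank_biSup hi]; simp [hm]
  have hV : finrank K V = Fintype.card Ω * finrank K (U ω₀) := by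
    rw [← Finset.card_univ, ← hB, show (⨆ i ∈ (Finset.univ : Finset Ω), U i) = ⊤ by simpa using ht, finrank_top]
  have h3 := three_fix hp (by omega) hg hn (Ω := Ω)
  obtain ⟨R, hR, hc⟩ := exists_reps hp (MulAction.toPermHom G Ω g) (by rw [← map_pow, hg, map_one])
  have hd : LinearMap.ker (ρ g - 1) ⊓ (⨆ i ∈ Rᶜ, U i) = ⊥ := by
    rw [eq_bot_iff]
    rintro v ⟨hv, hv'⟩
    have hv1 : ρ g v = v := by simpa [sub_eq_zero] using hv
    obtain ⟨T, -, hT⟩ := exists_minimal_le_of_wellFoundedLT (fun T : Finset Ω => v ∈ ⨆ i ∈ T, U i) Rᶜ hv'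
    have h1 : T ⊆ Rᶜ := fun a ha =>
      (Finset.mem_inter.1 (hT.2 (biSup_inf hi T Rᶜ ⟨hT.1, hv'⟩) Finset.inter_subset_left ha)).2
    have h2 : v ∈ ⨆ i ∈ T.image (g • ·), U i := by
      have : (⨆ i ∈ T, U i).map (ρ g) ≤ ⨆ i ∈ T.image (g • ·), U i := by
        simp only [Submodule.map_iSup, hU]
        exact iSup₂_le fun i hi => le_iSup₂_of_le (g • i) (Finset.mem_image_of_mem _ hi) le_rfl
      exact this ⟨v, hT.1, hv1⟩
    have h4 : ∀ a, g • a ∈ T → a ∈ T := fun a ha => by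
      obtain ⟨b, hb, e⟩ := Finset.mem_image.1
        (Finset.mem_inter.1 (hT.2 (biSup_inf hi T _ ⟨hT.1, h2⟩) Finset.inter_subset_left ha)).2
      exact MulAction.injective g e ▸ hb
    have h5 : T = ∅ := by
      rw [Finset.eq_empty_iff_forall_notMem]
      intro a ha
      obtain ⟨i, r, hr, rfl⟩ := hR a
      refine Finset.mem_compl.1 (h1 ?_) hr
      induction i with
      | zero => exact ha
      | succ i ih => exact ih (h4 _ (by rw [pow_succ'] at ha; exact ha))
    simpa [h5] using hT.1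
  have h6 := Submodule.finrank_sup_add_finrank_inf_eq (LinearMap.ker (ρ g - 1)) (⨆ i ∈ Rᶜ, U i)
  have h7 := Submodule.finrank_le (LinearMap.ker (ρ g - 1) ⊔ ⨆ i ∈ Rᶜ, U i)
  rw [hd, finrank_bot, hB, Finset.card_compl] at h6
  have h8 : 0 < finrank K V := finrank_pos
  have h9 : R.card ≤ Fintype.card Ω := Finset.card_le_univ R
  rw [Nat.card_eq_fintype_card (α := Ω)] at h3
  change p * R.card ≤ Fintype.card Ω + (p - 1) * Nat.card {ω : Ω // g • ω = ω} at hc
  have h10 : 0 < Fintype.card Ω := Fintype.card_pos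
  unfold fx
  generalize Nat.card {ω : Ω // g • ω = ω} = f at *
  generalize finrank K (U ω₀) = m at *
  obtain ⟨s, hs⟩ : ∃ s, Fintype.card Ω = R.card + s := ⟨_, (Nat.add_sub_cancel' h9).symm⟩
  obtain ⟨k, rfl⟩ : ∃ k, p = k + 5 := ⟨p - 5, by omega⟩
  rw [hs] at h6 hV h3 hc h10
  rw [Nat.add_sub_cancel_left] at h6
  have h11 : R.card < s := by
    rw [show k + 5 - 1 = k + 4 by omega] at hc
    by_contra h
    nlinarith
  have h12 : 0 < m := by
    by_contra h
    rw [show m = 0 by omega] at hV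
    omega
  nlinarith

/-- quotient representation -/
def quo (ρ : G →* End K V) (U : Submodule K V) (hU : ∀ g, ∀ u ∈ U, ρ g u ∈ U) : G →* End K (V ⧸ U) where
  toFun g := U.mapQ U (ρ g) (hU g)
  map_one' := by ext x; simp
  map_mul' a b := by ext x; simp

theorem quo_mk (ρ : G →* End K V) (U : Submodule K V) (hU : ∀ g, ∀ u ∈ U, ρ g u ∈ U) (g : G) (v : V) :
    quo ρ U hU g (U.mkQ v) = U.mkQ (ρ g v) := rfl

theorem fx_le [FiniteDimensional K V] (ρ : G →* End K V) (U : Submodule K V) (hU : ∀ g, ∀ u ∈ U, ρ g u ∈ U) (g : G) :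
    fx (ρ g) ≤ fx (HH.sub ρ U hU g) + fx (quo ρ U hU g) := by
  set C := LinearMap.ker (ρ g - 1) with hC
  have h1 := LinearMap.finrank_range_add_finrank_ker (U.mkQ.domRestrict C)
  have h2 : LinearMap.range (U.mkQ.domRestrict C) ≤ LinearMap.ker (quo ρ U hU g - 1) := by
    rintro _ ⟨⟨v, hv⟩, rfl⟩
    have hv1 : ρ g v = v := by simpa [hC, sub_eq_zero] using hv
    simp [sub_eq_zero, quo, hv1]
  have h3 : (LinearMap.ker (U.mkQ.domRestrict C)).map C.subtype ≤ (LinearMap.ker (HH.sub ρ U hU g - 1)).map U.subtype := by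
    rintro _ ⟨⟨v, hv⟩, h, rfl⟩
    have hv1 : ρ g v = v := by simpa [hC, sub_eq_zero] using hv
    refine ⟨⟨v, by simpa using h⟩, ?_, rfl⟩
    simp only [SetLike.mem_coe, LinearMap.mem_ker, LinearMap.sub_apply, sub_eq_zero]
    exact Subtype.ext hv1
  have h4 := Submodule.finrank_mono h2
  have h5 := Submodule.finrank_mono h3
  rw [Submodule.finrank_map_subtype_eq, Submodule.finrank_map_subtype_eq] at h5
  unfold fx
  rw [← hC]
  omega

theorem of_irr (g : G) (P : ∀ (W : Type v) [AddCommGroup W] [Module K W], (G →* End K W) → Prop)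
    (hs : ∀ (W : Type v) [AddCommGroup W] [Module K W] (σ : G →* End K W) (U : Submodule K W)
      (hU : ∀ g, ∀ u ∈ U, σ g u ∈ U), P W σ → P U (HH.sub σ U hU) ∧ P (W ⧸ U) (quo σ U hU))
    (hi : ∀ (W : Type v) [AddCommGroup W] [Module K W] [FiniteDimensional K W] (σ : G →* End K W),
      P W σ → HH.Irr σ → 2 * fx (σ g) < finrank K W) (n : ℕ) :
    ∀ (W : Type v) [AddCommGroup W] [Module K W] [FiniteDimensional K W] [Nontrivial W] (σ : G →* End K W),
      finrank K W = n → P W σ → 2 * fx (σ g) < finrank K W := by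
  induction n using Nat.strong_induction_on with
  | _ n ih =>
    intro W _ _ _ _ σ hn hP
    by_cases h : HH.Irr σ
    · exact hi W σ hP h
    have : ∃ U : Submodule K W, (∀ g, ∀ u ∈ U, σ g u ∈ U) ∧ U ≠ ⊥ ∧ U ≠ ⊤ := by
      by_contra h1
      push Not at h1
      exact h ⟨inferInstance, fun U hU => or_iff_not_imp_left.2 (h1 U hU)⟩
    obtain ⟨U, hU, h0, h1⟩ := this
    haveI := Submodule.nontrivial_iff_ne_bot.2 h0
    haveI := Submodule.Quotient.nontrivial_iff.2 h1
    have h2 := U.finrank_quotient_add_finrank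
    have h3 : 0 < finrank K U := finrank_pos
    have h4 : 0 < finrank K (W ⧸ U) := finrank_pos
    have h5 := ih _ (by omega) U (HH.sub σ U hU) rfl (hs W σ U hU hP).1
    have h6 := ih _ (by omega) (W ⧸ U) (quo σ U hU) rfl (hs W σ U hU hP).2
    have h7 := fx_le σ U hU g
    omega

end Lin

end Cfsg.Lib.Amalg.Fl
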