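import Cfsg.Agent.Lib.Amalg.Fl1
import Cfsg.Agent.Lib.Block2.PMod

/-! Fixed spaces of elements of prime order `p ≥ 5` in solvable linear groups, part 2: the critical case. -/

set_option autoImplicit false
set_option linter.unusedSectionVars false

namespace Cfsg.Lib.Amalg.Fl
open Subgroup Module
open scoped commutatorElement

universe u v w

variable {K : Type u} [Field K] {p : ℕ}

section Crit
variable {Q Ω : Type*} [Group Q] [Group Ω] {φ : Q →* Ω} {lam : Q → K}

theorem tr_zero (hnd : ∀ x, φ x ≠ 1 → ∃ y : Q, φ ⁅y, x⁆ = 1 ∧ lam ⁅y, x⁆ ≠ 1)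
    {W : Type*} [AddCommGroup W] [Module K W] [FiniteDimensional K W] {σ : Q →* End K W}
    (hsc : ∀ z, φ z = 1 → σ z = lam z • 1) {x : Q} (hx : φ x ≠ 1) : LinearMap.trace K W (σ x) = 0 := by
  obtain ⟨y, h1, h2⟩ := hnd x hx
  have h3 := HH.ch_conj σ x y
  rw [show y * x * y⁻¹ = ⁅y, x⁆ * x by rw [commutatorElement_def]; group] at h3
  unfold HH.ch at h3
  rw [map_mul, hsc _ h1, smul_mul_assoc, one_mul, map_smul, smul_eq_mul] at h3
  by_contra h
  exact h2 (mul_right_cancel₀ h (h3.trans (one_mul _).symm))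

theorem crit [IsAlgClosed K] [Fintype Q] [Fintype Ω] (hp : p.Prime) (hφ : Function.Surjective φ)
    (hnd : ∀ x, φ x ≠ 1 → ∃ y : Q, φ ⁅y, x⁆ = 1 ∧ lam ⁅y, x⁆ ≠ 1) (β : MulAut Q) (π : Equiv.Perm Ω)
    (hπ : ∀ x, φ (β x) = π (φ x)) (hπp : π ^ p = 1) (hC : ∀ x, φ (β x * x⁻¹) = 1 → β x = x)
    (hnum : 4 * (Fintype.card Ω + (p - 1) * Nat.card {ω // π ω = ω}) ≤ p * Fintype.card Ω)
    (hQ : (Fintype.card Q : K) ≠ 0) {W : Type*} [AddCommGroup W] [Module K W] [FiniteDimensional K W] [Nontrivial W]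
    {σ : Q →* End K W} (hsc : ∀ z, φ z = 1 → σ z = lam z • 1) {Z Z' : End K W} (hZZ : Z * Z' = 1) (hZZ' : Z' * Z = 1)
    (hZ : ∀ x, Z * σ x = σ (β x) * Z)
    (hirr : ∀ U : Submodule K W, (∀ x, ∀ u ∈ U, σ x u ∈ U) → (∀ u ∈ U, Z u ∈ U) → U = ⊥ ∨ U = ⊤) :
    2 * fx Z < finrank K W := by
  classical
  have hσ : ∀ g, σ (β g) = Z * σ g * Z' := fun g => by rw [hZ, mul_assoc, hZZ, mul_one]
  have hI : HH.Irr σ := by
    obtain ⟨W₀, hW₀, -, hI₀⟩ := HH.exists_irr_le σ ⊤ top_ne_bot fun _ _ _ => trivial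
    set u := ∑ x, σ (β x * x⁻¹) with hu
    have hu0 : u ≠ 0 := by
      intro h0
      have h1 : ∑ x, HH.sub σ W₀ hW₀ (β x * x⁻¹) = 0 := by
        ext w
        have := LinearMap.congr_fun h0 (w : W)
        simpa [hu, LinearMap.sum_apply, HH.sub_apply] using this
      have h2 := congrArg (LinearMap.trace K W₀) h1
      rw [map_sum, map_zero, ← Finset.sum_filter_add_sum_filter_not Finset.univ (fun x => β x = x),
        Finset.sum_eq_zero (s := Finset.univ.filter fun x => ¬ β x = x) (fun x hx => tr_zero hnd (fun z hz => by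
          ext w; simp [HH.sub_apply, hsc z hz]) fun h => (Finset.mem_filter.1 hx).2 (hC x h)), add_zero,
        Finset.sum_congr rfl (g := fun _ => (finrank K W₀ : K)) (fun x hx => by
          rw [(Finset.mem_filter.1 hx).2, mul_inv_cancel, map_one, LinearMap.trace_one]),
        Finset.sum_const, nsmul_eq_mul] at h2
      refine mul_ne_zero (fun h3 => hQ ?_) (hI₀.finrank_ne_zero hQ) h2
      obtain ⟨k, hk⟩ := card_subgroup_dvd_card ((β : Q →* Q).eqLocus (MonoidHom.id Q))
      have h4 : Nat.card ((β : Q →* Q).eqLocus (MonoidHom.id Q)) = (Finset.univ.filter fun x => β x = x).card := by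
        rw [← Fintype.card_subtype, ← Nat.card_eq_fintype_card]; rfl
      rw [← Nat.card_eq_fintype_card, hk, h4, Nat.cast_mul, h3, zero_mul]
    have h1 : ∀ y, u * σ y = σ (β y) * u := fun y => by
      rw [hu, Finset.sum_mul, Finset.mul_sum, ← Equiv.sum_comp (Equiv.mulLeft y)]
      refine Finset.sum_congr rfl fun x _ => ?_
      rw [← map_mul, ← map_mul]
      congr 1
      simp [mul_assoc]
    have h2 : Z * u = u * Z := by
      rw [hu, Finset.sum_mul, Finset.mul_sum, ← Equiv.sum_comp β.toEquiv (fun x => σ (β x * x⁻¹) * Z)]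
      refine Finset.sum_congr rfl fun x _ => ?_
      rw [hZ]; simp
    have h3 : ∀ y, σ y * (Z' * u) = Z' * u * σ y := fun y => by
      rw [mul_assoc, h1, hσ]
      simp only [← mul_assoc, hZZ', one_mul]
    have h4 : Z * (Z' * u) = Z' * u * Z := by
      rw [mul_assoc, ← h2, ← mul_assoc, ← mul_assoc, hZZ, hZZ']
    obtain ⟨τ, hτ⟩ := Module.End.exists_eigenvalue (Z' * u)
    have h5 : (Z' * u).eigenspace τ = ⊤ := (hirr _ (fun y v hv => by
      rw [End.mem_eigenspace_iff] at hv ⊢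
      rw [← End.mul_apply, ← h3, End.mul_apply, hv, map_smul]) (fun v hv => by
      rw [End.mem_eigenspace_iff] at hv ⊢
      rw [← End.mul_apply, ← h4, End.mul_apply, hv, map_smul])).resolve_left hτ
    have h6 : ∀ v, u v = τ • Z v := fun v => by
      have : (Z' * u) v = τ • v := End.mem_eigenspace_iff.1 (h5 ▸ Submodule.mem_top)
      rw [← map_smul, ← this, ← End.mul_apply, ← mul_assoc, hZZ, one_mul]
    have h7 : τ ≠ 0 := fun h => hu0 (by ext v; simp [h6, h])
    refine ⟨inferInstance, fun U hU => hirr U hU fun v hv => ?_⟩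
    rw [← U.smul_mem_iff h7, ← h6, hu, LinearMap.sum_apply]
    exact U.sum_mem fun x _ => hU _ _ hv
  have hd := hI.finrank_ne_zero hQ
  choose a ha using hφ
  have hli : LinearIndependent K fun t => σ (a t) := by
    rw [Fintype.linearIndependent_iff]
    intro c hc s
    have h1 := congrArg (fun f => LinearMap.trace K W (f * σ (a s)⁻¹)) hc
    simp only [Finset.sum_mul, zero_mul, map_zero, map_sum, smul_mul_assoc, map_smul, ← map_mul] at h1
    rw [Finset.sum_eq_single s (fun t _ ht => by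
      rw [tr_zero hnd hsc (by rw [map_mul, map_inv, ha, ha, Ne, mul_inv_eq_one]; exact ht), smul_zero])
      (by simp), mul_inv_cancel, map_one, LinearMap.trace_one, smul_eq_mul] at h1
    exact (mul_eq_zero.1 h1).resolve_right hd
  have hb1 := hli.fintype_card_le_finrank
  rw [Module.finrank_linearMap] at hb1
  obtain ⟨R, hR, hc⟩ := exists_reps hp π hπp
  let Φ : HH.cent (Z - 1) →ₗ[K] (R → K) :=
    LinearMap.pi fun r => (LinearMap.trace K W ∘ₗ LinearMap.mulRight K (σ (a r)⁻¹)) ∘ₗ (HH.cent (Z - 1)).subtype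
  have hΦ : Function.Injective Φ := by
    rw [injective_iff_map_eq_zero]
    rintro ⟨f, hf⟩ h0
    have hf' : Z * f = f * Z := by
      rw [HH.mem_cent, sub_mul, mul_sub, one_mul, mul_one] at hf
      exact sub_left_injective hf
    have h1 : ∀ r ∈ R, ∀ (i : ℕ) (x : Q), φ x = (π ^ i) r → LinearMap.trace K W (f * σ x⁻¹) = 0 := by
      intro r hr i
      induction i with
      | zero =>
        intro x hx
        have h2 : LinearMap.trace K W (f * σ (a r)⁻¹) = 0 := congrFun h0 ⟨r, hr⟩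
        rw [show x⁻¹ = (a r)⁻¹ * (a r * x⁻¹) by group, map_mul σ, hsc (a r * x⁻¹) (by simp [ha, hx]), mul_smul_comm,
          mul_smul_comm, mul_one, map_smul, h2, smul_zero]
      | succ i ih =>
        intro x hx
        obtain ⟨y, rfl⟩ := β.surjective x
        rw [hπ, pow_succ', Equiv.Perm.mul_apply] at hx
        rw [← map_inv, hσ, ← mul_assoc, ← mul_assoc, ← hf', LinearMap.trace_mul_comm, ← mul_assoc, ← mul_assoc, hZZ',
          one_mul]
        exact ih y (π.injective hx)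
    have h2 : HH.four σ σ f = 0 := Finset.sum_eq_zero fun x _ => by
      obtain ⟨i, r, hr, e⟩ := hR (φ x)
      rw [h1 r hr i x e.symm, zero_smul]
    have h3 := hI.four_self f
    rw [h2, smul_zero] at h3
    exact Subtype.ext ((smul_eq_zero.1 h3.symm).resolve_left hQ)
  have hb2 := LinearMap.finrank_le_finrank_of_injective hΦ
  rw [Module.finrank_fintype_fun_eq_card, Fintype.card_coe] at hb2
  have hb3 : 4 * R.card ≤ Fintype.card Ω := Nat.le_of_mul_le_mul_left (by nlinarith) hp.pos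
  have hb4 := HH.finrank_cent_ge (Z - 1)
  have hb5 : 0 < finrank K W := finrank_pos
  unfold fx
  by_cases h : LinearMap.range (Z - 1) = ⊥
  · rw [LinearMap.ker_eq_top.2 (LinearMap.range_eq_bot.1 h), finrank_top] at hb4
    nlinarith
  · haveI := Submodule.nontrivial_iff_ne_bot.2 h
    have hb6 : 0 < finrank K (HH.cent ((Z - 1).restrict (p := LinearMap.range (Z - 1)) (q := LinearMap.range (Z - 1))
        (fun x _ => LinearMap.mem_range_self (Z - 1) x))) := by
      refine Nat.pos_of_ne_zero fun h0 => ?_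
      rw [Submodule.finrank_eq_zero, Submodule.eq_bot_iff] at h0
      exact one_ne_zero (h0 1 (HH.mem_cent.2 (by simp)))
    by_contra h1
    nlinarith

end Crit

theorem num {q a b : ℕ} (hp : p.Prime) (hp5 : 5 ≤ p) (hq : q.Prime) (ha : 2 ≤ a) (h : (q ^ b) ^ 2 < q ^ a)
    (hm : q ^ a ≡ q ^ b [MOD p]) : 4 * (q ^ a + (p - 1) * q ^ b) ≤ p * q ^ a := by
  rw [← pow_mul, Nat.pow_lt_pow_iff_right hq.one_lt] at h
  obtain ⟨k, rfl⟩ : ∃ k, a = b + (k + 2) := ⟨a - b - 2, by omega⟩
  have h0 : 0 < q ^ b := pow_pos hq.pos _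
  have h1 : 4 * (p - 1) ≤ (p - 4) * q ^ (k + 2) := by
    have h4 : q ^ 2 ≤ q ^ (k + 2) := Nat.pow_le_pow_right hq.pos (by omega)
    have h2 : p ∣ q ^ b * (q ^ (k + 2) - 1) := by
      rw [Nat.mul_sub, mul_one, ← pow_add]
      exact (Nat.modEq_iff_dvd' (Nat.pow_le_pow_right hq.pos (by omega))).1 hm.symm
    obtain ⟨s, rfl⟩ : ∃ s, p = s + 5 := ⟨p - 5, by omega⟩
    rw [show s + 5 - 1 = s + 4 by omega, show s + 5 - 4 = s + 1 by omega]
    rcases (Nat.Prime.dvd_mul hp).1 h2 with h3 | h3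
    · obtain rfl := (Nat.prime_dvd_prime_iff_eq hp hq).1 (hp.dvd_of_dvd_pow h3)
      nlinarith
    · have h5 := hq.two_le
      have h6 : s + 5 ≤ q ^ (k + 2) - 1 := Nat.le_of_dvd (by nlinarith [Nat.sub_add_cancel (show 1 ≤ q ^ (k + 2) by nlinarith)]) h3
      rcases Nat.lt_or_ge s 2 with h7 | h7
      · interval_cases s
        · by_contra h8
          have h9 : q ^ (k + 2) = 6 ∨ q ^ (k + 2) = 11 := by omega
          have h10 : q * q ∣ q ^ (k + 2) := ⟨q ^ k, by ring⟩
          have h11 : q < 4 := by nlinarith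
          rcases h9 with h9 | h9 <;> rw [h9] at h10 <;> interval_cases q <;> omega
        · exact absurd hp (by norm_num)
      · have : s + 6 ≤ q ^ (k + 2) := by omega
        nlinarith
  obtain ⟨s, rfl⟩ : ∃ s, p = s + 5 := ⟨p - 5, by omega⟩
  rw [show s + 5 - 1 = s + 4 by omega, show s + 5 - 4 = s + 1 by omega] at *
  rw [pow_add]
  nlinarith [Nat.mul_le_mul_left (q ^ b) h1]

variable {G : Type w} [Group G] {V : Type v} [AddCommGroup V] [Module K V]

theorem triv_of_fix {ρ : G →* End K V} (hi : HH.Irr ρ) {N : Subgroup G} [hN : N.Normal] {v : V} (hv : v ≠ 0)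
    (h : ∀ x ∈ N, ρ x v = v) : ∀ x ∈ N, ρ x = 1 := by
  have h1 := (hi.2 (⨅ x : N, LinearMap.ker (ρ x - 1)) fun g u hu => ?_).resolve_left fun h0 => hv ?_
  · intro x hx
    ext w
    have : w ∈ ⨅ x : N, LinearMap.ker (ρ x - 1) := h1 ▸ Submodule.mem_top
    simpa [sub_eq_zero] using (Submodule.mem_iInf _).1 this ⟨x, hx⟩
  · simp only [Submodule.mem_iInf, LinearMap.mem_ker, LinearMap.sub_apply, End.one_apply, sub_eq_zero] at hu ⊢
    intro x
    conv_rhs => rw [← hu ⟨g⁻¹ * x * g⁻¹⁻¹, hN.conj_mem _ x.2 _⟩]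
    rw [HH.rep_mul_apply, HH.rep_mul_apply]
    congr 2
    group
  · rw [← Submodule.mem_bot K, ← h0, Submodule.mem_iInf]
    intro x
    simpa [sub_eq_zero] using h x x.2

theorem card_ne_zero [Finite G] {ρ : G →* End K V} (hi : HH.Irr ρ) (hf : Function.Injective ρ) (N : Subgroup G)
    [N.Normal] [Group.IsNilpotent N] : (Nat.card N : K) ≠ 0 := by
  intro h
  haveI := hi.1
  have h1 : ringChar K ∣ Nat.card N := (ringChar.spec K _).1 h
  haveI : Fact (ringChar K).Prime := ⟨(CharP.char_is_prime_or_zero K _).resolve_right fun h0 => by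
    rw [h0, zero_dvd_iff] at h1; exact Nat.card_pos.ne' h1⟩
  obtain ⟨P⟩ : Nonempty (Sylow (ringChar K) N) := inferInstance
  haveI : (P : Subgroup N).Characteristic := P.characteristic_of_normal inferInstance
  obtain ⟨v, hv, h2⟩ := Block2.exists_fixed_ne_zero P.isPGroup' ((ρ.comp N.subtype).comp (P : Subgroup N).subtype)
  have h3 := triv_of_fix hi (N := (P : Subgroup N).map N.subtype) hv (by
    rintro _ ⟨x, hx, rfl⟩; exact h2 ⟨x, hx⟩)
  refine P.ne_bot_of_dvd_card h1 (eq_bot_iff.2 fun x hx => Subtype.ext (hf ?_))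
  simpa using h3 _ ⟨x, hx, rfl⟩

end Cfsg.Lib.Amalg.Fl
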