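import Cfsg.Agent.Lib.Amalg.Fl2

/-! Fixed spaces of elements of prime order `p ≥ 5` in solvable linear groups, part 3: Flavell's bound. -/

set_option autoImplicit false
set_option linter.unusedSectionVars false

namespace Cfsg.Lib.Amalg.Fl
open Subgroup Module
open scoped commutatorElement

universe u v w

variable {K : Type u} [Field K] {p : ℕ} {G : Type w} [Group G] {V : Type v} [AddCommGroup V] [Module K V]

/-- group form of the bound -/
def GF (p : ℕ) (G : Type*) [Group G] : Prop :=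
  ∀ g : G, g ^ p = 1 → normalClosure {g} = ⊤ → ∀ N : Subgroup G, N.Normal →
    (∀ M : Subgroup G, M.Normal → M ≤ N → M = ⊥ ∨ M = N) → ¬ N ≤ center G →
    Nat.card ↥(N ⊓ centralizer {g}) ^ 2 < Nat.card N

theorem normal_of_le_center {H : Subgroup G} (h : H ≤ center G) : H.Normal :=
  ⟨fun x hx y => by rw [mem_center_iff.1 (h hx) y]; simpa using hx⟩

theorem step_ab [IsAlgClosed K] [Finite G] [Group.IsSolvable G] (hp : p.Prime) (hp5 : 5 ≤ p) {g : G} (hg : g ^ p = 1)
    (hn : normalClosure {g} = ⊤) [FiniteDimensional K V] {ρ : G →* End K V} (hi : HH.Irr ρ)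
    (hf : Function.Injective ρ) {A : Subgroup G} [hA : A.Normal] (hc : ∀ a ∈ A, ∀ b ∈ A, a * b = b * a)
    (hz : ¬ A ≤ center G) : 2 * fx (ρ g) < finrank K V := by
  haveI := hi.1
  haveI : Group.IsNilpotent A := ⟨1, eq_top_iff.2 fun a _ => by
    rw [Subgroup.upperCentralSeries_one, mem_center_iff]
    exact fun b => Subtype.ext (hc _ b.2 _ a.2)⟩
  have h1 := Conj.iSup_wt (fun a : A => ρ a) (fun a b => by
    change ρ a * ρ b = ρ b * ρ a
    rw [← map_mul, hc _ a.2 _ b.2, map_mul]) (card_ne_zero hi hf A) (fun a => by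
      rw [← map_pow, ← Subgroup.coe_pow, pow_card_eq_one', Subgroup.coe_one, map_one])
  obtain ⟨χ, hχ⟩ : ∃ χ, Conj.wt (fun a : A => ρ a) χ ≠ ⊥ := by
    by_contra h
    push Not at h
    simp [h] at h1
  letI : MulAction G (Submodule K V) :=
    { smul := fun x U => U.map (ρ x)
      one_smul := fun U => by change U.map (ρ 1) = U; rw [map_one, End.one_eq_id, Submodule.map_id]
      mul_smul := fun a b U => by
        change U.map (ρ (a * b)) = (U.map (ρ b)).map (ρ a)
        rw [map_mul, End.mul_eq_comp, Submodule.map_comp] }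
  have hs : ∀ (x : G) (U : Submodule K V), x • U = U.map (ρ x) := fun _ _ => rfl
  set W := Conj.wt (fun a : A => ρ a) χ with hW
  haveI : Finite (MulAction.orbit G W) := (Set.finite_range _).to_subtype
  haveI : Nontrivial (MulAction.orbit G W) := by
    by_contra h
    rw [not_nontrivial_iff_subsingleton] at h
    have h2 : W = ⊤ := (hi.2 W fun x u hu => by
      have : x • W = W := congrArg Subtype.val (h.elim ⟨_, MulAction.mem_orbit W x⟩ ⟨_, MulAction.mem_orbit_self W⟩)
      exact this ▸ ⟨u, hu, rfl⟩).resolve_left hχ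
    refine hz fun a ha => mem_center_iff.2 fun x => hf ?_
    have h3 : ∀ v, ρ a v = χ ⟨a, ha⟩ • v := fun v => Conj.mem_wt.1 (show v ∈ W from h2 ▸ trivial) ⟨a, ha⟩
    ext v
    simp [h3]
  have h2 : ∀ ω : MulAction.orbit G W, ∃ ψ, ω.1 = Conj.wt (fun a : A => ρ a) ψ := by
    rintro ⟨_, x, rfl⟩
    refine ⟨fun a => χ ⟨x⁻¹ * a * x⁻¹⁻¹, hA.conj_mem _ a.2 _⟩, ?_⟩
    ext v
    simp only [hs, hW, Submodule.mem_map, Conj.mem_wt]
    constructor
    · rintro ⟨y, hy, rfl⟩ a
      rw [← map_smul, ← hy, HH.rep_mul_apply, HH.rep_mul_apply]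
      congr 2
      group
    · intro h
      refine ⟨ρ x⁻¹ v, fun a => ?_, HH.rep_apply_inv ρ x v⟩
      have := h ⟨x * a * x⁻¹, hA.conj_mem _ a.2 _⟩
      simp only [inv_inv, mul_assoc, inv_mul_cancel_left, inv_mul_cancel, mul_one] at this
      rw [← map_smul, ← this, HH.rep_mul_apply, HH.rep_mul_apply, inv_mul_cancel_left]
  choose ψ hψ using h2
  refine imprim hp hp5 hg hn ρ (Subtype.val : MulAction.orbit G W → _) (fun _ _ => rfl) ?_ ?_
  · rw [show (Subtype.val : MulAction.orbit G W → _) = Conj.wt (fun a : A => ρ a) ∘ ψ from funext hψ]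
    exact (Conj.wt_indep _).comp fun a b h => Subtype.ext (by rw [hψ, hψ, h])
  · refine (hi.2 _ fun x u hu => ?_).resolve_left fun h => hχ (eq_bot_iff.2 (h ▸ le_iSup_of_le ⟨W, MulAction.mem_orbit_self W⟩ le_rfl))
    have : (⨆ ω : MulAction.orbit G W, ω.1).map (ρ x) ≤ ⨆ ω : MulAction.orbit G W, ω.1 := by
      rw [Submodule.map_iSup]
      exact iSup_le fun ω => le_iSup_of_le (x • ω) le_rfl
    exact this ⟨u, hu, rfl⟩

theorem step_sc (hp : p.Prime) (hp5 : 5 ≤ p) {g x : G} (hg : g ^ p = 1) [FiniteDimensional K V] [Nontrivial V]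
    {ρ : G →* End K V} {c : K} (hc : c ≠ 1) (h : ρ ⁅g, x⁆ = c • 1) : 2 * fx (ρ g) < finrank K V := by
  haveI := Fact.mk hp
  have h1 : ∀ v, ρ g (ρ x v) = c • ρ x (ρ g v) := fun v => by
    rw [HH.rep_mul_apply, HH.rep_mul_apply, show g * x = ⁅g, x⁆ * (x * g) by rw [commutatorElement_def]; group, map_mul, h]
    simp
  have h2 : ∀ (i : ℕ) v, ρ (g ^ i) (ρ x v) = c ^ i • ρ x (ρ (g ^ i) v) := fun i v => by
    induction i with
    | zero => simp
    | succ i ih => rw [pow_succ', ← HH.rep_mul_apply, ih, map_smul, h1, HH.rep_mul_apply ρ g, smul_smul, pow_succ]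
  have h3 : c ^ p = 1 := by
    obtain ⟨v, hv⟩ := exists_ne (0 : V)
    have := h2 p v
    rw [hg, map_one, End.one_apply, End.one_apply] at this
    by_contra h4
    have h5 : (c ^ p - 1) • ρ x v = 0 := by rw [sub_smul, ← this, one_smul, sub_self]
    exact hv (HH.rep_injective ρ x (((smul_eq_zero.1 h5).resolve_left (sub_ne_zero.2 h4)).trans (map_zero _).symm))
  have h4 := orderOf_eq_prime h3 hc
  have h5 := Conj.card_mul_le_of_wt (fun _ : Unit => ρ g) (J := Fin 3) (c := fun j _ => c ^ (j : ℕ)) (fun i j e =>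
    Fin.ext (pow_injOn_Iio_orderOf (x := c) (by simp; omega) (by simp; omega) (congrFun e ()))) (d := fx (ρ g)) fun j => by
      unfold fx
      rw [LinearEquiv.finrank_eq (Submodule.equivMapOfInjective _ (HH.rep_injective ρ (x ^ (j : ℕ))) _)]
      refine Submodule.finrank_mono ?_
      rintro _ ⟨v, hv, rfl⟩
      have hv1 : ρ g v = v := by simpa [sub_eq_zero] using hv
      rw [Conj.mem_wt]
      intro _
      generalize (j : ℕ) = i
      induction i with
      | zero => simpa using hv1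
      | succ i ih => rw [pow_succ', ← HH.rep_mul_apply, h1, ih, map_smul, smul_smul, pow_succ']
  have h6 : 0 < finrank K V := finrank_pos
  rw [Nat.card_eq_fintype_card, Fintype.card_fin] at h5
  omega

theorem step_f [IsAlgClosed K] [Finite G] [Group.IsSolvable G] (hp : p.Prime) (hp5 : 5 ≤ p)
    (ih : ∀ (H : Type w) [Group H] [Finite H] [Group.IsSolvable H], Nat.card H < Nat.card G → GF p H)
    {g : G} (hg : g ^ p = 1) (hg1 : g ≠ 1) (hn : normalClosure {g} = ⊤) [FiniteDimensional K V] {ρ : G →* End K V}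
    (hi : HH.Irr ρ) (hf : Function.Injective ρ) : 2 * fx (ρ g) < finrank K V := by
  classical
  haveI := hi.1
  haveI := Fact.mk hp
  by_cases hA : ∀ A : Subgroup G, A.Normal → (∀ a ∈ A, ∀ b ∈ A, a * b = b * a) → A ≤ center G
  swap
  · push Not at hA
    obtain ⟨A, h1, h2, h3⟩ := hA
    exact step_ab hp hp5 hg hn hi hf h2 h3
  by_cases hz : g ∈ center G
  · have h1 : LinearMap.ker (ρ g - 1) = ⊥ := by
      rw [eq_bot_iff]
      intro v hv
      by_contra h0
      have hv1 : ρ g v = v := by simpa [sub_eq_zero] using hv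
      haveI : (zpowers g).Normal := normal_of_le_center (zpowers_le.2 hz)
      refine hg1 (hf ((triv_of_fix hi (N := zpowers g) h0 ?_ g (mem_zpowers g)).trans (map_one ρ).symm))
      exact (zpowers_le (H := (MulAction.stabilizer (End K V)ˣ v).comap ρ.toHomUnits)).2 hv1
    rw [fx, h1, finrank_bot]
    exact finrank_pos
  obtain ⟨N, -, hN⟩ := exists_minimal_le_of_wellFoundedLT (fun N : Subgroup G => N.Normal ∧ ¬ N ≤ center G) ⊤
    ⟨inferInstance, fun h => hz (h trivial)⟩
  haveI := hN.1.1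
  have hlt := Group.IsSolvable.commutator_lt_of_ne_bot (show N ≠ ⊥ from fun h => hN.1.2 (h ▸ bot_le))
  have hNN : ⁅N, N⁆ ≤ center G := by
    by_contra h
    exact hlt.not_ge (hN.2 ⟨inferInstance, h⟩ hlt.le)
  have hna : ¬ ∀ a ∈ N, ∀ b ∈ N, a * b = b * a := fun h => hN.1.2 (hA N inferInstance h)
  set f := QuotientGroup.mk' (N ⊓ center G) with hf'
  have hfs : Function.Surjective f := QuotientGroup.mk'_surjective _
  haveI hN₁ : (N.map f).Normal := ‹N.Normal›.map f hfs
  set φ := f.subgroupMap N with hφ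
  have hφ1 : ∀ x : N, φ x = 1 ↔ (x : G) ∈ center G := fun x => by
    rw [Subtype.ext_iff]
    exact (QuotientGroup.eq_one_iff (x : G)).trans ⟨fun h => h.2, fun h => ⟨x.2, h⟩⟩
  have hmin : ∀ M : Subgroup (G ⧸ N ⊓ center G), M.Normal → M ≤ N.map f → M = ⊥ ∨ M = N.map f := fun M hM hle => by
    by_cases h : M.comap f ⊓ N ≤ center G
    · left
      rw [eq_bot_iff]
      intro y hy
      obtain ⟨x, hx, rfl⟩ := hle hy
      exact (QuotientGroup.eq_one_iff x).2 ⟨hx, h ⟨hy, hx⟩⟩
    · exact Or.inr (hle.antisymm (map_le_iff_le_comap.2 ((hN.2 ⟨inferInstance, h⟩ inf_le_right).trans inf_le_left)))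
  have hnc : ¬ IsCyclic (N.map f) := fun h => hna fun a ha b hb => congrArg Subtype.val
    (commutative_of_cyclic_center_quotient φ (fun x hx => mem_center_iff.2 fun y => Subtype.ext
      (mem_center_iff.1 ((hφ1 x).1 hx) y)) ⟨a, ha⟩ ⟨b, hb⟩)
  have hne : N.map f ≠ ⊥ := fun h => hnc (h ▸ inferInstance)
  obtain ⟨-, q, hq, hqe⟩ := Hall.minNormal_elementary hne hmin
  haveI := Fact.mk hq
  have hqp : IsPGroup q (N.map f) := Hall.isPGroup_of_pow_eq_one hqe
  have hnz : ¬ N.map f ≤ center _ := fun h => by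
    obtain ⟨⟨x, hx⟩, hx1⟩ := ne_bot_iff_exists_ne_one.1 hne
    rcases hmin (zpowers x) (normal_of_le_center (zpowers_le.2 (h hx))) (zpowers_le.2 hx) with h1 | h1
    · exact hx1 (Subtype.ext (zpowers_eq_bot.1 h1))
    · exact hnc (h1 ▸ inferInstance)
  have hZ : N ⊓ center G ≠ ⊥ := fun h => hna fun a ha b hb => by
    have : ⁅a, b⁆ ∈ N ⊓ center G := ⟨hlt.le (commutator_mem_commutator ha hb), hNN (commutator_mem_commutator ha hb)⟩
    rwa [h, mem_bot, commutatorElement_eq_one_iff_mul_comm] at this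
  have hgf := ih (G ⧸ N ⊓ center G) (by
    have h1 := (N ⊓ center G).index_mul_card
    have h2 := (one_lt_card_iff_ne_bot _).2 hZ
    have h3 : 0 < (N ⊓ center G).index := Nat.pos_of_ne_zero index_ne_zero_of_finite
    change (N ⊓ center G).index < _
    nlinarith) (f g) (by rw [← map_pow, hg, map_one])
    (by rw [← Set.image_singleton, ← map_normalClosure _ f hfs, hn, map_top_of_surjective f hfs]) _ hN₁ hmin hnz
  have hsc : ∀ z : N, ∃ c : K, φ z = 1 → ρ z = c • 1 := fun z => by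
    by_cases h : φ z = 1
    · obtain ⟨c, hc⟩ := hi.scalar_of_center ((hφ1 z).1 h)
      exact ⟨c, fun _ => hc⟩
    · exact ⟨0, fun h1 => absurd h1 h⟩
  choose lam hlam using hsc
  have hl1 : ∀ z : N, φ z = 1 → lam z = 1 → z = 1 := fun z h1 h2 => Subtype.ext (hf (by
    rw [hlam z h1, h2, one_smul, Subgroup.coe_one, map_one]))
  have hnd : ∀ x : N, φ x ≠ 1 → ∃ y : N, φ ⁅y, x⁆ = 1 ∧ lam ⁅y, x⁆ ≠ 1 := fun x hx => by
    by_contra h
    push Not at h
    refine hx ((hφ1 x).2 (hA (N ⊓ centralizer N) inferInstance (fun a ha b hb => hb.2 a ha.1) ⟨x.2, fun y hy => ?_⟩))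
    have h1 : φ ⁅(⟨y, hy⟩ : N), x⁆ = 1 := (hφ1 _).2 (hNN (commutator_mem_commutator hy x.2))
    exact congrArg Subtype.val (commutatorElement_eq_one_iff_mul_comm.1 (hl1 _ h1 (h _ h1)))
  by_cases hC : ∀ x : N, φ (MulAut.conjNormal g x * x⁻¹) = 1 → MulAut.conjNormal g x = x
  swap
  · push Not at hC
    obtain ⟨x, h1, h2⟩ := hC
    have h3 := hlam _ h1
    rw [show ((MulAut.conjNormal g x * x⁻¹ : N) : G) = ⁅g, (x : G)⁆ from rfl] at h3
    exact step_sc hp hp5 hg (fun h => h2 (mul_inv_eq_one.1 (hl1 _ h1 h))) h3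
  haveI : Group.IsNilpotent N := ⟨2, eq_top_iff.2 fun a _ => Subgroup.mem_upperCentralSeries_succ_iff.2 fun b => by
    rw [Subgroup.upperCentralSeries_one, mem_center_iff]
    exact fun c => Subtype.ext (mem_center_iff.1 (hNN (commutator_mem_commutator a.2 b.2)) c)⟩
  haveI := Fintype.ofFinite N
  haveI := Fintype.ofFinite (N.map f)
  set π : Equiv.Perm (N.map f) := (MulAut.conjNormal (f g) : MulAut (N.map f)).toEquiv with hπ
  have hπp : π ^ p = 1 := by
    have := map_pow ((MulAut.toPerm (N.map f)).comp MulAut.conjNormal) (f g) p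
    rw [← map_pow, hg, map_one, map_one] at this
    exact this.symm
  have hfix : Nat.card {ω // π ω = ω} = Nat.card ↥(N.map f ⊓ centralizer {f g}) :=
    Nat.card_congr ⟨fun ω => ⟨ω.1.1, ω.1.2, by
        have : f g * ω.1.1 * (f g)⁻¹ = ω.1.1 := congrArg Subtype.val ω.2
        exact mem_centralizer_singleton_iff.2 (mul_inv_eq_iff_eq_mul.1 this).symm⟩,
      fun y => ⟨⟨y.1, y.2.1⟩, Subtype.ext (mul_inv_eq_iff_eq_mul.2 (mem_centralizer_singleton_iff.1 y.2.2).symm)⟩,
      fun _ => rfl, fun _ => rfl⟩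
  have hnum : 4 * (Fintype.card (N.map f) + (p - 1) * Nat.card {ω // π ω = ω}) ≤ p * Fintype.card (N.map f) := by
    obtain ⟨a, ha⟩ := IsPGroup.iff_card.1 hqp
    obtain ⟨b, hb⟩ := IsPGroup.iff_card.1 (hqp.to_le (inf_le_left (b := centralizer {f g})))
    have h1 := Equiv.Perm.card_fixedPoints_modEq (f := (π : N.map f → N.map f)) (p := p) (n := 1) (by
      rw [pow_one]; exact (Equiv.Perm.coe_pow π p).symm.trans (congrArg DFunLike.coe hπp))
    rw [← Nat.card_eq_fintype_card, ← Nat.card_eq_fintype_card] at h1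
    change _ ≡ Nat.card {ω // π ω = ω} [MOD p] at h1
    rw [← Nat.card_eq_fintype_card]
    rw [hfix, ha, hb] at h1 ⊢
    rw [ha, hb] at hgf
    refine num hp hp5 hq ?_ hgf h1
    by_contra h2
    apply hnc
    interval_cases a
    · exact absurd (card_eq_one.1 (by simpa using ha)) hne
    · exact isCyclic_of_prime_card (by simpa using ha)
  have hQ : (Fintype.card N : K) ≠ 0 := by rw [← Nat.card_eq_fintype_card]; exact card_ne_zero hi hf N
  let ι : N →* ↥(N ⊔ zpowers g) := inclusion le_sup_left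
  let g' : ↥(N ⊔ zpowers g) := ⟨g, mem_sup_right (mem_zpowers g)⟩
  refine of_irr g' (fun W _ _ σ => ∀ z, φ z = 1 → σ (ι z) = lam z • (1 : End K W)) (fun W _ _ σ U hU h => ⟨fun z hz => ?_, fun z hz => ?_⟩)
    (fun W _ _ _ σ h hI => ?_) _ V (ρ.comp (N ⊔ zpowers g).subtype) rfl fun z hz => (show _ = ρ z from rfl).trans (hlam z hz)
  · ext u; simp [HH.sub_apply, h z hz]
  · ext u; simp [quo, h z hz]
  · haveI := hI.1
    refine crit hp (f.subgroupMap_surjective N) hnd (MulAut.conjNormal g) π (fun x => Subtype.ext ?_) hπp hC hnum hQ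
      (σ := σ.comp ι) h (Z' := σ g'⁻¹) (by rw [← map_mul, mul_inv_cancel, map_one]) (by rw [← map_mul, inv_mul_cancel, map_one])
      (fun x => ?_) fun U h1 h2 => hI.2 U ?_
    · change f (g * x * g⁻¹) = f g * f x * (f g)⁻¹
      simp
    · simp only [MonoidHom.comp_apply, ← map_mul]
      congr 1
      exact Subtype.ext (by change g * x = g * x * g⁻¹ * g; group)
    · refine HH.inv_of_sup σ (M := N.subgroupOf (N ⊔ zpowers g)) (x := g') ?_ (fun x hx => h1 ⟨x, hx⟩) h2
      apply map_injective (N ⊔ zpowers g).subtype_injective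
      rw [Subgroup.map_sup, subgroupOf_map_subtype, MonoidHom.map_zpowers, ← MonoidHom.range_eq_map, range_subtype,
        inf_eq_left.2 le_sup_left]
      rfl

/-- the faithful quotient representation -/
def kl (ρ : G →* End K V) : G ⧸ ρ.ker →* End K V := QuotientGroup.lift ρ.ker ρ fun _ h => h

theorem kl_mk (ρ : G →* End K V) (x : G) : kl ρ (QuotientGroup.mk' ρ.ker x) = ρ x := rfl

theorem kl_inj (ρ : G →* End K V) : Function.Injective (kl ρ) := (injective_iff_map_eq_one _).2 fun x hx => by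
  obtain ⟨x, rfl⟩ := QuotientGroup.mk_surjective x
  exact (QuotientGroup.eq_one_iff x).2 hx

theorem step [IsAlgClosed K] [Finite G] [Group.IsSolvable G] (hp : p.Prime) (hp5 : 5 ≤ p)
    (ih : ∀ (H : Type w) [Group H] [Finite H] [Group.IsSolvable H], Nat.card H < Nat.card G → GF p H)
    {g : G} (hg : g ^ p = 1) (hn : normalClosure {g} = ⊤) [FiniteDimensional K V] {ρ : G →* End K V}
    (hi : HH.Irr ρ) (h1 : ∃ x, ρ x ≠ 1) : 2 * fx (ρ g) < finrank K V := by
  set f := QuotientGroup.mk' ρ.ker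
  have hfs : Function.Surjective f := QuotientGroup.mk'_surjective _
  refine step_f (ρ := kl ρ) (g := f g) hp hp5 (fun H _ _ _ h => ih H (h.trans_le
    (Nat.card_le_card_of_surjective f hfs))) (by rw [← map_pow, hg, map_one]) (fun h => ?_)
    (by rw [← Set.image_singleton, ← map_normalClosure _ f hfs, hn, map_top_of_surjective f hfs])
    ⟨hi.1, fun U hU => hi.2 U fun x => hU (f x)⟩ (kl_inj ρ)
  obtain ⟨x, hx⟩ := h1
  have : normalClosure {g} ≤ ρ.ker := normalClosure_le_normal (by simpa using (QuotientGroup.eq_one_iff g).1 h)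
  exact hx (this (hn ▸ trivial))

theorem fx_le_ext (F : Type u) [Field F] [Algebra K F] [FiniteDimensional K V] (T : End K V) :
    fx T ≤ fx (BG1.extEnd F V T) := by
  unfold fx
  rw [← map_one (BG1.extEnd (k := K) F V), ← map_sub]
  generalize T - 1 = S
  let b := finBasis K (LinearMap.ker S)
  let e := (finBasis K V).equivFun
  have h1 : LinearIndependent K fun i => e (b i) :=
    (b.linearIndependent.map' _ (Submodule.ker_subtype _)).map' e.toLinearMap e.ker
  have h2 := (linearIndependent_algebraMap_comp_iff (S := F)).2 h1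
  have h3 : ∀ i, algebraMap K F ∘ e (b i) ∈ LinearMap.ker (BG1.extEnd F V S) := fun i => by
    have h4 : Matrix.mulVec (LinearMap.toMatrix (finBasis K V) (finBasis K V) S) (e (b i)) = 0 := by
      have := LinearMap.toMatrix_mulVec_repr (finBasis K V) (finBasis K V) S (b i)
      rw [LinearMap.mem_ker.1 (b i).2, map_zero] at this
      exact this
    change Matrix.mulVec ((LinearMap.toMatrix (finBasis K V) (finBasis K V) S).map (algebraMap K F)) _ = 0
    ext j
    rw [← RingHom.map_mulVec, h4]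
    simp
  simpa using (LinearIndependent.of_comp (v := fun i => (⟨_, h3 i⟩ : LinearMap.ker (BG1.extEnd F V S)))
    (Submodule.subtype _) h2).fintype_card_le_finrank

theorem step' [Finite G] [Group.IsSolvable G] (hp : p.Prime) (hp5 : 5 ≤ p)
    (ih : ∀ (H : Type w) [Group H] [Finite H] [Group.IsSolvable H], Nat.card H < Nat.card G → GF p H)
    {g : G} (hg : g ^ p = 1) (hn : normalClosure {g} = ⊤) [FiniteDimensional K V] {ρ : G →* End K V}
    (hi : HH.Irr ρ) (h1 : ∃ x, ρ x ≠ 1) : 2 * fx (ρ g) < finrank K V := by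
  haveI := hi.1
  set f := QuotientGroup.mk' ρ.ker
  have hfs : Function.Surjective f := QuotientGroup.mk'_surjective _
  have hi' : HH.Irr (kl ρ) := ⟨hi.1, fun U hU => hi.2 U fun x => hU (f x)⟩
  haveI : Nontrivial (G ⧸ ρ.ker) := by
    obtain ⟨x, hx⟩ := h1
    exact ⟨f x, 1, fun h => hx ((QuotientGroup.eq_one_iff x).1 h)⟩
  obtain ⟨M, q, hM, hM0, -, -, hq, -, hMq⟩ := Hall.exists_minNormal_elementary (G := G ⧸ ρ.ker)
  haveI := Fact.mk hq
  haveI := hMq.isNilpotent
  haveI := Fintype.ofFinite M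
  have h2 := card_ne_zero hi' (kl_inj ρ) M
  choose s hs using hfs
  have h3 : ∑ x : M, ρ (s x) = 0 := by
    ext v
    by_contra h
    have h4 := triv_of_fix hi' (N := M) h fun y hy => by
      simp only [LinearMap.sum_apply, map_sum]
      rw [← Equiv.sum_comp (Equiv.mulLeft (⟨y, hy⟩ : M)) fun x : M => ρ (s x) v]
      refine Finset.sum_congr rfl fun x _ => ?_
      change _ = kl ρ (f _) v
      rw [hs, ← kl_mk ρ (s x), HH.rep_mul_apply]
      change _ = kl ρ (y * x) v
      exact congrArg (fun t => kl ρ (y * t) v) (hs x)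
    exact hM0 (eq_bot_iff.2 fun x hx => kl_inj ρ ((h4 x hx).trans (map_one _).symm))
  let F := AlgebraicClosure K
  have h5 : 0 < finrank K V := finrank_pos
  haveI : Nonempty (Fin (finrank K V)) := ⟨⟨0, h5⟩⟩
  have h6 := of_irr (K := F) g (fun W _ _ σ => ∑ x : M, σ (s x) = (0 : End F W))
    (fun W _ _ σ U hU h => ⟨?_, ?_⟩) (fun W _ _ _ σ h hI => step hp hp5 ih hg hn hI ?_) _ (Fin (finrank K V) → F)
    ((BG1.extEnd F V).toMonoidHom.comp ρ) rfl (by simpa using congrArg (BG1.extEnd F V) h3)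
  · have h7 := fx_le_ext F (ρ g)
    rw [Module.finrank_fin_fun] at h6
    change 2 * fx (BG1.extEnd F V (ρ g)) < _ at h6
    omega
  · ext u
    simpa [LinearMap.sum_apply, HH.sub_apply] using LinearMap.congr_fun h u
  · ext u
    have := congrArg U.mkQ (LinearMap.congr_fun h u)
    simpa [LinearMap.sum_apply, quo] using this
  · by_contra h7
    push Not at h7
    haveI := hI.1
    simp only [h7, Finset.sum_const, Finset.card_univ, ← Nat.cast_smul_eq_nsmul F, smul_eq_zero, one_ne_zero, or_false] at h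
    rw [← Nat.card_eq_fintype_card, ← map_natCast (algebraMap K F), map_eq_zero] at h
    exact h2 h

theorem gf (hp : p.Prime) (hp5 : 5 ≤ p) (n : ℕ) :
    ∀ (G : Type w) [Group G] [Finite G] [Group.IsSolvable G], Nat.card G = n → GF p G := by
  induction n using Nat.strong_induction_on with
  | _ n ih =>
    intro G _ _ _ hG g hg hn N hN hmin hz
    obtain ⟨hc, q, hq, hqe⟩ := Hall.minNormal_elementary (show N ≠ ⊥ from fun h => hz (h ▸ bot_le)) hmin
    haveI := Fact.mk hq
    haveI : Fact (IsElementaryAbelian q N) := ⟨hc, hqe⟩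
    have h1 := step' hp hp5 (fun H _ _ _ h => ih _ (hG ▸ h) H rfl) hg hn (ρ := HH.nrep q N) ⟨?_, fun U hU => ?_⟩ ?_
    · rw [BG1.EV.card_inf_eq_pow (p := q), BG1.EV.card_eq_pow (p := q), ← pow_mul]
      refine Nat.pow_lt_pow_right hq.one_lt ?_
      rw [mul_comm, show BG1.EV.sub q N (centralizer {g}) = LinearMap.ker (HH.nrep q N g - 1) from ?_]
      · exact h1
      ext x
      rw [BG1.EV.mem_sub, LinearMap.mem_ker, ← BG1.EV.val_eq_one, HH.nrep_sub_val, mem_centralizer_singleton_iff,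
        mul_inv_eq_one, mul_inv_eq_iff_eq_mul, eq_comm]
    · exact (nontrivial_iff_ne_bot N).2 fun h => hz (h ▸ bot_le)
    · rw [← BG1.EV.sub_unsub U]
      rcases hmin (BG1.EV.unsub U) ⟨by
        rintro _ ⟨x, hx, rfl⟩ y
        exact ⟨_, hU y x hx, HH.nrep_val y x⟩⟩ (BG1.EV.unsub_le U) with h | h <;> rw [h]
      · exact Or.inl (eq_bot_iff.2 fun x hx => BG1.EV.val_eq_one.1 hx)
      · exact Or.inr (eq_top_iff.2 fun x _ => x.val_mem)
    · by_contra h
      push Not at h
      exact hz fun x hx => mem_center_iff.2 fun y => (HH.nrep_eq_one_iff.1 (h y) x hx).symm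

/-- Flavell's bound -/
theorem main [Finite G] [Group.IsSolvable G] (hp : p.Prime) (hp5 : 5 ≤ p) {g : G} (hg : g ^ p = 1)
    (hn : normalClosure {g} = ⊤) [FiniteDimensional K V] {ρ : G →* End K V} (hi : HH.Irr ρ) (h1 : ∃ x, ρ x ≠ 1) :
    2 * fx (ρ g) < finrank K V :=
  step' hp hp5 (fun H _ _ _ _ => gf hp hp5 _ H rfl) hg hn hi h1

end Cfsg.Lib.Amalg.Fl
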