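import Cfsg.Agent.Lib.Amalg.Fl3
import Cfsg.Agent.Lib.Amalg.Ops
import Cfsg.Agent.Lib.Hall.Prim
import Cfsg.Agent.Lib.Hall.SZConj
import Cfsg.Agent.Lib.Coprime.Basic
import Cfsg.Agent.Lib.Core.Fitting
import Cfsg.Agent.Lib.Core.Frattini

/-! Maximal solvable subgroups generated by two conjugate subgroups of prime order `p ≥ 5` (Flavell). -/

set_option autoImplicit false
set_option linter.unusedSectionVars false

namespace Cfsg.Lib.Amalg.Fl

open Subgroup
open Cfsg.Lib.Core hiding isPGroup_subgroupOf isPGroup_subgroupOf_iff isPGroup_map_subtype_iff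
  isPGroup_zpowers_of_orderOf
open scoped commutatorElement

variable {G : Type*} [Group G] [Finite G] {p q r : ℕ}

theorem cent_of_norm {N R : Subgroup G} (h1 : N ≤ 𝐍 R) (h2 : R ≤ 𝐍 N) (h : N ⊓ R = ⊥) : R ≤ 𝐂 N := by
  rw [← commutator_eq_bot_iff_le_centralizer, eq_bot_iff, ← h]
  exact le_inf (commutator_comm R N ▸ Coprime.commutator_le_of_le_normalizer h2) (Coprime.commutator_le_of_le_normalizer h1)

theorem key [Group.IsSolvable G] (hp : p.Prime) (hp5 : 5 ≤ p) [Fact q.Prime] [Fact r.Prime] (hqr : q ≠ r)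
    {N A R : Subgroup G} [hN : N.Normal] (hmin : ∀ M : Subgroup G, M.Normal → M ≤ N → M = ⊥ ∨ M = N) (hN0 : N ≠ ⊥)
    (hNq : IsPGroup q N) (hR : IsPGroup r R) (hRA : R ≤ A) (hAR : A ≤ 𝐍 R) (hC : N ⊓ 𝐂 R = ⊥) (hsup : N ⊔ A = ⊤)
    {g a : G} (hg : g ^ p = 1) (hA : A = zpowers g ⊔ zpowers (a * g * a⁻¹)) :
    ∃ v ∈ N, zpowers g ⊔ zpowers (v * (a * g * a⁻¹) * v⁻¹) = ⊤ := by
  haveI := Hall.isMulCommutative_of_minNormal hmin
  have hnN : ∀ B : Subgroup G, B ≤ 𝐍 N := fun B => by rw [normalizer_eq_top]; exact le_top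
  have hinf : ∀ B, N ⊔ B = ⊤ → B ≠ ⊤ → N ⊓ B = ⊥ := fun B h1 h2 =>
    disjoint_iff.1 (Hall.isComplement'_of_minNormal_comm hmin h2 h1).disjoint
  have hcop := IsPGroup.coprime_card_of_ne q r hqr N R hNq hR
  have hNR : ¬ R ≤ 𝐂 N := fun h => hN0 (by rw [← hC, left_eq_inf]; exact le_centralizer_iff.1 h)
  have hNA : N ⊓ A = ⊥ := hinf A hsup fun h =>
    hNR (cent_of_norm (le_top.trans (h ▸ hAR)) (hnN R) (inf_eq_bot_of_coprime hcop))
  have hn : normalClosure {g} = ⊤ := by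
    have h1 : A ≤ normalClosure {g} := by
      rw [hA]
      exact sup_le (zpowers_le.2 (subset_normalClosure rfl))
        (zpowers_le.2 ((normalClosure_normal (s := {g})).conj_mem g (subset_normalClosure rfl) a))
    rcases hmin (N ⊓ normalClosure {g}) inferInstance inf_le_left with h | h
    · refine absurd ((hRA.trans h1).trans (cent_of_norm ?_ (hnN _) h)) hNR
      rw [normalizer_eq_top]; exact le_top
    · rw [eq_top_iff, ← hsup]
      exact sup_le (inf_eq_left.1 h) h1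
  have hgf := gf hp hp5 _ G rfl g hg hn N hN hmin fun h => hNR fun y _ x hx => (mem_center_iff.1 (h hx) y).symm
  set h := a * g * a⁻¹ with hh
  by_contra hne
  push Not at hne
  have hdec : ∀ v ∈ N, ∃ c ∈ N ⊓ centralizer {g}, c⁻¹ * v ∈ N ⊓ centralizer {h} := fun v hv => by
    set B := zpowers g ⊔ zpowers (v * h * v⁻¹) with hB
    have hgB : g ∈ B := mem_sup_left (mem_zpowers g)
    have hhB : v * h * v⁻¹ ∈ B := mem_sup_right (mem_zpowers _)
    have h1 : N ⊔ B = ⊤ := by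
      rw [eq_top_iff, ← hsup, hA]
      refine sup_le le_sup_left (sup_le (zpowers_le.2 (mem_sup_right hgB)) (zpowers_le.2 ?_))
      have := (N ⊔ B).mul_mem ((N ⊔ B).mul_mem (mem_sup_left (N.inv_mem hv)) (mem_sup_right hhB)) (mem_sup_left hv)
      simpa [mul_assoc] using this
    have h2 := hinf B h1 (hne v hv)
    haveI h3 : (N ⊔ R).Normal := normal_of_top_le_normalizer (by
      rw [← hsup]
      exact sup_le (le_normalizer_of_le le_sup_left) (le_normalizer_sup (hnN A) hAR))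
    have h4 : N ⊔ (B ⊓ (N ⊔ R)) = N ⊔ R := by
      rw [← sup_inf_of_le_normalizer' le_sup_left (hnN B), h1, top_inf_eq]
    have h5 : IsPGroup r ↥(B ⊓ (N ⊔ R)) := isPGroup_iff_mem.2 fun x hx => by
      have h6 : QuotientGroup.mk' N x ∈ R.map (QuotientGroup.mk' N) := by
        obtain ⟨n, hn, y, hy, rfl⟩ := (mem_sup_of_le_normalizer' (hnN R)).1 hx.2
        exact ⟨y, hy, by simp [(QuotientGroup.eq_one_iff n).2 hn]⟩
      obtain ⟨k, hk⟩ := isPGroup_iff_mem.1 (hR.map (QuotientGroup.mk' N)) _ h6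
      refine ⟨k, ?_⟩
      rw [← mem_bot, ← h2]
      exact ⟨(QuotientGroup.eq_one_iff _).1 (by simpa using hk), B.pow_mem hx.1 _⟩
    obtain ⟨n, hn, hnR⟩ := Hall.sz_conj_internal (hnN R) hcop (IsPGroup.coprime_card_of_ne q r hqr N _ hNq h5) h4.symm
      (Or.inl inferInstance)
    have h6 : ∀ b ∈ B, n⁻¹ * b * n ∈ A := fun b hb => by
      have h7 : n⁻¹ * b * n ∈ 𝐍 R := by
        rw [← mem_cj, cj_normalizer, show cj n R = B ⊓ (N ⊔ R) from hnR]
        exact le_normalizer_inf le_normalizer (by rw [normalizer_eq_top]; exact le_top) hb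
      obtain ⟨m, hm, y, hy, e⟩ := (mem_sup_of_le_normalizer' (hnN A)).1 (show n⁻¹ * b * n ∈ N ⊔ A from hsup ▸ trivial)
      have h8 : m ∈ 𝐍 R := by
        rw [eq_mul_inv_of_mul_eq e]
        exact mul_mem h7 (inv_mem (hAR hy))
      have h9 : m ∈ N ⊓ 𝐂 R := ⟨hm, fun t ht => by
        have : ⁅m, t⁆ ∈ N ⊓ A := ⟨by
          rw [show ⁅m, t⁆ = m * (t * m⁻¹ * t⁻¹) by rw [commutatorElement_def]; group]
          exact N.mul_mem hm (hN.conj_mem _ (N.inv_mem hm) t),
          hRA (R.mul_mem (conj_mem_of_mem_normalizer h8 ht) (R.inv_mem ht))⟩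
        rw [hNA, mem_bot, commutatorElement_eq_one_iff_mul_comm] at this
        exact this.symm⟩
      rw [hC, mem_bot] at h9
      rw [← e, h9, one_mul]
      exact hy
    have h7 : ∀ u ∈ N, ∀ y ∈ A, u * y * u⁻¹ ∈ A → u ∈ centralizer {y} := fun u hu y hy e => by
      have : ⁅u, y⁆ ∈ N ⊓ A := ⟨by
        rw [show ⁅u, y⁆ = u * (y * u⁻¹ * y⁻¹) by rw [commutatorElement_def]; group]
        exact N.mul_mem hu (hN.conj_mem _ (N.inv_mem hu) y), A.mul_mem e (A.inv_mem hy)⟩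
      rw [hNA, mem_bot, commutatorElement_eq_one_iff_mul_comm] at this
      exact mem_centralizer_singleton_iff.2 this
    refine ⟨n, ⟨hn, ((centralizer {g}).inv_mem_iff.1 (h7 _ (N.inv_mem hn) g (hA ▸ mem_sup_left (mem_zpowers g)) ?_))⟩,
      N.mul_mem (N.inv_mem hn) hv, h7 _ (N.mul_mem (N.inv_mem hn) hv) h (hA ▸ mem_sup_right (mem_zpowers h)) ?_⟩
    · simpa using h6 g hgB
    · simpa [mul_assoc] using h6 _ hhB
  have h1 : Nat.card ↥(N ⊓ centralizer {h}) = Nat.card ↥(N ⊓ centralizer {g}) := by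
    rw [← card_cj a (N ⊓ centralizer {g}), cj_inf, cj_normal, cj_centralizer_singleton]
  have h2 := Nat.card_le_card_of_surjective (fun t : ↥(N ⊓ centralizer {g}) × ↥(N ⊓ centralizer {h}) =>
    (⟨t.1 * t.2, N.mul_mem t.1.2.1 t.2.2.1⟩ : N)) fun v => by
      obtain ⟨c, hc, h3⟩ := hdec v v.2
      exact ⟨(⟨c, hc⟩, ⟨_, h3⟩), Subtype.ext (by simp)⟩
  rw [Nat.card_prod, h1, ← sq] at h2
  omega

theorem key' [Group.IsSolvable G] (hp : p.Prime) (hp5 : 5 ≤ p) [Fact q.Prime] [Fact r.Prime] (hqr : q ≠ r)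
    {V A R : Subgroup G} [hV : V.Normal] (hVq : IsPGroup q V) (hR : IsPGroup r R) (hRA : R ≤ A) (hAR : A ≤ 𝐍 R)
    (hC : ¬ R ≤ 𝐂 V) (hmin : ∀ U < V, A ≤ 𝐍 U → R ≤ 𝐂 U) (hsup : V ⊔ A = ⊤)
    {g a : G} (hg : g ^ p = 1) (hA : A = zpowers g ⊔ zpowers (a * g * a⁻¹)) :
    ∃ v ∈ V, zpowers g ⊔ zpowers (v * (a * g * a⁻¹) * v⁻¹) = ⊤ := by
  have hnV : ∀ B : Subgroup G, B ≤ 𝐍 V := fun B => by rw [normalizer_eq_top]; exact le_top
  have hcop := IsPGroup.coprime_card_of_ne r q hqr.symm R V hR hVq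
  have h1 : ⁅V, R⁆ = V := by
    by_contra h
    exact hC (Coprime.le_centralizer_of_commutator_le_centralizer (hnV R) hcop (le_centralizer_iff.1 (hmin _
      (lt_of_le_of_ne (Coprime.commutator_le_of_le_normalizer (hnV R)) h) (le_normalizer_commutator (hnV A) hAR))))
  haveI := normal_frattiniOf V
  set f := QuotientGroup.mk' ((frattini V).map V.subtype) with hf
  have hfs : Function.Surjective f := QuotientGroup.mk'_surjective _
  have hk : f.ker = (frattini V).map V.subtype := QuotientGroup.ker_mk' _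
  haveI : (V.map f).Normal := hV.map f hfs
  haveI : IsMulCommutative (V.map f) := by
    rw [← le_centralizer_iff_isMulCommutative, ← commutator_eq_bot_iff_le_centralizer, ← map_commutator,
      Subgroup.map_eq_bot_iff, hk]
    exact commutator_le_frattiniOf hVq
  have h2 : V.map f ⊓ 𝐂 (R.map f) = ⊥ := by
    have := Coprime.centralizer_inf_commutator_eq_bot (A := R.map f) (V := V.map f)
      (by rw [normalizer_eq_top]; exact le_top) (IsPGroup.coprime_card_of_ne r q hqr.symm _ _ (hR.map f) (hVq.map f))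
    rwa [← map_commutator, h1, inf_right_comm, inf_idem] at this
  have h0 : V ≠ ⊥ := fun h => hC (by rw [h, centralizer_bot]; exact le_top)
  have hm : ∀ M : Subgroup (G ⧸ (frattini V).map V.subtype), M.Normal → M ≤ V.map f → M = ⊥ ∨ M = V.map f := by
    intro M hM hle
    have h4 : M.comap f ≤ V := (comap_mono hle).trans (by rw [comap_map_eq, hk]; exact sup_le le_rfl (frattiniOf_le V))
    rcases h4.lt_or_eq with h5 | h5
    · left
      rw [eq_bot_iff, ← h2]
      refine le_inf hle ?_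
      have h6 := hmin _ h5 (by rw [normalizer_eq_top]; exact le_top)
      rintro x hx _ ⟨y, hy, rfl⟩
      obtain ⟨x, rfl⟩ := hfs x
      rw [← map_mul, ← map_mul, h6 hy x hx]
    · right
      exact (map_comap_eq_self_of_surjective hfs M).symm.trans (congrArg (Subgroup.map f) h5)
  obtain ⟨_, ⟨v, hv, rfl⟩, h3⟩ := key (N := V.map f) (A := A.map f) (R := R.map f) hp hp5 hqr hm
    (fun h => (frattiniOf_lt h0).not_ge (hk ▸ (Subgroup.map_eq_bot_iff _).1 h)) (hVq.map f) (hR.map f) (map_mono hRA)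
    ((map_mono hAR).trans (le_normalizer_map f)) h2 (by rw [← Subgroup.map_sup, hsup, map_top_of_surjective f hfs])
    (g := f g) (a := f a) (by rw [← map_pow, hg, map_one]) (by simp [hA, Subgroup.map_sup])
  · refine ⟨v, hv, frattini_nongenerating (eq_top_iff.2 ?_)⟩
    have h4 : (zpowers g ⊔ zpowers (v * (a * g * a⁻¹) * v⁻¹)).map f = ⊤ := by simpa [Subgroup.map_sup] using h3
    rw [← comap_top f, ← h4, comap_map_eq, hk]
    exact sup_le_sup_left (frattiniOf_le_frattini V) _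

theorem op_cent (hp : p.Prime) (hp5 : 5 ≤ p) [Fact q.Prime] [Fact r.Prime] (hqr : q ≠ r) {A R : Subgroup G}
    [Group.IsSolvable A] (hR : IsPGroup r R) (hRA : R ≤ A) (hAR : A ≤ 𝐍 R) {g a : G} (hg : g ^ p = 1) (ha : a ∈ A)
    (hA : A = zpowers g ⊔ zpowers (a * g * a⁻¹))
    (hmax : ∀ B : Subgroup G, A ≤ B → Group.IsSolvable B → (∃ b ∈ B, B = zpowers g ⊔ zpowers (b * g * b⁻¹)) → B = A)
    {W : Subgroup G} (hW : IsPGroup q W) (hAW : A ≤ 𝐍 W) : R ≤ 𝐂 W := by
  by_contra h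
  obtain ⟨V, -, ⟨hV, hAV, hC⟩, hm⟩ := exists_minimal_le_of_wellFoundedLT
    (fun V : Subgroup G => IsPGroup q V ∧ A ≤ 𝐍 V ∧ ¬ R ≤ 𝐂 V) W ⟨hW, hAW, h⟩
  haveI := hV.isNilpotent
  haveI := isSolvable_sup_of_le_normalizer hAV
  have hX : A ⊔ V ≤ 𝐍 V := sup_le hAV le_normalizer
  haveI : (V.subgroupOf (A ⊔ V)).Normal := (normal_subgroupOf_iff_le_normalizer le_sup_right).2 hX
  have hgA : g ∈ A := hA ▸ mem_sup_left (mem_zpowers g)
  have hi := (A ⊔ V).subtype_injective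
  have hm' : ∀ U < V.subgroupOf (A ⊔ V), A.subgroupOf (A ⊔ V) ≤ 𝐍 U → R.subgroupOf (A ⊔ V) ≤ 𝐂 U := by
    intro U hU hn
    have h2 : U.map (A ⊔ V).subtype < V := by
      conv_rhs => rw [← map_subgroupOf_of_le (show V ≤ A ⊔ V from le_sup_right)]
      exact (map_lt_map_iff_of_injective hi).2 hU
    have h3 : R ≤ 𝐂 (U.map (A ⊔ V).subtype) := by
      by_contra h4
      refine h2.not_ge (hm ⟨hV.to_le h2.le, ?_, h4⟩ h2.le)
      conv_lhs => rw [← map_subgroupOf_of_le (show A ≤ A ⊔ V from le_sup_left)]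
      exact (map_mono hn).trans (le_normalizer_map _)
    exact fun y hy x hx => Subtype.ext (h3 hy _ ⟨x, hx, rfl⟩)
  obtain ⟨v, hv, h1⟩ := key' (V := V.subgroupOf (A ⊔ V)) (A := A.subgroupOf (A ⊔ V)) (R := R.subgroupOf (A ⊔ V))
    hp hp5 hqr (isPGroup_subgroupOf hV _) (isPGroup_subgroupOf hR _) (comap_mono hRA)
    (by rw [normalizer_subgroupOf (hRA.trans le_sup_left)]; exact comap_mono hAR)
    (fun h => hC fun y hy x hx => congrArg Subtype.val
      (h (show (⟨y, mem_sup_left (hRA hy)⟩ : ↥(A ⊔ V)) ∈ R.subgroupOf _ from hy) ⟨x, mem_sup_right hx⟩ hx))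
    hm' (by rw [← subgroupOf_sup le_sup_right le_sup_left, sup_comm V, subgroupOf_self])
    (g := ⟨g, mem_sup_left hgA⟩) (a := ⟨a, mem_sup_left ha⟩) (Subtype.ext hg) (map_injective hi (by
      rw [map_subgroupOf_of_le le_sup_left, Subgroup.map_sup, MonoidHom.map_zpowers, MonoidHom.map_zpowers]; exact hA))
  · have h2 := congrArg (Subgroup.map (A ⊔ V).subtype) h1
    rw [Subgroup.map_sup, MonoidHom.map_zpowers, MonoidHom.map_zpowers, map_subtype_top] at h2
    have h3 := hmax (A ⊔ V) le_sup_left inferInstance ⟨v * a, mul_mem v.2 (mem_sup_left ha), by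
      refine h2.symm.trans ?_; simp [mul_assoc]⟩
    exact hC (cent_of_norm ((sup_eq_left.1 h3).trans hAR) (hRA.trans hAV)
      (inf_eq_bot_of_coprime (IsPGroup.coprime_card_of_ne q r hqr _ _ hV hR)))

theorem nilp (hp : p.Prime) (hp5 : 5 ≤ p) {A : Subgroup G} [Group.IsSolvable A] {g a : G} (hg : g ^ p = 1) (ha : a ∈ A)
    (hA : A = zpowers g ⊔ zpowers (a * g * a⁻¹))
    (hmax : ∀ B : Subgroup G, A ≤ B → Group.IsSolvable B → (∃ b ∈ B, B = zpowers g ⊔ zpowers (b * g * b⁻¹)) → B = A)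
    {V : Subgroup G} (hV : Group.IsNilpotent V) (hAV : A ≤ 𝐍 V) : Group.IsNilpotent ↥(fittingOf A ⊔ V) := by
  haveI := isNilpotent_fittingOf (A ⊔ V)
  refine isNilpotent_of_le (K := fittingOf (A ⊔ V)) (sup_le (fittingOf_le_of_forall_pCoreOf_le fun r hr => ?_)
    (le_fittingOf le_sup_right (sup_le hAV le_normalizer) hV))
  haveI := Fact.mk hr
  change pCoreOf r A ≤ _
  have h1 : IsPGroup r ↥(pCoreOf r A ⊔ pCoreOf r V) := IsPGroup.to_sup_of_normal_right' (op_isPGroup A) (op_isPGroup V)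
    ((op_le A).trans (le_norm_op_of_le hAV))
  refine le_sup_left.trans (le_fittingOf (sup_le_sup (op_le A) (op_le V)) (sup_le
    (le_normalizer_sup (le_norm_op A) (le_norm_op_of_le hAV)) ?_) h1.isNilpotent)
  rw [← fittingOf_eq_self_iff.2 hV]
  refine fittingOf_le_of_forall_pCoreOf_le fun q hq => ?_
  rw [fittingOf_eq_self_iff.2 hV]
  haveI := Fact.mk hq
  change pCoreOf q V ≤ _
  by_cases hqr : q = r
  · subst hqr
    exact le_normalizer_of_le le_sup_right
  · exact le_normalizer_sup ((le_centralizer_iff.1 (op_cent hp hp5 hqr (op_isPGroup A) (op_le A) (le_norm_op A) hg ha hA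
      hmax (op_isPGroup V) (le_norm_op_of_le hAV))).trans (centralizer_le_normalizer _)) ((op_le V).trans (le_norm_op V))

end Cfsg.Lib.Amalg.Fl
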