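import Cfsg.Agent.Lib.Amalg.Fl4
import Cfsg.Agent.Lib.Coprime.Wielandt
import Cfsg.Agent.Lib.BG1.Amb

/-! Flavell's theorem on fixed points of a coprime automorphism of odd prime order. -/

set_option autoImplicit false
set_option linter.unusedSectionVars false

namespace Cfsg.Lib.Amalg.Fl

open Subgroup
open Cfsg.Lib.Core hiding isPGroup_subgroupOf isPGroup_subgroupOf_iff isPGroup_map_subtype_iff
  isPGroup_zpowers_of_orderOf
open scoped commutatorElement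

universe u

variable {G : Type u} [Group G] {p q : ℕ} {g : G} {H : Subgroup G}

/-- the subgroup `[h, ⟨g⟩]` -/
def cm (g h : G) : Subgroup G := closure (Set.range fun i : ℕ => ⁅h⁻¹, g ^ i⁆)

/-- the subgroup generated by the fixed points in the `[h, ⟨g⟩]` -/
def DD (H : Subgroup G) (g : G) : Subgroup G := ⨆ h : H, cm g h ⊓ 𝐂 (zpowers g)

theorem mem_cm (g h : G) (i : ℕ) : ⁅h⁻¹, g ^ i⁆ ∈ cm g h := subset_closure ⟨i, rfl⟩

theorem mem_cm1 (g h : G) : ⁅h⁻¹, g⁆ ∈ cm g h := by simpa using mem_cm g h 1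

theorem cm_le {h : G} (hh : h ∈ H) : cm g h ≤ ⁅H, zpowers g⁆ := (closure_le _).2 (by
  rintro _ ⟨i, rfl⟩
  exact commutator_mem_commutator (H.inv_mem hh) (pow_mem (mem_zpowers g) i))

theorem map_cm {G' : Type*} [Group G'] (f : G →* G') (g h : G) : (cm g h).map f = cm (f g) (f h) := by
  rw [cm, MonoidHom.map_closure, ← Set.range_comp]
  congr 2
  ext i
  simp [map_commutatorElement]

theorem norm_cm [Finite G] (g h : G) : zpowers g ≤ 𝐍 (cm g h) := by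
  rw [zpowers_le]
  refine mem_normalizer_of_cj_le (map_le_iff_le_comap.2 ((closure_le _).2 ?_))
  rintro _ ⟨i, rfl⟩
  change g * ⁅h⁻¹, g ^ i⁆ * g⁻¹ ∈ cm g h
  rw [show g * ⁅h⁻¹, g ^ i⁆ * g⁻¹ = ⁅h⁻¹, g⁆⁻¹ * ⁅h⁻¹, g ^ (i + 1)⁆ by simp only [commutatorElement_def, pow_succ']; group]
  exact mul_mem (inv_mem (mem_cm1 g h)) (mem_cm g h _)

theorem le_DD {h : G} (hh : h ∈ H) : cm g h ⊓ 𝐂 (zpowers g) ≤ DD H g := le_iSup_of_le (⟨h, hh⟩ : H) le_rfl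

theorem DD_le_C : DD H g ≤ 𝐂 (zpowers g) := iSup_le fun _ => inf_le_right

theorem DD_mono {K : Subgroup G} (h : K ≤ H) : DD K g ≤ DD H g := iSup_le fun x => le_DD (h x.2)

theorem comm_le_of [Finite G] (hn : g ∈ 𝐍 H) {K : Subgroup G} (h : ∀ h ∈ H, ⁅h⁻¹, g⁆ ∈ K) : ⁅H, zpowers g⁆ ≤ K := by
  rw [commutator_le]
  intro x hx y hy
  obtain ⟨i, rfl⟩ := mem_powers_iff_mem_zpowers.2 hy
  clear hy
  induction i generalizing x with
  | zero => simp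
  | succ i ih =>
    change ⁅x, g ^ (i + 1)⁆ ∈ K
    rw [show ⁅x, g ^ (i + 1)⁆ = ⁅x⁻¹⁻¹, g⁆ * ⁅g * x * g⁻¹, g ^ i⁆ by simp only [commutatorElement_def, pow_succ]; group]
    exact mul_mem (h _ (H.inv_mem hx)) (ih _ (conj_mem_of_mem_normalizer hn hx))

theorem key2 [Finite G] {N A : Subgroup G} [hN : N.Normal] [IsMulCommutative N]
    (hmin : ∀ M : Subgroup G, M.Normal → M ≤ N → M = ⊥ ∨ M = N) (hc : (Nat.card N).Coprime N.index)
    (hA : N.IsComplement' A) {a : G} (hA' : A = zpowers g ⊔ zpowers (a * g * a⁻¹))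
    (hlt : Nat.card ↥(N ⊓ centralizer {g}) ^ 2 < Nat.card N) :
    ∃ v ∈ N, zpowers g ⊔ zpowers (v * (a * g * a⁻¹) * v⁻¹) = ⊤ := by
  set h := a * g * a⁻¹ with hh
  by_contra hne
  push Not at hne
  have hdec : ∀ v ∈ N, ∃ c ∈ N ⊓ centralizer {g}, c⁻¹ * v ∈ N ⊓ centralizer {h} := fun v hv => by
    set B := zpowers g ⊔ zpowers (v * h * v⁻¹) with hB
    have hgB : g ∈ B := mem_sup_left (mem_zpowers g)
    have hhB : v * h * v⁻¹ ∈ B := mem_sup_right (mem_zpowers _)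
    have h1 : N ⊔ B = ⊤ := by
      rw [eq_top_iff, ← hA.sup_eq_top, hA']
      refine sup_le le_sup_left (sup_le (zpowers_le.2 (mem_sup_right hgB)) (zpowers_le.2 ?_))
      have := (N ⊔ B).mul_mem ((N ⊔ B).mul_mem (mem_sup_left (N.inv_mem hv)) (mem_sup_right hhB)) (mem_sup_left hv)
      simpa [mul_assoc] using this
    obtain ⟨n, hn, hnA⟩ := Hall.sz_conj_abelian N hc hA (Hall.isComplement'_of_minNormal_comm hmin (hne v hv) h1)
    have h6 : ∀ b ∈ B, n⁻¹ * b * n ∈ A := fun b hb => mem_cj.1 (show b ∈ cj n A from (show cj n A = B from hnA) ▸ hb)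
    have h7 : ∀ u ∈ N, ∀ y ∈ A, u * y * u⁻¹ ∈ A → u ∈ centralizer {y} := fun u hu y hy e => by
      have : ⁅u, y⁆ ∈ N ⊓ A := ⟨by
        rw [show ⁅u, y⁆ = u * (y * u⁻¹ * y⁻¹) by rw [commutatorElement_def]; group]
        exact N.mul_mem hu (hN.conj_mem _ (N.inv_mem hu) y), A.mul_mem e (A.inv_mem hy)⟩
      rw [disjoint_iff.1 hA.disjoint, mem_bot, commutatorElement_eq_one_iff_mul_comm] at this
      exact mem_centralizer_singleton_iff.2 this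
    refine ⟨n, ⟨hn, ((centralizer {g}).inv_mem_iff.1 (h7 _ (N.inv_mem hn) g (hA' ▸ mem_sup_left (mem_zpowers g)) ?_))⟩,
      N.mul_mem (N.inv_mem hn) hv, h7 _ (N.mul_mem (N.inv_mem hn) hv) h (hA' ▸ mem_sup_right (mem_zpowers h)) ?_⟩
    · simpa using h6 g hgB
    · simpa [mul_assoc] using h6 _ hhB
  have h1 : Nat.card ↥(N ⊓ centralizer {h}) = Nat.card ↥(N ⊓ centralizer {g}) := by
    rw [← card_cj a (N ⊓ centralizer {g}), cj_inf, cj_normal, cj_centralizer_singleton]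
  have h2 := Nat.card_le_card_of_surjective (fun t : ↥(N ⊓ centralizer {g}) × ↥(N ⊓ centralizer {h}) =>
    (⟨t.1 * t.2, N.mul_mem t.1.2.1 t.2.2.1⟩ : N)) fun v => by
      obtain ⟨c, hc, h3⟩ := hdec v v.2
      exact ⟨(⟨c, hc⟩, ⟨_, h3⟩), Subtype.ext (by simp)⟩
  rw [Nat.card_prod, h1, ← sq] at h2
  omega

/-- the class two computation -/
theorem cls2 [Finite G] (hp2 : Odd p) (hg : g ^ p = 1) [hH : H.Normal] (hHP : ⁅H, zpowers g⁆ = H) {W E : Subgroup G}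
    [hW : W.Normal] (hWH : W ≤ H) (hZ : ⁅W, H⁆ ≤ 𝐂 H) (hE : ∀ h ∈ H, cm g h ⊓ ⁅H, H⁆ ≤ E)
    (hEZ : E ⊓ 𝐂 H = ⊥) (hg' : ∀ z ∈ ⁅W, H⁆, g * z * g⁻¹ = z) : W ≤ 𝐂 H := by
  have hn : g ∈ 𝐍 H := by rw [normalizer_eq_top]; trivial
  have hc : ∀ a ∈ W, ∀ h ∈ H, ∀ k ∈ H, k * ⁅a, h⁆ = ⁅a, h⁆ * k := fun a ha h hh k hk =>
    hZ (commutator_mem_commutator ha hh) k hk
  have gen : ∀ a, (∀ h ∈ H, a * ⁅h⁻¹, g⁆ = ⁅h⁻¹, g⁆ * a) → a ∈ 𝐂 H := fun a h x hx =>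
    mem_centralizer_singleton_iff.1 ((hHP.symm.le.trans (comm_le_of hn (K := centralizer {a}) fun y hy =>
      mem_centralizer_singleton_iff.2 (h y hy).symm)) hx)
  have L1 : ∀ a ∈ W, ⁅a⁻¹, g⁆ ∈ 𝐂 H → a ∈ 𝐂 H := fun a ha h => gen a fun x hx => by
    have h1 := hg' _ (commutator_mem_commutator ha hx)
    have h2 := h _ (hH.conj_mem _ hx g)
    have h3 : ⁅a, g * x * g⁻¹⁆ = ⁅a, x⁆ := by
      rw [← h1]
      calc ⁅a, g * x * g⁻¹⁆ = a * (g * x * g⁻¹ * ⁅a⁻¹, g⁆) * (g * a⁻¹ * x⁻¹ * g⁻¹) := by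
            simp only [commutatorElement_def]; group
        _ = _ := by rw [h2]; simp only [commutatorElement_def]; group
    have h4 := hc a ha x hx _ (H.inv_mem hx)
    rw [← commutatorElement_eq_one_iff_mul_comm]
    calc ⁅a, ⁅x⁻¹, g⁆⁆ = a * x⁻¹ * a⁻¹ * ⁅a, g * x * g⁻¹⁆ * x := by simp only [commutatorElement_def]; group
      _ = a * x⁻¹ * a⁻¹ * ⁅a, x⁆ * x := by rw [h3]
      _ = 1 := by simp only [commutatorElement_def]; group
  have L2 : ∀ a, ⁅a⁻¹, g ^ 2⁆ ∈ 𝐂 H → ⁅a⁻¹, g⁆ ∈ 𝐂 H := fun a h => by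
    rw [← QuotientGroup.eq_one_iff, ← QuotientGroup.mk'_apply, map_commutatorElement,
      commutatorElement_eq_one_iff_commute] at h ⊢
    obtain ⟨k, hk⟩ := hp2
    have := h.pow_right (k + 1)
    rwa [← map_pow, ← pow_mul, show 2 * (k + 1) = p + 1 by omega, pow_succ, hg, one_mul] at this
  have hWM : ∀ a ∈ W, ∀ x ∈ H, ∀ y ∈ H, a * ⁅x, y⁆ * a⁻¹ = ⁅x, y⁆ := fun a ha x hx y hy => by
    have h1 : ⁅⁅H, H⁆, W⁆ = ⊥ := commutator_commutator_eq_bot_of_rotate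
      (by rw [commutator_comm H W]; exact commutator_eq_bot_iff_le_centralizer.2 hZ)
      (commutator_eq_bot_iff_le_centralizer.2 hZ)
    rw [commutator_eq_bot_iff_le_centralizer.1 h1 (commutator_mem_commutator hx hy) a ha, mul_inv_cancel_right]
  have hEc : ∀ h ∈ H, ⁅⁅h⁻¹, g⁆, g * ⁅h⁻¹, g⁆ * g⁻¹⁆ ∈ E := fun h hh => by
    have h1 := mem_cm1 g h
    have h2 := conj_mem_of_mem_normalizer (norm_cm g h (mem_zpowers g)) h1
    have h3 := (cm_le hh).trans hHP.le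
    exact hE h hh ⟨(cm g h).mul_mem ((cm g h).mul_mem ((cm g h).mul_mem h1 h2) ((cm g h).inv_mem h1)) ((cm g h).inv_mem h2),
      commutator_mem_commutator (h3 h1) (h3 h2)⟩
  intro a ha
  have hb : ⁅a⁻¹, g⁆ ∈ W := by
    rw [show ⁅a⁻¹, g⁆ = a⁻¹ * (g * a * g⁻¹) by simp only [commutatorElement_def]; group]
    exact mul_mem (inv_mem ha) (hW.conj_mem _ ha g)
  set b := ⁅a⁻¹, g⁆ with hb'
  refine L1 a ha (L1 b hb (L2 b (gen _ fun x hx => ?_)))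
  obtain ⟨h, rfl⟩ : ∃ h, x = g * h * g⁻¹ := ⟨g⁻¹ * x * g, by group⟩
  have hh : h ∈ H := by simpa [mul_assoc] using hH.conj_mem _ hx g⁻¹
  have hk : ⁅h⁻¹, g⁆ ∈ H := ((cm_le hh).trans hHP.le) (mem_cm1 g h)
  have e1 := hEc _ (mul_mem (hWH ha) hh)
  have e2 := hEc _ hh
  have e3 := hEc _ (hWH ha)
  rw [← hb'] at e3
  have e4 : ⁅(a * h)⁻¹, g⁆ = ⁅b, h⁻¹⁆⁻¹ * b * ⁅h⁻¹, g⁆ := by simp only [hb', commutatorElement_def]; group
  rw [show ⁅(g * h * g⁻¹)⁻¹, g⁆ = g * ⁅h⁻¹, g⁆ * g⁻¹ by simp only [commutatorElement_def]; group]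
  set k := ⁅h⁻¹, g⁆ with hk'
  set b' := g * b * g⁻¹ with hb''
  set k' := g * k * g⁻¹ with hk''
  have hb2 : b' ∈ W := hW.conj_mem _ hb g
  have hk2 : k' ∈ H := hH.conj_mem _ hk g
  have e5 : ⁅⁅(a * h)⁻¹, g⁆, g * ⁅(a * h)⁻¹, g⁆ * g⁻¹⁆ = ⁅b * k, b' * k'⁆ := by
    have z1 := hg' _ (commutator_mem_commutator hb (inv_mem hh))
    have z2 := hc b hb _ (inv_mem hh)
    rw [e4]
    generalize ⁅b, h⁻¹⁆ = z at z1 z2
    have z3 := z2 _ (mul_mem (hWH hb) hk)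
    have z4 := z2 _ (mul_mem (hWH hb2) hk2)
    rw [show g * (z⁻¹ * b * k) * g⁻¹ = (g * z * g⁻¹)⁻¹ * (b' * k') by simp only [hb'', hk'']; group, z1, mul_assoc z⁻¹]
    generalize b * k = s at z3 ⊢
    generalize b' * k' = t at z4 ⊢
    have c1 : Commute s z := z3
    have c2 : Commute t z := z4
    have c3 : Commute (t * s⁻¹) z := c2.mul_left c1.inv_left
    have c4 : Commute (s * (t * s⁻¹) * t⁻¹) z := (c1.mul_left c3).mul_left c2.inv_left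
    calc ⁅z⁻¹ * s, z⁻¹ * t⁆ = z⁻¹ * s * z⁻¹ * (t * s⁻¹ * z) * t⁻¹ * z := by simp only [commutatorElement_def]; group
      _ = z⁻¹ * (s * (t * s⁻¹) * t⁻¹ * z) := by rw [c3.eq]; group
      _ = _ := by rw [c4.eq, commutatorElement_def]; group
  have e6 : ⁅b * k, b' * k'⁆ = ⁅b', k⁆⁻¹ * ⁅b, k'⁆ * (⁅k, k'⁆ * ⁅b, b'⁆) := by
    calc ⁅b * k, b' * k'⁆ = b * ⁅k, b' * k'⁆ * b⁻¹ * ⁅b, b' * k'⁆ := by simp only [commutatorElement_def]; group
      _ = ⁅b', k⁆⁻¹ * (b' * ⁅k, k'⁆ * b'⁻¹) * (⁅b, b'⁆ * (b' * ⁅b, k'⁆ * b'⁻¹)) := by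
        rw [hWM b hb _ hk _ (mul_mem (hWH hb2) hk2)]; simp only [commutatorElement_def]; group
      _ = ⁅b', k⁆⁻¹ * (⁅k, k'⁆ * ⁅b, b'⁆ * ⁅b, k'⁆) := by
        rw [hWM b' hb2 _ hk _ hk2, hWM b' hb2 _ (hWH hb) _ hk2]; group
      _ = _ := by
        rw [hc b hb k' hk2 _ (mul_mem (commutator_le_left H H (commutator_mem_commutator hk hk2))
          (commutator_le_left H H (commutator_mem_commutator (hWH hb) (hWH hb2))))]; group
  have e7 : ⁅b', k⁆⁻¹ * ⁅b, k'⁆ ∈ E ⊓ 𝐂 H := ⟨by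
    rw [e5, e6] at e1
    exact (E.mul_mem_cancel_right (mul_mem e2 e3)).1 e1,
    (𝐂 H).mul_mem ((𝐂 H).inv_mem (hZ (commutator_mem_commutator hb2 hk))) (hZ (commutator_mem_commutator hb hk2))⟩
  rw [hEZ, mem_bot, inv_mul_eq_one, ← hg' _ (commutator_mem_commutator hb2 hk)] at e7
  have e8 : g * b' * g⁻¹ * k' * (g * b' * g⁻¹)⁻¹ = b * k' * b⁻¹ := by
    calc _ = g * ⁅b', k⁆ * g⁻¹ * k' := by simp only [hk'', commutatorElement_def]; group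
      _ = _ := by rw [e7, commutatorElement_def]; group
  calc ⁅b⁻¹, g ^ 2⁆ * k' = b⁻¹ * (g * b' * g⁻¹ * k' * (g * b' * g⁻¹)⁻¹) * (g * b' * g⁻¹) := by
        simp only [hb'', commutatorElement_def, sq]; group
    _ = _ := by rw [e8]; simp only [hb'', commutatorElement_def, sq]; group

end Cfsg.Lib.Amalg.Fl
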