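import Cfsg.Agent.Lib.Amalg.Fl5
import Cfsg.Agent.Lib.Coprime.Action

/-! Flavell's theorem on fixed points of a coprime automorphism of odd prime order: the induction. -/

set_option autoImplicit false
set_option linter.unusedSectionVars false

namespace Cfsg.Lib.Amalg.Fl

open Subgroup
open Cfsg.Lib.Core hiding isPGroup_subgroupOf isPGroup_subgroupOf_iff isPGroup_map_subtype_iff
  isPGroup_zpowers_of_orderOf
open scoped commutatorElement

universe u

variable {G : Type u} [Group G] {p q : ℕ} {g : G} {H : Subgroup G}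

/-- the statement, in ambient form -/
def St (p : ℕ) (H : Subgroup G) (g : G) : Prop :=
  g ^ p = 1 → g ∈ 𝐍 H → (Nat.card H).Coprime p → Group.IsSolvable H → ⁅H, zpowers g⁆ ⊓ 𝐂 (zpowers g) ≤ DD H g

/-- the induction hypothesis -/
def IH (p n : ℕ) : Prop :=
  ∀ (G : Type u) [Group G] [Finite G] (H : Subgroup G) (g : G), Nat.card H < n → St p H g

theorem cm_sup (g h : G) : cm g h ⊔ zpowers g = zpowers g ⊔ zpowers (h⁻¹ * g * h⁻¹⁻¹) := by
  refine le_antisymm (sup_le ((closure_le _).2 ?_) le_sup_left) (sup_le le_sup_right (zpowers_le.2 ?_))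
  · rintro _ ⟨i, rfl⟩
    change ⁅h⁻¹, g ^ i⁆ ∈ zpowers g ⊔ zpowers (h⁻¹ * g * h⁻¹⁻¹)
    rw [commutatorElement_def, ← conj_pow]
    exact mul_mem (mem_sup_right (pow_mem (mem_zpowers _) i)) (mem_sup_left (inv_mem (pow_mem (mem_zpowers _) i)))
  · rw [show h⁻¹ * g * h⁻¹⁻¹ = ⁅h⁻¹, g⁆ * g by rw [commutatorElement_def]; group]
    exact mul_mem (mem_sup_left (mem_cm1 g h)) (mem_sup_right (mem_zpowers g))

theorem cop_of (hg : g ^ p = 1) (hc : (Nat.card H).Coprime p) {K : Subgroup G} [Finite G] (h : K ≤ H) :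
    (Nat.card (zpowers g)).Coprime (Nat.card K) := by
  rw [Nat.card_zpowers]
  exact ((hc.coprime_dvd_left (card_dvd_of_le h)).coprime_dvd_right (orderOf_dvd_of_pow_eq_one hg)).symm

theorem solv_le [hs : Group.IsSolvable H] {K : Subgroup G} (h : K ≤ H) (h0 : K ≠ ⊥) : ⁅K, K⁆ < K := by
  haveI := Coprime.isSolvable_of_le' h hs
  haveI := (nontrivial_iff_ne_bot K).2 h0
  have := Group.IsSolvable.commutator_lt_top_of_nontrivial K
  rwa [← map_subtype_lt_map_subtype, _root_.commutator_def, map_commutator, ← MonoidHom.range_eq_map, range_subtype] at this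

section
variable [Finite G] (hg : g ^ p = 1) (hc : (Nat.card H).Coprime p) [hs : Group.IsSolvable H] (ih : IH.{u} p (Nat.card H))
include hg hc hs ih

theorem F1 {K : Subgroup G} (h : K < H) (hn : zpowers g ≤ 𝐍 K) : ⁅K, zpowers g⁆ ⊓ 𝐂 (zpowers g) ≤ DD H g :=
  (ih G K g (card_lt_of_lt h) hg (hn (mem_zpowers g)) (hc.coprime_dvd_left (card_dvd_of_le h.le))
    (Coprime.isSolvable_of_le' h.le hs)).trans (DD_mono h.le)

theorem F2 [hH : H.Normal] (hHP : ⁅H, zpowers g⁆ = H) {N : Subgroup G} [N.Normal] (hN : N ≤ H) (h0 : N ≠ ⊥) :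
    ∀ c ∈ H ⊓ 𝐂 (zpowers g), ∃ d ∈ DD H g, d⁻¹ * c ∈ N ⊓ 𝐂 (zpowers g) := fun c hcc => by
  set f := QuotientGroup.mk' N with hf
  have hfs : Function.Surjective f := QuotientGroup.mk'_surjective _
  haveI : (H.map f).Normal := hH.map f hfs
  have h1 : Nat.card (H.map f) < Nat.card H := by
    have h2 := card_map_mk'_mul N H
    rw [inf_eq_left.2 hN] at h2
    have h3 : 1 < Nat.card N := (one_lt_card_iff_ne_bot N).2 h0
    rw [← h2]
    exact lt_mul_of_one_lt_right Nat.card_pos h3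
  have h2 := ih _ (H.map f) (f g) h1 (by rw [← map_pow, hg, map_one]) (le_normalizer_of_normal' (mem_top _))
    (hc.coprime_dvd_left (card_map_dvd H f)) (Group.isSolvable_of_surjective (f.subgroupMap_surjective H))
  have h3 : ∀ K ≤ H, zpowers g ≤ 𝐍 K → (K ⊓ 𝐂 (zpowers g)).map f = K.map f ⊓ 𝐂 (zpowers (f g)) := fun K hK hn => by
    rw [← MonoidHom.map_zpowers]
    exact Coprime.map_inf_centralizer f hn (cop_of hg hc (inf_le_left.trans hK)) (Or.inl (Coprime.isSolvable_zpowers g))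
  have h4 : DD (H.map f) (f g) ≤ (DD H g).map f := iSup_le fun ⟨_, x, hx, rfl⟩ => by
    rw [← map_cm, ← h3 _ ((cm_le hx).trans hHP.le) (norm_cm g x)]
    exact map_mono (le_DD hx)
  rw [← MonoidHom.map_zpowers, ← map_commutator, hHP, MonoidHom.map_zpowers, ← h3 H le_rfl le_normalizer_of_normal'] at h2
  obtain ⟨d, hd, e⟩ := h4 (h2 (mem_map_of_mem f hcc))
  exact ⟨d, hd, QuotientGroup.eq.1 e, (𝐂 (zpowers g)).mul_mem ((𝐂 (zpowers g)).inv_mem (DD_le_C hd)) hcc.2⟩

end

theorem F3 [Finite G] (hg : g ^ p = 1) (hc : (Nat.card H).Coprime p) [hH : H.Normal] (hHP : ⁅H, zpowers g⁆ = H) :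
    H ⊓ 𝐂 (zpowers g) ≤ ⁅H, H⁆ := by
  set f := QuotientGroup.mk' ⁅H, H⁆ with hf
  haveI : (H.map f).Normal := hH.map f (QuotientGroup.mk'_surjective _)
  haveI : IsMulCommutative (H.map f) := by
    rw [← le_centralizer_iff_isMulCommutative, ← commutator_eq_bot_iff_le_centralizer, ← map_commutator, map_mk'_eq_bot_iff]
  have h1 := Coprime.centralizer_inf_commutator_eq_bot (A := (zpowers g).map f) (V := H.map f) le_normalizer_of_normal'
    (((cop_of hg hc le_rfl).coprime_dvd_left (card_map_dvd _ f)).coprime_dvd_right (card_map_dvd _ f))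
  rw [← map_commutator, hHP, inf_right_comm, inf_idem] at h1
  rw [← map_mk'_eq_bot_iff, eq_bot_iff, ← h1]
  exact (map_inf_le _ _ f).trans (inf_le_inf_left _ (map_centralizer_le_centralizer_image _ f))

theorem C_norm_DD [Finite G] [hH : H.Normal] : 𝐂 (zpowers g) ≤ 𝐍 (DD H g) := fun c hc => by
  refine mem_normalizer_of_cj_le (map_le_iff_le_comap.2 (iSup_le fun x => ?_))
  have h1 : c * g * c⁻¹ = g := by rw [← hc g (mem_zpowers g), mul_inv_cancel_right]
  rw [← map_le_iff_le_comap]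
  refine (map_inf_le _ _ _).trans (le_trans (inf_le_inf ?_ ?_) (le_DD (hH.conj_mem _ x.2 c)))
  · rw [map_cm]
    simp [h1]
  · exact map_conj_le_of_mem hc le_rfl

theorem comm_normal [Finite G] [hH : H.Normal] (hsup : H ⊔ zpowers g = ⊤) {W U : Subgroup G} [hW : W.Normal]
    (hWM : W ≤ ⁅H, H⁆) (hM : ⁅H, H⁆ ≤ 𝐂 ⁅H, H⁆) (hU : U ≤ H) (hn : zpowers g ≤ 𝐍 U) : (⁅W, U⁆).Normal := by
  refine Hall.normal_of_sup_eq_top (fun h hh => ?_) (le_normalizer_commutator le_normalizer_of_normal' hn) hsup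
  refine mem_normalizer_of_cj_le (map_le_iff_le_comap.2 (commutator_le.2 fun w hw u hu => ?_))
  change h * ⁅w, u⁆ * h⁻¹ ∈ ⁅W, U⁆
  have h1 := hW.conj_mem w hw h
  have h2 := commutator_mem_commutator hh (hU hu)
  have h3 := commutator_mem_commutator h1 hu
  have h4 := hM h2 _ (hWM h1)
  have h5 := hM h2 _ (hWM (commutator_le_left W U h3))
  rw [show h * ⁅w, u⁆ * h⁻¹ = (h * w * h⁻¹ * ⁅h, u⁆) * (h * w * h⁻¹)⁻¹ * ⁅h * w * h⁻¹, u⁆ * ⁅h, u⁆⁻¹ by
    simp only [commutatorElement_def]; group, h4, mul_inv_cancel_right, ← h5, mul_inv_cancel_right]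
  exact h3

theorem step2 [Finite G] (hp : p.Prime) (hp2 : p ≠ 2) [hH : H.Normal] (hsup : H ⊔ zpowers g = ⊤)
    (ih : IH.{u} p (Nat.card H)) : St p H g := fun hg hn hc hs => by
  have nP : ∀ (K : Subgroup G) [K.Normal], zpowers g ≤ 𝐍 K := fun K _ => le_normalizer_of_normal'
  have hsP := Coprime.isSolvable_zpowers g
  rcases (comm_le_left (nP H)).lt_or_eq with hlt | hHP
  · have := F1 hg hc ih hlt (right_le_normalizer_comm _ _)
    rwa [Coprime.commutator_commutator_eq (nP H) (cop_of hg hc le_rfl)] at this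
  rw [hHP]
  by_contra hne
  have hDH : DD H g ≤ H := iSup_le fun x => inf_le_left.trans ((cm_le x.2).trans hHP.le)
  have f2 : ∀ (N : Subgroup G) [N.Normal], N ≤ H → N ⊓ 𝐂 (zpowers g) ≤ DD H g → N = ⊥ := fun N _ h1 h2 => by
    by_contra h0
    refine hne fun c hcc => ?_
    obtain ⟨d, hd, h3⟩ := F2 hg hc ih hHP h1 h0 c hcc
    exact ((DD H g).mul_mem_cancel_left ((DD H g).inv_mem hd)).1 (h2 h3)
  have H0 : H ≠ ⊥ := fun h => hne (inf_le_left.trans (h.le.trans bot_le))
  have f3 := F3 hg hc hHP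
  set M := ⁅H, H⁆ with hM
  have hMH : M < H := solv_le le_rfl H0
  have M0 : M ≠ ⊥ := fun h => hne (f3.trans (h.le.trans bot_le))
  set E := ⁅M, zpowers g⁆ ⊔ DD H g with hE
  have hCn : 𝐂 (zpowers g) ≤ 𝐍 ⁅M, zpowers g⁆ := le_normalizer_commutator le_normalizer_of_normal' (cent_le_norm _)
  have hEM : E ≤ M := sup_le (comm_le_left (nP M)) ((le_inf hDH DD_le_C).trans f3)
  have hPE : zpowers g ≤ 𝐍 E :=
    le_normalizer_sup (right_le_normalizer_comm _ _) ((le_cent_symm DD_le_C).trans (cent_le_norm _))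
  have f4 : ∀ (N : Subgroup G) [N.Normal], N ≤ E → N = ⊥ := fun N _ h => f2 N (h.trans (hEM.trans hMH.le)) fun x hx => by
    obtain ⟨m, hm, d, hd, rfl⟩ := (mem_sup_of_le_normalizer_left (DD_le_C.trans hCn)).1 (h hx.1)
    exact mul_mem (F1 hg hc ih hMH (nP M) ⟨hm, ((𝐂 (zpowers g)).mul_mem_cancel_right (DD_le_C hd)).1 hx.2⟩) hd
  have f5 : ∀ h ∈ H, cm g h ⊓ M ≤ E := fun h hh => by
    rw [← Coprime.commutator_sup_centralizer (le_normalizer_inf (norm_cm g h) (nP M))
      (cop_of hg hc (inf_le_right.trans hMH.le)) (Or.inl hsP)]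
    exact sup_le_sup (commutator_mono inf_le_right le_rfl) ((inf_le_inf_right _ inf_le_left).trans (le_DD hh))
  have hMC := Coprime.commutator_sup_centralizer (nP M) (cop_of hg hc hMH.le) (Or.inl hsP)
  have hME : M ≤ 𝐍 E := by
    refine hMC.ge.trans (sup_le (le_normalizer_of_le le_sup_left) (inf_le_right.trans ?_))
    exact le_normalizer_sup hCn C_norm_DD
  haveI := Coprime.isSolvable_of_le' hMH.le hs
  obtain ⟨V, q, hV, V0, hVM, -, hVc, hq, hVq, -⟩ := Hall.exists_minNormal_elementary_le M M0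
  have hEV : M ≤ E ⊔ V := by
    refine hMC.ge.trans (sup_le (le_sup_left.trans le_sup_left) fun c hcc => ?_)
    obtain ⟨d, hd, h3⟩ := F2 hg hc ih hHP (hVM.trans hMH.le) V0 c ⟨hMH.le hcc.1, hcc.2⟩
    rw [← mul_inv_cancel_left d c]
    exact mul_mem (mem_sup_left (mem_sup_right hd)) (mem_sup_right h3.1)
  have hMM : M ≤ 𝐂 M := by
    rw [← comm_eq_bot_iff]
    refine f4 _ ((commutator_mono hEV le_rfl).trans (comm_sup_le (comm_le_left hME) ?_ le_normalizer (hVM.trans hME)))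
    refine (commutator_mono le_rfl hEV).trans (comm_sup_le' (comm_le_right (hVM.trans hME)) ?_ le_normalizer (hVM.trans hME))
    rw [comm_eq_bot_iff.2 (le_centralizer_iff_isMulCommutative.2 hVc)]
    exact bot_le
  have hqE : ∀ m ∈ M, m ^ q ∈ E := fun m hm => by
    obtain ⟨e, he, v, hv, rfl⟩ := (mem_sup_of_le_normalizer_right le_normalizer_of_normal').1 (hEV hm)
    rw [Commute.mul_pow (hMM (hVM hv) e (hEM he)), hVq v hv, mul_one]
    exact pow_mem he q
  have hMq : ∀ m ∈ M, m ^ q = 1 := fun m hm => by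
    rw [← mem_bot, ← f4 (normalClosure {m ^ q}) ((closure_le _).2 fun x hx => ?_)]
    · exact subset_normalClosure rfl
    · obtain ⟨_, rfl, h⟩ := Group.mem_conjugatesOfSet_iff.1 hx
      obtain ⟨c, rfl⟩ := isConj_iff.1 h
      rw [← conj_pow]
      exact hqE _ (Normal.conj_mem inferInstance m hm c)
  haveI := Fact.mk hq
  obtain ⟨W, hWH, ⟨hW, hWC⟩, hmin⟩ := exists_minimal_le (fun W : Subgroup G => W.Normal ∧ ¬ W ≤ 𝐂 H) (H := H)
    ⟨hH, fun h => M0 (comm_eq_bot_iff.2 h)⟩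
  have hmin' : ∀ (N : Subgroup G) [N.Normal], N < W → N ≤ 𝐂 H := fun N hN h => by
    by_contra h1
    exact h.ne (hmin N ⟨hN, h1⟩ h.le)
  have W0 : W ≠ ⊥ := fun h => hWC (h.le.trans bot_le)
  rcases (commutator_le_left W H).lt_or_eq with hlt | hWW
  · have hZ := hmin' _ hlt
    have hEZ : E ⊓ 𝐂 H = ⊥ := by
      haveI : (E ⊓ 𝐂 H).Normal := Hall.normal_of_sup_eq_top ((le_cent_symm inf_le_right).trans (cent_le_norm _))
        (le_normalizer_inf hPE (nP _)) hsup
      exact f4 _ inf_le_left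
    refine hWC (cls2 (hp.odd_of_ne_two hp2) hg hHP hWH hZ f5 hEZ fun z hz => ?_)
    have h1 : ⁅z, g⁆ ∈ E ⊓ 𝐂 H :=
      ⟨mem_sup_left (commutator_mem_commutator (commutator_mono hWH le_rfl hz) (mem_zpowers g)),
        commutator_le_left (𝐂 H) ⊤ (commutator_mem_commutator (hZ hz) trivial)⟩
    rw [hEZ, mem_bot, commutatorElement_eq_one_iff_mul_comm] at h1
    rw [← h1, mul_inv_cancel_right]
  have hWM : W ≤ M := hWW.ge.trans (commutator_mono hWH le_rfl)
  have hMW : M ≤ 𝐂 W := hMM.trans (centralizer_anti hWM)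
  haveI : IsMulCommutative W := le_centralizer_iff_isMulCommutative.1 (hWM.trans hMW)
  have hWq : IsPGroup q W := isPGroup_iff_mem.2 fun x hx => ⟨1, by rw [pow_one, hMq x (hWM hx)]⟩
  have b1 : ∀ U ≤ H, zpowers g ≤ 𝐍 U → ⁅W, U⁆ < W → U ≤ 𝐂 W := fun U hU hn h => by
    haveI := comm_normal hsup hWM hMM hU hn
    rw [← comm_eq_bot_iff', ← hWW, commutator_comm W H]
    exact commutator_commutator_eq_bot_of_rotate (comm_eq_bot_iff.2 (hmin' _ h))
      (comm_eq_bot_iff.2 ((commutator_mono hU le_rfl).trans hMW))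
  obtain ⟨t, ht, hU⟩ : ∃ t ∈ H, ¬ cm g t ≤ 𝐂 W := by
    by_contra h
    push Not at h
    exact hWC (le_cent_symm (hHP.ge.trans (comm_le_of hn fun x hx => h x hx (mem_cm1 g x))))
  set U := cm g t with hU'
  have hUH : U ≤ H := (cm_le ht).trans hHP.le
  have hPU : zpowers g ≤ 𝐍 U := norm_cm g t
  have hU1 : ⁅U, zpowers g⁆ ≤ U := comm_le_left hPU
  have hWU1 : ⁅W, ⁅U, zpowers g⁆⁆ = W := by
    by_contra h
    refine hU ((Coprime.commutator_sup_centralizer hPU (cop_of hg hc hUH) (Or.inl hsP)).ge.trans (sup_le ?_ ?_))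
    · exact b1 _ (hU1.trans hUH) (right_le_normalizer_comm _ _) (lt_of_le_of_ne (commutator_le_left _ _) h)
    · exact (inf_le_inf_right _ hUH).trans (f3.trans hMW)
  have hWU : W ⊔ U = H := by
    refine le_antisymm (sup_le hWH hUH) (Eq.trans_le ?_ (sup_le_sup_left hU1 W))
    by_contra h
    have h1 := F1 hg hc ih (lt_of_le_of_ne (sup_le hWH (hU1.trans hUH)) (Ne.symm h))
      (le_normalizer_sup (nP W) (right_le_normalizer_comm _ _))
    refine W0 (f2 W hWH (le_trans (inf_le_inf_right _ ?_) h1))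
    refine hWU1.ge.trans (le_trans (commutator_mono le_rfl ?_) (comm_le_right (le_sup_left.trans (left_le_normalizer_comm _ _))))
    exact (Coprime.commutator_commutator_eq hPU (cop_of hg hc hUH)).ge.trans (commutator_mono le_sup_right le_rfl)
  have nrm : ∀ K : Subgroup G, W ≤ 𝐂 K → U ≤ 𝐍 K → zpowers g ≤ 𝐍 K → K.Normal := fun K h1 h2 h3 =>
    Hall.normal_of_sup_eq_top (hWU.ge.trans (sup_le (h1.trans (cent_le_norm _)) h2)) h3 hsup
  have hUM : U ⊓ M = ⊥ := by
    haveI := nrm (U ⊓ M) (le_cent_symm (inf_le_right.trans hMW)) (le_normalizer_inf le_normalizer le_normalizer_of_normal')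
      (le_normalizer_inf hPU (nP M))
    exact f4 _ (f5 t ht)
  have hUP : U ⊓ 𝐂 (zpowers g) = ⊥ :=
    eq_bot_iff.2 (le_trans (le_inf inf_le_left ((inf_le_inf_right _ hUH).trans f3)) hUM.le)
  haveI : IsMulCommutative U := le_centralizer_iff_isMulCommutative.1 (comm_eq_bot_iff.1 (eq_bot_iff.2
    (le_trans (le_inf (comm_le_left le_normalizer) (commutator_mono hUH hUH)) hUM.le)))
  have hqU : ¬ q ∣ Nat.card U := by
    obtain ⟨T, hT⟩ := exists_syl q U
    rw [← hT.eq_bot_iff, hT.eq_op (((le_centralizer U).trans (centralizer_anti hT.le)).trans (cent_le_norm _))]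
    haveI := nrm (pCoreOf q U) (le_cent_symm (b1 _ ((op_le U).trans hUH) (le_norm_op_of_le hPU)
      (commutator_lt_of_isPGroup hWq (op_isPGroup U) le_normalizer_of_normal' W0))) (le_norm_op U) (le_norm_op_of_le hPU)
    exact f2 (pCoreOf q U) ((op_le U).trans hUH) ((inf_le_inf_right _ (op_le U)).trans (hUP.le.trans bot_le))
  have hcU : (Nat.card U).Coprime (Nat.card W) :=
    Coprime.coprime_card_of_isPGroup hWq ((Nat.Prime.coprime_iff_not_dvd hq).2 hqU).symm
  have hWC' : W ⊓ 𝐂 U = ⊥ := by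
    have h1 := Coprime.centralizer_inf_commutator_eq_bot (A := U) (V := W) le_normalizer_of_normal' hcU
    rwa [le_antisymm (commutator_le_left W U) (hWU1.ge.trans (commutator_mono le_rfl hU1)), inf_right_comm, inf_idem] at h1
  have g1 : g ≠ 1 := fun h => H0 (by rw [← hHP, h, zpowers_one_eq_bot, commutator_bot_right])
  haveI := Fact.mk hp
  have hP : Nat.card (zpowers g) = p := by rw [Nat.card_zpowers, orderOf_eq_prime hg g1]
  have hcA : (Nat.card ↥(U ⊔ zpowers g)).Coprime (Nat.card W) :=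
    (hcU.mul_left (cop_of hg hc hWH)).coprime_dvd_left (card_sup_dvd' hPU)
  have h1 := (Coprime.fpf_of_card_prime (hP ▸ hp) hUP).card_eq_pow hPU le_normalizer_of_normal' hcA
    (Coprime.isSolvable_of_le' hWH hs) hWC'
  have h2 : 1 < Nat.card ↥(W ⊓ 𝐂 (zpowers g)) := (one_lt_card_iff_ne_bot _).2 fun h => W0 (f2 W hWH (h.le.trans bot_le))
  have hA : W.IsComplement' (U ⊔ zpowers g) := isComplement'_of_disjoint_and_mul_eq_univ
    (disjoint_iff.2 (Coprime.inf_eq_bot_of_coprime_card hcA)) (by rw [← normal_mul, ← sup_assoc, hWU, hsup, coe_top])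
  obtain ⟨v, hv, h3⟩ := key2 (N := W) (fun N hN h => by
      rcases h.lt_or_eq with h | h
      · exact Or.inl (eq_bot_iff.2 (le_trans (le_inf h.le ((hmin' N h).trans (centralizer_anti hUH))) hWC'.le))
      · exact Or.inr h) (by rw [hA.symm.index_eq_card]; exact hcA.symm) hA (cm_sup g t) (by
      rw [← centralizer_zpowers]
      exact (Nat.pow_lt_pow_right h2 (by have := hp.two_le; omega)).trans_eq h1.symm)
  rw [show v * (t⁻¹ * g * t⁻¹⁻¹) * v⁻¹ = (t * v⁻¹)⁻¹ * g * (t * v⁻¹)⁻¹⁻¹ by group, ← cm_sup] at h3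
  have h4 : t * v⁻¹ ∈ H := mul_mem ht (inv_mem (hWH hv))
  refine hne (le_trans (inf_le_inf_right _ ?_) (le_DD h4))
  have h5 := sup_inf_assoc_of_le_normalizer' (norm_cm g (t * v⁻¹)) ((cm_le h4).trans hHP.le)
  rw [h3, top_inf_eq, inf_comm, Coprime.inf_eq_bot_of_coprime_card (cop_of hg hc le_rfl), sup_bot_eq] at h5
  exact h5.le

theorem all (hp : p.Prime) (hp2 : p ≠ 2) (n : ℕ) : IH.{u} p n := by
  induction n with
  | zero => exact fun _ _ _ _ _ h => absurd h (Nat.not_lt_zero _)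
  | succ n ih =>
    intro G _ _ H g hlt
    rcases (Nat.lt_succ_iff.1 hlt).lt_or_eq with h | h
    · exact ih G H g h
    intro hg hn hc hs
    set L := H ⊔ zpowers g with hL
    have hHL : H ≤ L := le_sup_left
    have hgL : g ∈ L := mem_sup_right (mem_zpowers g)
    haveI : (H.subgroupOf L).Normal :=
      (normal_subgroupOf_iff_le_normalizer hHL).2 (sup_le le_normalizer (zpowers_le.2 hn))
    have e1 : (H.subgroupOf L).map L.subtype = H := map_subtype_subgroupOf_of_le hHL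
    have e2 : (zpowers (⟨g, hgL⟩ : L)).map L.subtype = zpowers g := by rw [MonoidHom.map_zpowers]; rfl
    have h1 := step2 (H := H.subgroupOf L) (g := ⟨g, hgL⟩) hp hp2
      (map_injective L.subtype_injective (by rw [Subgroup.map_sup, e1, e2, ← MonoidHom.range_eq_map, range_subtype]))
      (by rw [card_subgroupOf_of_le hHL, h]; exact ih) (Subtype.ext hg) (le_normalizer_of_normal' (mem_top _))
      (by rwa [card_subgroupOf_of_le hHL]) (Group.isSolvable_of_isSolvable_injective (f := (subgroupOfEquivOfLe hHL).toMonoidHom) (subgroupOfEquivOfLe hHL).injective)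
    have h2 := map_mono (f := L.subtype) h1
    rw [map_inf _ _ _ L.subtype_injective, map_commutator, map_subtype_centralizer, e1, e2] at h2
    refine le_trans (le_inf inf_le_left (inf_le_inf_right _ (comm_le_of_le hHL le_sup_right))) (h2.trans ?_)
    refine map_le_iff_le_comap.2 (iSup_le fun x => map_le_iff_le_comap.1 ?_)
    rw [map_inf _ _ _ L.subtype_injective, map_cm, map_subtype_centralizer, e2]
    exact (inf_le_inf_left _ inf_le_right).trans (le_DD x.2)

theorem fix_eq {H : Type*} [Group H] [Finite H] [hs : Group.IsSolvable H] (hp : p.Prime) (hp2 : p ≠ 2)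
    (hcop : (Nat.card H).Coprime p) (x : MulAut H) (hx : orderOf x = p) :
    closure {c : H | ∃ h : H, ∃ i : ℕ, c = h⁻¹ * (x ^ i) h} ⊓ (x : H →* H).eqLocus (MonoidHom.id H) =
      ⨆ h : H, closure {c : H | ∃ i : ℕ, c = h⁻¹ * (x ^ i) h} ⊓ (x : H →* H).eqLocus (MonoidHom.id H) := by
  refine le_antisymm ?_ (iSup_le fun h => inf_le_inf_right _ (closure_mono fun c ⟨i, hi⟩ => ⟨h, i, hi⟩))
  haveI : Finite (MulAut H) := Finite.of_injective _ MulEquiv.toEquiv_injective
  have A := Coprime.isAmbient_semidirect (zpowers x).subtype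
  haveI := Coprime.finite_semidirect (zpowers x).subtype
  set i := (SemidirectProduct.inl : H →* H ⋊[(zpowers x).subtype] zpowers x)
  set j := (SemidirectProduct.inr : zpowers x →* H ⋊[(zpowers x).subtype] zpowers x)
  set y : zpowers x := ⟨x, mem_zpowers x⟩
  have key : ∀ (h : H) (n : ℕ), i (h⁻¹ * (x ^ n) h) = ⁅(i h)⁻¹, j y ^ n⁆ := fun h n => by
    rw [map_mul, ← map_pow, show (x ^ n) h = (zpowers x).subtype (y ^ n) h from rfl, ← A.conj, commutatorElement_def, map_inv]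
    group
  have hfix : ∀ c, c ∈ (x : H →* H).eqLocus (MonoidHom.id H) ↔ i c ∈ 𝐂 (zpowers (j y)) := fun c => by
    rw [centralizer_zpowers, A.mem_centralizer_singleton_iff]
    rfl
  have h1 := all hp hp2 _ _ ((⊤ : Subgroup H).map i) (j y) (Nat.lt_succ_self _)
    (by rw [← map_pow, show y ^ p = 1 from Subtype.ext (hx ▸ pow_orderOf_eq_one x), map_one])
    (A.le_normalizer_top ⊤ (mem_map_of_mem j (mem_top y))) (by rwa [A.card_map_i, card_top])
    (Group.isSolvable_of_surjective (i.subgroupMap_surjective ⊤))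
  rw [← A.map_le_map]
  refine le_trans ?_ (h1.trans (iSup_le fun ⟨_, h, _, rfl⟩ => ?_))
  · rintro _ ⟨c, hc, rfl⟩
    refine ⟨map_le_iff_le_comap.2 ((closure_le _).2 ?_) (mem_map_of_mem i hc.1), (hfix c).1 hc.2⟩
    rintro _ ⟨h, n, rfl⟩
    rw [SetLike.mem_coe, mem_comap, key]
    exact commutator_mem_commutator (inv_mem (mem_map_of_mem i (mem_top h))) (pow_mem (mem_zpowers _) n)
  · refine le_trans (fun z hz => ?_) (map_mono (le_iSup _ h))
    have h2 : cm (j y) (i h) ≤ (closure {c : H | ∃ n : ℕ, c = h⁻¹ * (x ^ n) h}).map i := (closure_le _).2 (by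
      rintro _ ⟨n, rfl⟩
      exact ⟨_, subset_closure ⟨n, rfl⟩, key h n⟩)
    obtain ⟨c, hc, rfl⟩ := h2 hz.1
    exact mem_map_of_mem i ⟨hc, (hfix c).2 hz.2⟩

end Cfsg.Lib.Amalg.Fl
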