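import Cfsg.Agent.Lib.Amalg.Ops
import Cfsg.Agent.Lib.Invol.Basic
import Cfsg.Agent.Lib.BN.SzCount
import Cfsg.Agent.Lib.Linear.SL2Sub
import Cfsg.Agent.Lib.Linear.Card

/-! Rank one quotients `SL₂(q)`, `Sz(q)`, `D_{2r}` with a root subgroup `Y`. -/

set_option autoImplicit false
set_option linter.unusedSectionVars false

namespace Cfsg.Lib.Amalg.FrakL

open Subgroup
open Cfsg.Lib.Core hiding isPGroup_subgroupOf isPGroup_subgroupOf_iff isPGroup_map_subtype_iff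
open scoped commutatorElement

variable {K : Type*} [Group K] [Finite K] {p : ℕ} {Y : Subgroup K} {g x y : K}

/-- `𝐍 Y` is the unique maximal subgroup over `Y` and `K = ⟨Y^K⟩` -/
structure UM (Y : Subgroup K) : Prop where
  lt : 𝐍 Y ≠ ⊤
  um : ∀ X, Y ≤ X → X ≠ ⊤ → X ≤ 𝐍 Y
  nc : normalClosure (Y : Set K) = ⊤

theorem UM.exists_not_mem (h : UM Y) : ∃ g, g ∉ 𝐍 Y := by
  by_contra! e
  exact h.lt (eq_top_iff.2 fun g _ => e g)

theorem UM.gen (h : UM Y) (hg : g ∉ 𝐍 Y) : Y ⊔ cj g Y = ⊤ := by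
  by_contra e
  have h1 : cj g Y ≤ 𝐍 Y := le_sup_right.trans (h.um _ le_sup_left e)
  have h2 : cj g⁻¹ (𝐍 Y) ≤ 𝐍 Y := h.um _ (cj_le_iff.1 h1) (fun e => h.lt (cj_eq_top_iff.1 e))
  have h3 : g⁻¹ ∈ 𝐍 (𝐍 Y) := mem_normalizer_of_cj_le h2
  by_cases e' : 𝐍 (𝐍 Y) = ⊤
  · have := normal_of_top_le_normalizer e'.ge
    exact h.lt (eq_top_iff.2 (h.nc ▸ normalClosure_le_normal le_normalizer))
  · exact hg (inv_mem_iff.1 (h.um _ (le_normalizer.trans le_normalizer) e' h3))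

structure QD (p : ℕ) (Y : Subgroup K) : Prop extends UM Y where
  ea : IsElementaryAbelian p Y
  ne : Y ≠ ⊥
  op : ∀ N : Subgroup K, N.Normal → IsPGroup p N → N = ⊥

def P1 (p : ℕ) (Y : Subgroup K) : Prop := ∀ x ∈ 𝐍 Y, x ^ p = 1 → x ∈ Y

def P3 (p : ℕ) (K : Type*) [Group K] : Prop :=
  ∀ h : K, h ∉ center K → (∀ k : ℕ, h ^ p ^ k ≠ 1) → ∃ y y' : K, y ^ p = 1 ∧ y' ^ p = 1 ∧ h = y * y'

def P4 (Y : Subgroup K) : Prop := ∀ V, V ≤ Y → V ≠ ⊥ → 𝐍 Y ≤ 𝐍 V → V = Y

theorem QD.eq_one_of_central (h : QD p Y) (hx : x ∈ center K) {k : ℕ} (e : x ^ p ^ k = 1) : x = 1 := by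
  have : (zpowers x).Normal := normal_of_top_le_normalizer fun g _ =>
    cent_le_norm _ fun y hy => (mem_center_iff.1 (zpowers_le.2 hx hy) g).symm
  exact zpowers_eq_bot.1 (h.op _ this (isPGroup_zpowers_of_pow e))

theorem QD.cent_le (h : QD p Y) (hy : y ∈ Y) (h1 : y ≠ 1) : centralizer {y} ≤ 𝐍 Y := by
  refine h.um _ (fun z hz => mem_centralizer_singleton_iff.2 (elemAb_le_cent h.ea hy z hz)) fun e => h1 ?_
  refine h.eq_one_of_central (k := 1) (mem_center_iff.2 fun g => ?_) (by rw [pow_one]; exact h.ea.2 y hy)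
  exact mem_centralizer_singleton_iff.1 (e.ge (mem_top g))

theorem QD.ti (h : QD p Y) (hg : g ∉ 𝐍 Y) (hy : y ∈ Y) (hy' : y ∈ cj g Y) : y = 1 := by
  refine h.eq_one_of_central (k := 1) (mem_center_iff.2 fun z => ?_) (by rw [pow_one]; exact h.ea.2 y hy)
  have : (⊤ : Subgroup K) ≤ centralizer {y} := by
    rw [← h.gen hg]
    exact sup_le (fun z hz => mem_centralizer_singleton_iff.2 (elemAb_le_cent h.ea hy z hz))
      fun z hz => mem_centralizer_singleton_iff.2 (elemAb_le_cent (elemAb_map h.ea _) hy' z hz)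
  exact mem_centralizer_singleton_iff.1 (this (mem_top z))

theorem QD.p2 [Fact p.Prime] (h : QD p Y) (h1 : P1 p Y) (e : x ^ p = 1) : ∃ c, x ∈ cj c Y := by
  obtain ⟨T, hT, hYT⟩ := exists_syl_ge (elemAb_isPGroup h.ea) (le_top (a := Y))
  have hTN : T ≤ 𝐍 Y := h.um _ hYT fun e => h.ne (eq_bot_iff.2 (hYT.trans
    (h.op T (e ▸ inferInstance) hT.isPGroup).le))
  obtain ⟨c, -, hc⟩ := hT.exists_le_conj (isPGroup_zpowers_of_pow (k := 1) (by rwa [pow_one])) le_top
  refine ⟨c, mem_cj.2 (h1 _ (hTN (mem_cj.1 (hc (mem_zpowers x)))) ?_)⟩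
  rw [show c⁻¹ * x * c = c⁻¹ * x * c⁻¹⁻¹ by rw [inv_inv], conj_pow, e]; group

theorem P1.cj (h1 : P1 p Y) (c : K) : P1 p (cj c Y) := fun x hx e => by
  rw [← cj_normalizer] at hx
  refine mem_cj.2 (h1 _ (mem_cj.1 hx) ?_)
  rw [show c⁻¹ * x * c = c⁻¹ * x * c⁻¹⁻¹ by rw [inv_inv], conj_pow, e]; group

theorem QD.p4_two (h : QD 2 Y) (h1 : P1 2 Y) : P4 Y := by
  intro V hV hne hn
  obtain ⟨g, hg⟩ := h.exists_not_mem
  obtain ⟨⟨v, hv⟩, hv1⟩ := ne_bot_iff_exists_ne_one.1 hne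
  replace hv1 : v ≠ 1 := fun e => hv1 (Subtype.ext e)
  have sq : ∀ y ∈ Y, y * y = 1 := fun y hy => by rw [← pow_two]; exact h.ea.2 y hy
  have key : ∀ y ∈ Y, y ≠ 1 → IsConj y (g * v * g⁻¹) := fun y hy hy1 => by
    by_contra e
    obtain ⟨z, hz, c1, c2, -⟩ := Cfsg.Lib.Invol.exists_central_of_not_isConj (sq y hy)
      (by rw [show g * v * g⁻¹ * (g * v * g⁻¹) = g * (v * v) * g⁻¹ by group, sq v (hV hv)]; group) e
    have z2 : z ^ 2 = 1 := hz ▸ pow_orderOf_eq_one z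
    have a1 : z ∈ Y := h1 z (h.cent_le hy hy1 (mem_centralizer_singleton_iff.2 c1.eq)) z2
    have a2 : z ∈ cj g Y := h1.cj g z (by
      rw [← cj_normalizer]
      refine cj_mono g (h.cent_le (hV hv) hv1) ?_
      rw [cj_centralizer_singleton]; exact mem_centralizer_singleton_iff.2 c2.eq) z2
    rw [h.ti hg a1 a2, orderOf_one] at hz
    exact absurd hz (by decide)
  refine le_antisymm hV fun y hy => ?_
  by_cases hy1 : y = 1
  · exact hy1 ▸ one_mem _
  obtain ⟨c, hc⟩ := isConj_iff.1 ((key v (hV hv) hv1).trans (key y hy hy1).symm)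
  have : c ∈ 𝐍 Y := by_contra fun e => hy1 (h.ti e hy (hc ▸ conj_mem_cj c (hV hv)))
  exact hc ▸ conj_mem_of_mem_normalizer (hn this) hv

/-! ### `|Y| = 2` -/

theorem QD.dih (h : QD 2 Y) (hc : Nat.card Y = 2) : P1 2 Y ∧ P3 2 K := by
  obtain ⟨g, hg⟩ := h.exists_not_mem
  obtain ⟨⟨t, ht⟩, ht1⟩ := ne_bot_iff_exists_ne_one.1 h.ne
  replace ht1 : t ≠ 1 := fun e => ht1 (Subtype.ext e)
  have t2 : t * t = 1 := by rw [← pow_two]; exact h.ea.2 t ht
  have hY : ∀ y ∈ Y, y = 1 ∨ y = t := fun y hy => by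
    obtain ⟨u, -, hu⟩ := (Nat.card_eq_two_iff' (1 : Y)).1 hc
    by_cases e : y = 1
    · exact Or.inl e
    · exact Or.inr (congrArg Subtype.val ((hu ⟨y, hy⟩ fun e' => e (congrArg Subtype.val e')).trans
        (hu ⟨t, ht⟩ fun e' => ht1 (congrArg Subtype.val e')).symm))
  have ti : t⁻¹ = t := inv_eq_of_mul_eq_one_right t2
  set c := t * (g * t * g⁻¹) with hcdef
  have tc : t * c * t⁻¹ = c⁻¹ := by
    rw [hcdef, mul_inv_rev, mul_inv_rev, mul_inv_rev, inv_inv, ti, ← mul_assoc t t, t2]; group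
  have inv : ∀ b ∈ zpowers c, t * b * t⁻¹ = b⁻¹ := by
    rintro _ ⟨n, rfl⟩
    simp only [← conj_zpow, tc, inv_zpow]
  have hn : Y ≤ 𝐍 (zpowers c) := fun y hy => by
    rcases hY y hy with rfl | rfl
    · exact one_mem _
    · exact mem_normalizer_of_cj_le (cj_le_iff'.2 fun b hb => inv b hb ▸ inv_mem hb)
  have top : Y ⊔ zpowers c = ⊤ := by
    rw [eq_top_iff, ← h.gen hg]
    refine sup_le le_sup_left (cj_le_iff'.2 fun y hy => ?_)
    rcases hY y hy with rfl | rfl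
    · simpa using one_mem _
    · rw [show g * y * g⁻¹ = y * c by rw [hcdef, ← mul_assoc y y, t2, one_mul]]
      exact mul_mem (mem_sup_left hy) (mem_sup_right (mem_zpowers c))
  have dec : ∀ x, ∃ a ∈ Y, ∃ b ∈ zpowers c, a * b = x := fun x =>
    (mem_sup_of_le_normalizer hn).1 (top.ge (mem_top x))
  refine ⟨fun x hx _ => ?_, fun x _ hx => ?_⟩
  · obtain ⟨a, ha, b, hb, rfl⟩ := dec x
    have hb' : b ∈ 𝐍 Y := by simpa using mul_mem (inv_mem (le_normalizer ha)) hx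
    have c1 : b * t * b⁻¹ = t := (hY _ (conj_mem_of_mem_normalizer hb' ht)).resolve_left fun e =>
      ht1 (conj_eq_one_iff.1 e)
    have c2 : t * b = b * t := by rw [← mul_inv_eq_iff_eq_mul.1 c1]
    have c3 : b ^ 2 ^ 1 = 1 := by
      have := inv b hb
      rw [c2, mul_inv_cancel_right] at this
      rw [pow_one, pow_two]; nth_rw 2 [this]; exact mul_inv_cancel b
    have c4 : b ∈ center K := mem_center_iff.2 fun z => by
      obtain ⟨a', ha', b', hb'', rfl⟩ := dec z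
      have e1 : a' * b = b * a' := by
        rcases hY a' ha' with rfl | rfl
        · simp
        · exact c2
      have e2 : b' * b = b * b' := by
        obtain ⟨m, rfl⟩ := hb; obtain ⟨n, rfl⟩ := hb''; exact zpow_mul_comm c n m
      rw [mul_assoc, e2, ← mul_assoc, e1, mul_assoc]
    rw [h.eq_one_of_central c4 c3, mul_one]; exact ha
  · obtain ⟨a, ha, b, hb, rfl⟩ := dec x
    have e : (t * b) ^ 2 = 1 := by
      rw [pow_two, show t * b * (t * b) = t * b * t⁻¹ * b by rw [ti, mul_assoc (t * b)], inv b hb,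
        inv_mul_cancel]
    rcases hY a ha with rfl | rfl
    · exact ⟨t, t * b, by rw [pow_two, t2], e, by rw [← mul_assoc, t2]⟩
    · exact absurd e (hx 1)

/-! ### Suzuki groups -/

section Sz
open Cfsg.Lib.BN Cfsg.Lib.BN.Sz

variable {F : Type*} [Field F] {m : ℕ} [SzField F m]

theorem sz_p3 : P3 2 (Cfsg.Sz F m) := fun g _ hg => by
  have h := isOddPart_centralizer (hg 2)
  obtain ⟨s, hs, h1, h2⟩ := h.exists_involution
  have := h.conj_eq_inv hs h1 h2 (mem_centralizer_singleton_iff.2 rfl)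
  refine ⟨s, s * g, by rw [pow_two, h2], ?_, by rw [← mul_assoc, h2, one_mul]⟩
  rw [pow_two, ← mul_assoc, this, inv_mul_cancel]

theorem sz_p1 {Y : Subgroup (Cfsg.Sz F m)} (h : QD 2 Y) (hc : Nat.card Y = 2 ^ (2 * m + 1)) :
    P1 2 Y := fun x hx e => by
  obtain ⟨⟨t, ht⟩, ht1⟩ := ne_bot_iff_exists_ne_one.1 h.ne
  replace ht1 : t ≠ 1 := fun e => ht1 (Subtype.ext e)
  have hW : IsPGroup 2 (zpowers x ⊔ Y : Subgroup _) := isPGroup_sup_of_le_normalizer
    (isPGroup_zpowers_of_pow (k := 1) (by rwa [pow_one])) (elemAb_isPGroup h.ea) (zpowers_le.2 hx)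
  obtain ⟨c, hcQ⟩ := exists_conj_mem_Q (g := t) (by
    rw [show t ^ 4 = (t ^ 2) ^ 2 from pow_mul t 2 2, h.ea.2 t ht, one_pow])
  have hle : cj c⁻¹ (zpowers x ⊔ Y) ≤ Q F m := le_Q_of_isPGroup (isPGroup_cj _ hW)
    (x := c⁻¹ * t * c) (mem_cj.2 (by simpa [mul_assoc] using mem_sup_right ht)) hcQ
    fun e => ht1 (conj_eq_one_iff.1 (show c⁻¹ * t * c⁻¹⁻¹ = 1 by rwa [inv_inv]))
  have hZ : ∀ u ∈ zpowers x ⊔ Y, u ^ 2 = 1 → c⁻¹ * u * c⁻¹⁻¹ ∈ Z F m := fun u hu e => by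
    obtain ⟨b, hb⟩ := eq_U_zero_of_sq (hle (conj_mem_cj _ hu)) (by
      rw [← pow_two, conj_pow, e]; group)
    exact hb ▸ U_mem_Z m b
  have hYZ : cj c⁻¹ Y = Z F m := eq_of_le_of_card_ge
    (cj_le_iff'.2 fun u hu => hZ u (mem_sup_right hu) (h.ea.2 u hu)) (by rw [card_cj, hc, card_Z])
  exact conj_mem_cj_iff.1 (hYZ ▸ hZ x (mem_sup_left (mem_zpowers x)) e)

end Sz

/-! ### `SL₂(q)` -/

section SL
open Cfsg.Lib.Linear Matrix

variable {F : Type*} [Field F]

theorem unip_pow (a b c d : F) (h : a * d - b * c = 1) (t : a + d = 2) (n : ℕ) :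
    slMat a b c d h ^ n = slMat (1 + n * (a - 1)) (n * b) (n * c) (1 + n * (d - 1))
      (by linear_combination (n : F) ^ 2 * h + (n - (n : F) ^ 2) * t) := by
  induction n with
  | zero => rw [pow_zero, one_eq_slMat, slMat_inj]; simp
  | succ n ih =>
    rw [pow_succ, ih, slMat_mul, slMat_inj]
    push_cast
    refine ⟨?_, ?_, ?_, ?_⟩
    · linear_combination -(n : F) * h + n * a * t
    · linear_combination (n : F) * b * t
    · linear_combination (n : F) * c * t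
    · linear_combination -(n : F) * h + n * d * t

theorem unip_pow_char [_root_.CharP F p] (a b c d : F) (h : a * d - b * c = 1) (t : a + d = 2) :
    slMat a b c d h ^ p = 1 := by
  rw [unip_pow a b c d h t, one_eq_slMat, slMat_inj]; simp

theorem sl_p3 [_root_.CharP F p] : P3 p (SpecialLinearGroup (Fin 2) F) := fun g hg _ => by
  obtain ⟨a, b, c, d, h, rfl⟩ := exists_slMat g
  have key : ∀ (a' b' c' d' : F) (h' : a' * d' - b' * c' = 1), a' + d' = 2 →
      a' * a + b' * c + (c' * b + d' * d) = 2 → ∃ y y' : SpecialLinearGroup (Fin 2) F,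
      y ^ p = 1 ∧ y' ^ p = 1 ∧ slMat a b c d h = y * y' := fun a' b' c' d' h' t1 t2 =>
    ⟨(slMat a' b' c' d' h')⁻¹, slMat a' b' c' d' h' * slMat a b c d h,
      by rw [inv_pow, unip_pow_char _ _ _ _ _ t1, inv_one],
      by rw [slMat_mul]; exact unip_pow_char _ _ _ _ _ t2, by group⟩
  by_cases hc : c = 0
  · by_cases hb : b = 0
    · by_cases had : a = d
      · refine absurd (mem_center_iff.2 fun z => ?_) hg
        obtain ⟨a', b', c', d', h', rfl⟩ := exists_slMat z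
        rw [slMat_mul, slMat_mul, slMat_inj]
        subst hc hb had
        refine ⟨?_, ?_, ?_, ?_⟩ <;> ring
      · have : a - d ≠ 0 := sub_ne_zero.2 had
        refine key (1 + (2 - a - d) / (a - d)) (-((2 - a - d) / (a - d))) ((2 - a - d) / (a - d))
          (1 - (2 - a - d) / (a - d)) (by ring) (by ring) ?_
        subst hc hb
        field_simp; ring
    · refine key 1 0 ((2 - a - d) / b) 1 (by ring) (by ring) ?_
      field_simp; ring
  · refine key 1 ((2 - a - d) / c) 0 1 (by ring) (by ring) ?_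
    field_simp; ring

variable [Finite F] [Fact p.Prime]

theorem sl_syl {Y : Subgroup (SpecialLinearGroup (Fin 2) F)} (hY : IsPGroup p Y) (hne : Y ≠ ⊥)
    (hc : Nat.card Y = Nat.card F) : Syl p Y ⊤ := by
  have hp : p.Prime := Fact.out
  have hd : p ∣ Nat.card F := hc ▸ dvd_card_of_isPGroup_ne_bot hY hne
  refine syl_of_not_dvd le_top hY ?_
  have e := Y.card_mul_index
  rw [card_SL_two, hc, mul_assoc] at e
  rw [relIndex_top_right, Nat.eq_of_mul_eq_mul_left Nat.card_pos e]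
  intro h
  rcases (Nat.Prime.dvd_mul hp).1 h with h | h
  · have := Nat.dvd_sub hd h
    rw [Nat.sub_sub_self Nat.card_pos] at this
    exact hp.one_lt.ne' (Nat.dvd_one.1 this)
  · exact hp.one_lt.ne' (Nat.dvd_one.1 ((Nat.dvd_add_right hd).1 h))

theorem sl_p1 {Y : Subgroup (SpecialLinearGroup (Fin 2) F)} (h : QD p Y)
    (hc : Nat.card Y = Nat.card F) : P1 p Y := fun _ hx e =>
  (sl_syl (elemAb_isPGroup h.ea) h.ne hc).mem_of_mem_normalizer (k := 1) (by rwa [pow_one])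
    (mem_top _) hx

/-- upper unitriangular matrices -/
def upH (F : Type*) [Field F] : Multiplicative F →* SpecialLinearGroup (Fin 2) F where
  toFun b := slMat 1 b.toAdd 0 1 (by simp)
  map_one' := one_eq_slMat.symm
  map_mul' a b := by rw [slMat_mul, slMat_inj]; simp [add_comm]

theorem upH_inj : Function.Injective (upH F) := fun _ _ e =>
  congrFun (congrFun (congrArg Subtype.val e) 0) 1

theorem sl_p4 [_root_.CharP F p] (h2 : p ≠ 2) {Y : Subgroup (SpecialLinearGroup (Fin 2) F)}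
    (h : QD p Y) (hc : Nat.card Y = Nat.card F) : P4 Y := by
  have cU : Nat.card (upH F).range = Nat.card F :=
    (Nat.card_congr (MonoidHom.ofInjective upH_inj).toEquiv).symm
  have hU : Syl p (upH F).range ⊤ := sl_syl (isPGroup_iff_mem.2 (by
      rintro _ ⟨b, rfl⟩
      exact ⟨1, by rw [pow_one]; exact unip_pow_char _ _ _ _ (by simp) one_add_one_eq_two⟩))
    (fun e => by rw [e, card_bot] at cU; exact Finite.one_lt_card.ne cU) cU
  obtain ⟨d, -, rfl⟩ := hU.exists_conj (sl_syl (elemAb_isPGroup h.ea) h.ne hc)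
  have two : (2 : F) ≠ 0 := fun e => h2 ((Nat.prime_dvd_prime_iff_eq Fact.out Nat.prime_two).1
    ((CharP.cast_eq_zero_iff F p 2).1 (by exact_mod_cast e)))
  intro V hV hne hn
  rw [eq_comm, cj_eq_iff]
  rw [le_cj_iff] at hV
  rw [← cj_normalizer, cj_le_iff, cj_normalizer] at hn
  replace hne : cj d⁻¹ V ≠ ⊥ := fun e => hne (cj_eq_bot_iff.1 e)
  generalize cj d⁻¹ V = W at hV hn hne
  obtain ⟨⟨v, hv⟩, hv1⟩ := ne_bot_iff_exists_ne_one.1 hne
  obtain ⟨c, rfl⟩ := hV hv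
  have hc0 : c.toAdd ≠ 0 := fun e => hv1 (Subtype.ext (by
    show upH F c = 1
    rw [show c = 1 from e]; exact map_one _))
  have cjD : ∀ (a : F) (ha : a ≠ 0) (b : Multiplicative F),
      slMat a 0 0 a⁻¹ (by simp [ha]) * upH F b * (slMat a 0 0 a⁻¹ (by simp [ha]))⁻¹ =
        upH F (.ofAdd (a ^ 2 * b.toAdd)) := fun a ha b => by
    simp only [upH, MonoidHom.coe_mk, OneHom.coe_mk]
    rw [slMat_inv, slMat_mul, slMat_mul, slMat_inj]
    refine ⟨?_, ?_, ?_, ?_⟩ <;> simp [ha]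
    ring
  have sq : ∀ a : F, upH F (.ofAdd (a ^ 2 * c.toAdd)) ∈ W := fun a => by
    by_cases ha : a = 0
    · simpa [ha] using one_mem W
    · rw [← cjD a ha]
      refine conj_mem_of_mem_normalizer (hn (mem_normalizer_of_cj_le (cj_le_iff'.2 ?_))) hv
      rintro _ ⟨b, rfl⟩
      exact ⟨_, (cjD a ha b).symm⟩
  refine le_antisymm ?_ hV
  rintro _ ⟨b, rfl⟩
  have := mul_mem (sq ((b.toAdd / c.toAdd + 1) / 2)) (inv_mem (sq ((b.toAdd / c.toAdd - 1) / 2)))
  rw [← map_inv, ← map_mul, ← ofAdd_neg, ← ofAdd_add] at this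
  convert this using 2
  rw [← ofAdd_toAdd b]
  congr 1
  simp only [toAdd_ofAdd]
  field_simp; ring

end SL

end Cfsg.Lib.Amalg.FrakL
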