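import Cfsg.Agent.Lib.Amalg.FrakL1
import Cfsg.Agent.Lib.Amalg.PRed

/-! The class `𝔏_G(Y_M)`: action of `L` on `O_p(L) / C_Y(L)`. -/

set_option autoImplicit false
set_option linter.unusedSectionVars false

namespace Cfsg.Lib.Amalg.FrakL

open Subgroup
open Cfsg.Lib.Core hiding isPGroup_subgroupOf isPGroup_subgroupOf_iff isPGroup_map_subtype_iff
open scoped commutatorElement

variable {L K : Type*} [Group L] [Finite L] [Group K] [Finite K] {p : ℕ} {Y : Subgroup L}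
  {π : L →* K} {a c d g x y y' : L}

structure ST (p : ℕ) (Y : Subgroup L) (π : L →* K) : Prop extends UM Y where
  ea : IsElementaryAbelian p Y
  nA : π.ker ≤ 𝐍 Y
  hA : π.ker ≤ normalClosure ((Y ⊓ π.ker : Subgroup L) : Set L)
  surj : Function.Surjective π
  ker : π.ker = pCore p L

/-- elements fixing `a` modulo `Y ⊓ Z(L)` -/
def fx (Y : Subgroup L) (a : L) : Subgroup L where
  carrier := {x | ⁅x, a⁆ ∈ Y ⊓ center L}
  one_mem' := by simp
  mul_mem' := fun {x y} hx hy => by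
    show ⁅x * y, a⁆ ∈ Y ⊓ center L
    rw [show ⁅x * y, a⁆ = x * ⁅y, a⁆ * x⁻¹ * ⁅x, a⁆ by simp only [commutatorElement_def]; group,
      mem_center_iff.1 hy.2 x, mul_inv_cancel_right]
    exact mul_mem hy hx
  inv_mem' := fun {x} hx => by
    show ⁅x⁻¹, a⁆ ∈ Y ⊓ center L
    rw [show ⁅x⁻¹, a⁆ = x⁻¹ * ⁅x, a⁆⁻¹ * x by simp only [commutatorElement_def]; group,
      mem_center_iff.1 (inv_mem hx.2) x⁻¹, inv_mul_cancel_right]
    exact inv_mem hx

theorem mem_fx : x ∈ fx Y a ↔ ⁅x, a⁆ ∈ Y ⊓ center L := Iff.rfl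

theorem fx_symm : x ∈ fx Y a ↔ a ∈ fx Y x := by
  rw [mem_fx, mem_fx, ← inv_mem_iff, commutatorElement_inv]

theorem fx_conj (c : L) (h : x ∈ fx Y a) : c * x * c⁻¹ ∈ fx Y (c * a * c⁻¹) := by
  rw [mem_fx, show ⁅c * x * c⁻¹, c * a * c⁻¹⁆ = c * ⁅x, a⁆ * c⁻¹ by
    simp only [commutatorElement_def]; group, mem_center_iff.1 h.2 c, mul_inv_cancel_right]
  exact h

theorem fx_of_comm (h : x * a = a * x) : x ∈ fx Y a := by
  rw [mem_fx, commutatorElement_eq_one_iff_mul_comm.2 h]; exact one_mem _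

theorem Z_le_cj (c : L) : Y ⊓ center L ≤ cj c Y := fun z hz => by
  rw [mem_cj, mem_center_iff.1 hz.2 c⁻¹, inv_mul_cancel_right]; exact hz.1

namespace ST

variable (h : ST p Y π)
include h

theorem mem_norm : π x ∈ 𝐍 (Y.map π) ↔ x ∈ 𝐍 Y := by
  refine ⟨fun e => h.um ((𝐍 (Y.map π)).comap π) (map_le_iff_le_comap.1 le_normalizer) (fun e => ?_) e,
    fun e => le_normalizer_map π (mem_map_of_mem π e)⟩
  have : (Y.map π).Normal := normal_of_top_le_normalizer fun k _ => by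
    obtain ⟨k, rfl⟩ := h.surj k
    exact e.ge (mem_top k)
  have e2 : normalClosure (Y : Set L) ≤ (Y.map π).comap π :=
    normalClosure_le_normal (le_comap_map π Y)
  rw [h.nc, comap_map_eq] at e2
  exact h.lt (eq_top_iff.2 (e2.trans (sup_le le_normalizer h.nA)))

theorem qd : QD p (Y.map π) := by
  have lt : 𝐍 (Y.map π) ≠ ⊤ := fun e =>
    h.lt (eq_top_iff.2 fun x _ => h.mem_norm.1 (e.ge (mem_top _)))
  refine ⟨⟨lt, fun X hX hne k hk => ?_, eq_top_iff.2 fun k _ => ?_⟩, elemAb_map h.ea π,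
    fun e => lt (by rw [e]; exact normalizer_eq_top _), fun N hN hp => eq_bot_iff.2 fun k hk => ?_⟩
  · obtain ⟨k, rfl⟩ := h.surj k
    refine h.mem_norm.2 (h.um (X.comap π) (map_le_iff_le_comap.1 hX) (fun e => hne ?_) hk)
    refine eq_top_iff.2 fun k _ => ?_
    obtain ⟨k, rfl⟩ := h.surj k
    exact e.ge (mem_top k)
  · obtain ⟨k, rfl⟩ := h.surj k
    have : normalClosure (Y : Set L) ≤ (normalClosure (Y.map π : Set K)).comap π :=
      normalClosure_le_normal fun y hy => subset_normalClosure (mem_map_of_mem π hy)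
    exact this (h.nc.ge (mem_top k))
  · obtain ⟨k, rfl⟩ := h.surj k
    have : N.comap π ≤ π.ker := h.ker ▸ le_pCore (hp.comap_of_ker_isPGroup π (h.ker ▸ isPGroup_pCore p L))
    exact this hk

theorem inf_cj (hg : g ∉ 𝐍 Y) : Y ⊓ cj g Y ≤ Y ⊓ center L := le_inf inf_le_left (by
  rw [← centralizer_top, ← h.gen hg, centralizer_sup]
  exact inf_le_inf (elemAb_le_cent h.ea) (elemAb_le_cent (elemAb_map h.ea _)))

theorem inf_cj' (hg : c⁻¹ * d ∉ 𝐍 Y) (h1 : x ∈ cj c Y) (h2 : x ∈ cj d Y) : x ∈ Y ⊓ center L := by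
  have : c⁻¹ * x * c ∈ Y ⊓ center L := h.inf_cj hg ⟨mem_cj.1 h1, mem_cj.2 (by
    simpa [mul_assoc] using mem_cj.1 h2)⟩
  have e : x = c⁻¹ * x * c := by
    rw [← mul_inv_cancel_right (c⁻¹ * x * c) c, ← mem_center_iff.1 this.2 c]; group
  exact e ▸ this

theorem nA' (c : L) : π.ker ≤ 𝐍 (cj c Y) := by
  rw [← cj_normalizer, ← cj_normal c π.ker]; exact cj_mono c h.nA

theorem comm_mem (hy : y ∈ cj c Y) (ha : a ∈ π.ker) : ⁅y, a⁆ ∈ cj c Y := by
  rw [commutatorElement_def, mul_assoc, mul_assoc, ← mul_assoc a]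
  exact mul_mem hy (conj_mem_of_mem_normalizer (h.nA' c ha) (inv_mem hy))

theorem dec (hg : g ∉ 𝐍 Y) : π.ker ≤ (π.ker ⊓ Y) ⊔ (π.ker ⊓ cj g Y) := by
  have c1 : ⁅π.ker, Y⁆ ≤ π.ker ⊓ Y := comm_le_inf le_normalizer_of_normal' h.nA
  have c2 : ⁅π.ker, cj g Y⁆ ≤ π.ker ⊓ cj g Y := comm_le_inf le_normalizer_of_normal' (h.nA' g)
  have le : (π.ker ⊓ Y) ⊔ (π.ker ⊓ cj g Y) ≤ π.ker := sup_le inf_le_left inf_le_left
  have : ((π.ker ⊓ Y) ⊔ (π.ker ⊓ cj g Y)).Normal := normal_of_top_le_normalizer (by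
    rw [← h.gen hg]
    exact sup_le (le_normalizer_of_between (c1.trans le_sup_left) le)
      (le_normalizer_of_between (c2.trans le_sup_right) le))
  exact h.hA.trans (normalClosure_le_normal fun x hx => mem_sup_left ⟨hx.2, hx.1⟩)

theorem ker_le_fx (ha : a ∈ π.ker) : π.ker ≤ fx Y a := by
  obtain ⟨g, hg⟩ := h.exists_not_mem
  have cm : ∀ c, ∀ u ∈ cj c Y, ∀ v ∈ cj c Y, u ∈ fx Y v := fun c u hu v hv =>
    fx_of_comm (elemAb_le_cent (elemAb_map h.ea _) hv u hu)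
  have mx : ∀ u ∈ π.ker ⊓ Y, ∀ v ∈ π.ker ⊓ cj g Y, u ∈ fx Y v := fun u hu v hv =>
    h.inf_cj hg ⟨by simpa using h.comm_mem (c := 1) (by simpa using hu.2) hv.1, by
      have := inv_mem (h.comm_mem hv.2 hu.1)
      rwa [commutatorElement_inv] at this⟩
  refine (h.dec hg).trans (sup_le (fun u hu => fx_symm.1 ?_) fun u hu => fx_symm.1 ?_)
  · exact (sup_le (fun v hv => cm 1 v (by simpa using hv.2) u (by simpa using hu.2))
      (fun v hv => fx_symm.1 (mx u hu v hv)) : (π.ker ⊓ Y) ⊔ (π.ker ⊓ cj g Y) ≤ fx Y u) (h.dec hg ha)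
  · exact (sup_le (fun v hv => mx v hv u hu) (fun v hv => cm g v hv.2 u hu.2) :
      (π.ker ⊓ Y) ⊔ (π.ker ⊓ cj g Y) ≤ fx Y u) (h.dec hg ha)

theorem fx_of_eq (ha : a ∈ π.ker) (hx : x ∈ fx Y a) (e : π x = π y) : y ∈ fx Y a := by
  have := mul_mem hx (h.ker_le_fx ha (show x⁻¹ * y ∈ π.ker by rw [MonoidHom.mem_ker, map_mul, map_inv, e,
    inv_mul_cancel]))
  rwa [mul_inv_cancel_left] at this

theorem sr (h1 : P1 p (Y.map π)) (hy : y ∈ Y) (hy1 : π y ≠ 1) (ha : a ∈ π.ker) (e : y ∈ fx Y a) :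
    a ∈ Y := by
  obtain ⟨g, hg⟩ := h.exists_not_mem
  obtain ⟨u, hu, v, hv, rfl⟩ := (mem_sup_of_le_normalizer (inf_le_left.trans (le_normalizer_inf
    le_normalizer_of_normal' (h.nA' g)))).1 (h.dec hg ha)
  refine mul_mem hu.2 ?_
  have e1 : y ∈ fx Y v := by
    have := mul_mem (inv_mem (fx_of_comm (elemAb_le_cent h.ea hy u hu.2))) (fx_symm.1 e)
    rw [inv_mul_cancel_left] at this
    exact fx_symm.1 this
  by_cases e2 : fx Y v = ⊤
  · rw [← inv_mem_iff]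
    have e3 := inv_mem (mem_cj.1 hv.2)
    have := mul_mem e3 (e2.ge (mem_top g⁻¹)).1
    simpa [commutatorElement_def, mul_assoc] using this
  · have a1 : Y ≤ cj g⁻¹ (fx Y v) := cj_le_iff.1 fun w hw =>
      fx_of_comm (elemAb_le_cent (elemAb_map h.ea _) hv.2 w hw)
    have a2 : g⁻¹ * y * g⁻¹⁻¹ ∈ 𝐍 Y := h.um _ a1 (fun e => e2 (cj_eq_top_iff.1 e)) (conj_mem_cj _ e1)
    have a3 := h1 _ (h.mem_norm.2 a2) (by
      rw [← map_pow, conj_pow, h.ea.2 y hy]; simp)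
    exact absurd (h.qd.ti (g := π g) (fun e => hg (h.mem_norm.1 e)) (mem_map_of_mem π hy)
      (mem_cj.2 (by simpa using a3))) hy1

theorem sr' (h1 : P1 p (Y.map π)) (hy : y ∈ cj c Y) (hy1 : π y ≠ 1) (ha : a ∈ π.ker)
    (e : y ∈ fx Y a) : a ∈ cj c Y := by
  have := h.sr h1 (y := c⁻¹ * y * c⁻¹⁻¹) (by rw [inv_inv]; exact mem_cj.1 hy)
    (by rw [map_mul, map_mul, map_inv π c⁻¹]; exact fun e => hy1 (conj_eq_one_iff.1 e))
    (Normal.conj_mem inferInstance a ha c⁻¹) (fx_conj c⁻¹ e)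
  rw [inv_inv] at this
  exact mem_cj.2 this

theorem key (h1 : P1 p (Y.map π)) (hy : y ∈ cj c Y) (hy' : y' ∈ cj d Y) (hy1 : π y ≠ 1)
    (hy1' : π y' ≠ 1) (hg : c⁻¹ * d ∉ 𝐍 Y) (ha : a ∈ π.ker) (e : y * y' ∈ fx Y a) :
    a ∈ Y ⊓ center L := by
  have e1 : y' ∈ fx Y a := h.inf_cj' hg (by
    rw [show ⁅y', a⁆ = y⁻¹ * ⁅y * y', a⁆ * y * ⁅y⁻¹, a⁆ by simp only [commutatorElement_def]; group]
    exact mul_mem (mul_mem (mul_mem (inv_mem hy) (Z_le_cj c e)) hy) (h.comm_mem (inv_mem hy) ha))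
    (h.comm_mem hy' ha)
  have e2 : y ∈ fx Y a := by simpa using mul_mem e (inv_mem e1)
  exact h.inf_cj' hg (h.sr' h1 hy hy1 ha e2) (h.sr' h1 hy' hy1' ha e1)

variable [Fact p.Prime]

theorem lift (h1 : P1 p (Y.map π)) {k : K} (e : k ^ p = 1) : ∃ c, ∃ y ∈ cj c Y, π y = k := by
  obtain ⟨c, hc⟩ := h.qd.p2 h1 e
  obtain ⟨c, rfl⟩ := h.surj c
  rw [← map_cj] at hc
  exact ⟨c, hc⟩

theorem noncentral (h1 : P1 p (Y.map π)) (h3 : P3 p K) (hx : π x ∉ center K)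
    (hp : ∀ k : ℕ, π x ^ p ^ k ≠ 1) (ha : a ∈ π.ker) (e : x ∈ fx Y a) : a ∈ Y ⊓ center L := by
  obtain ⟨k, k', e1, e2, e3⟩ := h3 _ hx hp
  obtain ⟨c, y, hy, rfl⟩ := h.lift h1 e1
  obtain ⟨d, y', hy', rfl⟩ := h.lift h1 e2
  refine h.key h1 hy hy' (fun e => hp 1 ?_) (fun e => hp 1 ?_) (fun e => hp 1 ?_) ha
    (h.fx_of_eq ha e (by rw [e3, map_mul]))
  · rw [e3, e, one_mul, pow_one, e2]
  · rw [e3, e, mul_one, pow_one, e1]
  · rw [show d = c * (c⁻¹ * d) by group, cj_mul, cj_of_mem_normalizer e] at hy'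
    rw [e3, ← map_mul, ← map_pow, pow_one, (elemAb_map h.ea _).2 _ (mul_mem hy hy'), map_one]

theorem main (h1 : P1 p (Y.map π)) (h3 : P3 p K) (hp : ∀ k : ℕ, π x ^ p ^ k ≠ 1) (ha : a ∈ π.ker)
    (e : x ∈ fx Y a) : a ∈ Y ⊓ center L := by
  by_cases hx : π x ∈ center K
  swap
  · exact h.noncentral h1 h3 hx hp ha e
  obtain ⟨⟨_, y, hy, rfl⟩, hy1⟩ := ne_bot_iff_exists_ne_one.1 h.qd.ne
  replace hy1 : π y ≠ 1 := fun e => hy1 (Subtype.ext e)
  have yp : π y ^ p = 1 := by rw [← map_pow, h.ea.2 y hy, map_one]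
  have n1 : π (x * y) ∉ center K := fun e => hy1 (h.qd.eq_one_of_central (k := 1)
    (by simpa using mul_mem (inv_mem hx) e) (by rwa [pow_one]))
  have n2 : ∀ k : ℕ, π (x * y) ^ p ^ k ≠ 1 := fun k e => hp (k + 1) (by
    have := congrArg (· ^ p) e
    simp only [← pow_mul, one_pow, map_mul] at this
    rwa [Commute.mul_pow (mem_center_iff.1 hx _).symm, mul_comm (p ^ k) p, pow_mul (π y), yp, one_pow,
      mul_one, ← pow_succ'] at this)
  have fin : ∀ b ∈ π.ker, x ∈ fx Y b → y ∈ fx Y b → b ∈ Y ⊓ center L := fun b hb e1 e2 =>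
    h.noncentral h1 h3 n1 n2 hb (mul_mem e1 e2)
  refine fin a ha e (fin _ ?_ ?_ ?_)
  · rw [commutatorElement_def]
    exact mul_mem (Normal.conj_mem inferInstance a ha y) (inv_mem ha)
  · rw [commutatorElement_def]
    refine fx_symm.1 (mul_mem (fx_symm.1 ?_) (inv_mem (fx_symm.1 e)))
    refine h.fx_of_eq (Normal.conj_mem inferInstance a ha y) (fx_conj y e) ?_
    rw [map_mul, map_mul, mem_center_iff.1 hx (π y), map_inv, mul_inv_cancel_right]
  · exact fx_of_comm (elemAb_le_cent h.ea (by simpa using h.comm_mem (c := 1) (by simpa using hy) ha) y hy)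

end ST

/-- everything about `L ∈ 𝔏_G(Y)` -/
theorem frakL {G : Type*} [Group G] [Finite G] [hp : Fact p.Prime] {M L : Subgroup G}
    (hL : IsInFrakL p M L) : ∃ (K : Type) (_ : Group K) (_ : Finite K) (π : L →* K),
      ST p ((largestPReducedOf p M).subgroupOf L) π ∧
      P1 p (((largestPReducedOf p M).subgroupOf L).map π) ∧ P3 p K ∧
      P4 (((largestPReducedOf p M).subgroupOf L).map π) := by
  obtain ⟨hYL, hA, hn, hmin, -, ⟨hlt, hum⟩, hfam⟩ := hL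
  set Y := largestPReducedOf p M with hYdef
  have ea : IsElementaryAbelian p Y := (pRed_Y M).elemAb
  have st : ∀ {K : Type} [Group K] [Finite K] (e : L ⧸ pCore p L ≃* K),
      ST p (Y.subgroupOf L) (e.toMonoidHom.comp (QuotientGroup.mk' _)) ∧
      Nat.card ((Y.subgroupOf L).map (e.toMonoidHom.comp (QuotientGroup.mk' _))) =
        (Y ⊓ pCoreOf p L).relIndex Y := fun e => by
    have ker : (e.toMonoidHom.comp (QuotientGroup.mk' _)).ker = pCore p L := by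
      ext x
      simp [MonoidHom.mem_ker]
    refine ⟨⟨⟨fun e => hlt.ne ?_, fun X hX hne => ?_, hmin.1⟩, ?_, ?_, ?_,
      e.surjective.comp (QuotientGroup.mk'_surjective _), ker⟩, ?_⟩
    · rw [normalizer_subgroupOf hYL, subgroupOf_eq_top] at e
      exact inf_eq_left.2 e
    · rw [normalizer_subgroupOf hYL]
      intro x hx
      refine (hum (X.map L.subtype) (fun y hy => ⟨⟨y, hYL hy⟩, hX hy, rfl⟩)
        (lt_of_le_of_ne (map_subtype_le X) fun e => hne ?_) (mem_map_of_mem _ hx)).2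
      rw [← map_subtype_subgroupOf X, e, subgroupOf_self]
    · exact ⟨⟨⟨fun a b => Subtype.ext (Subtype.ext (elemAb_le_cent ea b.2 _ a.2))⟩⟩,
        fun a ha => Subtype.ext (ea.2 _ ha)⟩
    · rw [ker, normalizer_subgroupOf hYL]
      exact fun x hx => hn (mem_map_of_mem _ hx)
    · rw [ker, ← op_subgroupOf_self L]
      conv_lhs => rw [hA, map_subtype_subgroupOf]
      exact le_rfl
    · rw [← relIndex_ker, ker, ← op_subgroupOf_self L, relIndex_subgroupOf hYL, inf_relIndex_left]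
  have cp : ∀ {K : Type} [Group K] [Finite K] {Y : Subgroup K}, QD p Y → ∃ n, Nat.card Y = p ^ n :=
    fun h => (elemAb_isPGroup h.ea).exists_card_eq
  rcases hfam with ⟨F, _, _, hF, ⟨e⟩⟩ | ⟨rfl, F, _, _, m, hm, hF, ⟨e⟩⟩ | ⟨rfl, r, hr, hr2, ⟨e⟩⟩
  · obtain ⟨h, hc⟩ := st e
    rw [← hF, ← Nat.card_eq_fintype_card] at hc
    obtain ⟨n, hn⟩ := cp h.qd
    have : _root_.CharP F p := charP_of_card_eq_prime_pow (f := n) (by
      rw [← Nat.card_eq_fintype_card, ← hc, hn])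
    refine ⟨_, _, inferInstance, _, h, sl_p1 h.qd hc, sl_p3, ?_⟩
    by_cases h2 : p = 2
    · subst h2; exact h.qd.p4_two (sl_p1 h.qd hc)
    · exact sl_p4 h2 h.qd hc
  · rcases Nat.eq_zero_or_pos m with rfl | hm0
    · have := Finite.of_equiv _ e.toEquiv
      obtain ⟨h, hc⟩ := st e
      rw [← hF, hm] at hc
      exact ⟨_, _, inferInstance, _, h, (h.qd.dih hc).1, (h.qd.dih hc).2, h.qd.p4_two (h.qd.dih hc).1⟩
    · have := BN.Sz.szField_of_card hm0 hm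
      obtain ⟨h, hc⟩ := st (e.trans (BN.Sz.szEquiv m).symm)
      rw [← hF, hm] at hc
      exact ⟨_, _, inferInstance, _, h, sz_p1 h.qd hc, sz_p3, h.qd.p4_two (sz_p1 h.qd hc)⟩
  · have : NeZero r := ⟨hr.ne_zero⟩
    obtain ⟨h, -⟩ := st e
    have hc : Nat.card ((Y.subgroupOf L).map (e.toMonoidHom.comp (QuotientGroup.mk' _))) = 2 := by
      obtain ⟨n, hn⟩ := cp h.qd
      have h1 := card_subgroup_dvd_card ((Y.subgroupOf L).map (e.toMonoidHom.comp (QuotientGroup.mk' _)))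
      have h2 := dvd_card_of_isPGroup_ne_bot (elemAb_isPGroup h.qd.ea) h.qd.ne
      rw [DihedralGroup.nat_card, hn] at h1
      refine Nat.dvd_antisymm ?_ h2
      rw [hn]
      exact (((Nat.coprime_primes Nat.prime_two hr).2 hr2.symm).pow_left n).dvd_of_dvd_mul_right h1
    exact ⟨_, _, inferInstance, _, h, (h.qd.dih hc).1, (h.qd.dih hc).2, h.qd.p4_two (h.qd.dih hc).1⟩

end Cfsg.Lib.Amalg.FrakL
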