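import Cfsg.Agent.Lib.Amalg.WClosed

/-! The families `𝓛`, `𝔐`, `ℌ` of the Local Structure Theorem. -/

set_option autoImplicit false
set_option linter.unusedSectionVars false

namespace Cfsg.Lib.Amalg

open Subgroup
open Cfsg.Lib.Core hiding isPGroup_subgroupOf isPGroup_subgroupOf_iff isPGroup_map_subtype_iff
  isPGroup_zpowers_of_orderOf
open scoped commutatorElement

variable {G : Type*} [Group G] {p : ℕ}

/-- `M† = M C(Y_M)`. -/
abbrev dag (p : ℕ) (M : Subgroup G) : Subgroup G := M ⊔ 𝐂 (largestPReducedOf p M)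

theorem mem_charP_iff {L : Subgroup G} :
    L ∈ charPSubgroups p G ↔ pCoreOf p L ≠ ⊥ ∧ 𝐂 (pCoreOf p L) ≤ pCoreOf p L :=
  and_congr_left' (not_congr op_eq_bot_iff.symm)

theorem charP_of_mem {L : Subgroup G} (h : L ∈ charPSubgroups p G) : CharP p L :=
  inf_le_right.trans h.2

variable [hp : Fact p.Prime] [Finite G]

theorem dag_le_norm (M : Subgroup G) : dag p M ≤ 𝐍 (largestPReducedOf p M) :=
  sup_le (pRed_Y M).norm (cent_le_norm _)

theorem Y_le_op_dag (M : Subgroup G) : largestPReducedOf p M ≤ pCoreOf p (dag p M) :=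
  le_op ((pRed_Y M).le.trans le_sup_left) (dag_le_norm M) (pRed_Y M).isPGroup

theorem pRed_dag (M : Subgroup G) : PRed p (largestPReducedOf p M) (dag p M) :=
  (pRed_Y M).transfer ((pRed_Y M).le.trans le_sup_left) le_rfl (le_sup_left.trans le_sup_left)

theorem CharP.Y_ne_bot {L : Subgroup G} (h : CharP p L) (hO : pCoreOf p L ≠ ⊥) :
    largestPReducedOf p L ≠ ⊥ := fun e => by
  obtain ⟨T, hT⟩ := exists_syl p L
  exact omZ_ne_bot hT.isPGroup (fun e' => hO (eq_bot_iff.2 (hT.op_le.trans e'.le)))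
    (eq_bot_iff.2 ((h.omZ_le_Y hT).trans e.le))

theorem ParChar.mem_charP {T L : Subgroup G} (h : ParChar p (⊤ : Subgroup G)) (hT : Syl p T ⊤)
    (hL : T ≤ L) (hO : pCoreOf p L ≠ ⊥) : L ∈ charPSubgroups p G := by
  refine mem_charP_iff.2 ⟨hO, ?_⟩
  have h1 := (h _ T le_top (op_isPGroup L) hO hT (hL.trans (le_norm_op L))).cent_of_normalizer
  rw [top_inf_eq] at h1
  have h2 := le_norm_op_of_le (p := p) (le_normalizer_centralizer (le_norm_op (p := p) L))
  have h3 : pCoreOf p (𝐂 (pCoreOf p L)) ≤ pCoreOf p L := le_op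
    ((hT.le_of_le_normalizer (op_isPGroup _) le_top (hL.trans h2)).trans hL) h2 (op_isPGroup _)
  exact (h1.le le_rfl (centralizer_anti h3)).trans h3

theorem le_frattini_of_forall {T N : Subgroup G} (hT : IsPGroup p T) [N.Normal]
    (hc : (Nat.card N).Coprime p) (h : ∀ X, T ≤ X → X ⊔ N = ⊤ → X = ⊤) : N ≤ frattini G := by
  refine le_frattini_iff.2 fun K hK => ?_
  by_contra hne
  have h1 : K ⊔ N = ⊤ := hK.2 _ (lt_of_le_of_ne le_sup_left fun e => hne (le_sup_right.trans e.ge))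
  obtain ⟨S, hS⟩ := exists_syl p K
  have h2 : Syl p S ⊤ := hS.of_le_of_not_dvd le_top fun d => by
    rw [relIndex_top_right] at d
    have e1 := card_sup_mul_card_inf (H := K) (K := N) le_normalizer_of_normal
    rw [h1, card_top, ← K.card_mul_index, mul_assoc, Nat.mul_right_inj Nat.card_pos.ne'] at e1
    exact hp.out.coprime_iff_not_dvd.1 hc.symm (d.trans (Dvd.intro _ e1))
  obtain ⟨g, -, hg⟩ := h2.exists_le_conj hT le_top
  exact (isCoatom_cj hK).1 (h _ (hg.trans (cj_mono g hS.le))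
    (by rw [← cj_normal g N, ← cj_sup, h1, cj_top]))

/-- A minimal supplement `M ≥ T` of `C` in `K`. -/
theorem min_supplement {T M C : Subgroup G} (hT : Syl p T M) (hn : M ≤ 𝐍 C)
    (h : ∀ X, T ≤ X → X ≤ M → M ≤ X ⊔ C → X = M) :
    PCl p (M ⊓ C) ∧ ((M ⊓ C).subgroupOf M).map (QuotientGroup.mk' (pCore p M)) ≤
      frattini (M ⧸ pCore p M) := by
  have n1 : M ≤ 𝐍 (M ⊓ C) := le_normalizer_inf le_normalizer hn
  have h1 := hT.inf_normal inf_le_left n1
  have h2 : PCl p (M ⊓ C) := pCl_of_syl h1 (inf_le_left.trans (inf_eq_left.1 (h _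
    (le_inf hT.le (le_normalizer_inf le_normalizer (hT.le.trans n1))) inf_le_left
    ((h1.frattini inf_le_left n1).ge.trans (sup_le (inf_le_right.trans le_sup_right) le_sup_left)))))
  refine ⟨h2, ?_⟩
  haveI := (normal_subgroupOf_iff_le_normalizer inf_le_left).2 n1
  haveI := normal_map_mk' (pCore p M) ((M ⊓ C).subgroupOf M)
  refine le_frattini_of_forall (hT.subgroupOf_top.isPGroup.map (QuotientGroup.mk' _)) ?_
    fun X a b => ?_
  · rw [← map_subgroupOf_of_le (inf_le_left : M ⊓ C ≤ M), pCl_map_subtype] at h2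
    exact (h2.map _).coprime (eq_bot_iff.2 ((op_le_pCore _).trans pCore_quotient_pCore.le))
  · have h3 := congrArg (comap (QuotientGroup.mk' (pCore p M))) b
    rw [← map_comap_mk' _ X, ← Subgroup.map_sup, comap_map_mk', comap_top, ← sup_assoc,
      sup_eq_right.2 (le_comap_mk' _ X)] at h3
    have h4 := congrArg (map M.subtype) h3
    rw [Subgroup.map_sup, map_subtype_top, map_subgroupOf_of_le inf_le_left] at h4
    have h5 := h _ ((map_subgroupOf_of_le hT.le).ge.trans (map_mono (map_le_iff_le_comap.1 a)))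
      (map_subtype_le _) (h4.ge.trans (sup_le_sup_left inf_le_right _))
    rw [← map_comap_mk' _ X, map_injective M.subtype_injective (h5.trans (map_subtype_top M).symm),
      map_top_of_surjective _ (QuotientGroup.mk'_surjective _)]

theorem exists_frakM {T L : Subgroup G} (h : ParChar p (⊤ : Subgroup G)) (hT : Syl p T ⊤)
    (hTL : T ≤ L) (hL : L ∈ charPSubgroups p G) :
    ∃ M Ls : Subgroup G, T ≤ M ∧ IsInFrakM p M ∧ T ≤ Ls ∧ Ls ≤ M ∧ Ls ∈ charPSubgroups p G ∧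
      largestPReducedOf p L = largestPReducedOf p Ls ∧
      largestPReducedOf p L ≤ largestPReducedOf p M ∧
      dag p L = Ls ⊔ 𝐂 (largestPReducedOf p L) := by
  have hY := pRed_Y (p := p) L
  have hY1 := (charP_of_mem hL).Y_ne_bot (mem_charP_iff.1 hL).1
  have hYT : largestPReducedOf p L ≤ T := hY.le_op.trans (hT.of_le hTL le_top).op_le
  let 𝒞 : Subgroup G → Prop := fun K => T ≤ K ∧ K ∈ charPSubgroups p G ∧
    L ≤ (dag p L ⊓ K) ⊔ 𝐂 (largestPReducedOf p L)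
  have c0 : ∀ K, T ≤ K → L ≤ (dag p L ⊓ K) ⊔ 𝐂 (largestPReducedOf p L) →
      PRed p (largestPReducedOf p L) (dag p L ⊓ K) := fun K a c =>
    hY.transfer (hYT.trans (le_inf (hTL.trans le_sup_left) a)) inf_le_left c
  have c1 : ∀ K, 𝒞 K → largestPReducedOf p L ≤ largestPReducedOf p K := fun K ⟨a, b, c⟩ =>
    (c0 K a c).le_Y_of_le (charP_of_mem b) (hT.of_le a le_top) (le_inf (hTL.trans le_sup_left) a)
      inf_le_right
  have c2 : ∀ K X, 𝒞 K → K ≤ X → X ∈ charPSubgroups p G → 𝒞 X := fun K X ⟨a, _, c⟩ d e =>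
    ⟨a.trans d, e, c.trans (sup_le_sup_right (inf_le_inf_left _ d) _)⟩
  have c3 : ∀ K, 𝒞 K → dag p K ∈ charPSubgroups p G := fun K hK =>
    h.mem_charP hT (hK.1.trans le_sup_left) fun e =>
      hY1 (eq_bot_iff.2 ((c1 K hK).trans ((Y_le_op_dag K).trans e.le)))
  obtain ⟨K₀, k0, kmax⟩ := Set.exists_max_image {K | 𝒞 K}
    (fun K => Nat.card (largestPReducedOf p K)) (Set.toFinite _)
    ⟨L, hTL, hL, (le_inf le_sup_left le_rfl).trans le_sup_left⟩
  obtain ⟨K, -, ⟨k1, k2⟩, k3⟩ := exists_maximal_ge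
    (fun K => 𝒞 K ∧ largestPReducedOf p K = largestPReducedOf p K₀) ⟨k0, rfl⟩
  set Y := largestPReducedOf p K₀ with hYd
  have c4 : ∀ X, 𝒞 X → Y ≤ largestPReducedOf p X → largestPReducedOf p X = Y := fun X a b =>
    (eq_of_le_of_card_le' b (kmax X a)).symm
  have c5 : ∀ X, 𝒞 X → Y ≤ largestPReducedOf p X → K ≤ X ⊔ 𝐂 Y → X ⊔ 𝐂 Y = K := fun X a b c => by
    have e := c4 X a b
    have d := c2 X _ a le_sup_left (c3 X a)
    have e' : dag p X = X ⊔ 𝐂 Y := by rw [← e]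
    exact e' ▸ k3 _ ⟨d, c4 _ d (e.ge.trans (pRed_dag X).le_Y)⟩ (e' ▸ c)
  have k4 : 𝐂 Y ≤ K := le_sup_right.trans (c5 K k1 k2.ge le_sup_left).le
  have hK := pRed_Y (p := p) K
  rw [k2] at hK
  have hTK := hT.of_le k1.1 le_top
  obtain ⟨M, m1, ⟨m2, m3⟩, m4⟩ := exists_minimal_le (fun M => T ≤ M ∧ K ≤ M ⊔ 𝐂 Y)
    ⟨k1.1, le_sup_left⟩
  have m5 : M ⊔ 𝐂 Y = K := le_antisymm (sup_le m1 k4) m3
  have hM := hK.transfer (hK.le_op.trans (hTK.op_le.trans m2)) (m1.trans le_sup_left) m3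
  have m6 : largestPReducedOf p M = Y :=
    le_antisymm (k2 ▸ Y_le_Y (charP_of_mem k1.2.1) hTK m2 m1) hM.le_Y
  have hLY : largestPReducedOf p L ≤ Y := k2 ▸ c1 K k1
  have m7 : M ∈ charPSubgroups p G := h.mem_charP hT m2 fun e =>
    hY1 (eq_bot_iff.2 (hLY.trans (hM.le_op.trans e.le)))
  have m8 : 𝒞 M := ⟨m2, m7, k1.2.2.trans (sup_le ?_ le_sup_right)⟩
  swap
  · have e := (centralizer_anti hLY).trans (le_sup_right : _ ≤ dag p L)
    rw [← m5, inf_comm, sup_comm M, sup_inf_of_le_normalizer' e (le_normalizer_centralizer hM.norm)]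
    exact sup_le ((centralizer_anti hLY).trans le_sup_right) (le_sup_of_le_left (inf_comm _ _).le)
  have c6 : ∀ X, X ∈ charPSubgroups p G → M ≤ X → X ≤ K := fun X a b =>
    le_sup_left.trans (c5 X (c2 M X m8 b a) (m6 ▸ Y_le_Y (charP_of_mem a) (hT.of_le (m2.trans b) le_top)
      m2 b) (m3.trans (sup_le_sup_right b _))).le
  have hT0 := hT.of_le (le_inf (hTL.trans le_sup_left) m2 : T ≤ dag p L ⊓ M) le_top
  have hY0 := c0 M m2 m8.2.2
  have l1 := hT0.le_inf_norm_cent hY0.norm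
  refine ⟨M, _, m2, ?_, l1, inf_le_left.trans inf_le_right, h.mem_charP hT l1 fun e =>
    hY1 (eq_bot_iff.2 ((hY0.frattini hT0).le_op.trans e.le)),
    le_antisymm (hY0.frattini hT0).le_Y ?_, m6 ▸ hLY, le_antisymm (sup_le (m8.2.2.trans (sup_le
      ((hT0.frattini_cent hY0.norm).ge.trans (sup_le (inf_le_right.trans le_sup_right) le_sup_left))
      le_sup_right)) le_sup_right) (sup_le (inf_le_left.trans inf_le_left) le_sup_right)⟩
  · obtain ⟨a1, a2⟩ := min_supplement (hT.of_le m2 le_top) (le_normalizer_centralizer hM.norm)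
      fun X a b c => m4 X ⟨a, m3.trans (sup_le c le_sup_right)⟩ b
    unfold IsInFrakM
    rw [m6, m5, k2]
    exact ⟨m7, ⟨k1.2.1, fun X a b => le_antisymm (c6 X a (m1.trans b)) b⟩,
      fun X a b => (a.2 K k1.2.1 (c6 X a.1 b)).symm, rfl, pCl_iff.1 a1, a2⟩
  · have := (pRed_Y (p := p) (dag p L ⊓ M ⊓ 𝐍 (T ⊓ 𝐂 (largestPReducedOf p L)))).le_omZ
    rwa [hY0.op_frattini hT0, ← (charP_of_mem hL).Y_eq (hT.of_le hTL le_top)] at this

/-- The standing hypothesis: `S ≤ M ∈ 𝔐` in a group of parabolic characteristic `p`. -/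
structure FM (p : ℕ) (S M : Subgroup G) : Prop where
  par : ParChar p (⊤ : Subgroup G)
  syl : Syl p S ⊤
  le : S ≤ M
  mem : IsInFrakM p M

theorem fm_of_large {Q M : Subgroup G} (S : Sylow p G) (hQp : IsPGroup p Q) (hQ1 : Q ≠ ⊥)
    (hQ : IsLarge Q) (hSM : (S : Subgroup G) ≤ M) (hM : IsInFrakM p M) : FM p S M :=
  ⟨large_parChar hQ hQp hQ1, syl_top S, hSM, hM⟩

namespace FM

variable {S M : Subgroup G} (h : FM p S M)
include h

theorem charP : CharP p M := charP_of_mem h.mem.1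

theorem op_ne_bot : pCoreOf p M ≠ ⊥ := (mem_charP_iff.1 h.mem.1).1

theorem cent_op_le : 𝐂 (pCoreOf p M) ≤ pCoreOf p M := (mem_charP_iff.1 h.mem.1).2

theorem Y_ne_bot : largestPReducedOf p M ≠ ⊥ := h.charP.Y_ne_bot h.op_ne_bot

theorem le_dag {X : Subgroup G} (hX : M ≤ X) (hO : pCoreOf p X ≠ ⊥) : X ≤ dag p M := by
  obtain ⟨K, k1, k2, k3⟩ := exists_maximal_ge (fun K => K ∈ charPSubgroups p G)
    (h.par.mem_charP h.syl (h.le.trans hX) hO)
  exact k1.trans (h.mem.2.2.1 K ⟨k2, k3⟩ (hX.trans k1)).le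

theorem norm_le_dag {U : Subgroup G} (hU : IsPGroup p U) (hne : U ≠ ⊥) (hn : M ≤ 𝐍 U) :
    𝐍 U ≤ dag p M :=
  h.le_dag hn fun e => hne (eq_bot_iff.2 ((le_op_normalizer hU).trans e.le))

theorem norm_Y : 𝐍 (largestPReducedOf p M) = dag p M :=
  le_antisymm (h.norm_le_dag (pRed_Y M).isPGroup h.Y_ne_bot (pRed_Y M).norm) (dag_le_norm M)

theorem inf_cent : S ⊓ 𝐂 (largestPReducedOf p M) = pCoreOf p M :=
  le_antisymm ((pCl_iff.2 h.mem.2.2.2.2.1).le_op inf_le_left (le_normalizer_inf le_normalizer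
    (le_normalizer_centralizer (pRed_Y M).norm)) (inf_le_inf_right _ h.le)
    (h.syl.isPGroup.to_le inf_le_left))
    (le_inf (h.syl.of_le h.le le_top).op_le (pRed_Y M).op_le_cent)

theorem syl_op : Syl p (pCoreOf p M) (𝐂 (largestPReducedOf p M)) :=
  h.inf_cent ▸ (h.syl.of_le (h.le.trans (pRed_Y M).norm) le_top).inf_normal (cent_le_norm _)
    (normalizer_le_normalizer_centralizer _)

theorem Y_eq : largestPReducedOf p M = omegaOneCenter p (pCoreOf p M) :=
  h.inf_cent ▸ h.charP.Y_eq (h.syl.of_le h.le le_top)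

theorem wc_dag : WC p (pCoreOf p M) (dag p M) :=
  wc_of_syl_normal h.syl_op le_sup_right (le_normalizer_centralizer (dag_le_norm M))

theorem norm_op_le : 𝐍 (pCoreOf p M) ≤ 𝐍 (largestPReducedOf p M) :=
  h.Y_eq ▸ norm_le_norm_omZ _

theorem Y_le_op : largestPReducedOf p M ≤ pCoreOf p M := (pRed_Y M).le_op

/-- A `p`-subgroup centralizing `Y_M` and normalized by `O_p(M)` lies in `O_p(M)`. -/
theorem le_op_of_cent {U : Subgroup G} (hU : IsPGroup p U) (h1 : U ≤ 𝐂 (largestPReducedOf p M))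
    (h2 : pCoreOf p M ≤ 𝐍 U) : U ≤ pCoreOf p M := h.syl_op.le_of_le_normalizer hU h1 h2

end FM

theorem asym_comm {Y : Subgroup G} (h : ¬ IsSymmetricIn Y) {a b : G} (h1 : cj a Y ≤ 𝐍 (cj b Y))
    (h2 : cj b Y ≤ 𝐍 (cj a Y)) : cj a Y ≤ 𝐂 (cj b Y) := by
  by_contra hne
  refine h ⟨a⁻¹ * b, fun e => hne ?_, ?_⟩
  · have e' : ⁅Y, cj (a⁻¹ * b) Y⁆ = ⊥ := e
    rwa [← cj_eq_bot_iff (g := a), cj_commutator, cj_mul, cj_cj_inv, comm_eq_bot_iff] at e'
  · show ⁅Y, cj (a⁻¹ * b) Y⁆ ≤ Y ⊓ cj (a⁻¹ * b) Y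
    rw [← cj_le_cj_iff (g := a), cj_commutator, cj_inf, cj_mul, cj_cj_inv]
    exact comm_le_inf h2 h1

theorem asym_comm' {Y : Subgroup G} (h : ¬ IsSymmetricIn Y) {b : G} (h1 : Y ≤ 𝐍 (cj b Y))
    (h2 : cj b Y ≤ 𝐍 Y) : Y ≤ 𝐂 (cj b Y) := by
  have := asym_comm h (a := 1) (b := b)
  rw [cj_one] at this
  exact this h1 h2

/-- If `R ≤ N(Y)` contains the asymmetric `Y` then `⟨Y^{N(R)}⟩` is elementary abelian. -/
theorem asym_elemAb {Y R K : Subgroup G} (h : ¬ IsSymmetricIn Y) (hY : IsElementaryAbelian p Y)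
    (h1 : Y ≤ R) (h2 : R ≤ 𝐍 Y) (hK : K ≤ 𝐍 R) : IsElementaryAbelian p (ncl Y K) := by
  have k : ∀ a b : K, cj (a : G) Y ≤ 𝐍 (cj (b : G) Y) := fun a b => by
    rw [← cj_normalizer, le_cj_iff, ← cj_mul]
    exact (cj_le_of_le_of_mem_normalizer h1 (hK (K.mul_mem (K.inv_mem b.2) a.2))).trans h2
  refine isElemAb_iSup (fun g => (elemAb_map hY _).2) (isMulCommutative_iff_le_cent.2 ?_)
  rw [centralizer_iSup]
  exact iSup_le fun a => le_iInf fun b => asym_comm h (k a b) (k b a)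

namespace FM

variable {S M : Subgroup G} (h : FM p S M) (ha : ¬ IsSymmetricIn (largestPReducedOf p M))
include h ha

theorem wc : WC p (pCoreOf p M) ⊤ := by
  set O := pCoreOf p M with hO
  set Y := largestPReducedOf p M with hY
  let r : G → G → Prop := fun a b => cj a O ≤ 𝐍 (cj b O) ∧ cj b O ≤ 𝐍 (cj a O)
  have hr : ∀ g a b, r a b → r (g * a) (g * b) := fun g a b ⟨h1, h2⟩ => by
    simp only [r, cj_mul, ← cj_normalizer (g := g), cj_le_cj_iff]; exact ⟨h1, h2⟩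
  have n1 : ∀ a, 𝐍 (cj a O) ≤ 𝐍 (cj a Y) := fun a => by
    rw [← cj_normalizer, ← cj_normalizer]; exact cj_mono a h.norm_op_le
  have step : ∀ a b c d, cj a Y ≤ cj c O → cj c O ≤ 𝐍 (cj b O) → cj b Y ≤ cj d O →
      cj d O ≤ 𝐍 (cj a O) → cj a Y ≤ cj b O := fun a b c d h1 h2 h3 h4 =>
    (h.syl_op.conj b).le_of_le_normalizer' (isPGroup_cj a (pRed_Y M).isPGroup) (by
      rw [cj_centralizer]
      exact asym_comm ha (h1.trans (h2.trans (n1 b))) (h3.trans (h4.trans (n1 a)))) (h1.trans h2)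
  have key : ∀ f : ℕ → G, (∀ i, r (f i) (f (i + 1))) → ∀ n i,
      cj (f i) Y ≤ cj (f (i + n)) O ∧ cj (f (i + n)) Y ≤ cj (f i) O := fun f hf n => by
    induction n with
    | zero => exact fun i => ⟨cj_mono _ h.Y_le_op, cj_mono _ h.Y_le_op⟩
    | succ n ih =>
      intro i
      have e : i + 1 + n = i + (n + 1) := by ring
      have a1 := (ih i).1
      have a2 := (ih (i + 1)).2
      rw [e] at a2
      exact ⟨step _ _ _ _ a1 (hf (i + n)).1 a2 (hf i).2, step _ _ _ _ a2 (hf i).2 a1 (hf (i + n)).1⟩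
  let C : G → Prop := fun b => ∃ (f : ℕ → G) (n : ℕ), f 0 = 1 ∧ f n = b ∧ ∀ i, r (f i) (f (i + 1))
  let U : Subgroup G := ⨆ b : {b // C b}, cj (b : G) Y
  have u1 : U ≤ O := iSup_le fun ⟨b, f, n, h1, h2, h3⟩ => by
    have := (key f h3 n 0).2
    rwa [zero_add, h1, h2, cj_one] at this
  have u2 : Y ≤ U := by
    have := le_iSup (fun b : {b // C b} => cj (b : G) Y)
      ⟨1, fun _ => 1, 0, rfl, rfl, fun _ => ⟨le_normalizer, le_normalizer⟩⟩
    rwa [cj_one] at this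
  have u3 : ∀ g, r 1 g → g ∈ 𝐍 U := fun g hg => mem_normalizer_of_cj_le (by
    rw [cj_iSup]
    refine iSup_le fun ⟨b, f, n, h1, h2, h3⟩ => ?_
    rw [← cj_mul]
    refine le_iSup (fun b : {b // C b} => cj (b : G) Y) ⟨g * b, fun i => Nat.casesOn i 1 fun j => g * f j,
      n + 1, rfl, by rw [← h2], fun i => ?_⟩
    cases i with
    | zero => show r 1 (g * f 0); rwa [h1, mul_one]
    | succ i => exact hr g _ _ (h3 i))
  have u4 : M ≤ 𝐍 U := fun m hm => u3 m (by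
    have : cj m O = O := cj_of_mem_normalizer (le_norm_op M hm)
    simp only [r, cj_one, this]; exact ⟨le_normalizer, le_normalizer⟩)
  refine wc_of_comm (op_isPGroup M) le_top fun g _ a b => h.wc_dag.mem_of_le_norm
    (h.norm_le_dag ((op_isPGroup M).to_le u1) (fun e => h.Y_ne_bot (eq_bot_iff.2 (u2.trans e.le))) u4
      (u3 g ?_)) a
  simp only [r, cj_one]; exact ⟨b, a⟩

theorem exists_syl {L : Subgroup G} (hL : pCoreOf p M ≤ L) :
    ∃ T, Syl p T L ∧ pCoreOf p M ≤ T ∧ T ≤ 𝐍 (pCoreOf p M) := by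
  obtain ⟨T, t1, t2⟩ := exists_syl_ge (op_isPGroup M) hL
  exact ⟨T, t1, t2, (h.wc ha).le_norm t1.isPGroup t2 le_top⟩

theorem Y_le_Y_of_pRed {L : Subgroup G} (hL : CharP p L) (hO : pCoreOf p M ≤ L)
    (hK : PRed p (largestPReducedOf p M) (L ⊓ dag p M)) :
    largestPReducedOf p M ≤ largestPReducedOf p L := by
  obtain ⟨T, t1, -, t3⟩ := h.exists_syl ha hO
  exact hK.le_Y_of_le hL t1 (le_inf t1.le (t3.trans (h.norm_op_le.trans h.norm_Y.le))) inf_le_left

end FM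

/-! ### The family `ℌ` -/

theorem frakH_charP {M H : Subgroup G} (h : IsInFrakH p M H) : CharP p H := charP_iff.2 h.1

theorem frakH_eq {M H P : Subgroup G} (h : IsInFrakH p M H) (h1 : pCoreOf p M ≤ P)
    (h2 : SubnormalIn H P) : P = H := by
  by_contra e
  exact h.2.2.1 ((h.2.2.2 P h1 (lt_of_le_of_ne h2.le e)).trans h2.pCoreOf_le)

theorem frakH_ncl {M H : Subgroup G} (h : IsInFrakH p M H) : ncl (pCoreOf p M) H = H :=
  frakH_eq h (le_iSup_cj _ _) (.of_le_normalizer (ncl_le h.2.1) (le_normalizer_iSup_cj _ _))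

theorem frakH_res_sup {M H : Subgroup G} (h : IsInFrakH p M H) :
    pResidualOf p H ⊔ pCoreOf p M = H :=
  frakH_eq h le_sup_right (subnormalIn_of_res_le le_sup_left (sup_le (res_le H) h.2.1))

theorem frakH_Y_le {M H : Subgroup G} (h : IsInFrakH p M H) : largestPReducedOf p M ≤ H :=
  (pRed_Y M).le_op.trans h.2.1

theorem frakH_comm {M H : Subgroup G} (h : IsInFrakH p M H) :
    ⁅pResidualOf p H, largestPReducedOf p M⁆ = pResidualOf p H := by
  set R := pResidualOf p H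
  set Y := largestPReducedOf p M
  have hY := pRed_Y (p := p) M
  have n1 : pCoreOf p M ≤ 𝐍 Y := (op_le M).trans hY.norm
  have n2 : pCoreOf p M ≤ 𝐍 ⁅R, Y⁆ := le_normalizer_commutator (h.2.1.trans (le_norm_res H)) n1
  have l1 : ⁅R, Y⁆ ≤ R := comm_le_left ((frakH_Y_le h).trans (le_norm_res H))
  refine le_antisymm l1 (res_le_of_le_sup (op_isPGroup M) n2 ?_)
  by_contra e
  have l2 : ⁅R, Y⁆ ⊔ pCoreOf p M ≤ H := sup_le (l1.trans (res_le H)) h.2.1
  have l3 : ⁅R, Y⁆ ⊔ Y ≤ ⁅R, Y⁆ ⊔ pCoreOf p M := sup_le_sup_left hY.le_op _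
  refine h.2.2.1 ((le_inf (h.2.2.2 _ le_sup_right (lt_of_le_not_ge l2 e)) le_sup_right).trans
    ((op_inf_le l3).trans (op_le_op (l3.trans l2) ?_)))
  conv_lhs => rw [← frakH_res_sup h]
  exact sup_le (le_norm_comm_sup _ _) (le_normalizer_sup n2 n1)

theorem frakH_pIrr {M H : Subgroup G} (h : IsInFrakH p M H) : PIrr p H := by
  have hY := pRed_Y (p := p) M
  refine ⟨fun c => h.2.2.1 (c _ (frakH_Y_le h) hY.isPGroup), fun N a b c => ?_⟩
  refine res_le_of_le_sup (op_isPGroup M) (h.2.1.trans b) ?_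
  by_contra e
  have l1 := h.2.2.2 _ le_sup_right (lt_of_le_not_ge (sup_le a h.2.1) e)
  obtain ⟨T, t1, t2⟩ := exists_syl_ge (op_isPGroup M) h.2.1
  have t3 := t1.inf_normal a b
  have l2 := h.2.2.2 (H ⊓ 𝐍 (T ⊓ N)) (le_inf h.2.1 (le_normalizer_inf (le_normalizer_of_le t2)
    (h.2.1.trans b))) (inf_lt_left.2 fun d => c (pCl_of_syl t3 (a.trans d)))
  have n1 := le_norm_op_of_le (p := p) b
  have l3 : ⁅N, largestPReducedOf p M⁆ ≤ pCoreOf p N :=
    (le_inf ((commutator_mono le_rfl l1).trans (comm_le_right (le_sup_left.trans (le_norm_op _))))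
      (comm_le_left ((frakH_Y_le h).trans b))).trans (op_inf_le le_sup_left)
  set P := H ⊓ 𝐍 (T ⊓ N)
  have l4 : ⁅N, ncl (largestPReducedOf p M) P⁆ ≤ pCoreOf p N :=
    comm_ncl_le l3 (inf_le_left.trans b) (inf_le_left.trans n1) ((frakH_Y_le h).trans n1)
  have l5 : ncl (largestPReducedOf p M) P ≤ pCoreOf p P := iSup_cj_le l2 (le_norm_op P)
  have l6 := l5.trans ((op_le P).trans inf_le_left)
  refine h.2.2.1 (((le_iSup_cj _ P).trans le_sup_left).trans (le_op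
    (sup_le l6 ((op_le N).trans a)) ((t3.frattini a b).ge.trans (sup_le ?_ (le_normalizer_sup
      (le_normalizer_iSup_cj _ _) (inf_le_left.trans n1))))
    (isPGroup_sup_of_le_normalizer ((op_isPGroup P).to_le l5) (op_isPGroup N) (l6.trans n1))))
  exact le_normalizer_of_comm_le (comm_sup_le ((commutator_comm _ _).le.trans (l4.trans le_sup_right))
    ((comm_le_left (le_norm_op N)).trans le_sup_right) (le_normalizer_of_le le_sup_left)
    (le_normalizer_of_le le_sup_right))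

theorem PIrr.sup_isPGroup {H P : Subgroup G} (h : PIrr p H) (hP : IsPGroup p P) (hn : H ≤ 𝐍 P) :
    PIrr p (H ⊔ P) := by
  haveI := (normal_subgroupOf_iff_le_normalizer (le_sup_right : P ≤ H ⊔ P)).2 (sup_le hn le_normalizer)
  have hk : ∀ E : Subgroup ↥(H ⊔ P), IsPGroup p
      (E ⊓ (QuotientGroup.mk' (P.subgroupOf (H ⊔ P))).ker : Subgroup ↥(H ⊔ P)) := fun E => by
    rw [QuotientGroup.ker_mk']; exact (isPGroup_subgroupOf hP _).to_le inf_le_right
  rw [← map_subgroupOf_of_le (le_sup_left : H ≤ H ⊔ P),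
    pIrr_map_iff _ (isPGroup_inf_ker_of_injective (subtype_injective _) _), ← pIrr_map_iff _ (hk _)] at h
  rw [pIrr_iff, ← pIrr_top, ← pIrr_map_iff _ (hk _), ← subgroupOf_self,
    subgroupOf_sup le_sup_left le_sup_right, Subgroup.map_sup, (map_mk'_eq_bot_iff _ _).2 le_rfl,
    sup_bot_eq]
  exact h

end Cfsg.Lib.Amalg
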