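import Cfsg.Agent.Lib.Linear.Simple

/-! Higman's theorem on `SL₂(2ⁿ)` acting on a `2`-group with a fixed-point-free element of order three: ring part. -/

set_option autoImplicit false
set_option linter.unusedSectionVars false

namespace Cfsg.Lib.Amalg.Hig3

open Matrix
open scoped MatrixGroups

variable {K : Type*} [Field K]

/-- Upper unitriangular matrices. -/
def tt (a : K) : SL(2, K) := ⟨!![1, a; 0, 1], by simp [det_fin_two]⟩

/-- Lower unitriangular matrices. -/
def uu (a : K) : SL(2, K) := ⟨!![1, 0; a, 1], by simp [det_fin_two]⟩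

/-- The underlying matrix. -/
def mv (g : SL(2, K)) : Matrix (Fin 2) (Fin 2) K := g.1

@[simp] theorem tt_val (a : K) : mv (tt a) = !![1, a; 0, 1] := rfl
@[simp] theorem uu_val (a : K) : mv (uu a) = !![1, 0; a, 1] := rfl
@[simp] theorem mv_mul (g h : SL(2, K)) : mv (g * h) = mv g * mv h := rfl
@[simp] theorem mv_one : mv (1 : SL(2, K)) = 1 := rfl
@[simp] theorem mv_mk (A : Matrix (Fin 2) (Fin 2) K) (h : A.det = 1) : mv ⟨A, h⟩ = A := rfl
theorem mv_inv (g : SL(2, K)) : mv g⁻¹ = (mv g).adjugate := rfl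
theorem mv_det (g : SL(2, K)) : mv g 0 0 * mv g 1 1 - mv g 0 1 * mv g 1 0 = 1 := by
  rw [← det_fin_two]; exact g.2
theorem mv_inj {g h : SL(2, K)} (e : mv g = mv h) : g = h := Subtype.ext e

theorem sl_ext {g h : SL(2, K)} (h1 : mv g 0 0 = mv h 0 0) (h2 : mv g 0 1 = mv h 0 1) (h3 : mv g 1 0 = mv h 1 0)
    (h4 : mv g 1 1 = mv h 1 1) : g = h := by
  apply mv_inj; ext i j; fin_cases i <;> fin_cases j <;> assumption

theorem tt_add (a b : K) : tt (a + b) = tt a * tt b := by
  apply sl_ext <;> simp [add_comm]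

theorem uu_add (a b : K) : uu (a + b) = uu a * uu b := by
  apply sl_ext <;> simp

theorem tt_zero : tt (0 : K) = 1 := by apply sl_ext <;> simp
theorem uu_zero : uu (0 : K) = 1 := by apply sl_ext <;> simp

theorem sl_ind (P : SL(2, K) → Prop) (h1 : ∀ a, P (tt a)) (h2 : ∀ a, P (uu a))
    (hm : ∀ g h, P g → P h → P (g * h)) (g : SL(2, K)) : P g := by
  refine Linear.sl_transvection_induction P (tt_zero (K := K) ▸ h1 0) ?_ hm g
  intro i j h c
  fin_cases i <;> fin_cases j
  · exact absurd rfl h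
  · convert h1 c using 1
    apply sl_ext <;> simp [mv, tt, uu, SpecialLinearGroup.transvection, Matrix.transvection]
  · convert h2 c using 1
    apply sl_ext <;> simp [mv, tt, uu, SpecialLinearGroup.transvection, Matrix.transvection]
  · exact absurd rfl h

section char2

variable (h2 : (2 : K) = 0)
include h2

theorem add_self (a : K) : a + a = 0 := by rw [← two_mul, h2, zero_mul]

theorem tt_sq (a : K) : tt a * tt a = 1 := by rw [← tt_add, add_self h2, tt_zero]
theorem uu_sq (a : K) : uu a * uu a = 1 := by rw [← uu_add, add_self h2, uu_zero]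

theorem tu_inv (a b : K) : (tt a * uu b)⁻¹ = uu b * tt a := by
  rw [inv_eq_iff_mul_eq_one, mul_assoc, ← mul_assoc (uu b), uu_sq h2, one_mul, tt_sq h2]

theorem w_conj (a : K) : uu a = (tt 1 * uu 1 * tt 1) * tt a * (tt 1 * uu 1 * tt 1) := by
  apply sl_ext <;> simp [add_self h2]

theorem h_mul {a b : K} (ha : a ≠ 0) (hb : b ≠ 0) :
    (tt 1 * uu 1 * tt 1) * (tt (a * b)⁻¹ * uu (a * b) * tt (a * b)⁻¹) =
      ((tt 1 * uu 1 * tt 1) * (tt a⁻¹ * uu a * tt a⁻¹)) * ((tt 1 * uu 1 * tt 1) * (tt b⁻¹ * uu b * tt b⁻¹)) := by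
  have e : ∀ c : K, c ≠ 0 → mv ((tt 1 * uu 1 * tt 1) * (tt c⁻¹ * uu c * tt c⁻¹)) = !![c, 0; 0, c⁻¹] := by
    intro c hc
    ext i j; fin_cases i <;> fin_cases j <;> simp [add_self h2, hc]
  apply mv_inj
  rw [e _ (mul_ne_zero ha hb), mv_mul, e _ ha, e _ hb]
  ext i j; fin_cases i <;> fin_cases j <;> simp [mul_comm]

theorem trace_of_cube {g : SL(2, K)} (h3 : g ^ 3 = 1) (h1 : g ≠ 1) : mv g 0 0 + mv g 1 1 = 1 := by
  have hd := mv_det g
  have e : g * g = g⁻¹ := by rw [eq_inv_iff_mul_eq_one, ← h3]; simp [pow_succ]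
  have e' := congrArg mv e
  rw [mv_mul, mv_inv, adjugate_fin_two] at e'
  have e1 := congrFun (congrFun e' 0) 0
  have e2 := congrFun (congrFun e' 0) 1
  have e3 := congrFun (congrFun e' 1) 0
  have e4 := congrFun (congrFun e' 1) 1
  simp [Matrix.mul_apply, Fin.sum_univ_two] at e1 e2 e3 e4
  by_contra hc
  have hu : mv g 0 0 + mv g 1 1 + 1 ≠ 0 := fun h => hc (by linear_combination h - h2)
  have hb : mv g 0 1 = 0 := mul_left_cancel₀ hu (by linear_combination e2)
  have hc' : mv g 1 0 = 0 := mul_left_cancel₀ hu (by linear_combination e3)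
  have had : mv g 0 0 = mv g 1 1 := by
    have : (mv g 0 0 + mv g 1 1 + 1) * (mv g 0 0 - mv g 1 1) = (mv g 0 0 + mv g 1 1 + 1) * 0 := by
      linear_combination e1 - e4
    exact sub_eq_zero.1 (mul_left_cancel₀ hu this)
  have ha : mv g 0 0 = 1 := by
    rw [hb, ← had] at hd
    have : (mv g 0 0 - 1) ^ 2 = 0 := by linear_combination hd + (1 - mv g 0 0) * h2
    exact sub_eq_zero.1 (pow_eq_zero_iff two_ne_zero |>.1 this)
  exact h1 (sl_ext (by simpa using ha) (by simpa using hb) (by simpa using hc') (by simpa [← had] using ha))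

theorem sq_surj [Finite K] (a : K) : ∃ b : K, b * b = a := by
  have : Function.Injective fun b : K => b * b := by
    intro b c h
    have : (b - c) ^ 2 = 0 := by
      simp only at h
      linear_combination h + (c * c - b * c) * h2
    exact sub_eq_zero.1 (pow_eq_zero_iff two_ne_zero |>.1 this)
  exact Finite.surjective_of_injective this a

theorem conj_aux [Finite K] {g : SL(2, K)} (ht : mv g 0 0 + mv g 1 1 = 1) (hc : mv g 1 0 ≠ 0) :
    IsConj (tt 1 * uu 1) g := by
  obtain ⟨l, hl⟩ := sq_surj h2 (mv g 1 0)⁻¹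
  have hd := mv_det g
  have hl' : l * l * mv g 1 0 = 1 := by rw [hl, inv_mul_cancel₀ hc]
  obtain ⟨k, hk⟩ : ∃ k : SL(2, K), mv k = !![l, l * mv g 0 0; 0, l * mv g 1 0] :=
    ⟨⟨_, by simp [det_fin_two, ← mul_assoc, hl']⟩, rfl⟩
  rw [isConj_iff]
  refine ⟨k, ?_⟩
  rw [mul_inv_eq_iff_eq_mul]
  apply sl_ext <;> simp [hk, Matrix.mul_apply, Fin.sum_univ_two]
  · linear_combination l * h2
  · linear_combination l * hd - (l * mv g 0 0) * ht + l * h2
  · ring
  · linear_combination (-l * mv g 1 0) * ht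

theorem conj_of_trace [Finite K] {g : SL(2, K)} (ht : mv g 0 0 + mv g 1 1 = 1) : IsConj (tt 1 * uu 1) g := by
  by_cases hc : mv g 1 0 ≠ 0
  · exact conj_aux h2 ht hc
  push Not at hc
  by_cases hb : mv g 0 1 = 0
  · have : IsConj (uu 1 * g * (uu 1)⁻¹) g := (isConj_iff.2 ⟨uu 1, rfl⟩).symm
    refine IsConj.trans (conj_aux h2 ?_ ?_) this
    · rw [show (uu (1 : K))⁻¹ = uu 1 from inv_eq_of_mul_eq_one_right (uu_sq h2 1)]
      simp [Matrix.mul_apply, Fin.sum_univ_two, vecMul, dotProduct, hb, ht]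
    · rw [show (uu (1 : K))⁻¹ = uu 1 from inv_eq_of_mul_eq_one_right (uu_sq h2 1)]
      simp [Matrix.mul_apply, Fin.sum_univ_two, vecMul, dotProduct, hb, hc, ht]
  · set w : SL(2, K) := tt 1 * uu 1 * tt 1 with hw
    have hw2 : w⁻¹ = w := by
      rw [inv_eq_iff_mul_eq_one, hw]; apply sl_ext <;> simp [add_self h2]
    have hwv : mv w = !![0, 1; 1, 0] := by
      rw [hw]; ext i j; fin_cases i <;> fin_cases j <;> simp [add_self h2]
    have : IsConj (w * g * w⁻¹) g := (isConj_iff.2 ⟨w, rfl⟩).symm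
    refine IsConj.trans (conj_aux h2 ?_ ?_) this
    · rw [hw2]
      simp [hwv, Matrix.mul_apply, Fin.sum_univ_two, vecMul, dotProduct, add_comm, ht]
    · rw [hw2]
      simp [hwv, Matrix.mul_apply, Fin.sum_univ_two, vecMul, dotProduct, hb]

/-- The structure theorem for matrices over a ring of characteristic two. -/
theorem mat_struct [Finite K] {B : Type*} [Ring B] (hB : (2 : B) = 0) (ψ : SL(2, K) →* Matrix (Fin 2) (Fin 2) B)
    (hT : ψ (tt 1) = !![1, 1; 0, 1]) (hU : ψ (uu 1) = !![1, 0; 1, 1])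
    (h3 : ∀ g : SL(2, K), mv g 0 0 + mv g 1 1 = 1 → ψ g + ψ g⁻¹ = 1) :
    ∃ β : K →+* B, ∀ g, ψ g = (mv g).map β := by
  have bb : ∀ x : B, x + x = 0 := fun x => by rw [← two_mul, hB, zero_mul]
  set A : K → B := fun a => ψ (tt a) 0 0 with hA
  set β : K → B := fun a => ψ (tt a) 0 1 with hβ
  have hTa : ∀ a, ψ (tt a) = !![A a, β a; 0, A a] := by
    intro a
    have e : ψ (tt a) * ψ (tt 1) = ψ (tt 1) * ψ (tt a) := by rw [← map_mul, ← map_mul, ← tt_add, ← tt_add, add_comm]
    rw [hT] at e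
    have e1 := congrFun (congrFun e 0) 0
    have e2 := congrFun (congrFun e 0) 1
    simp [Matrix.mul_apply, Fin.sum_univ_two] at e1 e2
    ext i j; fin_cases i <;> fin_cases j
    · rfl
    · rfl
    · simpa using e1
    · simp only [hA]
      simp
      rw [add_comm] at e2
      exact (add_left_cancel e2).symm
  have hadd : ∀ a b, A (a + b) = A a * A b ∧ β (a + b) = A a * β b + β a * A b := by
    intro a b
    have e := hTa (a + b)
    rw [tt_add, map_mul, hTa a, hTa b] at e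
    have e1 := congrFun (congrFun e 0) 0
    have e2 := congrFun (congrFun e 0) 1
    simp [Matrix.mul_apply, Fin.sum_univ_two] at e1 e2
    exact ⟨e1.symm, e2.symm⟩
  have A0 : A 0 = 1 := by simp [hA, tt_zero]
  have β0 : β 0 = 0 := by simp [hβ, tt_zero]
  have A1 : A 1 = 1 := by simp [hA, hT]
  have β1 : β 1 = 1 := by simp [hβ, hT]
  have AA : ∀ a, A a * A a = 1 := fun a => by rw [← (hadd a a).1, add_self h2, A0]
  have Ac : ∀ a b, A a * A b = A b * A a := fun a b => by rw [← (hadd a b).1, ← (hadd b a).1, add_comm]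
  have hw : ψ (tt 1 * uu 1 * tt 1) = !![0, 1; 1, 0] := by
    rw [map_mul, map_mul, hT, hU]
    ext i j; fin_cases i <;> fin_cases j <;> simp [bb]
  have hUa : ∀ a, ψ (uu a) = !![A a, 0; β a, A a] := by
    intro a
    rw [w_conj h2 a, map_mul, map_mul, hw, hTa]
    ext i j; fin_cases i <;> fin_cases j <;> simp
  have hrel : ∀ a : K, a ≠ 0 → ψ (tt a⁻¹) * ψ (uu a) + ψ (uu a) * ψ (tt a⁻¹) = 1 := by
    intro a ha
    rw [← map_mul, ← map_mul, ← tu_inv h2]
    apply h3
    simp [ha]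
    linear_combination h2
  have hN : ∀ a : K, a ≠ 0 → ψ ((tt 1 * uu 1 * tt 1) * (tt a⁻¹ * uu a * tt a⁻¹)) =
      !![β a, A a + A a⁻¹; A a + A a⁻¹, β a⁻¹] := by
    intro a ha
    have e1 : ψ (tt a⁻¹) * ψ (uu a) = 1 - ψ (uu a) * ψ (tt a⁻¹) := eq_sub_of_add_eq (hrel a ha)
    have e2 : ψ (tt a⁻¹) * ψ (tt a⁻¹) = 1 := by rw [← map_mul, tt_sq h2, map_one]
    have e3 : ψ (tt a⁻¹ * uu a * tt a⁻¹) = ψ (tt a⁻¹) - ψ (uu a) := by
      rw [map_mul, map_mul, e1, sub_mul, mul_assoc, e2, one_mul, mul_one]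
    have ng : ∀ x : B, -x = x := fun x => neg_eq_of_add_eq_zero_left (bb x)
    rw [map_mul, hw, e3, hTa, hUa]
    ext i j; fin_cases i <;> fin_cases j <;> simp [sub_eq_add_neg, ng, add_comm]
  have hmul : ∀ a b : K, a ≠ 0 → b ≠ 0 → β (a * b) = β a * β b + (A a + A a⁻¹) * (A b + A b⁻¹) := by
    intro a b ha hb
    have e := hN _ (mul_ne_zero ha hb)
    rw [h_mul h2 ha hb, map_mul, hN a ha, hN b hb] at e
    have e1 := congrFun (congrFun e 0) 0
    simp [Matrix.mul_apply, Fin.sum_univ_two] at e1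
    exact e1.symm
  have βc : ∀ a b, β a * β b = β b * β a := by
    intro a b
    by_cases ha : a = 0
    · simp [ha, β0]
    by_cases hb : b = 0
    · simp [hb, β0]
    have e1 := hmul a b ha hb
    have e2 := hmul b a hb ha
    rw [mul_comm b a, e1] at e2
    have : (A a + A a⁻¹) * (A b + A b⁻¹) = (A b + A b⁻¹) * (A a + A a⁻¹) := by
      simp only [mul_add, add_mul, Ac a b, Ac a b⁻¹, Ac a⁻¹ b, Ac a⁻¹ b⁻¹]; abel
    rw [this] at e2
    exact add_right_cancel e2
  have βsq : ∀ a, β (a * a) = β a * β a := by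
    intro a
    by_cases ha : a = 0
    · simp [ha, β0]
    rw [hmul a a ha ha]
    simp only [mul_add, add_mul, AA, Ac a⁻¹ a]
    rw [add_eq_left]
    linear_combination (norm := noncomm_ring) bb 1 + bb (A a * A a⁻¹)
  have Aβ : ∀ a, β (a + 1) = A a + β a := fun a => by rw [(hadd a 1).2, A1, β1, mul_one, mul_one]
  have Aone : ∀ a, A a = 1 := by
    intro a
    obtain ⟨b, rfl⟩ := sq_surj h2 a
    have e1 := Aβ (b * b)
    have e2 : b * b + 1 = (b + 1) * (b + 1) := by linear_combination (-b) * h2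
    have e3 := βc (b + 1) b
    rw [e2, βsq, βsq, Aβ] at e1
    rw [Aβ] at e3
    have e4 : A b * β b = β b * A b := by
      linear_combination (norm := noncomm_ring) e3
    have e5 := AA b
    linear_combination (norm := noncomm_ring) -e1 + e5 - e4 + bb (A b * β b)
  have βm : ∀ a b, β (a * b) = β a * β b := by
    intro a b
    by_cases ha : a = 0
    · simp [ha, β0]
    by_cases hb : b = 0
    · simp [hb, β0]
    rw [hmul a b ha hb]; simp [Aone, bb]
  have βa : ∀ a b, β (a + b) = β a + β b := fun a b => by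
    rw [(hadd a b).2, Aone, Aone, one_mul, mul_one, add_comm]
  let γ : K →+* B := ⟨⟨⟨β, β1⟩, βm⟩, β0, βa⟩
  have hγ : ∀ a, γ a = β a := fun _ => rfl
  refine ⟨γ, sl_ind _ ?_ ?_ ?_⟩
  · intro a
    rw [hTa]
    ext i j; fin_cases i <;> fin_cases j <;> simp [Aone, hγ, β0, β1]
  · intro a
    rw [hUa]
    ext i j; fin_cases i <;> fin_cases j <;> simp [Aone, hγ, β0, β1]
  · intro g h hg hh
    rw [map_mul, hg, hh, mv_mul, Matrix.map_mul]

omit h2 in
theorem units_struct {R : Type*} [Ring R] (e : Fin 2 → Fin 2 → R)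
    (hm : ∀ i j k l, e i j * e k l = if j = k then e i l else 0) (hs : e 0 0 + e 1 1 = 1) :
    ∃ Φ : R →+* Matrix (Fin 2) (Fin 2) R, (∀ a b, Φ (e a b) = Matrix.single a b 1) ∧
      (∀ r i j a b, Commute (Φ r i j) (e a b)) ∧
      ∀ r, r = Φ r 0 0 * e 0 0 + Φ r 0 1 * e 0 1 + Φ r 1 0 * e 1 0 + Φ r 1 1 * e 1 1 := by
  have hm' : ∀ i j k l (r : R), e i j * (e k l * r) = if j = k then e i l * r else 0 := by
    intro i j k l r
    rw [← mul_assoc, hm]; split_ifs <;> simp
  let f : R → Matrix (Fin 2) (Fin 2) R := fun r => Matrix.of fun i j => e 0 i * r * e j 0 + e 1 i * r * e j 1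
  have f1 : f 1 = 1 := by
    ext i j; fin_cases i <;> fin_cases j <;> simp [f, hm, hs]
  have fm : ∀ r s, f (r * s) = f r * f s := by
    intro r s
    ext i j
    have : r * s = r * (e 0 0 + e 1 1) * s := by rw [hs, mul_one]
    rw [this]
    simp [f, Matrix.mul_apply, Fin.sum_univ_two, mul_add, add_mul, mul_assoc, hm']
    abel
  have fa : ∀ r s, f (r + s) = f r + f s := by
    intro r s
    ext i j
    simp [f, mul_add, add_mul]
    abel
  refine ⟨⟨⟨⟨f, f1⟩, fm⟩, by ext i j; simp [f], fa⟩, ?_, ?_, ?_⟩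
  · intro a b
    ext i j
    change f (e a b) i j = _
    fin_cases a <;> fin_cases b <;> fin_cases i <;> fin_cases j <;> simp [f, hm, hs]
  · intro r i j a b
    change f r i j * e a b = e a b * f r i j
    fin_cases a <;> fin_cases b <;> simp [f, hm, hm', mul_add, add_mul, mul_assoc]
  · intro r
    change r = f r 0 0 * e 0 0 + f r 0 1 * e 0 1 + f r 1 0 * e 1 0 + f r 1 1 * e 1 1
    have : r = (e 0 0 + e 1 1) * r * (e 0 0 + e 1 1) := by rw [hs, mul_one, one_mul]
    conv_lhs => rw [this]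
    simp [f, hm, mul_add, add_mul, mul_assoc]
    abel

theorem ef_rel {R : Type*} [Ring R] (hR : (2 : R) = 0) (φ : SL(2, K) →* R)
    (h3 : ∀ g : SL(2, K), mv g 0 0 + mv g 1 1 = 1 → φ g + φ g⁻¹ = 1) :
    (φ (tt 1) - 1) * (φ (tt 1) - 1) = 0 ∧ (φ (uu 1) - 1) * (φ (uu 1) - 1) = 0 ∧
      (φ (tt 1) - 1) * (φ (uu 1) - 1) + (φ (uu 1) - 1) * (φ (tt 1) - 1) = 1 := by
  have bb : ∀ x : R, x + x = 0 := fun x => by rw [← two_mul, hR, zero_mul]
  have e1 : φ (tt 1) * φ (tt 1) = 1 := by rw [← map_mul, tt_sq h2, map_one]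
  have e2 : φ (uu 1) * φ (uu 1) = 1 := by rw [← map_mul, uu_sq h2, map_one]
  have e3 : φ (tt 1) * φ (uu 1) + φ (uu 1) * φ (tt 1) = 1 := by
    rw [← map_mul, ← map_mul, ← tu_inv h2]
    apply h3
    simp
    linear_combination h2
  refine ⟨?_, ?_, ?_⟩
  · linear_combination (norm := noncomm_ring) e1 + bb 1 - bb (φ (tt 1))
  · linear_combination (norm := noncomm_ring) e2 + bb 1 - bb (φ (uu 1))
  · linear_combination (norm := noncomm_ring) e3 + bb 1 - bb (φ (uu 1)) - bb (φ (tt 1))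

/-- The structure theorem in a ring of characteristic two. -/
theorem ring_struct [Finite K] {R : Type*} [Ring R] (hR : (2 : R) = 0) (φ : SL(2, K) →* R)
    (h3 : ∀ g : SL(2, K), mv g 0 0 + mv g 1 1 = 1 → φ g + φ g⁻¹ = 1) {E F : R}
    (hE : E = φ (tt 1) - 1) (hF : F = φ (uu 1) - 1) :
    ∃ β : K →+* R, (∀ a, Commute (β a) E) ∧ (∀ a, Commute (β a) F) ∧
      ∀ g, φ g = β (mv g 0 0) * (E * F) + β (mv g 0 1) * E + β (mv g 1 0) * F + β (mv g 1 1) * (F * E) := by
  obtain ⟨r1, r2, r3⟩ := ef_rel h2 hR φ h3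
  rw [← hE] at r1 r3
  rw [← hF] at r2 r3
  have r4 : E * (F * E) = E := by linear_combination (norm := noncomm_ring) E * r3 - r1 * F
  have r5 : F * (E * F) = F := by linear_combination (norm := noncomm_ring) F * r3 - r2 * E
  have r1' : ∀ x, E * (E * x) = 0 := fun x => by rw [← mul_assoc, r1, zero_mul]
  have r2' : ∀ x, F * (F * x) = 0 := fun x => by rw [← mul_assoc, r2, zero_mul]
  obtain ⟨Φ, p1, p2, p3⟩ := units_struct (R := R) ![![E * F, E], ![F, F * E]] (by
    intro i j k l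
    fin_cases i <;> fin_cases j <;> fin_cases k <;> fin_cases l <;>
      simp [mul_assoc, r1, r2, r4, r5, r1', r2']) (by simpa using r3)
  have q1 : Φ E = Matrix.single 0 1 1 := p1 0 1
  have q2 : Φ F = Matrix.single 1 0 1 := p1 1 0
  obtain ⟨β, hβ⟩ := mat_struct h2 hR (Φ.toMonoidHom.comp φ) (by
      have : φ (tt 1) = E + 1 := by rw [hE, sub_add_cancel]
      change Φ (φ _) = _
      rw [this, map_add, map_one, q1]
      ext i j; fin_cases i <;> fin_cases j <;> simp) (by
      have : φ (uu 1) = F + 1 := by rw [hF, sub_add_cancel]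
      change Φ (φ _) = _
      rw [this, map_add, map_one, q2]
      ext i j; fin_cases i <;> fin_cases j <;> simp) (by
      intro g hg
      change Φ (φ _) + Φ (φ _) = _
      rw [← map_add, h3 g hg, map_one])
  have hβ' : ∀ g i j, Φ (φ g) i j = β (mv g i j) := fun g i j => congrFun (congrFun (hβ g) i) j
  have hc : ∀ a, β a = Φ (φ (tt a)) 0 1 := fun a => by rw [hβ']; simp
  refine ⟨β, fun a => hc a ▸ p2 _ 0 1 0 1, fun a => hc a ▸ p2 _ 0 1 1 0, fun g => ?_⟩
  have := p3 (φ g)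
  rw [hβ', hβ', hβ', hβ'] at this
  exact this

/-- If `4 = 0` then already `2 = 0`. -/
theorem two_eq_zero [Finite K] (hK : 2 < Nat.card K) {R : Type*} [Ring R] (hR : (2 : R) * 2 = 0) (φ : SL(2, K) →* R)
    (h3 : ∀ g : SL(2, K), mv g 0 0 + mv g 1 1 = 1 → φ g + φ g⁻¹ = -1) : (2 : R) = 0 := by
  have c2 : ∀ x : R, x * 2 = 2 * x := fun x => by rw [two_mul, mul_two]
  let J : Ideal R :=
    { carrier := {r | ∃ s, r = 2 * s}
      add_mem' := by rintro _ _ ⟨a, rfl⟩ ⟨b, rfl⟩; exact ⟨a + b, by rw [mul_add]⟩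
      zero_mem' := ⟨0, by simp⟩
      smul_mem' := by rintro c _ ⟨a, rfl⟩; exact ⟨c * a, by rw [smul_eq_mul, ← mul_assoc, c2, mul_assoc]⟩ }
  haveI : J.IsTwoSided := ⟨by rintro _ b ⟨a, rfl⟩; exact ⟨a * b, mul_assoc _ _ _⟩⟩
  let I : Ideal R :=
    { carrier := {r | 2 * r = 0}
      add_mem' := by intro a b ha hb; change _ = _ at ha hb ⊢; rw [mul_add, ha, hb, add_zero]
      zero_mem' := by simp
      smul_mem' := by
        intro c a ha; change _ = _ at ha ⊢
        rw [smul_eq_mul, ← mul_assoc, ← c2, mul_assoc, ha, mul_zero] }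
  haveI : I.IsTwoSided := ⟨by intro a b ha; change _ = _ at ha ⊢; rw [← mul_assoc, ha, zero_mul]⟩
  have hJI : J ≤ I := by rintro _ ⟨a, rfl⟩; change _ = _; rw [← mul_assoc, hR, zero_mul]
  let π := Ideal.Quotient.mk J
  let θ := Ideal.Quotient.factor hJI
  have h2J : (2 : R ⧸ J) = 0 := by
    rw [← map_ofNat π 2]; exact Ideal.Quotient.eq_zero_iff_mem.2 ⟨1, (mul_one _).symm⟩
  have h3J : ∀ g : SL(2, K), mv g 0 0 + mv g 1 1 = 1 → (π.toMonoidHom.comp φ) g + (π.toMonoidHom.comp φ) g⁻¹ = 1 := by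
    intro g hg
    change π (φ _) + π (φ _) = _
    rw [← map_add, h3 g hg, map_neg, map_one]
    exact neg_eq_of_add_eq_zero_left (by rw [one_add_one_eq_two, h2J])
  obtain ⟨r1, -, r3⟩ := ef_rel h2 h2J _ h3J
  obtain ⟨β, b1, -, b3⟩ := ring_struct h2 h2J _ h3J rfl rfl
  change (π (φ (tt 1)) - 1) * (π (φ (tt 1)) - 1) = 0 at r1
  change (π (φ (tt 1)) - 1) * (π (φ (uu 1)) - 1) + (π (φ (uu 1)) - 1) * (π (φ (tt 1)) - 1) = 1 at r3
  change ∀ a, Commute (β a) (π (φ (tt 1)) - 1) at b1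
  change ∀ g, π (φ g) = β (mv g 0 0) * ((π (φ (tt 1)) - 1) * (π (φ (uu 1)) - 1)) + β (mv g 0 1) * (π (φ (tt 1)) - 1) +
    β (mv g 1 0) * (π (φ (uu 1)) - 1) + β (mv g 1 1) * ((π (φ (uu 1)) - 1) * (π (φ (tt 1)) - 1)) at b3
  obtain ⟨c, hc0, hc1⟩ : ∃ c : K, c ≠ 0 ∧ c ≠ 1 := by
    by_contra hh
    push Not at hh
    have : Nat.card K ≤ Nat.card Bool := Nat.card_le_card_of_surjective (fun b : Bool => if b then (1 : K) else 0) (by
      intro a
      by_cases ha : a = 0
      · exact ⟨false, by simp [ha]⟩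
      · exact ⟨true, by simp [hh a ha]⟩)
    simp at this; omega
  set t := φ (tt 1) with ht
  set s := φ (tt c) with hs
  set E := π t - 1 with hE
  set F := π (φ (uu 1)) - 1 with hF
  have hsE : π s - 1 = β c * E := by
    rw [hs, b3]; simp
    linear_combination (norm := noncomm_ring) r3
  have hst : s * t = t * s := by rw [hs, ht, ← map_mul, ← map_mul, ← tt_add, ← tt_add, add_comm]
  have hss : s * s = 1 := by rw [hs, ← map_mul, tt_sq h2, map_one]
  have htt : t * t = 1 := by rw [ht, ← map_mul, tt_sq h2, map_one]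
  obtain ⟨q, hq⟩ := Ideal.Quotient.mk_surjective (I := J) (β c)
  change π q = _ at hq
  obtain ⟨z, hz⟩ : s - 1 - (t - 1) * q ∈ J := by
    rw [← Ideal.Quotient.eq_zero_iff_mem]
    change π _ = 0
    rw [map_sub, map_sub, map_mul, map_sub, map_one, hsE, hq, ← hE, (b1 c).eq, sub_self]
  have key : 2 * ((t + 1) * z * q + (t - s) * q + (s + 1) * z) = 0 := by
    have k1 : (t + 1) * (s - 1) = 2 * ((t + 1) * z) := by
      linear_combination (norm := noncomm_ring) (t + 1) * hz + htt * q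
    linear_combination (norm := noncomm_ring) -(s + 1) * hz + hss - k1 * q - hst * q
  have key2 : θ (π ((t + 1) * z * q + (t - s) * q + (s + 1) * z)) = 0 := by
    change Ideal.Quotient.mk I _ = 0
    exact Ideal.Quotient.eq_zero_iff_mem.2 key
  have h2I : (2 : R ⧸ I) = 0 := by rw [← map_ofNat θ 2, h2J, map_zero]
  have bb : ∀ x : R ⧸ I, x + x = 0 := fun x => by rw [← two_mul, h2I, zero_mul]
  set γ := θ.comp β with hγ
  have hγ' : ∀ a, θ (β a) = γ a := fun _ => rfl
  have e1 : π t = E + 1 := by rw [hE, sub_add_cancel]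
  have e2 : π s = β c * E + 1 := by rw [← hsE, sub_add_cancel]
  simp only [map_add, map_mul, map_sub, map_one, hq, e1, e2, hγ'] at key2
  set e := θ E with he
  set Y := e * θ (π z) with hY
  have ce : ∀ a, γ a * e = e * γ a := fun a => by rw [← hγ', he, ← map_mul, ← map_mul, (b1 a).eq]
  have cc : ∀ a b, γ a * γ b = γ b * γ a := fun a b => by rw [← map_mul, ← map_mul, mul_comm]
  have k3 : Y * γ c + γ c * Y = γ (c + c * c) * e := by
    rw [map_add, map_mul, hY]
    have := ce c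
    linear_combination (norm := noncomm_ring) key2 - bb (θ (π z) * γ c) - bb (θ (π z)) + this - γ c * this -
      bb (γ c * e)
  have k4 : Commute (γ (c * c)) Y := by
    have := ce c
    have h' := cc c (c + c * c)
    change _ = _
    rw [map_mul]
    linear_combination (norm := noncomm_ring) γ c * k3 - k3 * γ c + h' * e + γ (c + c * c) * this
  have k5 : Commute (γ c) Y := by
    cases nonempty_fintype K
    haveI : CharP K 2 := (CharP.charP_iff_prime_eq_zero Nat.prime_two).2 h2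
    obtain ⟨n, -, hn⟩ := FiniteField.card K 2
    have : c = (c * c) ^ 2 ^ ((n : ℕ) - 1) := by
      rw [← sq, ← pow_mul, ← pow_succ', Nat.sub_add_cancel n.pos, ← hn, FiniteField.pow_card]
    rw [this, map_pow]; exact k4.pow_left _
  have k6 : e = 0 := by
    have hu : c + c * c ≠ 0 := by
      rw [show c + c * c = c * (c - 1) by linear_combination c * h2]
      exact mul_ne_zero hc0 (sub_ne_zero.2 hc1)
    rw [k5.eq, bb] at k3
    rw [← one_mul e, ← map_one γ, ← inv_mul_cancel₀ hu, map_mul, mul_assoc, ← k3, mul_zero]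
  have k7 : (1 : R ⧸ I) = 0 := by
    rw [← map_one θ, ← r3, map_add, map_mul, map_mul, ← he, k6, zero_mul, mul_zero, add_zero]
  have : (1 : R) ∈ I := Ideal.Quotient.eq_zero_iff_mem.1 k7
  change _ = _ at this
  rwa [mul_one] at this

end char2

end Cfsg.Lib.Amalg.Hig3
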