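import Cfsg.Agent.Lib.Amalg.Hig3
import Cfsg.Agent.Lib.Amalg.Ops
import Cfsg.Prelude.Def_BaumannBlocks

/-! Higman's theorem on `SL₂(2ⁿ)` acting on a `2`-group with a fixed-point-free element of order three. -/

set_option autoImplicit false
set_option linter.unusedSectionVars false

namespace Cfsg.Lib.Amalg.Hig3

open Subgroup Matrix
open scoped MatrixGroups commutatorElement IsMulCommutative

variable {K : Type*} [Field K]

theorem mod_struct [Finite K] (h2 : (2 : K) = 0) {V : Type*} [AddCommGroup V] [Finite V] (hV : ∀ v : V, v + v = 0)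
    (φ : SL(2, K) →* AddMonoid.End V) (h3 : ∀ g : SL(2, K), mv g 0 0 + mv g 1 1 = 1 → φ g + φ g⁻¹ = -1) :
    ∃ (k : ℕ) (Θ : (Fin k → Fin 2 → K) →+ V), Function.Bijective Θ ∧
      ∀ g x, φ g (Θ x) = Θ fun i => mv g *ᵥ x i := by
  have hR : (2 : AddMonoid.End V) = 0 := by
    rw [← one_add_one_eq_two]; exact AddMonoidHom.ext fun v => hV v
  have h3' : ∀ g : SL(2, K), mv g 0 0 + mv g 1 1 = 1 → φ g + φ g⁻¹ = 1 := fun g hg => by
    rw [h3 g hg]; exact neg_eq_of_add_eq_zero_left (by rw [one_add_one_eq_two, hR])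
  obtain ⟨r1, r2, r3⟩ := ef_rel h2 hR φ h3'
  obtain ⟨β, b1, b2, b3⟩ := ring_struct h2 hR φ h3' rfl rfl
  set E := φ (tt 1) - 1
  set F := φ (uu 1) - 1
  have s2 : ∀ v, F (F v) = 0 := fun v => DFunLike.congr_fun r2 v
  have s1 : ∀ v, E (E v) = 0 := fun v => DFunLike.congr_fun r1 v
  have s3 : ∀ v, E (F v) + F (E v) = v := fun v => DFunLike.congr_fun r3 v
  letI : Module K V := Module.compHom V β
  have sm : ∀ (a : K) (v : V), a • v = β a v := fun _ _ => rfl
  have cE : ∀ (a : K) (v : V), E (a • v) = a • E v := fun a v => (DFunLike.congr_fun (b1 a).eq v).symm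
  have cF : ∀ (a : K) (v : V), F (a • v) = a • F v := fun a v => (DFunLike.congr_fun (b2 a).eq v).symm
  let W : Submodule K V :=
    { carrier := {v | E v = 0}
      add_mem' := by intro a b ha hb; change _ = _ at ha hb ⊢; rw [map_add, ha, hb, add_zero]
      zero_mem' := map_zero E
      smul_mem' := by intro a v hv; change _ = _ at hv ⊢; rw [cE, hv, smul_zero] }
  have hW : ∀ w : W, E w = 0 := fun w => w.2
  have hW' : ∀ w : W, E (F w) = w := fun w => by have := s3 w; rwa [hW, map_zero, add_zero] at this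
  let c : (Fin (Module.finrank K W) → K) ≃ₗ[K] W := (Module.finBasis K W).equivFun.symm
  let Θ : (Fin (Module.finrank K W) → Fin 2 → K) →+ V :=
    { toFun := fun x => (c (fun i => x i 0) : V) + F (c (fun i => x i 1) : V)
      map_zero' := by
        have : (fun i => (0 : Fin (Module.finrank K W) → Fin 2 → K) i 0) = 0 := rfl
        have h' : (fun i => (0 : Fin (Module.finrank K W) → Fin 2 → K) i 1) = 0 := rfl
        rw [this, h']; simp
      map_add' := by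
        intro x y
        have : (fun i => (x + y) i 0) = (fun i => x i 0) + fun i => y i 0 := rfl
        have h' : (fun i => (x + y) i 1) = (fun i => x i 1) + fun i => y i 1 := rfl
        rw [this, h']; simp only [map_add, Submodule.coe_add]; abel }
  have hΘ : ∀ x, Θ x = (c (fun i => x i 0) : V) + F (c (fun i => x i 1) : V) := fun _ => rfl
  have t1 : ∀ x, E (Θ x) = c (fun i => x i 1) := fun x => by rw [hΘ, map_add, hW, hW', zero_add]
  have t2 : ∀ x, F (Θ x) = F (c (fun i => x i 0)) := fun x => by rw [hΘ, map_add, s2, add_zero]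
  refine ⟨_, Θ, ⟨(injective_iff_map_eq_zero _).2 fun x hx => ?_, fun v => ?_⟩, fun g x => ?_⟩
  · have u1 := t1 x
    have u2 := congrArg E (t2 x)
    rw [hx, map_zero] at u1
    rw [hx, map_zero, map_zero, hW'] at u2
    have v1 := c.injective ((Subtype.ext u1.symm).trans (map_zero c).symm)
    have v2 := c.injective ((Subtype.ext u2.symm).trans (map_zero c).symm)
    ext i j
    fin_cases j
    · exact congrFun v2 i
    · exact congrFun v1 i
  · refine ⟨fun i => ![c.symm ⟨E (F v), s1 _⟩ i, c.symm ⟨E v, s1 _⟩ i], ?_⟩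
    rw [hΘ]
    change (c (c.symm _) : V) + F (c (c.symm _) : V) = v
    rw [c.apply_symm_apply, c.apply_symm_apply]
    exact s3 v
  · rw [b3]
    change β _ (E (F _)) + β _ (E _) + β _ (F _) + β _ (F (E _)) = _
    rw [t1, t2, hW', hΘ]
    have e0 : (fun i => (mv g *ᵥ x i) 0) = mv g 0 0 • (fun i => x i 0) + mv g 0 1 • fun i => x i 1 := by
      ext i; simp [mulVec, dotProduct, Fin.sum_univ_two]
    have e1 : (fun i => (mv g *ᵥ x i) 1) = mv g 1 0 • (fun i => x i 0) + mv g 1 1 • fun i => x i 1 := by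
      ext i; simp [mulVec, dotProduct, Fin.sum_univ_two]
    rw [e0, e1]
    simp only [map_add, map_smul, Submodule.coe_add, Submodule.coe_smul, cF, ← sm]
    abel

variable {G : Type*} [Group G]

/-- `y` acts on `Q` like a fixed-point-free automorphism of order three. -/
def N3 (Q : Subgroup G) (y : G) : Prop := y * y = y⁻¹ ∧ ∀ q ∈ Q, q * (y * q * y⁻¹) * (y⁻¹ * q * y) = 1

theorem N3.of_fpf [Finite G] {Q : Subgroup G} [hQ : Q.Normal] {x : G} (hx : x ^ 3 = 1)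
    (h : ∀ q ∈ Q, x * q * x⁻¹ = q → q = 1) : N3 Q x := by
  have e : x * x = x⁻¹ := by rw [eq_inv_iff_mul_eq_one, ← hx]; simp [pow_succ]
  refine ⟨e, fun q hq => ?_⟩
  let f : Q → Q := fun a => ⟨a⁻¹ * (x * a * x⁻¹), Q.mul_mem (Q.inv_mem a.2) (hQ.conj_mem _ a.2 _)⟩
  have hf : Function.Injective f := by
    intro a b hab
    have h1 : (a : G)⁻¹ * (x * a * x⁻¹) = (b : G)⁻¹ * (x * b * x⁻¹) := congrArg Subtype.val hab
    have h2 := h ((b : G) * (a : G)⁻¹) (Q.mul_mem b.2 (Q.inv_mem a.2)) (by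
      calc x * ((b : G) * (a : G)⁻¹) * x⁻¹ = b * ((b : G)⁻¹ * (x * b * x⁻¹)) * ((a : G)⁻¹ * (x * a * x⁻¹))⁻¹ * (a : G)⁻¹ := by
            group
        _ = _ := by rw [h1]; group)
    exact Subtype.ext (mul_inv_eq_one.1 h2).symm
  obtain ⟨a, ha⟩ := Finite.surjective_of_injective hf ⟨q, hq⟩
  have h1 : (a : G)⁻¹ * (x * a * x⁻¹) = q := congrArg Subtype.val ha
  rw [← h1]
  calc _ = (a : G)⁻¹ * ((x * x) * a * (x * x)⁻¹) * (x⁻¹ * (a : G)⁻¹ * x) * a := by group
    _ = 1 := by rw [e]; group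

theorem N3.conj {Q : Subgroup G} [hQ : Q.Normal] {y : G} (h : N3 Q y) (k : G) : N3 Q (k * y * k⁻¹) := by
  refine ⟨?_, fun q hq => ?_⟩
  · calc _ = k * (y * y) * k⁻¹ := by group
      _ = _ := by rw [h.1]; group
  · have := h.2 (k⁻¹ * q * k) (by simpa using hQ.conj_mem _ hq k⁻¹)
    calc _ = k * (k⁻¹ * q * k * (y * (k⁻¹ * q * k) * y⁻¹) * (y⁻¹ * (k⁻¹ * q * k) * y)) * k⁻¹ := by group
      _ = 1 := by rw [this]; group

theorem N3.map {H : Type*} [Group H] {Q : Subgroup G} {y : G} (h : N3 Q y) (π : G →* H) : N3 (Q.map π) (π y) := by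
  refine ⟨by rw [← map_mul, h.1, map_inv], ?_⟩
  rintro _ ⟨q, hq, rfl⟩
  simpa using congrArg π (h.2 q hq)

theorem N3.mono {Q V : Subgroup G} {y : G} (h : N3 Q y) (hV : V ≤ Q) : N3 V y := ⟨h.1, fun q hq => h.2 q (hV hq)⟩

theorem N3.comm {Q : Subgroup G} {y : G} (h : N3 Q y) {q : G} (hq : q ∈ Q) : ⁅q, y * q * y⁻¹⁆ = 1 := by
  have h1 := h.2 q hq
  have h2 := h.2 q⁻¹ (Q.inv_mem hq)
  rw [commutatorElement_def]
  calc _ = (q * (y * q * y⁻¹) * (y⁻¹ * q * y)) * (y⁻¹ * q * y)⁻¹ *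
        (q⁻¹ * (y * q⁻¹ * y⁻¹) * (y⁻¹ * q⁻¹ * y)) * (y⁻¹ * q * y) := by group
    _ = 1 := by rw [h1, h2]; group

section class2

variable {Q : Subgroup G} [hQ : Q.Normal] (hc : ∀ a ∈ Q, ∀ b ∈ Q, ∀ d ∈ Q, d * ⁅a, b⁆ = ⁅a, b⁆ * d)
include hc

theorem cm_left {a b d : G} (ha : a ∈ Q) (hb : b ∈ Q) (hd : d ∈ Q) : ⁅a * b, d⁆ = ⁅b, d⁆ * ⁅a, d⁆ := by
  calc _ = a * ⁅b, d⁆ * a⁻¹ * ⁅a, d⁆ := by simp only [commutatorElement_def]; group
    _ = _ := by rw [hc b hb d hd a ha]; group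

theorem cm_right {a b d : G} (ha : a ∈ Q) (hb : b ∈ Q) (hd : d ∈ Q) : ⁅d, a * b⁆ = ⁅d, a⁆ * ⁅d, b⁆ := by
  calc _ = ⁅d, a⁆ * (a * ⁅d, b⁆) * a⁻¹ := by simp only [commutatorElement_def]; group
    _ = _ := by rw [hc d hd b hb a ha]; group

theorem N3.swap {y a b : G} (h : N3 Q y) (ha : a ∈ Q) (hb : b ∈ Q) : ⁅a, y * b * y⁻¹⁆ = ⁅y * a * y⁻¹, b⁆ := by
  have h1 := h.comm (Q.mul_mem ha hb)
  have ya := hQ.conj_mem _ ha y
  have yb := hQ.conj_mem _ hb y
  rw [show y * (a * b) * y⁻¹ = (y * a * y⁻¹) * (y * b * y⁻¹) by group, cm_left hc ha hb (Q.mul_mem ya yb),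
    cm_right hc ya yb ha, cm_right hc ya yb hb, h.comm ha, h.comm hb, mul_one, one_mul] at h1
  rw [eq_inv_of_mul_eq_one_right h1, commutatorElement_inv]

theorem N3.act_right {y a b : G} (h : N3 Q y) (ha : a ∈ Q) (hb : b ∈ Q) :
    y * ⁅a, b⁆ * y⁻¹ = ⁅a, y⁻¹ * b * y⁆ := by
  rw [conjugate_commutatorElement, ← h.swap hc ha (hQ.conj_mem _ hb y),
    show y * (y * b * y⁻¹) * y⁻¹ = (y * y) * b * (y * y)⁻¹ by group, h.1, inv_inv]

theorem N3.act_left {y a b : G} (h : N3 Q y) (ha : a ∈ Q) (hb : b ∈ Q) :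
    y * ⁅a, b⁆ * y⁻¹ = ⁅y⁻¹ * a * y, b⁆ := by
  rw [conjugate_commutatorElement, h.swap hc (hQ.conj_mem _ ha y) hb,
    show y * (y * a * y⁻¹) * y⁻¹ = (y * y) * a * (y * y)⁻¹ by group, h.1, inv_inv]

theorem N3.cent {y z : G} (h : N3 Q y) (h' : N3 Q z) : ⁅y⁻¹, z⁻¹⁆ ∈ centralizer ((⁅Q, Q⁆ : Subgroup G) : Set G) := by
  rw [← zpowers_le, le_centralizer_iff, commutator_le]
  intro a ha b hb
  have e : y * (z * ⁅a, b⁆ * z⁻¹) * y⁻¹ = z * (y * ⁅a, b⁆ * y⁻¹) * z⁻¹ := by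
    have a' : y⁻¹ * a * y ∈ Q := by simpa using hQ.conj_mem _ ha y⁻¹
    have b' : z⁻¹ * b * z ∈ Q := by simpa using hQ.conj_mem _ hb z⁻¹
    rw [h'.act_right hc ha hb, h.act_left hc ha b', h.act_left hc ha hb, h'.act_right hc a' hb]
  rw [mem_centralizer_iff]
  rintro _ ⟨n, rfl⟩
  refine (Commute.zpow_left ?_ n).eq
  generalize ⁅a, b⁆ = w at e
  rw [commutatorElement_def]
  change _ = _
  calc _ = y⁻¹ * z⁻¹ * (y * (z * w * z⁻¹) * y⁻¹) * y * z := by group
    _ = _ := by rw [e]; group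

end class2

section main

variable [Finite G] [Finite K] (h2 : (2 : K) = 0) (hK : 4 ≤ Nat.card K) {Q : Subgroup G} [hQ : Q.Normal]
  {f : G →* SL(2, K)} (hf : Function.Surjective f) (hk : f.ker = Q)
  (h3 : ∀ g : SL(2, K), mv g 0 0 + mv g 1 1 = 1 → ∃ y, f y = g ∧ N3 Q y)
include h2 hK hf hk h3

theorem abel_of_class2 (hQ2 : IsPGroup 2 Q) (hc : ∀ a ∈ Q, ∀ b ∈ Q, ∀ d ∈ Q, d * ⁅a, b⁆ = ⁅a, b⁆ * d) :
    (⁅Q, Q⁆ : Subgroup G) = ⊥ := by
  set C := centralizer ((⁅Q, Q⁆ : Subgroup G) : Set G) with hC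
  have hQC : Q ≤ C := by
    rw [hC, le_centralizer_iff, commutator_le]
    intro a ha b hb d hd
    exact hc a ha b hb d hd
  obtain ⟨a, ha0, ha1⟩ := Linear.exists_sq_ne_one_of_four_le_card hK
  haveI : (C.map f).Normal := Normal.map inferInstance f hf
  obtain ⟨y, hy, hy3⟩ := h3 (tt 1 * uu 1) (by simp; linear_combination h2)
  rcases Linear.sl_normal_le_center_or_eq_top (Or.inr ⟨a, ha0, ha1⟩) (C.map f) with h | h
  · exfalso
    obtain ⟨z, hz, hz3⟩ := h3 (tt a⁻¹ * uu a) (by simp [ha0]; linear_combination h2)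
    have := h (mem_map_of_mem f (hy3.cent hc hz3))
    obtain ⟨r, hr, hr'⟩ := Matrix.SpecialLinearGroup.mem_center_iff.1 this
    have r1 : r = 1 := by
      simp only [Fintype.card_fin] at hr
      have : (r - 1) ^ 2 = 0 := by linear_combination hr + (1 - r) * h2
      exact sub_eq_zero.1 (pow_eq_zero_iff two_ne_zero |>.1 this)
    rw [r1, map_one] at hr'
    have e : f ⁅y⁻¹, z⁻¹⁆ = 1 := mv_inj hr'.symm
    rw [map_commutatorElement, commutatorElement_eq_one_iff_mul_comm, map_inv, map_inv, hy, hz, tu_inv h2,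
      tu_inv h2] at e
    have e1 := congrFun (congrFun (congrArg mv e) 0) 0
    simp [Matrix.mul_apply, Fin.sum_univ_two] at e1
    exact ha1 (by rw [sq]; nth_rw 1 [e1]; exact inv_mul_cancel₀ ha0)
  · have hyC : y ∈ C := by
      have : y ∈ (C.map f).comap f := by rw [h]; trivial
      rwa [comap_map_eq, hk, sup_eq_left.2 hQC] at this
    rw [eq_bot_iff]
    intro w hw
    have hwQ : w ∈ Q := commutator_le_left _ _ hw
    have e := hy3.2 w hwQ
    have c := hyC w hw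
    have e' : w ^ 3 = 1 := by
      rw [mul_assoc y⁻¹, c, ← c, mul_inv_cancel_right, c] at e
      simpa [pow_succ] using e
    obtain ⟨k, hk⟩ := hQ2 ⟨w, hwQ⟩
    have hk' : w ^ 2 ^ k = 1 := congrArg Subtype.val hk
    have := pow_gcd_eq_one.2 ⟨e', hk'⟩
    rwa [Nat.Coprime.pow_right k (by norm_num : Nat.Coprime 3 2), pow_one] at this

theorem abel (hQ2 : IsPGroup 2 Q) : IsMulCommutative Q := by
  set N : Subgroup G := ⁅⁅Q, Q⁆, Q⁆ with hN
  have hNQ : N ≤ f.ker := hk ▸ commutator_le_right _ _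
  haveI : (Q.map (QuotientGroup.mk' N)).Normal := Normal.map hQ _ (QuotientGroup.mk'_surjective N)
  have := abel_of_class2 (G := G ⧸ N) h2 hK (Q := Q.map (QuotientGroup.mk' N)) (f := QuotientGroup.lift N f hNQ)
    (fun g => by obtain ⟨y, rfl⟩ := hf g; exact ⟨y, rfl⟩) (by rw [QuotientGroup.ker_lift, hk])
    (fun g hg => by obtain ⟨y, rfl, hy⟩ := h3 g hg; exact ⟨y, rfl, hy.map (QuotientGroup.mk' N)⟩) (hQ2.map _) (by
      rintro _ ⟨a, ha, rfl⟩ _ ⟨b, hb, rfl⟩ _ ⟨d, hd, rfl⟩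
      rw [← map_commutatorElement, eq_comm, ← commutatorElement_eq_one_iff_mul_comm, ← map_commutatorElement]
      exact (QuotientGroup.eq_one_iff _).2 (commutator_mem_commutator (commutator_mem_commutator ha hb) hd))
  rw [← map_commutator, Subgroup.map_eq_bot_iff, QuotientGroup.ker_mk'] at this
  have h := eq_bot_of_le_comm hQ2 (commutator_le_left _ _) this
  rw [commutator_eq_bot_iff_le_centralizer] at h
  exact ⟨⟨fun a b => Subtype.ext (h b.2 a a.2)⟩⟩

theorem exists_act (V : Subgroup G) [hV : V.Normal] [IsMulCommutative V] (hVQ : V ≤ Q)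
    (hc : Q ≤ centralizer (V : Set G)) :
    ∃ φ : SL(2, K) →* AddMonoid.End (Additive V),
      (∀ (g : G) (v : Additive V), ((φ (f g) v).toMul : G) = g * (v.toMul : V) * g⁻¹) ∧
      ∀ g : SL(2, K), mv g 0 0 + mv g 1 1 = 1 → φ g + φ g⁻¹ = -1 := by
  have hle : f.ker ≤ (MulAut.conjNormal : G →* MulAut V).ker := by
    intro q hq
    ext v
    simp [← hc (hk ▸ hq) v v.2]
  let ρ := f.liftOfSurjective hf ⟨_, hle⟩
  have hρ : ∀ g, ρ (f g) = MulAut.conjNormal g := fun g => f.liftOfRightInverse_comp_apply _ _ _ g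
  let φ : SL(2, K) →* AddMonoid.End (Additive V) :=
    { toFun := fun g => MonoidHom.toAdditive (ρ g).toMonoidHom
      map_one' := by rw [map_one]; rfl
      map_mul' := fun a b => by rw [map_mul]; rfl }
  have hφ : ∀ (g : G) (v : Additive V), ((φ (f g) v).toMul : G) = g * (v.toMul : V) * g⁻¹ := by
    intro g v
    change ((ρ (f g) v.toMul : V) : G) = _
    rw [hρ]; rfl
  refine ⟨φ, hφ, fun g hg => ?_⟩
  obtain ⟨y, rfl, hy⟩ := h3 g hg
  refine AddMonoidHom.ext fun v => Additive.toMul.injective (Subtype.ext ?_)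
  change ((φ (f y) v).toMul : G) * ((φ (f y)⁻¹ v).toMul : G) = ((v.toMul : V) : G)⁻¹
  rw [← map_inv, hφ, hφ, inv_inv, eq_inv_iff_mul_eq_one]
  have := hy.2 _ (hVQ v.toMul.2)
  rw [mul_assoc] at this
  exact mul_eq_one_comm.1 this

theorem elem (hQ2 : IsPGroup 2 Q) : ∀ q ∈ Q, q ^ 2 = 1 := by
  haveI := abel h2 hK hf hk h3 hQ2
  have hcc : ∀ a ∈ Q, ∀ b ∈ Q, a * b = b * a := fun a ha b hb => mul_comm_of_mem_isMulCommutative Q ha hb
  let V : Subgroup G :=
    { carrier := {q | q ∈ Q ∧ q ^ 4 = 1}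
      mul_mem' := fun {a b} ha hb => ⟨Q.mul_mem ha.1 hb.1, by
        rw [Commute.mul_pow (hcc a ha.1 b hb.1), ha.2, hb.2, one_mul]⟩
      one_mem' := ⟨Q.one_mem, one_pow _⟩
      inv_mem' := fun {a} ha => ⟨Q.inv_mem ha.1, by rw [inv_pow, ha.2, inv_one]⟩ }
  haveI : V.Normal := ⟨fun a ha g => ⟨hQ.conj_mem _ ha.1 g, by rw [conj_pow, ha.2]; simp⟩⟩
  haveI : IsMulCommutative V := ⟨⟨fun a b => Subtype.ext (hcc _ a.2.1 _ b.2.1)⟩⟩
  obtain ⟨φ, -, hφ⟩ := exists_act h2 hK hf hk h3 V (fun _ h => h.1) (fun q hq v hv => hcc _ hv.1 _ hq)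
  have e := two_eq_zero h2 (by omega) (by
    refine AddMonoidHom.ext fun v => Additive.toMul.injective (Subtype.ext ?_)
    rw [← one_add_one_eq_two, add_mul, one_mul]
    change (v.toMul : G) * v.toMul * (v.toMul * v.toMul) = 1
    rw [← v.toMul.2.2]; simp [pow_succ, mul_assoc]) φ hφ
  have h4 : ∀ q ∈ Q, q ^ 4 = 1 → q ^ 2 = 1 := by
    intro q hq h
    rw [← one_add_one_eq_two] at e
    have := congrArg (fun w : Additive V => (w.toMul : G)) (DFunLike.congr_fun e (Additive.ofMul ⟨q, hq, h⟩))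
    rw [sq]; exact this
  have : ∀ (k : ℕ), ∀ q ∈ Q, q ^ 2 ^ k = 1 → q ^ 2 = 1 := by
    intro k
    induction k with
    | zero => intro q _ h; rw [pow_zero, pow_one] at h; rw [h, one_pow]
    | succ k ih =>
      intro q hq h
      rw [pow_succ', pow_mul] at h
      exact h4 q hq (by rw [show 4 = 2 * 2 from rfl, pow_mul]; exact ih _ (Q.pow_mem hq 2) h)
  intro q hq
  obtain ⟨k, hk⟩ := hQ2 ⟨q, hq⟩
  exact this k q hq (congrArg Subtype.val hk)

theorem main (hQ2 : IsPGroup 2 Q) : IsElementaryAbelian 2 Q ∧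
    ∃ (k : ℕ) (V : Fin k → Subgroup G), (∀ i, V i ≤ Q ∧ (V i).Normal ∧
      ActsAsSL2OnSection K ⊤ ⊤ (V i) ⊥) ∧ iSupIndep V ∧ ⨆ i, V i = Q := by
  haveI := abel h2 hK hf hk h3 hQ2
  have he := elem h2 hK hf hk h3 hQ2
  refine ⟨⟨this, he⟩, ?_⟩
  obtain ⟨φ, hφ, hφ3⟩ := exists_act h2 hK hf hk h3 Q le_rfl
    (fun q hq v hv => mul_comm_of_mem_isMulCommutative Q hv hq)
  obtain ⟨k, Θ, hΘ, hΘ'⟩ := mod_struct h2 (V := Additive Q) (fun v => Additive.toMul.injective (Subtype.ext (by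
    have := he _ v.toMul.2
    rw [sq] at this; exact this))) φ hφ3
  let ι : Multiplicative (Fin k → Fin 2 → K) →* G := Q.subtype.comp (AddMonoidHom.toMultiplicativeLeft Θ)
  have hι : ∀ x, ι x = (Θ x.toAdd).toMul := fun _ => rfl
  have ιinj : Function.Injective ι := fun x y h =>
    Multiplicative.toAdd.injective (hΘ.1 (Additive.toMul.injective (Subtype.ext h)))
  let s : Fin k → Multiplicative (Fin 2 → K) →* Multiplicative (Fin k → Fin 2 → K) := fun i =>
    AddMonoidHom.toMultiplicative (AddMonoidHom.single (fun _ : Fin k => Fin 2 → K) i)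
  have hs : ∀ i y, (s i y).toAdd = Pi.single i y.toAdd := fun _ _ => rfl
  have sinj : ∀ i, Function.Injective (ι.comp (s i)) := fun i x y h =>
    Multiplicative.toAdd.injective (Pi.single_injective (M := fun _ : Fin k => Fin 2 → K) i
      (congrArg Multiplicative.toAdd (ιinj h)))
  have hact : ∀ i g y, g * (ι.comp (s i)) y * g⁻¹ = (ι.comp (s i)) (Multiplicative.ofAdd (mv (f g) *ᵥ y.toAdd)) := by
    intro i g y
    change g * ι _ * g⁻¹ = ι _
    rw [hι, hι, ← hφ, hΘ', hs, hs]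
    congr 3
    ext j : 1
    by_cases hj : j = i
    · subst hj; simp
    · simp [hj]
  refine ⟨k, fun i => (ι.comp (s i)).range, fun i => ?_, ?_, ?_⟩
  · have hn : (ι.comp (s i)).range.Normal := ⟨by rintro _ ⟨y, rfl⟩ g; exact ⟨_, (hact i g y).symm⟩⟩
    refine ⟨by rintro _ ⟨y, rfl⟩; exact (Θ _).toMul.2, hn, by rw [normalizer_eq_top], bot_le,
      f.comp (Subgroup.subtype ⊤), (MonoidHom.ofInjective (sinj i)).symm.toMonoidHom, ?_,
      (MonoidHom.ofInjective (sinj i)).symm.surjective, fun u => ?_, fun e u => ?_⟩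
    · rw [MonoidHom.range_eq_top]
      intro g
      obtain ⟨y, rfl⟩ := hf g
      exact ⟨⟨y, trivial⟩, rfl⟩
    · rw [mem_bot]
      exact ((MonoidHom.ofInjective (sinj i)).symm.map_eq_one_iff).trans (by simp)
    · obtain ⟨y, rfl⟩ := (MonoidHom.ofInjective (sinj i)).surjective u
      refine ⟨MonoidHom.ofInjective (sinj i) (Multiplicative.ofAdd (mv (f e) *ᵥ y.toAdd)), (hact i e y).symm, ?_⟩
      simp only [MulEquiv.coe_toMonoidHom, MulEquiv.symm_apply_apply]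
      rfl
  · intro i
    simp only [MonoidHom.range_comp]
    have : (⨆ j, ⨆ (_ : j ≠ i), (s j).range.map ι) = (⨆ j, ⨆ (_ : j ≠ i), (s j).range).map ι := by
      simp only [Subgroup.map_iSup]
    rw [this]
    refine Subgroup.disjoint_map ιinj ?_
    have hle : (⨆ j, ⨆ (_ : j ≠ i), (s j).range) ≤
        (AddMonoidHom.toMultiplicative (Pi.evalAddMonoidHom (fun _ : Fin k => Fin 2 → K) i)).ker := by
      refine iSup₂_le fun j hj => ?_
      rintro _ ⟨y, rfl⟩
      change Multiplicative.ofAdd ((s j y).toAdd i) = 1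
      rw [hs, Pi.single_eq_of_ne hj.symm]; rfl
    rw [Subgroup.disjoint_def]
    rintro _ ⟨y, rfl⟩ hy
    have h : Multiplicative.ofAdd ((s i y).toAdd i) = 1 := hle hy
    rw [hs, Pi.single_eq_same] at h
    rw [show y = 1 from h, map_one]
  · refine le_antisymm (iSup_le fun i => by rintro _ ⟨y, rfl⟩; exact (Θ _).toMul.2) fun q hq => ?_
    obtain ⟨x, hx⟩ := hΘ.2 (Additive.ofMul ⟨q, hq⟩)
    have : q = ι (∏ i, s i (Multiplicative.ofAdd (x i))) := by
      rw [hι, toAdd_prod]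
      simp only [hs, toAdd_ofAdd, Finset.univ_sum_single, hx]
      rfl
    rw [this]
    simp only [MonoidHom.range_comp, ← Subgroup.map_iSup]
    exact mem_map_of_mem ι (Subgroup.prod_mem _ fun i _ => mem_iSup_of_mem i ⟨_, rfl⟩)

end main

end Cfsg.Lib.Amalg.Hig3
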