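import Cfsg.Agent.Lib.Amalg.Ops
import Cfsg.Agent.Lib.Hall.SolvCrit
import Cfsg.Agent.Lib.PGrp.Critical
import Cfsg.Agent.Lib.Block2.Count

/-! Perfect groups act trivially on `2`-groups with at most three involutions. -/

set_option autoImplicit false
set_option linter.unusedSectionVars false

namespace Cfsg.Lib.Amalg.Inv3

open Subgroup
open Cfsg.Lib.Core hiding isPGroup_subgroupOf isPGroup_subgroupOf_iff isPGroup_map_subtype_iff
open scoped commutatorElement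

variable {G : Type*} [Group G] [Finite G] {A P K R D U T : Subgroup G}

theorem relIndex_le {W : Subgroup G} {x : G} {Z : Set G} (h : ∀ w ∈ W, w * x * w⁻¹ ∈ Z) :
    (centralizer ({x} : Set G)).relIndex W ≤ Z.ncard := by
  let f : W ⧸ (centralizer ({x} : Set G)).subgroupOf W → Z := fun w => ⟨w.out * x * (w.out : G)⁻¹, h _ w.out.2⟩
  refine Nat.card_le_card_of_injective f fun p q e => ?_
  have h1 : (p.out : G) * x * (p.out : G)⁻¹ = q.out * x * (q.out : G)⁻¹ := congrArg Subtype.val e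
  rw [← p.out_eq, ← q.out_eq]
  refine QuotientGroup.eq.2 (mem_subgroupOf.2 (mem_centralizer_singleton_iff.2 ?_))
  change (p.out : G)⁻¹ * q.out * x = x * ((p.out : G)⁻¹ * q.out)
  calc (p.out : G)⁻¹ * q.out * x = (p.out : G)⁻¹ * (q.out * x * (q.out : G)⁻¹) * q.out := by group
    _ = _ := by rw [← h1]; group

theorem burn (hA : ⁅A, A⁆ = A) (hn : A ≤ 𝐍 K) {p q : ℕ} (hp : p.Prime) (hq : q.Prime)
    (h : ∀ r : ℕ, r.Prime → r ≠ p → r ≠ q → ∀ R ≤ A, IsPGroup r R → R ≤ 𝐂 K) : A ≤ 𝐂 K := by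
  let φ := Coprime.conjAut hn
  haveI : Group.IsSolvable φ.range := Hall.isSolvable_of_two_primes hp hq fun r hr hd => by
    by_contra hc
    push Not at hc
    haveI := Fact.mk hr
    obtain ⟨S⟩ : Nonempty (Sylow r A) := inferInstance
    have h1 : (S : Subgroup A) ≤ φ.ker := fun x hx => (Coprime.mem_ker_conjAut hn x).2
      (h r hr hc.1 hc.2 _ (map_subtype_le _) (S.isPGroup'.map A.subtype) ⟨x, hx, rfl⟩)
    rw [← index_ker] at hd
    exact S.not_dvd_index (hd.trans (index_dvd_of_le h1))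
  have h1 : ⁅(⊤ : Subgroup A), (⊤ : Subgroup A)⁆ = ⊤ := by
    apply map_injective A.subtype_injective
    rw [map_commutator, ← MonoidHom.range_eq_map, range_subtype, hA]
  have h2 : ⁅(⊤ : Subgroup φ.range), (⊤ : Subgroup φ.range)⁆ = ⊤ := by
    rw [← map_top_of_surjective _ φ.rangeRestrict_surjective, ← map_commutator, h1]
  have h3 : (⊤ : Subgroup φ.range) = ⊥ := by
    by_contra hc
    exact (IsSolvable.commutator_lt_of_ne_bot hc).ne h2
  intro a ha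
  refine (Coprime.mem_ker_conjAut hn ⟨a, ha⟩).1 ?_
  have h4 : (⟨φ ⟨a, ha⟩, ⟨a, ha⟩, rfl⟩ : φ.range) ∈ (⊥ : Subgroup φ.range) := h3 ▸ mem_top _
  exact congrArg Subtype.val (mem_bot.1 h4)

theorem le_cent_of_idx {r : ℕ} (hr : r.Prime) (h2 : r ≠ 2) (hR : IsPGroup r R) (hK : IsPGroup 2 K)
    (hn : R ≤ 𝐍 K) (hD : D ≤ 𝐂 R) (hDK : D ≤ K) (h : Nat.card K ≤ r * Nat.card D) : R ≤ 𝐂 K := by
  haveI := Fact.mk hr
  haveI : Fact (Nat.Prime 2) := ⟨Nat.prime_two⟩
  have h1 := PGrp.card_modEq_card_inf_centralizer hR hn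
  have h3 := card_mul_relIndex (inf_le_left : K ⊓ 𝐂 R ≤ K)
  have h4 := card_le_of_le (le_inf hDK hD)
  have h5 : (Nat.card (K ⊓ 𝐂 R : Subgroup G)).Coprime r := by
    obtain ⟨k, hk⟩ := IsPGroup.iff_card.1 (hK.to_le (inf_le_left : K ⊓ 𝐂 R ≤ K))
    rw [hk]; exact ((Nat.coprime_primes Nat.prime_two hr).2 h2.symm).pow_left k
  rw [← h3] at h1 h
  have h6 := Nat.ModEq.cancel_left_of_coprime h5.symm (h1.trans (by rw [mul_one]))
  have h7 : (K ⊓ 𝐂 R).relIndex K ≤ r := by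
    refine Nat.le_of_mul_le_mul_left (h.trans ?_) (Nat.card_pos (α := (K ⊓ 𝐂 R : Subgroup G)))
    rw [mul_comm]; exact Nat.mul_le_mul_right _ h4
  have h8 : (K ⊓ 𝐂 R).relIndex K = 1 := by
    rcases h7.eq_or_lt with e | e
    · rw [e] at h6
      exact absurd ((Nat.modEq_zero_iff_dvd.1 (h6.symm.trans (Nat.modEq_zero_iff_dvd.2 dvd_rfl)))) hr.not_dvd_one
    · exact Nat.ModEq.eq_of_lt_of_lt h6 e hr.one_lt
  exact le_centralizer_iff.1 ((relIndex_eq_one.1 h8).trans inf_le_right)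

/-- the situation of a minimal counterexample -/
structure Min (P Z : Subgroup G) : Prop where
  two : IsPGroup 2 P
  le : Z ≤ P
  cent : Z ≤ 𝐂 P
  sq : ∀ x ∈ P, x * x ∈ Z
  comm : ∀ x ∈ P, ∀ y ∈ P, ⁅x, y⁆ ∈ Z
  four : ∀ x ∈ P, x * x * (x * x) = 1
  inv : ∀ x ∈ P, x * x = 1 → x ∈ Z
  card : {x | x ∈ P ∧ x * x = 1}.ncard ≤ 4

variable {Z : Subgroup G}

theorem mul_sq (x y : G) (h : Commute y ⁅y⁻¹, x⁻¹⁆) : x * y * (x * y) = x * x * (y * y) * ⁅y⁻¹, x⁻¹⁆ := by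
  rw [mul_assoc (x * x), mul_assoc y, h.eq]
  simp only [commutatorElement_def]; group

theorem Min.co (h : Min P Z) {z x : G} (hz : z ∈ Z) (hx : x ∈ P) : Commute x z :=
  mem_centralizer_iff.1 (h.cent hz) x hx

theorem Min.mul_sq (h : Min P Z) {x y : G} (hx : x ∈ P) (hy : y ∈ P) :
    x * y * (x * y) = x * x * (y * y) * ⁅y⁻¹, x⁻¹⁆ :=
  Inv3.mul_sq x y (h.co (h.comm _ (inv_mem hy) _ (inv_mem hx)) hy)

theorem comm_sq {x y : G} (h1 : Commute (x * x) y) (h2 : Commute x ⁅x, y⁆) : ⁅x, y⁆ * ⁅x, y⁆ = 1 := by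
  have : ⁅x * x, y⁆ = x * ⁅x, y⁆ * x⁻¹ * ⁅x, y⁆ := by simp only [commutatorElement_def]; group
  rw [h2.eq, mul_inv_cancel_right, commutatorElement_eq_one_iff_commute.2 h1] at this
  exact this.symm

theorem Min.comm_sq (h : Min P Z) {x y : G} (hx : x ∈ P) (hy : y ∈ P) : ⁅x, y⁆ * ⁅x, y⁆ = 1 :=
  Inv3.comm_sq (h.co (h.sq x hx) hy).symm (h.co (h.comm x hx y hy) hx)

/-- the elements of order at most two -/
def Min.Om (h : Min P Z) : Subgroup G where
  carrier := {x | x ∈ P ∧ x * x = 1}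
  one_mem' := ⟨one_mem _, one_mul 1⟩
  inv_mem' hx := ⟨inv_mem hx.1, by rw [← mul_inv_rev, hx.2, inv_one]⟩
  mul_mem' {x y} hx hy := ⟨mul_mem hx.1 hy.1, by
    rw [mul_assoc, ← mul_assoc y, (h.co (h.inv x hx.1 hx.2) hy.1).eq, mul_assoc, hy.2, mul_one, hx.2]⟩

theorem Min.seven (h : Min P Z) {u v w : G} (hu : u ∈ P) (hv : v ∈ P) (hw : w ∈ P) :
    u * v * w * (u * v * w) =
      (u * v * (u * v) * (u * w * (u * w))) * (v * w * (v * w) * (u * u)) * (v * v * (w * w)) := by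
  have e : ⁅w⁻¹, (u * v)⁻¹⁆ = ⁅w⁻¹, v⁻¹⁆ * ⁅w⁻¹, u⁻¹⁆ := by
    have : ⁅w⁻¹, (u * v)⁻¹⁆ = ⁅w⁻¹, v⁻¹⁆ * (v⁻¹ * ⁅w⁻¹, u⁻¹⁆ * v) := by
      simp only [commutatorElement_def]; group
    rw [this, mul_assoc v⁻¹, ← (h.co (h.comm _ (inv_mem hw) _ (inv_mem hu)) hv).eq, inv_mul_cancel_left]
  rw [h.mul_sq (mul_mem hu hv) hw, h.mul_sq hu hv, h.mul_sq hu hw, h.mul_sq hv hw, e]
  haveI : IsMulCommutative Z := ⟨⟨fun a b => Subtype.ext (h.co b.2 (h.le a.2)).eq⟩⟩
  letI : CommGroup Z := CommGroup.mk mul_comm'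
  have key : ∀ a b c d e f : Z, a * a = 1 → b * b = 1 → c * c = 1 →
      a * b * d * c * (e * f) = a * b * d * (a * c * f) * (b * c * e * a) * (b * c) := fun a b c d e f h1 h2 h3 => by
    calc _ = a * b * d * c * (e * f) * (a * a) * (b * b) * (c * c) := by rw [h1, h2, h3, mul_one, mul_one, mul_one]
      _ = _ := by simp only [mul_comm, mul_left_comm, mul_assoc]
  exact congrArg Subtype.val (key ⟨_, h.sq u hu⟩ ⟨_, h.sq v hv⟩ ⟨_, h.sq w hw⟩
    ⟨_, h.comm _ (inv_mem hv) _ (inv_mem hu)⟩ ⟨_, h.comm _ (inv_mem hw) _ (inv_mem hv)⟩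
    ⟨_, h.comm _ (inv_mem hw) _ (inv_mem hu)⟩ (Subtype.ext (h.four u hu)) (Subtype.ext (h.four v hv))
    (Subtype.ext (h.four w hw)))

theorem Min.norm (h : Min P Z) (hZ : Z ≤ D) (hD : D ≤ P) : P ≤ 𝐍 D := fun x hx =>
  mem_normalizer_of_conj_mem fun d hd => by
    have := mul_mem (hZ (h.comm x hx d (hD hd))) hd
    rwa [commutatorElement_def, inv_mul_cancel_right] at this

theorem Min.card_sup (h : Min P Z) (hZ : Z ≤ D) (hD : D ≤ P) {x : G} (hx : x ∈ P) (hx' : x ∉ D) :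
    Nat.card (D ⊔ zpowers x : Subgroup G) = 2 * Nat.card D :=
  haveI : Fact (Nat.Prime 2) := ⟨Nat.prime_two⟩
  PGrp.card_sup_zpowers_of_mem_normalizer (h.norm hZ hD hx) hx' (by rw [pow_two]; exact hZ (h.sq x hx))

theorem exists_not_mem {H K : Subgroup G} (h : Nat.card H < Nat.card K) : ∃ x ∈ K, x ∉ H := by
  by_contra hc
  push Not at hc
  exact absurd (card_le_of_le hc) (by omega)

theorem Min.hit (h : Min P Z) (hZ : Z ≤ D) (hD : D ≤ U) (hU : U ≤ P) (hc : 4 * Nat.card D < Nat.card U)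
    (hT : T ≤ h.Om) (hT' : Nat.card h.Om ≤ 2 * Nat.card T) : ∃ x ∈ U, x ∉ D ∧ x * x ∈ T := by
  have p0 : 0 < Nat.card D := Nat.card_pos
  obtain ⟨u, hu, hu'⟩ := exists_not_mem (H := D) (K := U) (by omega)
  have c1 := h.card_sup hZ (hD.trans hU) (hU hu) hu'
  have l1 : D ⊔ zpowers u ≤ U := sup_le hD (zpowers_le.2 hu)
  obtain ⟨v, hv, hv'⟩ := exists_not_mem (H := D ⊔ zpowers u) (K := U) (by omega)
  have c2 := h.card_sup (hZ.trans le_sup_left) (l1.trans hU) (hU hv) hv'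
  obtain ⟨w, hw, hw'⟩ := exists_not_mem (H := D ⊔ zpowers u ⊔ zpowers v) (K := U) (by omega)
  have mu : u ∈ D ⊔ zpowers u := mem_sup_right (mem_zpowers u)
  have mu' : u ∈ D ⊔ zpowers u ⊔ zpowers v := mem_sup_left mu
  have mv : v ∈ D ⊔ zpowers u ⊔ zpowers v := mem_sup_right (mem_zpowers v)
  have l2 : D ≤ D ⊔ zpowers u ⊔ zpowers v := le_sup_left.trans le_sup_left
  by_contra hn
  push Not at hn
  have sq : ∀ x ∈ U, x * x ∈ h.Om := fun x hx => ⟨mul_mem (hU hx) (hU hx), h.four x (hU hx)⟩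
  have hi : (T.subgroupOf h.Om).index = 2 := by
    have h1 := card_mul_relIndex hT
    have h2 : T.relIndex h.Om ≠ 1 := fun e => hn u hu hu' (relIndex_eq_one.1 e (sq u hu))
    have h3 : 0 < Nat.card h.Om := Nat.card_pos
    have h4 : 0 < Nat.card T := Nat.card_pos
    show T.relIndex h.Om = 2
    rw [← h1] at hT' h3
    have := Nat.le_of_mul_le_mul_left (hT'.trans (mul_comm _ _).le) h4
    have := Nat.pos_of_mul_pos_left h3
    omega
  have two : ∀ x ∈ U, x ∉ D → ∀ y ∈ U, y ∉ D → x * x * (y * y) ∈ T := fun x hx hx' y hy hy' =>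
    (mul_mem_iff_of_index_two hi (a := ⟨_, sq x hx⟩) (b := ⟨_, sq y hy⟩)).2
      (iff_of_false (hn x hx hx') (hn y hy hy'))
  refine hn _ (mul_mem (mul_mem hu hv) hw) (fun e => hw' ((mul_mem_cancel_left (mul_mem mu' mv)).1 (l2 e))) ?_
  rw [h.seven (hU hu) (hU hv) (hU hw)]
  exact mul_mem (mul_mem
    (two _ (mul_mem hu hv) (fun e => hv' ((mul_mem_cancel_left mu).1 (mem_sup_left e))) _ (mul_mem hu hw)
      fun e => hw' ((mul_mem_cancel_left mu').1 (l2 e)))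
    (two _ (mul_mem hv hw) (fun e => hw' ((mul_mem_cancel_left mv).1 (l2 e))) _ hu hu'))
    (two _ hv (fun e => hv' (mem_sup_left e)) _ hw fun e => hw' (l2 e))

theorem card_zpowers_two {z : G} (h : z * z = 1) (h1 : z ≠ 1) : Nat.card (zpowers z) = 2 := by
  haveI : Fact (Nat.Prime 2) := ⟨Nat.prime_two⟩
  rw [Nat.card_zpowers, orderOf_eq_prime (by rw [pow_two, h]) h1]

theorem mem_zpowers_two {z x : G} (h : z * z = 1) (hx : x ∈ zpowers z) : x = 1 ∨ x = z := by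
  obtain ⟨k, rfl⟩ := hx
  have h2 : z ^ (2 : ℤ) = 1 := by rw [zpow_two, h]
  rcases Int.even_or_odd' k with ⟨m, rfl | rfl⟩
  · left; show z ^ (2 * m) = 1; rw [zpow_mul, h2, one_zpow]
  · right; show z ^ (2 * m + 1) = _; rw [zpow_add, zpow_mul, h2, one_zpow, one_mul, zpow_one]

theorem Min.hit' (h : Min P Z) (hZ : Z ≤ D) (hD : D ≤ U) (hU : U ≤ P) (hc : 4 * Nat.card D < Nat.card U)
    {z : G} (hz : z ∈ h.Om) (hz1 : z ≠ 1) : ∃ x ∈ U, x ∉ D ∧ x * x = z := by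
  obtain ⟨x, h1, h2, h3⟩ := h.hit hZ hD hU hc (zpowers_le.2 hz) (by
    rw [card_zpowers_two hz.2 hz1]; exact h.card)
  exact ⟨x, h1, h2, (mem_zpowers_two hz.2 h3).resolve_left fun e => h2 (hZ (h.inv x (hU h1) e))⟩

theorem Min.eq_om (h : Min P Z) (hc : 4 * Nat.card Z < Nat.card P) : Z = h.Om ∧ Nat.card Z = 4 := by
  have e : Z = h.Om := by
    refine le_antisymm (fun c hc' => ⟨h.le hc', ?_⟩) fun x hx => h.inv x hx.1 hx.2
    by_contra h1
    obtain ⟨x, h2, h3, h4⟩ := h.hit' le_rfl h.le le_rfl hc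
      ⟨mul_mem (h.le hc') (h.le hc'), h.four c (h.le hc')⟩ h1
    refine h3 ((mul_mem_cancel_right (inv_mem hc')).1 (h.inv _ (mul_mem h2 (inv_mem (h.le hc'))) ?_))
    rw [mul_assoc, ← mul_assoc c⁻¹, ← (h.co (inv_mem hc') h2).eq, ← mul_assoc, ← mul_assoc, h4]; group
  refine ⟨e, ?_⟩
  haveI : Fact (Nat.Prime 2) := ⟨Nat.prime_two⟩
  have h1 : Nat.card h.Om ≤ 4 := h.card
  have h2 : 2 < Nat.card h.Om := by
    by_contra h2
    obtain ⟨x, h3, h4, h5⟩ := h.hit le_rfl h.le le_rfl hc bot_le (by rw [card_bot]; omega)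
    exact h4 (h.inv x h3 (mem_bot.1 h5))
  obtain ⟨k, hk⟩ := IsPGroup.iff_card.1 (h.two.to_le h.le)
  rw [← e] at h1 h2
  rw [hk] at h1 h2 ⊢
  have : k < 3 := (Nat.pow_lt_pow_iff_right one_lt_two).1 (by omega)
  interval_cases k <;> omega

theorem le_four_mul (hK : IsPGroup 2 K) (hD : D ≤ K) (h : Nat.card K < 8 * Nat.card D) :
    Nat.card K ≤ 4 * Nat.card D := by
  haveI : Fact (Nat.Prime 2) := ⟨Nat.prime_two⟩
  obtain ⟨k, hk⟩ := IsPGroup.iff_card.1 hK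
  obtain ⟨l, hl⟩ := IsPGroup.iff_card.1 (hK.to_le hD)
  rw [hk, hl] at h ⊢
  rw [show 8 * 2 ^ l = 2 ^ (l + 3) by ring, Nat.pow_lt_pow_iff_right one_lt_two] at h
  rw [show 4 * 2 ^ l = 2 ^ (l + 2) by ring]
  exact Nat.pow_le_pow_right two_pos (by omega)

theorem Min.cent_le (h : Min P Z) {v : G} (hv : v ∈ P) (hv' : v ∉ Z) :
    Nat.card (P ⊓ centralizer {v} : Subgroup G) ≤ 4 * Nat.card (Z ⊔ zpowers v : Subgroup G) := by
  by_contra hc
  obtain ⟨x, h1, h2, h3⟩ := h.hit' le_sup_left (sup_le (le_inf h.le fun z hz =>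
    mem_centralizer_singleton_iff.2 (h.co hz hv).eq.symm) (zpowers_le.2 ⟨hv, mem_centralizer_singleton_iff.2 rfl⟩))
    inf_le_left (not_le.1 hc) ⟨mul_mem hv hv, h.four v hv⟩ fun e => hv' (h.inv v hv e)
  refine h2 ((mul_mem_cancel_right (inv_mem (mem_sup_right (mem_zpowers v)))).1 (mem_sup_left
    (h.inv _ (mul_mem h1.1 (inv_mem hv)) ?_)))
  rw [mul_assoc, ← mul_assoc v⁻¹, ← (Commute.inv_right (mem_centralizer_singleton_iff.1 h1.2)).eq, ← mul_assoc,
    ← mul_assoc, h3]; group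

/-- the fibres of the squaring map -/
noncomputable def fb (U : Subgroup G) (z : G) : ℕ := {x | x ∈ U ∧ x * x = z}.ncard

open scoped Pointwise in
theorem Min.dvd_fb (h : Min P Z) (e : Z = h.Om) (hZ : Z ≤ U) (hU : U ≤ P) (z : G) : Nat.card Z ∣ fb U z := by
  have := card_mul_eq_card_subgroup_mul_card_quotient Z {x | x ∈ U ∧ x * x = z}
  have e1 : {x | x ∈ U ∧ x * x = z} * (Z : Set G) = {x | x ∈ U ∧ x * x = z} := by
    refine Set.Subset.antisymm ?_ fun x hx => ⟨x, hx, 1, one_mem _, mul_one x⟩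
    rintro _ ⟨x, hx, c, hc, rfl⟩
    refine ⟨mul_mem hx.1 (hZ hc), ?_⟩
    show x * c * (x * c) = z
    rw [mul_assoc, ← mul_assoc c, ← (h.co hc (hU hx.1)).eq, mul_assoc, (e.le hc).2, mul_one, hx.2]
  rw [e1] at this
  exact Dvd.intro _ this.symm

theorem Min.sum (h : Min P Z) (e : Z = h.Om) (h4 : Nat.card Z = 4) :
    ∃ a b c : G, (∀ z, z = a ∨ z = b ∨ z = c → z ∈ h.Om ∧ z ≠ 1) ∧
      ∀ U, Z ≤ U → U ≤ P → Nat.card U = 4 + fb U a + fb U b + fb U c := by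
  have h3 : ((Z : Set G) \ {1}).ncard = 3 := by
    rw [Set.ncard_diff_singleton_of_mem (one_mem Z), ← Nat.card_coe_set_eq]
    exact congrArg (· - 1) h4
  obtain ⟨a, b, c, ab, ac, bc, h3⟩ := Set.ncard_eq_three.1 h3
  have m : ∀ z, z = a ∨ z = b ∨ z = c ↔ z ∈ Z ∧ z ≠ 1 := fun z => (Set.ext_iff.1 h3 z).symm
  refine ⟨a, b, c, fun z hz => e ▸ (m z).1 hz, fun U h1 h2 => ?_⟩
  have e1 : (U : Set G) = (Z : Set G) ∪ {x | x ∈ U ∧ x * x = a} ∪ {x | x ∈ U ∧ x * x = b} ∪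
      {x | x ∈ U ∧ x * x = c} := by
    ext x
    simp only [Set.mem_union, SetLike.mem_coe, Set.mem_setOf_eq]
    refine ⟨fun hx => ?_, ?_⟩
    · by_cases h0 : x * x = 1
      · exact Or.inl (Or.inl (Or.inl (h.inv x (h2 hx) h0)))
      · have := (m _).2 ⟨h.sq x (h2 hx), h0⟩
        tauto
    · rintro (((hx | hx) | hx) | hx)
      exacts [h1 hx, hx.1, hx.1, hx.1]
  have a1 := ((m a).1 (Or.inl rfl)).2
  have b1 := ((m b).1 (Or.inr (Or.inl rfl))).2
  have c1 := ((m c).1 (Or.inr (Or.inr rfl))).2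
  have z1 : ∀ x ∈ (Z : Set G), x * x = 1 := fun x hx => (e.le hx).2
  rw [← h4, fb, fb, fb, ← SetLike.coe_sort_coe Z, Nat.card_coe_set_eq, ← Set.ncard_union_eq, ← Set.ncard_union_eq,
    ← Set.ncard_union_eq, ← e1, ← Nat.card_coe_set_eq, SetLike.coe_sort_coe]
  · rw [Set.disjoint_left]
    rintro x ((hx | hx) | hx) h'
    exacts [c1 (h'.2.symm.trans (z1 x hx)), ac (hx.2.symm.trans h'.2), bc (hx.2.symm.trans h'.2)]
  · rw [Set.disjoint_left]
    rintro x (hx | hx) h'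
    exacts [b1 (h'.2.symm.trans (z1 x hx)), ab (hx.2.symm.trans h'.2)]
  · rw [Set.disjoint_left]
    exact fun x hx h' => a1 (h'.2.symm.trans (z1 x hx))

theorem fb_modEq {r : ℕ} (hr : r.Prime) (hR : IsPGroup r R) (hn : R ≤ 𝐍 P) {z : G} (hz : z ∈ 𝐂 R) :
    fb P z ≡ fb (P ⊓ 𝐂 R) z [MOD r] := by
  haveI := Fact.mk hr
  have := Block2.card_modEq_card_centralizer hR (fun x => x ∈ P ∧ x * x = z) fun a ha x hx =>
    ⟨conj_mem_of_mem_normalizer (hn ha) hx.1, by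
      rw [conj_mul, hx.2, mem_centralizer_iff.1 hz a ha, mul_inv_cancel_right]⟩
  refine Nat.ModEq.trans this (Nat.ModEq.of_eq' ?_)
  exact Nat.card_congr (Equiv.subtypeEquivRight fun x => by simp only [Set.mem_setOf_eq, mem_inf]; tauto)
  where Nat.ModEq.of_eq' {a b n : ℕ} (h : a = b) : a ≡ b [MOD n] := h ▸ Nat.ModEq.refl a

theorem Min.cent_of (h : Min P Z) (h4 : Nat.card Z = 4) {r : ℕ} (hr : r.Prime) (h5 : 5 ≤ r)
    (hR : IsPGroup r R) (hn : R ≤ 𝐍 P) (hZ : Z ≤ 𝐂 R) {v : G} (hv : v ∈ P) (hv' : v ∉ Z)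
    (hvR : v ∈ 𝐂 R) : R ≤ 𝐂 P := by
  haveI := Fact.mk hr
  haveI : Fact (Nat.Prime 2) := ⟨Nat.prime_two⟩
  have hc : R ≤ centralizer {v} := fun a ha =>
    mem_centralizer_singleton_iff.2 (mem_centralizer_iff.1 hvR a ha)
  have hK : R ≤ 𝐍 (P ⊓ centralizer {v}) := le_normalizer_inf hn (hc.trans le_normalizer)
  have h1 : R ≤ 𝐂 (P ⊓ centralizer {v}) := le_cent_of_idx hr (by omega) hR (h.two.to_le inf_le_left) hK
    (sup_le hZ (zpowers_le.2 hvR)) (sup_le (le_inf h.le fun z hz =>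
      mem_centralizer_singleton_iff.2 (h.co hz hv).eq.symm)
      (zpowers_le.2 ⟨hv, mem_centralizer_singleton_iff.2 rfl⟩))
    ((h.cent_le hv hv').trans (Nat.mul_le_mul_right _ (by omega)))
  refine Coprime.le_centralizer_of_centralizes_sub_and_quotient (IsPGroup.coprime_card_of_ne r 2 (by omega) _ _ hR
    (h.two.to_le inf_le_left)) inf_le_left h1 (commutator_le.2 fun u hu a ha => ⟨?_, ?_⟩)
  · rw [commutatorElement_def, mul_assoc, mul_assoc, ← mul_assoc a]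
    exact mul_mem hu (conj_mem_of_mem_normalizer (hn ha) (inv_mem hu))
  · refine mem_centralizer_singleton_iff.2 ?_
    have e1 := mem_centralizer_iff.1 (hZ (h.comm _ (inv_mem hu) v hv)) a ha
    have e2 := mem_centralizer_iff.1 hvR a ha
    have e3 : u⁻¹ * v * u = ⁅u⁻¹, v⁆ * v := by simp only [commutatorElement_def]; group
    have e4 : a * (u⁻¹ * v * u) = u⁻¹ * v * u * a := by rw [e3, ← mul_assoc, e1, mul_assoc, e2, mul_assoc]
    calc ⁅u, a⁆ * v = u * a * u⁻¹ * (a⁻¹ * v) := by simp only [commutatorElement_def]; group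
      _ = u * (a * (u⁻¹ * v * u)) * u⁻¹ * a⁻¹ := by rw [(Commute.inv_left e2).eq]; group
      _ = _ := by rw [e4]; simp only [commutatorElement_def]; group

theorem Min.main (h : Min P Z) (hA : ⁅A, A⁆ = A) (hn : A ≤ 𝐍 P) (hZ : Z = P ⊓ 𝐂 A) : A ≤ 𝐂 P := by
  have hZA : ∀ R ≤ A, Z ≤ 𝐂 R := fun R hR => hZ.le.trans (inf_le_right.trans (centralizer_anti hR))
  have p5 : ∀ r : ℕ, r.Prime → r ≠ 2 → r ≠ 3 → 5 ≤ r := fun r hr h2 h3 => by
    have := hr.two_le
    by_contra hc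
    obtain rfl : r = 4 := by omega
    exact absurd hr (by decide)
  by_cases hc : Nat.card P ≤ 4 * Nat.card Z
  · exact burn hA hn Nat.prime_two Nat.prime_three fun r hr h2 h3 R hRA hR => le_cent_of_idx hr h2 hR h.two
      (hRA.trans hn) (hZA R hRA) h.le (hc.trans (Nat.mul_le_mul_right _ (by have := p5 r hr h2 h3; omega)))
  obtain ⟨e, h4⟩ := h.eq_om (not_le.1 hc)
  obtain ⟨v, hv, hv'⟩ := exists_not_mem (H := Z) (K := P) (by omega)
  have hP : Nat.card P ≤ 128 := by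
    have h1 := h.cent_le hv hv'
    rw [h.card_sup le_rfl h.le hv hv', h4] at h1
    have h2 : (centralizer {v}).relIndex P ≤ ((fun z => z * v) '' Z).ncard := relIndex_le fun w hw =>
      ⟨_, h.comm w hw v hv, by simp only [commutatorElement_def, inv_mul_cancel_right]⟩
    rw [Set.ncard_image_of_injective _ (mul_left_injective v), ← Nat.card_coe_set_eq, SetLike.coe_sort_coe, h4] at h2
    rw [← card_inf_mul_relIndex (centralizer {v}) P, inf_comm]
    exact (Nat.mul_le_mul h1 h2).trans (by norm_num)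
  obtain ⟨a, b, c, m, hs⟩ := h.sum e h4
  have key : ∀ r : ℕ, r.Prime → 5 ≤ r → ∀ R ≤ A, IsPGroup r R → ¬ R ≤ 𝐂 P →
      r = 5 ∧ Nat.card P = 64 ∧ ∀ z, z = a ∨ z = b ∨ z = c → fb P z = 20 := fun r hr h5 R hRA hR hc' => by
    have e1 : P ⊓ 𝐂 R = Z := le_antisymm (fun x hx => by
      by_contra hx'
      exact hc' (h.cent_of h4 hr h5 hR (hRA.trans hn) (hZA R hRA) hx.1 hx' hx.2)) (le_inf h.le (hZA R hRA))
    have d : ∀ z, z = a ∨ z = b ∨ z = c → ∃ k, fb P z = 4 * r * (k + 1) := fun z hz => by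
      have h1 := fb_modEq hr hR (hRA.trans hn) (hZA R hRA (e.ge (m z hz).1))
      have h2 : fb Z z = 0 := by
        rw [fb, Set.ncard_eq_zero, Set.eq_empty_iff_forall_notMem]
        exact fun x hx => (m z hz).2 (hx.2.symm.trans (e.le hx.1).2)
      rw [e1, h2] at h1
      obtain ⟨k, hk⟩ := Nat.Coprime.mul_dvd_of_dvd_of_dvd (show Nat.Coprime 4 r from
        ((Nat.coprime_primes Nat.prime_two hr).2 (by omega)).pow_left 2)
        (h4 ▸ h.dvd_fb e h.le le_rfl z) (Nat.modEq_zero_iff_dvd.1 h1)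
      obtain ⟨x, h5, -, h6⟩ := h.hit' le_rfl h.le le_rfl (not_le.1 hc) (m z hz).1 (m z hz).2
      have h7 : fb P z ≠ 0 := Set.ncard_ne_zero_of_mem (a := x) ⟨h5, h6⟩
      rcases k with _ | k
      · exact absurd hk h7
      · exact ⟨k, hk⟩
    obtain ⟨i, hi⟩ := d a (Or.inl rfl)
    obtain ⟨j, hj⟩ := d b (Or.inr (Or.inl rfl))
    obtain ⟨k, hk⟩ := d c (Or.inr (Or.inr rfl))
    have h1 := hs P h.le le_rfl
    haveI : Fact (Nat.Prime 2) := ⟨Nat.prime_two⟩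
    obtain ⟨n, hn'⟩ := IsPGroup.iff_card.1 h.two
    have h2 : 2 ^ n = 4 + 4 * (r * (i + j + k + 3)) := by rw [← hn', h1, hi, hj, hk]; ring
    have h3 : n < 8 := (Nat.pow_lt_pow_iff_right one_lt_two).1 (by omega)
    have h6 : 5 * 3 ≤ r * (i + j + k + 3) := Nat.mul_le_mul h5 (by omega)
    have h7 : r * (i + j + k + 3) = 15 := by
      have h8 : r * (i + j + k + 3) ≠ 31 := fun e => by
        rcases (Nat.dvd_prime (by norm_num : Nat.Prime 31)).1 (Dvd.intro _ e) with e' | e' <;> rw [e'] at e <;> omega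
      interval_cases n <;> omega
    have h8 : r ≤ 5 := by nlinarith
    obtain rfl : r = 5 := by omega
    refine ⟨rfl, by omega, ?_⟩
    rintro z (rfl | rfl | rfl) <;> omega
  by_cases h5 : ∀ R ≤ A, IsPGroup 5 R → R ≤ 𝐂 P
  · refine burn hA hn Nat.prime_two Nat.prime_three fun r hr h2 h3 R hRA hR => ?_
    by_contra hc'
    obtain ⟨rfl, -⟩ := key r hr (p5 r hr h2 h3) R hRA hR hc'
    exact hc' (h5 R hRA hR)
  push Not at h5
  obtain ⟨R₀, r1, r2, r3⟩ := h5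
  obtain ⟨-, k1, k2⟩ := key 5 Nat.prime_five le_rfl R₀ r1 r2 r3
  refine burn hA hn Nat.prime_two Nat.prime_five fun r hr h2 h3 R hRA hR => ?_
  by_cases h3' : r = 3
  · subst h3'
    refine le_cent_of_idx hr h2 hR h.two (hRA.trans hn) (inf_le_right (a := P)) inf_le_left ?_
    have l1 : Z ≤ P ⊓ 𝐂 R := le_inf h.le (hZA R hRA)
    have d : ∀ z, z = a ∨ z = b ∨ z = c → 8 ≤ fb (P ⊓ 𝐂 R) z := fun z hz => by
      have h1 := fb_modEq hr hR (hRA.trans hn) (hZA R hRA (e.ge (m z hz).1))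
      have h2 := h4 ▸ h.dvd_fb e l1 inf_le_left z
      rw [k2 z hz, Nat.ModEq] at h1
      omega
    have := hs _ l1 inf_le_left
    have := d a (Or.inl rfl)
    have := d b (Or.inr (Or.inl rfl))
    have := d c (Or.inr (Or.inr rfl))
    omega
  · by_contra hc'
    exact h3 (key r hr (p5 r hr h2 h3') R hRA hR hc').1

theorem cent (hA : ⁅A, A⁆ = A) (n : ℕ) : ∀ P : Subgroup G, Nat.card P = n → IsPGroup 2 P → A ≤ 𝐍 P →
    {x | x ∈ P ∧ x * x = 1}.ncard ≤ 4 → A ≤ 𝐂 P := by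
  induction n using Nat.strong_induction_on with
  | _ n ih =>
  intro P hPn hP hn h4
  haveI : Fact (Nat.Prime 2) := ⟨Nat.prime_two⟩
  have ih' : ∀ Q < P, A ≤ 𝐍 Q → Q ≤ P ⊓ 𝐂 A := fun Q hQ hQn => le_inf hQ.le (le_centralizer_iff.1
    (ih _ (hPn ▸ card_lt_of_lt hQ) Q rfl (hP.to_le hQ.le) hQn
      (le_trans (Set.ncard_le_ncard (t := {x | x ∈ P ∧ x * x = 1}) fun x hx => ⟨hQ.le hx.1, hx.2⟩) h4)))
  by_contra hc
  have hPA : ⁅P, A⁆ = P := by
    by_contra h0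
    have h1 := ih' _ (lt_of_le_of_ne (Coprime.commutator_le_of_le_normalizer hn) h0)
      (le_normalizer_commutator hn le_normalizer)
    have h2 : ⁅⁅P, A⁆, A⁆ = ⊥ := commutator_eq_bot_iff_le_centralizer.2 (h1.trans inf_le_right)
    have h3 := commutator_commutator_eq_bot_of_rotate (H₁ := A) (H₂ := A) (H₃ := P)
      (by rwa [commutator_comm A P]) h2
    rw [hA] at h3
    exact hc (commutator_eq_bot_iff_le_centralizer.1 h3)
  have hΦ := ih' _ (Coprime.map_frattini_lt (H := P) fun e => hc (by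
    rw [e]; exact fun a _ => mem_centralizer_iff.2 fun x hx => by rw [mem_bot.1 hx, one_mul, mul_one]))
    (hn.trans (normalizer_le_normalizer_map_subtype _))
  have hsq : ∀ x ∈ P, x * x ∈ P ⊓ 𝐂 A := fun x hx => hΦ (pow_two x ▸ PGrp.pow_mem_map_frattini hP hx)
  have hco : ⁅P, P⁆ ≤ P ⊓ 𝐂 A := (PGrp.commutator_le_map_frattini hP).trans hΦ
  have hcent : P ⊓ 𝐂 A ≤ 𝐂 P := by
    have h3 := commutator_commutator_eq_bot_of_rotate (H₁ := A) (H₂ := P) (H₃ := P ⊓ 𝐂 A)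
      (commutator_eq_bot_iff_le_centralizer.2 ((commutator_mono le_rfl inf_le_left).trans (hco.trans inf_le_right)))
      (by rw [commutator_eq_bot_iff_le_centralizer.2 inf_le_right, commutator_bot_left])
    rw [commutator_comm A P, hPA, commutator_comm] at h3
    exact commutator_eq_bot_iff_le_centralizer.1 h3
  have co : ∀ z ∈ P ⊓ 𝐂 A, ∀ x ∈ P, Commute x z := fun z hz x hx => mem_centralizer_iff.1 (hcent hz) x hx
  have cm : ∀ x ∈ P, ∀ y ∈ P, ⁅x, y⁆ ∈ P ⊓ 𝐂 A := fun x hx y hy => hco (commutator_mem_commutator hx hy)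
  have f4 : ∀ x ∈ P, ∀ y ∈ P, x * y * (x * y) * (x * y * (x * y)) = x * x * (x * x) * (y * y * (y * y)) :=
    fun x hx y hy => by
    have c1 := cm _ (inv_mem hy) _ (inv_mem hx)
    have c2 := comm_sq (co _ (hsq _ (inv_mem hy)) _ (inv_mem hx)).symm (co _ c1 _ (inv_mem hy))
    rw [mul_sq x y (co _ c1 _ hy), mul_assoc (x * x * (y * y)), ← mul_assoc ⁅y⁻¹, x⁻¹⁆,
      ← (co _ c1 _ (mul_mem (hsq x hx).1 (hsq y hy).1)).eq, mul_assoc _ ⁅y⁻¹, x⁻¹⁆, c2, mul_one,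
      mul_assoc (x * x), ← mul_assoc (y * y), (co _ (hsq x hx) _ (hsq y hy).1).eq]
    simp only [mul_assoc]
  let E : Subgroup G :=
    { carrier := {x | x ∈ P ∧ x * x * (x * x) = 1}
      one_mem' := ⟨one_mem _, by simp⟩
      inv_mem' := fun hx => ⟨inv_mem hx.1, by rw [← mul_inv_rev, ← mul_inv_rev, hx.2, inv_one]⟩
      mul_mem' := fun {x y} hx hy => ⟨mul_mem hx.1 hy.1, by rw [f4 x hx.1 y hy.1, hx.2, hy.2, one_mul]⟩ }
  have hE : ⁅P, A⁆ ≤ E := commutator_le.2 fun x hx a ha => by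
    have h1 := conj_mem_of_mem_normalizer (hn ha) (inv_mem hx)
    have e : ⁅x, a⁆ = x * (a * x⁻¹ * a⁻¹) := by simp only [commutatorElement_def]; group
    refine e ▸ ⟨mul_mem hx h1, ?_⟩
    rw [f4 x hx _ h1, conj_mul, conj_mul,
      mem_centralizer_iff.1 (mul_mem (hsq _ (inv_mem hx)) (hsq _ (inv_mem hx))).2 a ha]
    group
  have hI : ∀ x ∈ P, x * x = 1 → x ∈ P ⊓ 𝐂 A := fun x hx h2 => by
    have h1 : A ≤ 𝐂 (closure {x | x ∈ P ∧ x * x = 1}) := by
      refine burn hA (fun a ha => mem_normalizer_of_conj_mem (cj_le_iff'.1 ?_)) Nat.prime_two Nat.prime_three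
        fun r hr h2 h3 R hRA hR => ?_
      · rw [cj_le_iff, closure_le]
        intro y hy
        rw [SetLike.mem_coe, mem_cj, inv_inv]
        exact subset_closure ⟨conj_mem_of_mem_normalizer (hn ha) hy.1, by rw [conj_mul, hy.2]; group⟩
      · rw [le_centralizer_iff, closure_le]
        intro y hy
        have h5 := (relIndex_le (W := R) (x := y) (Z := {x | x ∈ P ∧ x * x = 1}) fun a ha =>
          ⟨conj_mem_of_mem_normalizer (hn (hRA ha)) hy.1, by rw [conj_mul, hy.2]; group⟩).trans h4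
        haveI := Fact.mk hr
        obtain ⟨k, hk⟩ := hR.index ((centralizer {y}).subgroupOf R)
        have h6 : (centralizer {y}).relIndex R = 1 := by
          rcases k with _ | k
          · exact hk
          · have h7 : r ≤ 4 := (Nat.le_of_dvd (pow_pos hr.pos _) (dvd_pow_self r k.succ_ne_zero)).trans (hk ▸ h5)
            have := hr.two_le
            obtain rfl : r = 4 := by omega
            exact absurd hr (by decide)
        exact mem_centralizer_iff.2 fun a ha => mem_centralizer_singleton_iff.1 (relIndex_eq_one.1 h6 ha)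
    exact ⟨hx, le_centralizer_iff.1 h1 (subset_closure ⟨hx, h2⟩)⟩
  exact hc (Min.main ⟨hP, inf_le_left, hcent, hsq, cm, fun x hx => (hE (hPA.ge hx)).2, hI, h4⟩ hA hn rfl)

theorem solvable_aut {X : Type*} [Group X] [Finite X] (h2 : IsPGroup 2 X) (h4 : {x : X | x * x = 1}.ncard ≤ 4) :
    Group.IsSolvable (MulAut X) := by
  obtain ⟨A, hA⟩ := Set.Finite.exists_minimal (s := Set.range (derivedSeries (MulAut X))) (Set.toFinite _) ⟨_, 0, rfl⟩
  obtain ⟨n, rfl⟩ := hA.1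
  refine ⟨n, ?_⟩
  have h1 : ⁅derivedSeries (MulAut X) n, derivedSeries (MulAut X) n⁆ = derivedSeries (MulAut X) n :=
    le_antisymm (commutator_le_right _ _) (hA.2 ⟨n + 1, rfl⟩ (commutator_le_right _ _))
  haveI := Coprime.finite_semidirect (MonoidHom.id (MulAut X))
  have h := Coprime.isAmbient_semidirect (MonoidHom.id (MulAut X))
  have := cent (A := (derivedSeries (MulAut X) n).map SemidirectProduct.inr) (by rw [← map_commutator, h1]) _
    ((⊤ : Subgroup X).map SemidirectProduct.inl) rfl (h2.to_subgroup ⊤ |>.map _) (h.le_normalizer_top _) (by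
      refine le_trans (Set.ncard_le_ncard (t := SemidirectProduct.inl '' {x : X | x * x = 1}) ?_)
        ((Set.ncard_image_le).trans h4)
      rintro _ ⟨⟨x, -, rfl⟩, hx⟩
      exact ⟨x, h.inj_i (by rw [map_mul, hx, map_one]), rfl⟩)
  exact eq_bot_iff.2 fun φ hφ => MulEquiv.ext fun x => h.le_centralizer_iff.1 this φ hφ x (mem_top x)

end Cfsg.Lib.Amalg.Inv3
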