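import Cfsg.Agent.Lib.Amalg.PMin
import Cfsg.Agent.Lib.BG1.Sec4b
import Cfsg.Agent.Lib.Layer.CompAction
import Cfsg.Agent.Lib.Hall.Product
import Cfsg.Agent.Lib.Core.Fitting

/-! Isolated `p`-minimal subgroups. -/

set_option autoImplicit false
set_option linter.unusedSectionVars false

namespace Cfsg.Lib.Amalg.Isol

open Subgroup
open Cfsg.Lib.Core hiding isPGroup_subgroupOf isPGroup_subgroupOf_iff isPGroup_map_subtype_iff
open scoped commutatorElement

variable {G : Type*} [Group G] [Finite G] {p : ℕ} [hp : Fact p.Prime]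

/-- The properties of `X = O^p(P)`, `Q = O_p(L)` for an isolated `p`-minimal subgroup `P`. -/
structure Iso (p : ℕ) (S Q X L : Subgroup G) : Prop where
  pS : IsPGroup p S
  QS : Q ≤ S
  SL : S ≤ L
  LQ : L ≤ 𝐍 Q
  SX : S ≤ 𝐍 X
  dich : ∀ U : Subgroup G, S ≤ 𝐍 U → U ≤ L ∨ X ≤ U
  XQ : X ≤ ⁅X, Q⁆
  np : ¬ IsPGroup p X
  gen : X ⊔ L = ⊤

variable {S Q X L : Subgroup G}

theorem Iso.map {G' : Type*} [Group G'] [Finite G'] (h : Iso p S Q X L) {f : G →* G'} (hf : Function.Surjective f)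
    (hk : IsPGroup p f.ker) : Iso p (S.map f) (Q.map f) (X.map f) (L.map f) where
  pS := h.pS.map f
  QS := map_mono h.QS
  SL := map_mono h.SL
  LQ := (map_mono h.LQ).trans (le_normalizer_map f)
  SX := (map_mono h.SX).trans (le_normalizer_map f)
  dich U hU := (h.dich (U.comap f) ((map_le_iff_le_comap.1 hU).trans (le_normalizer_comap f))).imp
    (fun a => (map_comap_eq_self_of_surjective hf U).ge.trans (map_mono a)) map_le_iff_le_comap.2
  XQ := by rw [← map_commutator]; exact map_mono h.XQ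
  np a := h.np ((a.comap_of_ker_isPGroup f hk).to_le (le_comap_map f X))
  gen := by rw [← Subgroup.map_sup, h.gen, map_top_of_surjective f hf]

theorem Iso.ne_bot (h : Iso p S Q X L) : X ≠ ⊥ := fun e => h.np (e ▸ IsPGroup.of_bot)

theorem Iso.not_le (h : Iso p S Q X L) : ¬ X ≤ 𝐂 Q := fun a =>
  h.ne_bot (le_bot_iff.1 (h.XQ.trans (comm_eq_bot_iff.2 a).le))

theorem Iso.dich' (h : Iso p S Q X L) {U : Subgroup G} (hU : S ≤ 𝐍 U) (h0 : pCoreOf p U = ⊥) : U ≤ 𝐂 Q ∨ X ≤ U :=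
  (h.dich U hU).imp_left fun a => comm_eq_bot_iff.1 (le_bot_iff.1 ((comm_le_inf (h.QS.trans hU) (a.trans h.LQ)).trans
    (h0 ▸ le_op inf_le_left (le_normalizer_inf le_normalizer (a.trans h.LQ)) ((h.pS.to_le h.QS).to_le inf_le_right))))

theorem Iso.dich_sn (h : Iso p S Q X L) (hO : pCore p G = ⊥) {U : Subgroup G} (hU : S ≤ 𝐍 U) (hs : U.IsSubnormal) :
    U ≤ 𝐂 Q ∨ X ≤ U := h.dich' hU (le_bot_iff.1 (hO ▸ pCoreOf_le_pCore_of_isSubnormal hs))

theorem Iso.dich_n (h : Iso p S Q X L) (hO : pCore p G = ⊥) (U : Subgroup G) [hU : U.Normal] :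
    U ≤ 𝐂 Q ∨ normalClosure (X : Set G) ≤ U :=
  (h.dich_sn hO le_normalizer_of_normal' hU.isSubnormal).imp_right fun a => normalClosure_le_normal a

theorem Iso.le_comm (h : Iso p S Q X L) : normalClosure (X : Set G) ≤ ⁅normalClosure (X : Set G), Q⁆ := by
  haveI : (⁅normalClosure (X : Set G), Q⁆).Normal := normal_of_top_le_normalizer (h.gen.ge.trans (sup_le
    (le_normalClosure.trans (left_le_normalizer_comm _ _)) (le_normalizer_commutator le_normalizer_of_normal' h.LQ)))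
  exact normalClosure_le_normal (h.XQ.trans (commutator_mono le_normalClosure le_rfl))

theorem Iso.le_of_factor (h : Iso p S Q X L) {T : Subgroup G} (hT : Q ≤ 𝐍 T)
    (hf : ∀ y ∈ normalClosure (X : Set G), ∃ x ∈ T, ∃ c ∈ 𝐂 Q, x * c = y) : normalClosure (X : Set G) ≤ T := by
  refine h.le_comm.trans (commutator_le.2 fun y hy q hq => ?_)
  obtain ⟨x, hx, c, hc, rfl⟩ := hf y hy
  have : ⁅x * c, q⁆ = ⁅x, q⁆ := by
    simp only [commutatorElement_def]
    rw [mul_assoc x c q, ← mem_centralizer_comm.1 hc q hq]; group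
  rw [this]
  exact comm_le_left hT (commutator_mem_commutator hx hq)

theorem Iso.nilp (h : Iso p S Q X L) (hO : pCore p G = ⊥) {t : ℕ} (ht : t.Prime)
    (hY : IsPGroup t (normalClosure (X : Set G))) :
    X = normalClosure (X : Set G) ∧ t ≠ p ∧
      ⁅⁅normalClosure (X : Set G), normalClosure (X : Set G)⁆, normalClosure (X : Set G)⁆ = ⊥ := by
  set Y := normalClosure (X : Set G) with hYd
  haveI := Fact.mk ht
  have hXY : X ≤ Y := le_normalClosure
  have htp : t ≠ p := fun e => h.np (e ▸ hY.to_le hXY)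
  haveI := normal_frattiniOf Y
  have hlt := frattiniOf_lt (L := Y) fun e => h.ne_bot (le_bot_iff.1 (e ▸ hXY))
  have hΦ := (h.dich_n hO ((frattini Y).map Y.subtype)).resolve_right hlt.not_ge
  obtain ⟨a1, a2⟩ := (frattiniOf_le_iff hY).1 (le_refl ((frattini Y).map Y.subtype))
  refine ⟨le_antisymm hXY ?_, htp, ?_⟩
  · obtain ⟨W, w1, w2, w3, w4⟩ := Cfsg.Lib.BG1.maschke_quo (A := S) (U := X) ht
      (fun hd => by
        obtain ⟨k, hk⟩ := IsPGroup.iff_card.1 h.pS
        exact htp ((Nat.prime_dvd_prime_iff_eq ht hp.out).1 (ht.dvd_of_dvd_pow (hk ▸ hd))))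
      le_normalizer_of_normal' le_normalizer_of_normal' hlt.le a1 a2 hXY le_normalizer_of_normal' h.SX
    have hWY : W ≤ Y := w2 ▸ le_sup_right
    have hW : W ≤ 𝐂 Q := (h.dich' w4 (isPGroup_eq_bot_of_not_dvd (op_isPGroup W) ((op_le W).trans hWY) fun hd => by
      obtain ⟨k, hk⟩ := IsPGroup.iff_card.1 hY
      exact htp ((Nat.prime_dvd_prime_iff_eq hp.out ht).1 (hp.out.dvd_of_dvd_pow (hk ▸ hd))).symm)).resolve_right
        fun a => h.not_le (((le_inf le_rfl a).trans w3).trans hΦ)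
    refine h.le_of_factor (h.QS.trans h.SX) fun y hy => ?_
    obtain ⟨x, hx, c, hc, e⟩ := (mem_sup_of_le_normalizer (hXY.trans
      (le_normalizer_of_between (a1.trans w1) hWY))).1 (w2.ge hy)
    exact ⟨x, hx, c, hW hc, e⟩
  · haveI : (𝐂 ⁅Y, Y⁆).Normal := inferInstance
    exact comm_eq_bot_iff'.2 (h.le_comm.trans ((comm_le_right le_normalizer_of_normal').trans' 
      (commutator_mono le_rfl (le_cent_symm (a1.trans hΦ)))))

theorem Iso.comp (h : Iso p S Q X L) (hO : pCore p G = ⊥) (hF : fittingSubgroup G ≤ 𝐂 Q) :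
    ∃ K : Subgroup G, IsComponent K ∧ normalClosure (X : Set G) = ⨆ s : S, cj (s : G) K := by
  set Y := normalClosure (X : Set G) with hYd
  have hXY : X ≤ Y := le_normalClosure
  obtain ⟨K, hK, hKQ⟩ : ∃ K : Subgroup G, IsComponent K ∧ ¬ K ≤ 𝐂 Q := by
    by_contra hc
    push Not at hc
    have := le_pCore_of_le_fitting hp.out (h.pS.to_le h.QS) (Cfsg.Lib.Layer.le_fit_of_commutator_eq_bot
      (comm_eq_bot_iff'.2 (Cfsg.Lib.Layer.layer_le hc)) (comm_eq_bot_iff'.2 hF))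
    rw [hO, le_bot_iff] at this
    exact h.not_le (by rw [this, centralizer_bot]; exact le_top)
  have hsn : ∀ K : Subgroup G, IsComponent K → (⨆ s : S, cj (s : G) K).IsSubnormal := fun K hK => by
    rw [← sSup_range]
    exact Cfsg.Lib.Layer.isSubnormal_sSup_components (by
      rintro _ ⟨s, rfl⟩; exact Cfsg.Lib.Layer.IsComponent.conj hK _)
  have hd : ∀ K : Subgroup G, IsComponent K → K ≤ 𝐂 Q ∨ X ≤ ⨆ s : S, cj (s : G) K := fun K hK =>
    (h.dich_sn hO (le_normalizer_iSup_cj K S) (hsn K hK)).imp_left (le_iSup_cj K S).trans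
  set T := ⨆ s : S, cj (s : G) K with hT
  have hXT : X ≤ T := (hd K hK).resolve_left hKQ
  have hno : ¬ X ≤ 𝐂 T := fun a => h.not_le (((le_inf hXT a).trans
    (Cfsg.Lib.Layer.inf_centralizer_le_fit (hsn K hK))).trans hF)
  have hTE : T ≤ layer G := iSup_le fun s => Cfsg.Lib.Layer.IsComponent.le_layer (Cfsg.Lib.Layer.IsComponent.conj hK _)
  haveI := @Cfsg.Lib.Layer.layer_normal G _
  refine ⟨K, hK, le_antisymm (h.le_of_factor (h.QS.trans (le_normalizer_iSup_cj K S)) fun y hy => ?_) ?_⟩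
  · have h1 : layer G ≤ T ⊔ (layer G ⊓ 𝐂 Q) := Cfsg.Lib.Layer.layer_le fun K' hK' => by
      rcases Cfsg.Lib.Layer.IsComponent.le_or_commutator_eq_bot hK' (hsn K hK) with a | a
      · exact le_sup_of_le_left a
      · refine le_sup_of_le_right (le_inf (Cfsg.Lib.Layer.IsComponent.le_layer hK') ((hd K' hK').resolve_right
          fun b => hno (b.trans (iSup_cj_le (comm_eq_bot_iff.1 a)
            ((le_normalizer_iSup_cj K S).trans (normalizer_le_normalizer_centralizer _))))))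
    obtain ⟨x, hx, c, hc, e⟩ := (mem_sup_of_le_normalizer' (inf_le_left.trans
      (Cfsg.Lib.Layer.layer_le_normalizer_of_isSubnormal (hsn K hK)))).1
      (h1 (normalClosure_le_normal (hXT.trans hTE) hy))
    exact ⟨x, hx, c, hc.2, e⟩
  · rcases Cfsg.Lib.Layer.IsComponent.le_or_commutator_eq_bot_of_normal hK Y with a | a
    · exact iSup_cj_le a le_normalizer_of_normal'
    · exact absurd (hXY.trans (le_cent_symm (iSup_cj_le (comm_eq_bot_iff.1 a) le_normalizer_of_normal'))) hno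

theorem Iso.exists_of_not_dvd (h : Iso p S Q X L) (hd : ¬ p ∣ Nat.card (normalClosure (X : Set G))) :
    ∃ t : ℕ, t.Prime ∧ IsPGroup t (normalClosure (X : Set G)) := by
  set Y := normalClosure (X : Set G) with hYd
  have hXY : X ≤ Y := le_normalClosure
  haveI := h.pS.isNilpotent
  have key : ∀ (r : ℕ) [Fact r.Prime], ∃ R, Syl r R Y ∧ S ≤ 𝐍 R ∧ (R ≤ 𝐂 Q ∨ X ≤ R) := fun r _ => by
    obtain ⟨k, hk⟩ := IsPGroup.iff_card.1 h.pS
    obtain ⟨R, h1, h2⟩ := Cfsg.Lib.BG1.coprime_sylow_exists r (A := S) (K := Y) le_normalizer_of_normal'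
      (hk ▸ Nat.Coprime.pow_left k ((Nat.Prime.coprime_iff_not_dvd hp.out).2 hd)) (Or.inl inferInstance)
    exact ⟨R, h1, h2, h.dich' h2 (isPGroup_eq_bot_of_not_dvd (op_isPGroup R) ((op_le R).trans h1.le) hd)⟩
  have hi : (𝐂 Q).relIndex Y ≠ 1 := fun e => h.not_le (hXY.trans (relIndex_eq_one.1 e))
  obtain ⟨t, ht, htd⟩ := Nat.exists_prime_and_dvd hi
  haveI := Fact.mk ht
  obtain ⟨T, h1, h2, h3⟩ := key t
  have hXT := h3.resolve_left fun a => h1.not_dvd_relIndex_of_le a htd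
  refine ⟨t, ht, h1.isPGroup.to_le (h.le_of_factor (h.QS.trans h2) fun y hy => ?_)⟩
  obtain ⟨x, hx, c, hc, e⟩ := Cfsg.Lib.Hall.factor_of_coprime_index (H := T.subgroupOf Y) (K := (𝐂 Q).subgroupOf Y)
    (Nat.coprime_of_dvd fun r hr a b => by
      haveI := Fact.mk hr
      obtain ⟨R, r1, -, r3⟩ := key r
      rcases r3 with c | c
      · exact r1.not_dvd_relIndex_of_le c b
      · by_cases e : r = t
        · subst e; exact h1.not_dvd_relIndex a
        · exact h.ne_bot (le_bot_iff.1 ((le_inf c hXT).trans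
            (IsPGroup.disjoint_of_ne r t e _ _ r1.isPGroup h1.isPGroup).le_bot))) ⟨y, hy⟩
  exact ⟨x, hx, c, hc, (congrArg Subtype.val e).symm⟩

theorem Iso.core (h : Iso p S Q X L) (hO : pCore p G = ⊥) {Y : Subgroup G} (hY : Y = normalClosure (X : Set G)) :
    Y ≤ generalizedFittingSubgroup G ∧ ((X = Y ∧ ∃ t : ℕ, t.Prime ∧ t ≠ p ∧ IsPGroup t Y ∧ ⁅⁅Y, Y⁆, Y⁆ = ⊥) ∨
      (¬ Group.IsSolvable Y ∧ p ∣ Nat.card Y ∧ layer Y = ⊤ ∧ ∀ K₁ K₂ : Subgroup G, IsComponent K₁ → IsComponent K₂ →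
        K₁ ≤ Y → K₂ ≤ Y → ∃ s ∈ S, K₂ = cj s K₁)) := by
  subst hY
  by_cases hF : fittingSubgroup G ≤ 𝐂 Q
  · obtain ⟨K, hK, e⟩ := h.comp hO hF
    have hKY : K ≤ normalClosure (X : Set G) := e ▸ le_iSup_cj K S
    have hns : ¬ Group.IsSolvable (normalClosure (X : Set G)) := fun a => Cfsg.Lib.Layer.IsComponent.ne_bot hK
      (Cfsg.Lib.Layer.eq_bot_of_perfect_of_le_solvable (Cfsg.Lib.Layer.IsComponent.commutator_self hK) hKY a)
    have hc : ∀ K' : Subgroup G, IsComponent K' → K' ≤ normalClosure (X : Set G) → ∃ s ∈ S, K' = cj s K := by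
      intro K' hK' hle
      rw [e, ← sSup_range] at hle
      obtain ⟨_, ⟨s, rfl⟩, a⟩ := Cfsg.Lib.Layer.IsComponent.exists_le_of_le_sSup hK' (by
        rintro _ ⟨s, rfl⟩; exact (Cfsg.Lib.Layer.IsComponent.conj hK _).1) hle
      exact ⟨s, s.2, Cfsg.Lib.Layer.IsComponent.eq_of_le (Cfsg.Lib.Layer.IsComponent.conj hK _) hK' a⟩
    refine ⟨e.le.trans ((iSup_le fun s => Cfsg.Lib.Layer.IsComponent.le_layer
      (Cfsg.Lib.Layer.IsComponent.conj hK _)).trans Cfsg.Lib.Layer.layer_le_fstar), Or.inr ⟨hns, ?_, ?_, ?_⟩⟩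
    · by_contra hd
      obtain ⟨t, ht, a⟩ := h.exists_of_not_dvd hd
      haveI := Fact.mk ht
      haveI := a.isNilpotent
      exact hns inferInstance
    · refine Cfsg.Lib.Layer.layerOf_eq_self_iff.1 (le_antisymm (map_subtype_le _) (e.le.trans (iSup_le fun s => ?_)))
      have a : cj (s : G) K ≤ normalClosure (X : Set G) := (cj_mono _ hKY).trans (cj_normal _ _).le
      exact Cfsg.Lib.Layer.le_layerOf a
        (Cfsg.Lib.Layer.IsComponent.subgroupOf (Cfsg.Lib.Layer.IsComponent.conj hK _) a)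
    · intro K₁ K₂ h1 h2 a1 a2
      obtain ⟨s, hs, rfl⟩ := hc K₁ h1 a1
      obtain ⟨u, hu, rfl⟩ := hc K₂ h2 a2
      exact ⟨u * s⁻¹, S.mul_mem hu (S.inv_mem hs), by rw [cj_mul, cj_inv_cj]⟩
  · obtain ⟨t, ht, a⟩ : ∃ t : ℕ, t.Prime ∧ ¬ pCore t G ≤ 𝐂 Q := by
      by_contra hc
      push Not at hc
      exact hF (fitting_le_of_forall_pCore_le hc)
    have b := (h.dich_n hO (pCore t G)).resolve_left a
    have c := (isPGroup_pCore t G).to_le b
    obtain ⟨h1, h2, h3⟩ := h.nilp hO ht c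
    exact ⟨b.trans ((pCore_le_fitting ht).trans Cfsg.Lib.Layer.fit_le_fstar), Or.inl ⟨h1, t, ht, h2, c, h3⟩⟩

theorem iso_of (S : Sylow p G) {P L : Subgroup G} (hSP : (S : Subgroup G) ≤ P) (hP : IsPMinimal p P)
    (hL : L = 𝐍 (S : Subgroup G) ⊔ ⨆ P' : {P' : Subgroup G // (S : Subgroup G) ≤ P' ∧ IsPMinimal p P' ∧ P' ≠ P},
      (P' : Subgroup G)) (hiso : ¬ pCoreOf p L ≤ pCoreOf p P) :
    Iso p (S : Subgroup G) (pCoreOf p L) (pResidualOf p P) L := by
  have hSL : (S : Subgroup G) ≤ L := hL ▸ le_sup_of_le_left le_normalizer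
  have hS := syl_top S
  have hQS : pCoreOf p L ≤ S := (hS.of_le hSL le_top).op_le
  have hT := hS.of_le hSP le_top
  obtain ⟨-, M, hM⟩ := (pMin_iff.2 hP).exists_uMax hT
  have hd : ∀ H : Subgroup G, (S : Subgroup G) ≤ H → H ≤ P ⊔ L ∧ (¬ P ≤ H → H ≤ L) := fun H hH => by
    have a := le_pMinSup_sup (hS.of_le hH le_top)
    have b : H ⊓ 𝐍 (S : Subgroup G) ≤ L := hL ▸ le_sup_of_le_left inf_le_right
    have c : ∀ P' : Subgroup G, (S : Subgroup G) ≤ P' → PMin p P' → P' ≠ P → P' ≤ L := fun P' h1 h2 h3 =>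
      hL ▸ le_sup_of_le_right (le_iSup_of_le ⟨P', h1, pMin_iff.1 h2, h3⟩ le_rfl)
    refine ⟨a.trans (sup_le (sSup_le fun P' h' => ?_) (le_sup_of_le_right b)),
      fun hn => a.trans (sup_le (sSup_le fun P' h' => c P' h'.1 h'.2.2 fun e => hn (e ▸ h'.2.1)) b)⟩
    by_cases e : P' = P
    · exact le_sup_of_le_left e.le
    · exact le_sup_of_le_right (c P' h'.1 h'.2.2 e)
  have hSX : (S : Subgroup G) ≤ 𝐍 (pResidualOf p P) := hSP.trans (le_norm_res P)
  have hPX : P ≤ pResidualOf p P ⊔ S := hT.res_sup.ge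
  refine ⟨S.2, hQS, hSL, le_norm_op L, hSX, fun U hU => ?_, ?_, fun a => ?_, ?_⟩
  · by_cases hPH : P ≤ U ⊔ S
    · exact Or.inr (res_le_of_le_sup S.2 hU hPH)
    · exact Or.inl (le_sup_left.trans ((hd _ le_sup_right).2 hPH))
  · have hn : P ≤ 𝐍 (⁅pResidualOf p P, pCoreOf p L⁆ ⊔ pCoreOf p L : Subgroup G) := hPX.trans (sup_le
      (le_normalizer_of_comm_le' (comm_sup_le' (le_sup_of_le_left (comm_le_right (left_le_normalizer_comm _ _)))
        le_sup_left (le_normalizer_of_le le_sup_left) (le_normalizer_of_le le_sup_right)))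
      (le_normalizer_sup (le_normalizer_commutator hSX (hSL.trans (le_norm_op L))) (hSL.trans (le_norm_op L))))
    rcases hM.res_le_or hT (sup_le (comm_le_of_le (res_le P) (hQS.trans hSP)) (hQS.trans hSP)) hn with a | a
    · exact (res_res P).ge.trans (res_le_of_le_sup (op_isPGroup L) (right_le_normalizer_comm _ _) a)
    · exact absurd ((le_inf hQS le_sup_right).trans (hM.inf_le_op hT le_rfl a hn)) hiso
  · exact (pMin_iff.2 hP).not_isPGroup ((isPGroup_sup_of_le_normalizer' a S.2 hSX).to_le hPX)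
  · exact eq_top_iff.2 ((hd ⊤ le_top).1.trans (sup_le (hPX.trans (sup_le_sup_left hSL _)) le_sup_right))

/-- The conclusion for `Y / O_p(Y)`. -/
theorem Iso.final (h : Iso p S Q X L) (hX : pResidualOf p X = X) (hOS : pCore p G ≤ S) {Y : Subgroup G}
    (hY : Y = normalClosure (X : Set G)) :
    X ≤ (generalizedFittingSubgroup (G ⧸ pCore p G)).comap (QuotientGroup.mk' (pCore p G)) ∧
    ((X = Y ∧ ∃ t : ℕ, t.Prime ∧ t ≠ p ∧ IsPGroup t (Y ⧸ pCore p Y) ∧
      ∃ _ : Group.IsNilpotent (Y ⧸ pCore p Y), Group.nilpotencyClass (Y ⧸ pCore p Y) ≤ 2) ∨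
    (¬ Group.IsSolvable Y ∧ p ∣ Nat.card (Y ⧸ pCore p Y) ∧ layer (Y ⧸ pCore p Y) = ⊤ ∧
      ∀ K₁ K₂ : Subgroup (Y ⧸ pCore p Y), IsComponent K₁ → IsComponent K₂ → ∃ s ∈ S,
        (K₂.comap (QuotientGroup.mk' (pCore p Y))).map Y.subtype =
          cj s ((K₁.comap (QuotientGroup.mk' (pCore p Y))).map Y.subtype))) := by
  set π := QuotientGroup.mk' (pCore p G) with hπ
  have hsur : Function.Surjective π := QuotientGroup.mk'_surjective _
  have hker : π.ker = pCore p G := QuotientGroup.ker_mk' _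
  haveI : Y.Normal := hY ▸ inferInstance
  have hXY : X ≤ Y := hY ▸ le_normalClosure
  obtain ⟨h1, h2⟩ := (h.map hsur (by rw [hker]; exact isPGroup_pCore p G)).core pCore_quotient_pCore (Y := Y.map π)
    (by rw [hY, map_normalClosure _ _ hsur, coe_map])
  haveI : (Y.map π).Normal := Normal.map inferInstance _ hsur
  have hk : (π.subgroupMap Y).ker = pCore p Y := by
    ext y
    rw [← mem_op_iff, op_eq_inf le_top le_normalizer_of_normal', op_top, MonoidHom.mem_ker, Subtype.ext_iff]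
    exact ⟨fun a => ⟨hker.le a, y.2⟩, fun a => hker.ge a.1⟩
  let e : (Y ⧸ pCore p Y) ≃* Y.map π := (QuotientGroup.quotientMulEquivOfEq hk.symm).trans
    (QuotientGroup.quotientKerEquivOfSurjective _ (π.subgroupMap_surjective Y))
  have he : ∀ y : Y, (e (QuotientGroup.mk y) : G ⧸ pCore p G) = π y := fun y => rfl
  refine ⟨hXY.trans (map_le_iff_le_comap.1 h1), h2.imp (fun ⟨a, t, ht, htp, b, c⟩ => ⟨?_, t, ht, htp, b.of_equiv e.symm, ?_⟩)
    fun ⟨a, b, c, d⟩ => ⟨fun s => a (solvable_of_surjective (π.subgroupMap_surjective Y)), ?_, ?_, ?_⟩⟩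
  · have a' : X ⊔ pCore p G = Y ⊔ pCore p G := by
      have := congrArg (comap π) a
      rwa [comap_map_eq, comap_map_eq, hker] at this
    have hn : pCore p G ≤ 𝐍 X := hOS.trans h.SX
    have : pResidualOf p (Y ⊔ pCore p G) = X := by
      rw [← a']
      exact le_antisymm (res_sup_of_isPGroup (isPGroup_pCore p G) hn) (hX.ge.trans (res_mono le_sup_left))
    haveI : X.Normal := this ▸ res_normal _
    exact le_antisymm hXY (hY ▸ normalClosure_le_normal le_rfl)
  · have : Subgroup.lowerCentralSeries (⊤ : Subgroup (Y ⧸ pCore p Y)) 2 = ⊥ := by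
      refine (map_eq_bot_iff_of_injective _ (f := (Y.map π).subtype.comp e.toMonoidHom)
        ((Y.map π).subtype_injective.comp e.injective)).1 (le_bot_iff.1 (c ▸ ?_))
      have r : (⊤ : Subgroup (Y ⧸ pCore p Y)).map ((Y.map π).subtype.comp e.toMonoidHom) ≤ Y.map π := by
        rintro _ ⟨x, -, rfl⟩; exact (e x).2
      change Subgroup.map _ ⁅⁅⊤, ⊤⁆, ⊤⁆ ≤ _
      rw [map_commutator, map_commutator]
      exact commutator_mono (commutator_mono r r) r
    haveI hnil : Group.IsNilpotent (Y ⧸ pCore p Y) := Subgroup.nilpotent_iff_lowerCentralSeries.2 ⟨2, this⟩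
    exact ⟨inferInstance, Subgroup.lowerCentralSeries_eq_bot_iff_nilpotencyClass_le.1 this⟩
  · rwa [Nat.card_congr e.toEquiv]
  · rw [← Cfsg.Lib.Layer.layer_map_equiv e.symm, c, map_top_of_surjective _ e.symm.surjective]
  · have hK : ∀ K : Subgroup (Y ⧸ pCore p Y), (K.comap (QuotientGroup.mk' (pCore p Y))).map Y.subtype =
        Y ⊓ ((K.map e.toMonoidHom).map (Y.map π).subtype).comap π := fun K => by
      ext g
      constructor
      · rintro ⟨y, hy, rfl⟩
        exact ⟨y.2, _, ⟨_, hy, rfl⟩, he y⟩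
      · rintro ⟨hg, _, ⟨k, hk', rfl⟩, a⟩
        refine ⟨⟨g, hg⟩, ?_, rfl⟩
        have : k = QuotientGroup.mk ⟨g, hg⟩ := e.injective (Subtype.ext a)
        rw [this] at hk'; exact hk'
    intro K₁ K₂ h1 h2
    have hc : ∀ K : Subgroup (Y ⧸ pCore p Y), IsComponent K →
        IsComponent ((K.map e.toMonoidHom).map (Y.map π).subtype) := fun K a =>
      (Cfsg.Lib.Layer.isComponent_map_subtype_iff (Normal.isSubnormal inferInstance) _).2
        (Cfsg.Lib.Layer.IsComponent.map_equiv a e)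
    obtain ⟨_, ⟨s, hs, rfl⟩, a⟩ := d _ _ (hc K₁ h1) (hc K₂ h2) (map_subtype_le _) (map_subtype_le _)
    exact ⟨s, hs, by rw [hK, hK, a, comap_cj, cj_inf, cj_normal s Y]⟩

end Cfsg.Lib.Amalg.Isol
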