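import Cfsg.Prelude.Def_JComponents
import Cfsg.Agent.Lib.KS9.TF
import Cfsg.Agent.Lib.Amalg.PIrr

/-! `J(T)`-components (Kurzweil–Stellmacher 12.2): the local theory of a single component. -/

set_option autoImplicit false
set_option linter.unusedSectionVars false

namespace Cfsg.Lib.Amalg.JC

open Subgroup
open Cfsg.Lib.Core hiding isPGroup_subgroupOf isPGroup_subgroupOf_iff isPGroup_map_subtype_iff
  isPGroup_zpowers_of_orderOf
open Cfsg.Lib.BG1 (mim mpre mker qmk)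
open Cfsg.Lib.Transfer (maxEl)
open scoped commutatorElement

/-- `J(X)` -/
scoped notation:max "𝐉 " X:max => thompsonSubgroupOf 2 X
/-- `O₂(X)` -/
scoped notation:max "𝐎 " X:max => pCoreOf 2 X
/-- `O²(X)` -/
scoped notation:max "𝐑 " X:max => pResidualOf 2 X
/-- `Ω₁ Z(X)` -/
scoped notation:max "𝛀 " X:max => omegaOneCenter 2 X

variable {G : Type*} [Group G] [Finite G]

theorem cj_J (g : G) (T : Subgroup G) : cj g (𝐉 T) = 𝐉 (cj g T) := Transfer.cj_thompsonOf g T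

theorem cent_anti {A B : Subgroup G} (h : A ≤ B) : 𝐂 B ≤ 𝐂 A := centralizer_le h

theorem relIndex_cent_dvd_two {K A : Subgroup G} (hK : Nat.card K = 3) (hA : A ≤ 𝐍 K) :
    (𝐂 K).relIndex A ∣ 2 := by
  haveI : Fact (Nat.Prime 3) := ⟨Nat.prime_three⟩
  have hc : IsCyclic K := isCyclic_of_prime_card hK
  rw [← BG1.card_mim_actHom hA]
  have := card_subgroup_dvd_card (mim (BG1.actHom K) A)
  rwa [hc.card_mulAut, hK] at this

theorem le_of_relIndex_prime {A K X : Subgroup G} {q : ℕ} (hq : q.Prime) (h : A.relIndex K = q)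
    (h1 : A ⊓ K ≤ X) (h2 : ¬ K ⊓ X ≤ A) : K ≤ X := by
  have e := relIndex_mul_relIndex (A ⊓ K) (K ⊓ X) K (le_inf inf_le_right h1) inf_le_left
  rw [inf_relIndex_right, h] at e
  rcases (Nat.dvd_prime hq).1 (Dvd.intro _ e) with e1 | e1
  · exact absurd ((relIndex_eq_one.1 e1).trans inf_le_left) h2
  · rw [e1] at e
    have : (K ⊓ X).relIndex K = 1 := Nat.eq_of_mul_eq_mul_left hq.pos (by rw [e, mul_one])
    exact (relIndex_eq_one.1 this).trans inf_le_right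

/-- `K = O²(K)` and `|K : O₂(K)| = 3`. -/
structure K3 (K : Subgroup G) : Prop where
  res : 𝐑 K = K
  idx : (𝐎 K).relIndex K = 3

/-- `K` is a `J`-component. -/
structure Cmp (J K : Subgroup G) : Prop extends K3 K where
  comm : ⁅K, J⁆ = K
  k2 : ∀ S, Syl 2 S (K ⊔ J) → J ≤ S → 𝐉 S = J
  card : Nat.card (wOf K) = 4

theorem isSylowTwoIn_iff {T L : Subgroup G} : IsSylowTwoIn T L ↔ Syl 2 T L := by
  rw [syl_iff_not_dvd, IsSylowTwoIn, ← Nat.not_even_iff_odd, even_iff_two_dvd]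

theorem W_def (K : Subgroup G) : wOf K = ⁅𝛀 (𝐎 K), K⁆ := rfl

theorem norm_omO (K : Subgroup G) : 𝐍 K ≤ 𝐍 (𝛀 (𝐎 K)) :=
  (norm_le_norm_op K).trans (norm_le_norm_omZ _)

theorem W_le_om (K : Subgroup G) : wOf K ≤ 𝛀 (𝐎 K) :=
  comm_le_left (le_normalizer.trans (norm_omO K))

theorem W_le_op (K : Subgroup G) : wOf K ≤ 𝐎 K := (W_le_om K).trans (omZ_le _)

theorem W_le (K : Subgroup G) : wOf K ≤ K := (W_le_op K).trans (op_le K)

theorem elemAb_W (K : Subgroup G) : IsElementaryAbelian 2 (wOf K) :=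
  elemAb_of_le (isElemAb_omZ _) (W_le_om K)

theorem isPGroup_W (K : Subgroup G) : IsPGroup 2 (wOf K) := elemAb_isPGroup (elemAb_W K)

theorem cj_W (g : G) (K : Subgroup G) : cj g (wOf K) = wOf (cj g K) := by
  rw [W_def, W_def, cj_commutator, cj_omZ, cj_op]

theorem norm_le_norm_W (K : Subgroup G) : 𝐍 K ≤ 𝐍 (wOf K) := fun g hg =>
  cj_eq_self_iff.1 (by rw [cj_W, cj_of_mem_normalizer hg])

theorem le_norm_W (K : Subgroup G) : K ≤ 𝐍 (wOf K) := le_normalizer.trans (norm_le_norm_W K)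

theorem op_le_cent_W (K : Subgroup G) : 𝐎 K ≤ 𝐂 (wOf K) :=
  (le_cent_omZ _).trans (centralizer_le (W_le_om K))

theorem cmp_iff {T K : Subgroup G} : IsJComponent T K ↔ Cmp (𝐉 T) K := by
  have e : closure {g : G | g ∈ K ∧ Odd (orderOf g)} = 𝐑 K := by
    rw [res_eq_closure]; simp only [Nat.coprime_two_right]
  rw [IsJComponent, e]
  simp only [isSylowTwoIn_iff]
  exact ⟨fun ⟨a, b, c, d, e, _⟩ => ⟨⟨a, c⟩, b, d, e⟩, fun h => ⟨h.res, h.comm, h.idx, h.k2, h.card,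
    fun w hw => by rw [← pow_two]; exact (elemAb_W K).2 w hw⟩⟩

namespace K3
variable {K J A B U V X Q : Subgroup G}

theorem conj (h : K3 K) (g : G) : K3 (cj g K) :=
  ⟨by rw [← cj_res, h.res], by rw [← cj_op, relIndex_cj, h.idx]⟩

theorem not_le_op (h : K3 K) : ¬ K ≤ 𝐎 K := fun e => by
  have := h.idx; rw [relIndex_eq_one.2 e] at this; omega

theorem not_isPGroup (h : K3 K) : ¬ IsPGroup 2 K := fun e => h.not_le_op (op_eq_self e).ge

theorem not_le (h : K3 K) (hX : IsPGroup 2 X) : ¬ K ≤ X := fun e =>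
  h.not_isPGroup (hX.to_le e)

theorem le_of (h : K3 K) (h1 : 𝐎 K ≤ X) (h2 : ¬ K ⊓ X ≤ 𝐎 K) : K ≤ X :=
  le_of_relIndex_prime Nat.prime_three h.idx (inf_le_left.trans h1) h2

theorem syl (h : K3 K) : Syl 2 (𝐎 K) K :=
  syl_of_not_dvd (op_le K) (op_isPGroup K) (by rw [h.idx]; decide)

theorem le_op (h : K3 K) (hX : IsPGroup 2 X) (hle : X ≤ K) : X ≤ 𝐎 K :=
  h.syl.le_of_normal_syl (le_norm_op K) hX hle

theorem res_sup (h : K3 K) (hQ : IsPGroup 2 Q) (hn : Q ≤ 𝐍 K) : 𝐑 (K ⊔ Q) = K :=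
  (res_sup_eq_of_isPGroup hQ hn).trans h.res

theorem le_res (h : K3 K) (hle : K ≤ X) : K ≤ 𝐑 X := h.res ▸ res_mono hle

/-- `K ≤ X Q` with `Q` a `2`-group normalizing `X` gives `K ≤ X`. -/
theorem le_of_le_sup (h : K3 K) (hQ : IsPGroup 2 Q) (hn : Q ≤ 𝐍 X) (hle : K ≤ X ⊔ Q) : K ≤ X :=
  h.res ▸ res_le_of_le_sup hQ hn hle

theorem exists_three (h : K3 K) : ∃ D, D ≤ K ∧ Nat.card D = 3 ∧ K ≤ D ⊔ 𝐎 K := by
  haveI : Fact (Nat.Prime 3) := ⟨Nat.prime_three⟩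
  have hd : 3 ∣ Nat.card K := h.idx ▸ relIndex_dvd_card _ _
  obtain ⟨x, hx⟩ := exists_prime_orderOf_dvd_card' (G := K) 3 hd
  have h3 : Nat.card (zpowers (x : G)) = 3 := by rw [Nat.card_zpowers, orderOf_coe, hx]
  refine ⟨zpowers x, zpowers_le.2 x.2, h3, h.le_of le_sup_right fun e => ?_⟩
  have := eq_bot_of_pPrime_le (p := 2) (by rw [h3]; decide) (op_isPGroup K)
    ((le_inf (zpowers_le.2 x.2) le_sup_left).trans e)
  rw [this, card_bot] at h3; omega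

theorem split (h : K3 K) (hV : IsElementaryAbelian 2 V) (hn : K ≤ 𝐍 V) (hc : 𝐎 K ≤ 𝐂 V) :
    (V ⊓ 𝐂 K) ⊓ ⁅V, K⁆ = ⊥ ∧ (V ⊓ 𝐂 K) ⊔ ⁅V, K⁆ = V := by
  obtain ⟨D, d1, d2, d3⟩ := h.exists_three
  haveI := hV.1
  have hcop : (Nat.card D).Coprime (Nat.card V) :=
    coprime_card_of_pPrime (p := 2) (by rw [d2]; decide) (elemAb_isPGroup hV)
  have e1 : V ⊓ 𝐂 K = V ⊓ 𝐂 D := le_antisymm (inf_le_inf_left _ (centralizer_le d1))
    (le_inf inf_le_left (le_cent_symm (d3.trans (sup_le (le_cent_symm inf_le_right)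
      (hc.trans (centralizer_le inf_le_left))))))
  have e2 : ⁅V, K⁆ = ⁅V, D⁆ := by
    refine le_antisymm ((commutator_mono le_rfl d3).trans ?_) (commutator_mono le_rfl d1)
    rw [KS9.comm_sup_eq (d1.trans hn) ((op_le K).trans hn), comm_eq_bot_iff'.2 hc, sup_bot_eq]
  rw [e1, e2]
  exact ⟨Coprime.centralizer_inf_commutator_eq_bot (d1.trans hn) hcop,
    Coprime.centralizer_sup_commutator_eq (d1.trans hn) hcop⟩

theorem W_inf_cent (h : K3 K) : wOf K ⊓ 𝐂 K = ⊥ := by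
  have := (h.split (isElemAb_omZ _) (le_normalizer.trans (norm_omO K)) (le_cent_omZ _)).1
  exact eq_bot_iff.2 (this ▸ le_inf (inf_le_inf_right _ (W_le_om K)) inf_le_left)

theorem comm_comm (h : K3 K) (hV : IsPGroup 2 V) (hn : K ≤ 𝐍 V) : ⁅⁅V, K⁆, K⁆ = ⁅V, K⁆ := by
  have := comm_res_comm_res hV hn
  rwa [h.res] at this

theorem comm_W (h : K3 K) : ⁅wOf K, K⁆ = wOf K :=
  h.comm_comm (isPGroup_omZ _) (le_normalizer.trans (norm_omO K))

theorem eq_bot (h : K3 K) (hU : U ≤ wOf K) (hc : K ≤ 𝐂 U) : U = ⊥ :=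
  eq_bot_iff.2 (h.W_inf_cent ▸ le_inf hU (le_cent_symm hc))

/-- the elements of `N(O₂ K)` centralizing `K / O₂(K)` -/
def cK (K : Subgroup G) : Subgroup G := mpre (qmk (𝐎 K)) (𝐂 (mim (qmk (𝐎 K)) K))

theorem le_cK (hA : A ≤ 𝐍 K) : A ≤ cK K ↔ ⁅K, A⁆ ≤ 𝐎 K := by
  have hA' := le_norm_op_of_le (p := 2) hA
  rw [cK, ← BG1.mim_le_iff hA', BG1.quo_cent_iff hA' (le_norm_op K), commutator_comm]

theorem relIndex_cK (h : K3 K) (hA : A ≤ 𝐍 K) : (cK K).relIndex A ∣ 2 := by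
  have hA' := le_norm_op_of_le (p := 2) hA
  rw [cK, BG1.relIndex_mpre _ _ hA']
  exact relIndex_cent_dvd_two (by rw [BG1.card_quo (le_norm_op K), h.idx]) (BG1.mim_norm _ hA)

theorem le_comm_sup (h : K3 K) (hA : ¬ ⁅K, A⁆ ≤ 𝐎 K) (hn : A ≤ 𝐍 K) : K ≤ ⁅K, A⁆ ⊔ 𝐎 K :=
  h.le_of le_sup_right fun e => hA ((le_inf (comm_le_left hn) le_sup_left).trans e)

/-- subgroups centralizing `K / O₂(K)`: their centralizer in `W` is `K`-invariant -/
theorem norm_cent (hB : ⁅K, B⁆ ≤ 𝐎 K) : K ≤ 𝐍 (wOf K ⊓ 𝐂 B) := by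
  refine le_normalizer_of_cj_le fun k hk => ?_
  rw [cj_inf, cj_of_mem_normalizer (le_norm_W K hk), cj_centralizer]
  refine le_inf inf_le_left (le_cent_symm ?_)
  have : B ≤ ⁅K, cj k B⁆ ⊔ cj k B := by
    have := (cj_le_ncl (A := cj k B) (inv_mem hk))
    rwa [cj_inv_cj, ncl_eq_comm_sup] at this
  refine this.trans (sup_le ?_ (le_cent_symm inf_le_right))
  have e : ⁅K, cj k B⁆ = cj k ⁅K, B⁆ := by rw [cj_commutator, cj_of_mem hk]
  rw [e]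
  exact (cj_le_of_le_of_mem_normalizer hB (le_norm_op K hk)).trans
    ((op_le_cent_W K).trans (centralizer_le inf_le_left))

theorem norm_comm (hB : ⁅K, B⁆ ≤ 𝐎 K) (hn : B ≤ 𝐍 K) : K ≤ 𝐍 ⁅wOf K, B⁆ := by
  refine le_normalizer_of_cj_le fun k hk => ?_
  rw [cj_commutator, cj_of_mem_normalizer (le_norm_W K hk)]
  have : cj k B ≤ 𝐎 K ⊔ B :=
    (cj_le_ncl hk).trans ((ncl_eq_comm_sup _ _).le.trans (sup_le_sup_right hB _))
  refine (commutator_mono le_rfl this).trans ?_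
  rw [KS9.comm_sup_eq ((op_le K).trans (le_norm_W K)) (hn.trans (norm_le_norm_W K)),
    comm_eq_bot_iff'.2 (op_le_cent_W K), bot_sup_eq]

theorem eq_bot_of_cent (h : K3 K) (hA : ¬ ⁅K, A⁆ ≤ 𝐎 K) (hn : A ≤ 𝐍 K) (hU : U ≤ wOf K)
    (hKU : K ≤ 𝐍 U) (hc : A ≤ 𝐂 U) : U = ⊥ := by
  refine h.eq_bot hU ((h.le_comm_sup hA hn).trans (sup_le ?_
    ((op_le_cent_W K).trans (centralizer_le hU))))
  exact (comm_le_ncl A K).trans
    (iSup_cj_le hc (hKU.trans (normalizer_le_normalizer_centralizer U)))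

theorem le_of_comm_le (h : K3 K) (hA : ¬ ⁅K, A⁆ ≤ 𝐎 K) (hn : A ≤ 𝐍 K)
    (hKU : K ≤ 𝐍 U) (hc : ⁅wOf K, A⁆ ≤ U) : wOf K ≤ U := by
  have hW := le_norm_W K
  have hAW := hn.trans (norm_le_norm_W K)
  have h1 : ⁅wOf K, ncl A K⁆ ≤ U := by
    rw [KS9.comm_iSup_eq fun k : K => cj_le_of_le_of_mem_normalizer hAW
      (le_normalizer (hW k.2))]
    refine iSup_le fun k => ?_
    have := cj_le_of_le_of_mem_normalizer hc (hKU k.2)
    rwa [cj_commutator, cj_of_mem_normalizer (hW k.2)] at this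
  rw [← h.comm_W]
  refine (commutator_mono le_rfl (h.le_comm_sup hA hn)).trans ?_
  rw [KS9.comm_sup_eq ((comm_le_left hn).trans hW) ((op_le K).trans hW),
    comm_eq_bot_iff'.2 (op_le_cent_W K), sup_bot_eq]
  exact (commutator_mono le_rfl (comm_le_ncl A K)).trans h1

theorem card_eq_four (h : K3 K) (hV : IsElementaryAbelian 2 V) (hn : K ≤ 𝐍 V)
    (hc : V ⊓ 𝐂 K = ⊥) (hne : V ≠ ⊥) (hle : Nat.card V ≤ 4) : Nat.card V = 4 := by
  obtain ⟨n, e⟩ := (elemAb_isPGroup hV).exists_card_eq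
  have h1 : Nat.card V ≠ 1 := fun e => hne (card_eq_one.1 e)
  have h2 : Nat.card V ≠ 2 := fun e => hne (eq_bot_iff.2 (hc ▸ le_inf le_rfl
    (le_cent_symm (KS9.le_cent_of_card_two e hn))))
  rw [e] at hle h1 h2 ⊢
  rcases n with _ | _ | _ | n
  · simp at h1
  · simp at h2
  · rfl
  · have : 0 < 2 ^ n := by positivity
    rw [pow_succ, pow_succ, pow_succ] at hle; omega

theorem exists_cj_not (h : K3 K) (hA : ¬ ⁅K, A⁆ ≤ 𝐎 K) (hn : A ≤ 𝐍 K) :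
    ∃ k ∈ K, K ≤ (A ⊔ cj k A) ⊔ 𝐎 K := by
  by_contra hx
  push Not at hx
  refine hA ?_
  rw [commutator_comm, commutator_le]
  intro a ha k hk
  by_contra e
  refine hx k hk (h.le_of le_sup_right fun e' => e (e' ⟨?_, ?_⟩))
  · exact comm_le_right hn (commutator_mem_commutator ha hk)
  · refine mem_sup_left ?_
    rw [commutatorElement_def, mul_assoc, mul_assoc, ← mul_assoc k]
    exact mul_mem (mem_sup_left ha) (mem_sup_right (conj_mem_cj k (inv_mem ha)))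

end K3

theorem relIndex_le_two_of_maxEl {T A B W : Subgroup G} (hA : A ∈ maxEl 2 T) (hB : B ≤ A)
    (hi : B.relIndex A ∣ 2) (hW : IsElementaryAbelian 2 W) (hWT : W ≤ T) (hc : B ≤ 𝐂 W) :
    B.relIndex W ≤ 2 := by
  have h1 := hA.2.2 (B ⊔ W) (sup_le (hB.trans hA.1) hWT) (elemAb_sup (elemAb_of_le hA.2.1 hB) hW hc)
  have h2 := card_sup_mul_card_inf (hc.trans (cent_le_norm W))
  have h3 := card_mul_relIndex hB
  have h4 := card_inf_mul_relIndex B W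
  have h5 : B.relIndex A ≤ 2 := Nat.le_of_dvd two_pos hi
  have p1 : 0 < Nat.card B := Nat.card_pos
  have p2 : 0 < Nat.card (B ⊓ W : Subgroup G) := Nat.card_pos
  rw [← h4, ← mul_assoc, mul_right_comm] at h2
  have h6 := Nat.eq_of_mul_eq_mul_right p2 h2
  have : Nat.card B * B.relIndex W ≤ Nat.card B * 2 := by
    rw [← h6]; exact h1.trans (h3 ▸ Nat.mul_le_mul_left _ h5)
  exact Nat.le_of_mul_le_mul_left this p1

theorem relIndex_inf_le_four {A B W : Subgroup G} (h1 : A.relIndex W ≤ 2) (h2 : B.relIndex W ≤ 2) :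
    (A ⊓ B).relIndex W ≤ 4 :=
  relIndex_inf_le.trans (Nat.mul_le_mul h1 h2)

theorem exists_maxEl_not {T K N : Subgroup G} (hn : T ≤ 𝐍 N) (h : ¬ ⁅K, 𝐉 T⁆ ≤ N) :
    ∃ A ∈ maxEl 2 T, ¬ ⁅K, A⁆ ≤ N := by
  by_contra hx
  push Not at hx
  refine h ?_
  rw [Transfer.thompsonOf_eq, sSup_eq_iSup', commutator_comm]
  exact comm_iSup_le (fun A => (commutator_comm _ _).le.trans (hx A A.2)) fun A => A.2.1.trans hn

/-- The four-group condition is automatic once `W ≠ 1`. -/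
theorem K3.card_W {T K : Subgroup G} (h : K3 K) (hc : ⁅K, 𝐉 T⁆ = K) (hT : wOf K ≤ T)
    (hne : wOf K ≠ ⊥) : Nat.card (wOf K) = 4 := by
  have hJ : 𝐉 T ≤ 𝐍 K := le_normalizer_of_comm_le hc.le
  obtain ⟨A, hA, a1⟩ := exists_maxEl_not (T := 𝐉 T) (K := K) (le_norm_op_of_le (p := 2) hJ)
    (by rw [Transfer.thompsonOf_thompsonOf, hc]; exact h.not_le_op)
  have hAK := hA.1.trans hJ
  rw [Transfer.maxEl_eq_of_le le_rfl (Transfer.thompsonOf_le T)] at hA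
  have hAW := hAK.trans (norm_le_norm_W K)
  have hW := elemAb_W K
  obtain ⟨-, t2, t3, -⟩ := KS9.timmesfeld hW hAW (KS9.maxEl_best hW hT hA) le_rfl
  replace t3 := t3 fun e => hne (h.eq_bot_of_cent a1 hAK le_rfl (le_norm_W K) (comm_eq_bot_iff'.1 e))
  by_cases hs : ⁅K, A ⊓ 𝐂 ⁅wOf K, A⁆⁆ ≤ 𝐎 K
  · have := h.le_of_comm_le a1 hAK (K3.norm_cent hs) (t2 ▸ le_sup_left)
    exact absurd (comm_eq_bot_iff.2 (this.trans inf_le_right)) t3
  have b1 : ⁅K, A ⊓ K3.cK K⁆ ≤ 𝐎 K := (K3.le_cK (inf_le_left.trans hAK)).1 inf_le_right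
  have b2 : ⁅wOf K, A ⊓ K3.cK K⁆ = ⊥ := h.eq_bot_of_cent hs (inf_le_left.trans hAK)
    (comm_le_left (inf_le_left.trans hAW)) (K3.norm_comm b1 (inf_le_left.trans hAK))
    (inf_le_right.trans (centralizer_le (commutator_mono le_rfl inf_le_left)))
  have b3 := relIndex_le_two_of_maxEl hA inf_le_left
    (by rw [inf_relIndex_left]; exact h.relIndex_cK hAK) hW hT (comm_eq_bot_iff'.1 b2)
  have b4 : (𝐂 A).relIndex (wOf K) ≤ 2 := (relIndex_le_of_le_left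
    (inf_le_left.trans (elemAb_le_cent hA.2.1)) BG1.relIndex_ne_zero').trans b3
  obtain ⟨k, hk, b5⟩ := h.exists_cj_not a1 hAK
  have b6 : (𝐂 (cj k A)).relIndex (wOf K) ≤ 2 := by
    rw [← cj_centralizer, ← cj_of_mem_normalizer (le_norm_W K hk), relIndex_cj]; exact b4
  have b7 := relIndex_inf_le_four b4 b6
  have b8 : wOf K ⊓ (𝐂 A ⊓ 𝐂 (cj k A)) = ⊥ := h.eq_bot inf_le_left (b5.trans (sup_le (sup_le
    (le_cent_symm (inf_le_right.trans inf_le_left)) (le_cent_symm (inf_le_right.trans inf_le_right)))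
    ((op_le_cent_W K).trans (centralizer_le inf_le_left))))
  rw [← inf_relIndex_left, b8, relIndex_bot_left] at b7
  exact h.card_eq_four hW (le_norm_W K) h.W_inf_cent hne b7

namespace Cmp
variable {K J T A U V X Q : Subgroup G}

theorem conj (h : Cmp J K) (g : G) : Cmp (cj g J) (cj g K) := by
  refine ⟨h.toK3.conj g, by rw [← cj_commutator, h.comm], fun S h1 h2 => ?_,
    by rw [← cj_W, card_cj, h.card]⟩
  rw [← cj_sup] at h1
  have := h.k2 (cj g⁻¹ S) (by simpa only [cj_inv_cj] using h1.conj g⁻¹) (cj_le_iff.1 h2)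
  rw [← this, cj_J, cj_cj_inv]

theorem conj' (h : Cmp J K) {g : G} (hg : g ∈ 𝐍 J) : Cmp J (cj g K) := by
  have := h.conj g
  rwa [cj_of_mem_normalizer hg] at this

theorem norm (h : Cmp J K) : J ≤ 𝐍 K := le_normalizer_of_comm_le h.comm.le

theorem norm' (h : Cmp J K) : K ⊔ J ≤ 𝐍 K := sup_le le_normalizer h.norm

theorem normW (h : Cmp J K) : J ≤ 𝐍 (wOf K) := h.norm.trans (norm_le_norm_W K)

theorem ncl_eq (h : Cmp J K) : ncl J K = K ⊔ J := by rw [ncl_eq_comm_sup, h.comm]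

theorem W_ne_bot (h : Cmp J K) : wOf K ≠ ⊥ := fun e => by
  have := h.card; rw [e, card_bot] at this; omega

theorem not_le_cent (h : Cmp J K) : ¬ K ≤ 𝐂 (wOf K) := fun e => h.W_ne_bot (h.eq_bot le_rfl e)

theorem card_of_lt (h : Cmp J K) (hU : U ≤ wOf K) (h1 : U ≠ ⊥) (h2 : U ≠ wOf K) :
    Nat.card U = 2 := KS9.card_eq_of_lt_plane (p := 2) h.card hU h1 h2

theorem irr (h : Cmp J K) : KS9.Irr (wOf K) K := fun U hU hn => by
  by_contra e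
  push Not at e
  exact e.1 (h.eq_bot hU (KS9.le_cent_of_card_two (h.card_of_lt hU e.1 e.2) hn))

theorem le_of_inf_ne_bot (h : Cmp J K) (hn : K ≤ 𝐍 U) (hne : wOf K ⊓ U ≠ ⊥) : wOf K ≤ U := by
  rcases h.irr _ inf_le_left (le_normalizer_inf (le_norm_W K) hn) with e | e
  · exact absurd e hne
  · exact e ▸ inf_le_right

theorem le_of_J_le (h : Cmp J K) (hn : K ≤ 𝐍 X) (hJ : J ≤ X) : K ≤ X :=
  le_sup_left.trans (h.ncl_eq.ge.trans (iSup_cj_le hJ hn))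

theorem J_not_le_cent (h : Cmp J K) : ¬ J ≤ 𝐂 (wOf K) := fun e => h.not_le_cent
  (h.le_of_J_le ((le_norm_W K).trans (normalizer_le_normalizer_centralizer _)) e)

/-- KS 12.2.1 -/
theorem le_norm (h : Cmp J K) (hJ : IsPGroup 2 J) (h1 : K ≤ 𝐍 Q) (h2 : Q ≤ 𝐍 J) : Q ≤ 𝐍 K := by
  have : Q ≤ 𝐍 (ncl J K) := le_normalizer_iSup fun k => by
    have := cj_mono (k : G) h2
    rwa [cj_of_mem_normalizer (h1 k.2), cj_normalizer] at this
  rw [h.ncl_eq] at this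
  have := this.trans (norm_le_norm_res (p := 2) _)
  rwa [h.res_sup hJ h.norm] at this

theorem isPGroup_cent (h : Cmp J K) (hQ : IsPGroup 2 Q) (hn : Q ≤ 𝐍 K) :
    IsPGroup 2 ((K ⊔ Q) ⊓ 𝐂 (wOf K) : Subgroup G) := by
  refine isPGroup_of_res_le (op_isPGroup K) ?_
  by_contra e
  refine h.not_le_cent (h.le_of (op_le_cent_W K) fun e' => e (le_trans ?_ e'))
  exact le_inf ((res_mono inf_le_left).trans (h.res_sup hQ hn).le) ((res_le _).trans inf_le_right)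

theorem relIndex_cent (h : Cmp J K) (hQ : IsPGroup 2 Q) (hn : Q ≤ 𝐍 (wOf K)) :
    (𝐂 (wOf K)).relIndex Q ∣ 2 := by
  have h1 : (𝐂 (wOf K)).relIndex Q ∣ 2 * 3 :=
    KS9.relIndex_dvd_of_plane (p := 2) (elemAb_W K) h.card hn
  obtain ⟨n, e⟩ := hQ.exists_card_eq
  have h2 : (𝐂 (wOf K)).relIndex Q ∣ 2 ^ n := e ▸ relIndex_dvd_card _ _
  exact (Nat.Coprime.coprime_dvd_left h2 (Nat.Coprime.pow_left n (by decide))).dvd_of_dvd_mul_right h1

theorem repl (h : Cmp J K) (hT : wOf K ≤ T) (hA : A ∈ maxEl 2 T) (hn : A ≤ 𝐍 (wOf K)) :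
    (A ⊓ 𝐂 (wOf K)) ⊔ wOf K ∈ maxEl 2 T := by
  have e : wOf K ⊓ 𝐂 (A ⊓ 𝐂 (wOf K)) = wOf K := inf_eq_left.2 (le_cent_symm inf_le_right)
  have := KS9.maxEl_of_ms_le (elemAb_W K) hT hA (B := A ⊓ 𝐂 (wOf K)) inf_le_left ?_
  · rwa [e] at this
  by_cases hc : A ≤ 𝐂 (wOf K)
  · rw [inf_eq_left.2 hc]
  have h1 : Nat.card (wOf K ⊓ 𝐂 A : Subgroup G) ≤ 2 := by
    by_cases hb : wOf K ⊓ 𝐂 A = ⊥
    · rw [hb, card_bot]; omega
    · exact (h.card_of_lt inf_le_left hb fun e => hc (le_cent_symm (e ▸ inf_le_right))).le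
  have h2 := card_inf_mul_relIndex (𝐂 (wOf K)) A
  have h3 := Nat.le_of_dvd two_pos (h.relIndex_cent (elemAb_isPGroup hA.2.1) hn)
  change Nat.card A * Nat.card (wOf K ⊓ 𝐂 A : Subgroup G) ≤
    Nat.card (A ⊓ 𝐂 (wOf K) : Subgroup G) * Nat.card (wOf K ⊓ 𝐂 (A ⊓ 𝐂 (wOf K)) : Subgroup G)
  rw [e, h.card, ← h2, inf_comm, mul_assoc]
  exact Nat.mul_le_mul_left _ (Nat.mul_le_mul h3 h1)

theorem relIndex_syl (h : Cmp J K) (hQ : IsPGroup 2 Q) (hn : Q ≤ 𝐍 K) (hO : 𝐎 K ≤ Q) :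
    Q.relIndex (K ⊔ Q) = 3 := by
  have e : K ⊓ Q = 𝐎 K := le_antisymm (h.le_op (hQ.to_le inf_le_right) inf_le_left)
    (le_inf (op_le K) hO)
  have h1 := card_sup_mul_card_inf' hn
  have h2 := card_mul_relIndex (le_sup_right : Q ≤ K ⊔ Q)
  have h3 := card_mul_relIndex (op_le (p := 2) K)
  rw [e, ← h2, ← h3, h.idx] at h1
  have p : 0 < Nat.card Q * Nat.card (𝐎 K) := Nat.mul_pos Nat.card_pos Nat.card_pos
  refine Nat.eq_of_mul_eq_mul_left p ?_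
  linarith

theorem isPGroup0 (h : Cmp J K) (hJ : IsPGroup 2 J) : IsPGroup 2 (𝐎 K ⊔ J : Subgroup G) :=
  isPGroup_sup_of_le_normalizer' (op_isPGroup K) hJ (le_norm_op_of_le h.norm)

theorem norm0 (h : Cmp J K) : 𝐎 K ⊔ J ≤ 𝐍 K := (sup_le_sup_right (op_le K) J).trans h.norm'

theorem relIndex0 (h : Cmp J K) (hJ : IsPGroup 2 J) : (𝐎 K ⊔ J).relIndex (K ⊔ J) = 3 := by
  have := h.relIndex_syl (h.isPGroup0 hJ) h.norm0 le_sup_left
  rwa [← sup_assoc, sup_eq_left.2 (op_le K)] at this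

theorem syl0 (h : Cmp J K) (hJ : IsPGroup 2 J) : Syl 2 (𝐎 K ⊔ J) (K ⊔ J) :=
  syl_of_not_dvd (sup_le_sup_right (op_le K) J) (h.isPGroup0 hJ) (by rw [h.relIndex0 hJ]; decide)

theorem J0 (h : Cmp J K) (hJ : IsPGroup 2 J) : 𝐉 (𝐎 K ⊔ J) = J := h.k2 _ (h.syl0 hJ) le_sup_right

theorem JJ (h : Cmp J K) (hJ : IsPGroup 2 J) : 𝐉 J = J :=
  (Transfer.thompsonOf_eq_of_le (h.J0 hJ).le le_sup_right).trans (h.J0 hJ)

theorem op_le_norm (h : Cmp J K) (hJ : IsPGroup 2 J) : 𝐎 K ≤ 𝐍 J := by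
  have := Transfer.le_normalizer_thompsonOf (p := 2) (𝐎 K ⊔ J)
  rw [h.J0 hJ] at this
  exact le_sup_left.trans this

theorem W_le_J (h : Cmp J K) (hJ : IsPGroup 2 J) : wOf K ≤ J := by
  obtain ⟨A, hA⟩ := Transfer.exists_mem_maxEl 2 (𝐎 K ⊔ J)
  have := Transfer.le_thompsonOf (h.repl ((W_le_op K).trans le_sup_left) hA
    (hA.1.trans (h.norm0.trans (norm_le_norm_W K))))
  rw [h.J0 hJ] at this
  exact le_sup_right.trans this

theorem card_cent (h : Cmp J K) (hA : IsPGroup 2 A) (hn : A ≤ 𝐍 (wOf K)) (hc : ¬ A ≤ 𝐂 (wOf K)) :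
    Nat.card (wOf K ⊓ 𝐂 A : Subgroup G) = 2 := by
  refine h.card_of_lt inf_le_left (fun e => ?_) fun e => hc (le_cent_symm (e ▸ inf_le_right))
  refine inf_center_ne_bot (isPGroup_sup_of_le_normalizer hA (isPGroup_W K) hn) le_sup_right
    (sup_le hn le_normalizer) h.W_ne_bot (eq_bot_iff.2 (e ▸ ?_))
  exact inf_le_inf_left _ (cent_anti le_sup_left)

theorem om_inf_W (h : Cmp J K) (hJ : IsPGroup 2 J) : 𝛀 J ⊓ wOf K = wOf K ⊓ 𝐂 J :=
  le_antisymm (le_inf inf_le_right (inf_le_left.trans (omZ_le_cent J)))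
    (le_inf (le_omZ (inf_le_left.trans (h.W_le_J hJ)) inf_le_right
      fun a ha => (elemAb_W K).2 a ha.1) inf_le_left)

theorem card_om_inf_W (h : Cmp J K) (hJ : IsPGroup 2 J) :
    Nat.card (𝛀 J ⊓ wOf K : Subgroup G) = 2 := by
  rw [h.om_inf_W hJ]; exact h.card_cent hJ h.normW h.J_not_le_cent

/-- KS 12.2.6 -/
theorem om_le (h : Cmp J K) (hJ : IsPGroup 2 J) :
    𝛀 J ≤ (𝛀 J ⊓ 𝐂 (K ⊔ J)) ⊔ (𝛀 J ⊓ wOf K) := by
  have hW := elemAb_W K
  have hs := h.syl0 hJ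
  have hJ0 := h.J0 hJ
  have hi := h.relIndex0 hJ
  have hWJ := h.W_le_J hJ
  have hHW : K ⊔ J ≤ 𝐍 (wOf K) := h.norm'.trans (norm_le_norm_W K)
  have hHQ : K ⊔ J ≤ 𝐍 ((K ⊔ J) ⊓ 𝐂 (wOf K)) :=
    le_normalizer_inf le_normalizer (hHW.trans (normalizer_le_normalizer_centralizer _))
  have hQT := hs.le_of_normal (h.isPGroup_cent hJ h.norm) inf_le_left hHQ
  have hi2 := h.relIndex_cent hs.isPGroup (hs.le.trans hHW)
  have hOT : 𝐎 K ≤ 𝐎 K ⊔ J := le_sup_left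
  have hJT : J ≤ 𝐎 K ⊔ J := le_sup_right
  have hTJ : 𝐎 K ⊔ J ≤ 𝐍 J := sup_le (h.op_le_norm hJ) le_normalizer
  generalize 𝐎 K ⊔ J = T at *
  obtain ⟨A, hA, a1⟩ : ∃ A ∈ maxEl 2 T, ¬ A ≤ 𝐂 (wOf K) := by
    by_contra e
    push Not at e
    exact h.J_not_le_cent (hJ0 ▸ Transfer.thompsonOf_le_iff.2 e)
  have hAJ : A ≤ J := hJ0 ▸ Transfer.le_thompsonOf hA
  have hAW := hAJ.trans h.normW
  have hB := h.repl (hWJ.trans hJT) hA hAW
  have hBQ : (A ⊓ 𝐂 (wOf K)) ⊔ wOf K ≤ (K ⊔ J) ⊓ 𝐂 (wOf K) :=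
    le_inf (hB.1.trans hs.le) (sup_le inf_le_right (elemAb_le_cent hW))
  have hJQ := Transfer.thompsonOf_le_thompsonOf hB hBQ hQT
  have hB' := Transfer.mem_maxEl_of_le hB hBQ hQT
  rw [hJ0] at hJQ
  have hQc : (K ⊔ J) ⊓ 𝐂 (wOf K) ≤ 𝐂 (wOf K) := inf_le_right
  have hOQ : 𝛀 J ≤ (K ⊔ J) ⊓ 𝐂 (wOf K) := le_inf ((omZ_le J).trans le_sup_right)
    ((omZ_le_cent J).trans (centralizer_le hWJ))
  have hWQ : wOf K ≤ (K ⊔ J) ⊓ 𝐂 (wOf K) := le_sup_right.trans hBQ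
  generalize (K ⊔ J) ⊓ 𝐂 (wOf K) = Q at *
  have key : ∀ U, U ≤ Q → IsElementaryAbelian 2 U → U ≤ 𝐂 (𝐉 Q) → U ≤ 𝛀 (𝐉 Q) := fun U u1 u2 u3 =>
    le_omZ (fun x hx => Transfer.mem_thompsonOf_of_centralizes (u1 hx) (u2.2 x hx) (u3 hx)) u3 u2.2
  have z1 := key _ hOQ (isElemAb_omZ J) ((omZ_le_cent J).trans (centralizer_le hJQ))
  have z2 := key _ hWQ hW (le_cent_symm ((Transfer.thompsonOf_le Q).trans hQc))
  have z3 : K ⊔ J ≤ 𝐍 (𝛀 (𝐉 Q)) :=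
    le_norm_omZ (hHQ.trans (Transfer.normalizer_le_normalizer_thompsonOf Q))
  have z4 : 𝛀 (𝐉 Q) ≤ (A ⊓ 𝐂 (wOf K)) ⊔ wOf K := Transfer.le_of_mem_maxEl hB'
    ((omZ_le _).trans (Transfer.thompsonOf_le Q)) (isElemAb_omZ _)
    ((omZ_le_cent _).trans (centralizer_le (Transfer.le_thompsonOf hB')))
  have z0 := isElemAb_omZ (p := 2) (𝐉 Q)
  generalize 𝛀 (𝐉 Q) = Z at *
  have c1 := h.card_cent (elemAb_isPGroup hA.2.1) hAW a1
  have z5 : (𝐂 A).relIndex Z ≤ 2 := by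
    refine (relIndex_le_of_le_right z4 BG1.relIndex_ne_zero').trans ?_
    have e1 : (𝐂 A).relIndex (wOf K) = 2 := by
      have := card_inf_mul_relIndex (𝐂 A) (wOf K)
      rw [inf_comm, c1, h.card] at this; omega
    have e2 : A ⊓ 𝐂 (wOf K) ≤ 𝐂 A := inf_le_left.trans (elemAb_le_cent hA.2.1)
    refine (relIndex_le_of_le_left e2 BG1.relIndex_ne_zero').trans ?_
    rw [sup_comm, relIndex_sup_of_le_normalizer ((le_cent_symm inf_le_right).trans (cent_le_norm _))]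
    exact relIndex_le_two_of_maxEl hA inf_le_left (by
      rw [inf_relIndex_left]; exact h.relIndex_cent (elemAb_isPGroup hA.2.1) hAW) hW
      (hWJ.trans hJT) inf_le_right
  have hKA : ¬ ⁅K, A⁆ ≤ 𝐎 K := fun e => a1 (le_cent_symm ((h.le_of_inf_ne_bot (K3.norm_cent e)
    fun e' => by rw [← inf_assoc, inf_idem] at e'; rw [e', card_bot] at c1; omega).trans inf_le_right))
  obtain ⟨k, hk, b5⟩ := h.exists_cj_not hKA (hAJ.trans h.norm)
  have z6 : (𝐂 (cj k A)).relIndex Z ≤ 2 := by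
    rw [← cj_centralizer, ← cj_of_mem_normalizer (z3 (mem_sup_left hk)), relIndex_cj]; exact z5
  have z7 := relIndex_inf_le_four z5 z6
  have z8 : wOf K ⊓ (Z ⊓ (𝐂 A ⊓ 𝐂 (cj k A))) = ⊥ := h.eq_bot inf_le_left (b5.trans (sup_le (sup_le
    (le_cent_symm (inf_le_right.trans (inf_le_right.trans inf_le_left)))
    (le_cent_symm (inf_le_right.trans (inf_le_right.trans inf_le_right))))
    ((op_le_cent_W K).trans (centralizer_le inf_le_left))))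
  have hn := KS9.le_norm_of_comm z0.1 (inf_le_left : Z ⊓ (𝐂 A ⊓ 𝐂 (cj k A)) ≤ Z)
  have z9 : wOf K ⊔ (Z ⊓ (𝐂 A ⊓ 𝐂 (cj k A))) = Z := by
    refine eq_of_le_of_card_le' (sup_le z2 inf_le_left) ?_
    rw [card_sup_of_disjoint (z2.trans hn) z8, h.card, ← card_inf_mul_relIndex (𝐂 A ⊓ 𝐂 (cj k A)) Z,
      inf_comm, mul_comm]
    exact Nat.mul_le_mul_right _ z7
  have c2 : wOf K ⊓ 𝐂 J = wOf K ⊓ 𝐂 A := eq_of_le_of_card_le'
    (inf_le_inf_left _ (centralizer_le hAJ)) (by rw [c1, ← h.om_inf_W hJ, h.card_om_inf_W hJ])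
  have hY : K ⊔ J ≤ J ⊔ cj k A := by
    have y1 : K ≤ (J ⊔ cj k A) ⊔ 𝐎 K := b5.trans (sup_le_sup_right (sup_le_sup_right hAJ _) _)
    have y2 : J ⊔ cj k A ≤ 𝐍 (𝐎 K) := le_norm_op_of_le (sup_le h.norm
      (cj_le_of_le_of_mem (hAJ.trans h.norm) (le_normalizer hk)))
    rw [← h.ncl_eq]
    refine iSup_le fun x => ?_
    obtain ⟨a, ha, b, hb, e⟩ := (mem_sup_of_le_normalizer y2).1 (y1 x.2)
    rw [← e, cj_mul, cj_of_mem_normalizer (h.op_le_norm hJ hb)]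
    exact cj_le_of_le_of_mem le_sup_left ha
  intro z hz
  obtain ⟨w, hw, c, hc, e⟩ := (mem_sup_of_le_normalizer (z2.trans hn)).1 (z9.ge (z1 hz))
  have hzJ := omZ_le_cent J hz
  have hw' : w ∈ wOf K ⊓ 𝐂 A := mem_inf.2 ⟨hw, by
    rw [eq_mul_inv_of_mul_eq e]
    exact mul_mem (cent_anti hAJ hzJ) (inv_mem (mem_inf.1 (mem_inf.1 hc).2).1)⟩
  rw [← c2, ← h.om_inf_W hJ] at hw'
  have hc' : c ∈ 𝛀 J := by rw [eq_inv_mul_of_mul_eq e]; exact mul_mem (inv_mem hw'.1) hz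
  rw [← e]
  refine mul_mem (mem_sup_right hw') (mem_sup_left ⟨hc', centralizer_le hY ?_⟩)
  rw [Lib.Core.centralizer_sup]
  exact ⟨omZ_le_cent J hc', hc.2.2⟩

end Cmp

end Cfsg.Lib.Amalg.JC
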