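import Cfsg.Agent.Lib.Amalg.JComp

/-! Factors of `J(L)` on a `2`-reduced module, pulled back to the ambient group. -/

set_option autoImplicit false
set_option linter.unusedSectionVars false

namespace Cfsg.Lib.Amalg.JC

open Subgroup
open Cfsg.Lib.Core hiding isPGroup_subgroupOf isPGroup_subgroupOf_iff isPGroup_map_subtype_iff
  isPGroup_zpowers_of_orderOf
open Cfsg.Lib.BG1 (mim mpre mker qmk)
open Cfsg.Lib.Transfer (maxEl)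
open Cfsg.Lib.KS9 (FF MinOff Model model_hol Irr)
open scoped commutatorElement

universe u

variable {G : Type u} [Group G] [Finite G]

theorem exists_model (V : Subgroup G) : ∃ (G' : Type u) (_ : Group G') (_ : Finite G')
    (i : V →* G') (π : 𝐍 V →* G'), Model V i π := ⟨_, _, inferInstance, _, _, model_hol V⟩

/-- A factor `D A` of `E` on `V`. -/
structure Fac (V E D A : Subgroup G) : Prop where
  leD : D ≤ E
  leA : A ≤ E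
  ker : E ⊓ 𝐂 V ≤ D
  idx : (𝐂 V).relIndex D = 3
  comm : D ≤ ⁅D, A⁆ ⊔ (E ⊓ 𝐂 V)
  norm : E ≤ 𝐍 D
  card : Nat.card (⁅V, D⁆ : Subgroup G) = 4
  irr : Irr ⁅V, D⁆ D
  cent : V ⊓ 𝐂 D ≤ 𝐂 A

theorem ff_res_le {V F H : Subgroup G} (h : FF 2 V F H) (hg : FF.Gen 2 V H) {X : Subgroup G}
    (hX : H ≤ 𝐍 X) (hall : ∀ A, A ≤ H → MinOff 2 V A → ⁅F, A⁆ ≤ X) : 𝐑 H ≤ X := by
  have c1 : ∀ A, A ≤ H → MinOff 2 V A → ⁅A, H⁆ ≤ X := fun A h1 h2 => by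
    have : H ≤ (⁅F, A⁆ ⊔ A) ⊔ (H ⊓ 𝐂 ⁅V, ⁅F, A⁆ ⊔ A⁆) := (h.E_sup_cent hg h1 h2).ge
    refine (commutator_mono le_rfl this).trans (comm_sup_le' (comm_sup_le' ?_ ?_ ?_ (h1.trans hX)) ?_
      ((h.comm_sup_le_H h1).trans hX) (inf_le_left.trans hX))
    · exact (comm_le_right (right_le_normalizer_comm F A)).trans (hall A h1 h2)
    · rw [comm_eq_bot_iff.2 (elemAb_le_cent (h.elemAb h1 h2.best))]; exact bot_le
    · exact (le_sup_left.trans (h.comm_sup_le_H h1)).trans hX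
    · exact ((commutator_mono le_sup_right le_rfl).trans (h.comm_E_cent hg h1 h2).le).trans bot_le
  have hq := fun {Y : Subgroup G} (hY : Y ≤ H) => BG1.quo_cent_iff (hY.trans hX) hX
  have c2 : H ≤ mpre (qmk X) (𝐂 (mim (qmk X) H)) := h.le_of_gen hg fun A h1 h2 =>
    (BG1.mim_le_iff (h1.trans hX)).1 ((hq h1).2 (c1 A h1 h2))
  have c3 : IsMulCommutative (mim (qmk X) H) :=
    isMulCommutative_iff_le_cent.2 ((BG1.mim_le_iff hX).2 c2)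
  have c4 : H ≤ mpre (qmk X) (omegaOne 2 (mim (qmk X) H)) := h.le_of_gen hg fun A h1 h2 =>
    (BG1.mim_le_iff (h1.trans hX)).1 (le_om (BG1.mim_mono _ h1)
      (BG1.isElementaryAbelian_mim _ (h.elemAb h1 h2.best)).2)
  refine res_le_of_pow_mem fun x hx => ⟨1, ?_⟩
  rw [← BG1.qmk_eq_one_iff (pow_mem (hX hx) _), pow_one]
  have := pow_eq_one_of_mem_om c3 ((BG1.mem_mpre_iff (hX hx)).1 (c4 hx))
  rwa [← map_pow] at this

theorem exists_facs {V L : Subgroup G} (hV : PRed 2 V L) (hs : IsPSolvable 2 L) :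
    ∃ s : Set (Subgroup G × Subgroup G), (∀ x ∈ s, Fac V (𝐉 L) x.1 x.2) ∧
      (∀ x ∈ s, ∀ y ∈ s, x.1 = y.1 ∨ ⁅x.1 ⊔ x.2, y.1 ⊔ y.2⁆ ≤ 𝐂 V) ∧
      (∀ X, 𝐉 L ⊓ 𝐂 V ≤ X → (∀ x ∈ s, x.1 ≤ X) → 𝐑 (𝐉 L) ≤ X) ∧
      (∀ X, 𝐉 L ⊓ 𝐂 V ≤ X → (∀ x ∈ s, x.2 ≤ X) → 𝐉 L ≤ X) := by
  obtain ⟨G', _, _, i, π, h⟩ := exists_model V
  have hE : 𝐉 L ≤ 𝐍 V := (Transfer.thompsonOf_le L).trans hV.norm
  have hf := KS9.ff_thompson h hV hs
  have hg := KS9.gen_thompson h hV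
  generalize (pPrimeCore 2 (mim π (𝐉 L))).map (mim π (𝐉 L)).subtype = F at hf
  generalize 𝐉 L = E at *
  have m1 : ∀ Y, Y ≤ mim π E → mim π (E ⊓ mpre π Y) = Y := fun Y hY => by
    rw [BG1.mim_inf_mpre, inf_eq_right.2 hY]
  have m2 : ∀ Y, E ⊓ 𝐂 V ≤ E ⊓ mpre π Y := fun Y =>
    inf_le_inf_left _ (h.ker ▸ BG1.mker_le_mpre π Y)
  have m3 : ∀ {A}, A ≤ mim π E → ⁅F, A⁆ ≤ mim π E := fun hA =>
    le_sup_left.trans (hf.comm_sup_le_H hA)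
  have m4 : ∀ Y, E ⊓ mpre π Y ≤ 𝐍 V := fun Y => inf_le_left.trans hE
  have m5 : ∀ {A}, A ≤ mim π E → MinOff 2 (mim i V) A → mim π E ≤ 𝐍 ⁅F, A⁆ := fun h1 h2 => by
    rw [← hf.inf_comm_sup h1 h2]; exact le_normalizer_inf hf.normF (hf.norm_E hg h1 h2)
  have m6 : ∀ X, E ⊓ 𝐂 V ≤ X → ∀ Y, Y ≤ E → mim π Y ≤ mim π (E ⊓ X) → Y ≤ X := fun X hX Y hY e =>
    (h.le_of_pi_le hE hY inf_le_left (le_inf inf_le_left hX) e).trans inf_le_right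
  refine ⟨{x | ∃ A, A ≤ mim π E ∧ MinOff 2 (mim i V) A ∧
    x = (E ⊓ mpre π ⁅F, A⁆, E ⊓ mpre π A)}, ?_, ?_, ?_, ?_⟩
  · rintro _ ⟨A, h1, h2, rfl⟩
    obtain ⟨-, i2, i3⟩ := hf.irr_Q h1 h2
    have e1 := m1 _ (m3 h1)
    have e2 := h.comm le_rfl (m4 ⁅F, A⁆)
    rw [e1] at e2
    have n1 : ⁅V, E ⊓ mpre π ⁅F, A⁆⁆ ≤ V := comm_le_left (m4 _)
    refine ⟨inf_le_left, inf_le_left, m2 _, ?_, ?_, ?_, ?_, ?_, ?_⟩
    · rw [← h.ker, ← BG1.card_mim (m4 _), e1, hf.card_Q h1 h2]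
    · refine h.le_of_pi_le hE inf_le_left (sup_le (comm_le_of_le inf_le_left inf_le_left)
        inf_le_left) le_sup_right (le_trans ?_ (BG1.mim_mono _ le_sup_left))
      rw [BG1.mim_commutator (m4 _) (m4 _), e1, m1 _ h1]
      exact (Coprime.commutator_commutator_eq (h1.trans hf.normF)
        (coprime_card_of_pPrime hf.cop (hf.isPGroup_minOff h1 h2)).symm).ge
    · exact le_normalizer_inf le_normalizer (BG1.le_norm_mpre hE (m5 h1 h2))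
    · rw [← h.card_i n1, ← e2, i2, hf.card_W h1 h2]; rfl
    · intro U u1 u2
      rcases i3 (mim i U) (e2 ▸ BG1.mim_mono _ u1) (e1 ▸ (h.norm_iff (u1.trans n1) (m4 _)).2 u2)
        with e | e
      · exact Or.inl ((h.eq_bot_iff (u1.trans n1)).1 e)
      · exact Or.inr ((h.inj_iff (u1.trans n1) n1).1 (e.trans e2))
    · refine le_cent_symm ((h.cent_iff inf_le_left (m4 _)).1 ?_)
      rw [← h.inf_cent le_rfl (m4 _), e1, m1 _ h1, hf.cent_Q h1 h2]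
      exact le_cent_symm (inf_le_right.trans (cent_anti le_sup_right))
  · rintro _ ⟨A, h1, h2, rfl⟩ _ ⟨B, h3, h4, rfl⟩
    by_cases e : ⁅F, A⁆ ⊔ A = ⁅F, B⁆ ⊔ B
    · left
      have : ⁅F, A⁆ = ⁅F, B⁆ := by rw [← hf.inf_comm_sup h1 h2, e, hf.inf_comm_sup h3 h4]
      simp only [this]
    · right
      rw [← h.ker, ← BG1.mim_cent_iff (sup_le (m4 _) (m4 _)) (sup_le (m4 _) (m4 _)),
        BG1.mim_sup (m4 _) (m4 _), BG1.mim_sup (m4 _) (m4 _), m1 _ h1, m1 _ h3, m1 _ (m3 h1),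
        m1 _ (m3 h3)]
      exact le_cent_symm (hf.E_dichotomy h1 h2 h3 h4 e).2
  · intro X x1 x2
    refine m6 X x1 _ (res_le _) ?_
    rw [KS9.mim_res _ hE]
    refine (ff_res_le hf hg (X := ⨆ A : {A // A ≤ mim π E ∧ MinOff 2 (mim i V) A}, ⁅F, A.1⁆)
      (le_normalizer_iSup fun A => m5 A.2.1 A.2.2)
      fun A h1 h2 => le_iSup (fun A : {A // A ≤ mim π E ∧ MinOff 2 (mim i V) A} => ⁅F, A.1⁆)
        ⟨A, h1, h2⟩).trans (iSup_le fun A => ?_)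
    rw [← m1 _ (m3 A.2.1)]
    exact BG1.mim_mono _ (le_inf inf_le_left (x2 _ ⟨A, A.2.1, A.2.2, rfl⟩))
  · intro X x1 x2
    refine m6 X x1 _ le_rfl (hf.le_of_gen hg fun A h1 h2 => ?_)
    rw [← m1 _ h1]
    exact BG1.mim_mono _ (le_inf inf_le_left (x2 _ ⟨A, h1, h2, rfl⟩))

theorem pair_dich {V L H E₁ E₂ : Subgroup G} (hV : PRed 2 V L) (hH : H ≤ L) (hL : L ≤ H ⊔ 𝐂 V)
    (hs₁ : SubnormalIn H E₁) (hs₂ : SubnormalIn L E₂) (hi₁ : Irr ⁅V, E₁⁆ E₁) (hi₂ : Irr ⁅V, E₂⁆ E₂)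
    (h12 : ¬ ⁅V, E₁⁆ ≤ ⁅V, E₂⁆) (h21 : ¬ ⁅V, E₂⁆ ≤ ⁅V, E₁⁆) (hc₁ : 2 < (𝐂 V).relIndex E₁)
    (hc₂ : 2 < (𝐂 V).relIndex E₂) : E₂ ≤ 𝐂 ⁅V, E₁⁆ := by
  obtain ⟨G', _, _, i, π, h⟩ := exists_model V
  have hO := h.op_eq_bot hV.norm hV.red
  have n₁ : E₁ ≤ 𝐍 V := hs₁.le.trans (hH.trans hV.norm)
  have n₂ : E₂ ≤ 𝐍 V := hs₂.le.trans hV.norm
  have e : mim π H = mim π L := le_antisymm (BG1.mim_mono _ hH) (by
    rw [BG1.mim_le_mim_iff hV.norm (hH.trans hV.norm), h.ker, sup_comm]; exact hL)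
  have irr : ∀ {X}, X ≤ 𝐍 V → Irr ⁅V, X⁆ X → Irr ⁅mim i V, mim π X⁆ (mim π X) := fun {X} n hi => by
    intro U u1 u2
    rw [h.comm le_rfl n] at u1 ⊢
    obtain ⟨U, u3, rfl⟩ := Model.exists_eq (u1.trans (BG1.mim_mono _ (comm_le_left n)))
    rcases hi U ((h.le_iff u3 (comm_le_left n)).1 u1) ((h.norm_iff u3 n).1 u2) with e | e
    · left; rw [e, BG1.mim_bot]
    · right; rw [e]
  have := (KS9.pair_dichotomy (Model.elemAb hV.elemAb) (h.norm L) (h.faith L) hO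
    (e ▸ KS9.subnormalIn_mim π hs₁) (KS9.subnormalIn_mim π hs₂) (irr n₁ hi₁) (irr n₂ hi₂)
    (by rwa [h.comm le_rfl n₁, h.comm le_rfl n₂, h.le_iff (comm_le_left n₁) (comm_le_left n₂)])
    (by rwa [h.comm le_rfl n₁, h.comm le_rfl n₂, h.le_iff (comm_le_left n₂) (comm_le_left n₁)])
    (by rwa [BG1.card_mim n₁, h.ker]) (by rwa [BG1.card_mim n₂, h.ker])).2.2.2.1
  rwa [comm_eq_bot_iff', h.comm le_rfl n₁, h.cent_iff (comm_le_left n₁) n₂] at this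

end Cfsg.Lib.Amalg.JC
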