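import Cfsg.Agent.Lib.Amalg.JComp2

/-! `J(T)`-components in the overgroups `L ∈ ℒ(T)` (Kurzweil–Stellmacher 12.2.2–12.2.5). -/

set_option autoImplicit false
set_option linter.unusedSectionVars false

namespace Cfsg.Lib.Amalg.JC

open Subgroup
open Cfsg.Lib.Core hiding isPGroup_subgroupOf isPGroup_subgroupOf_iff isPGroup_map_subtype_iff
  isPGroup_zpowers_of_orderOf
open Cfsg.Lib.BG1 (mim mpre mker qmk)
open Cfsg.Lib.Transfer (maxEl)
open Cfsg.Lib.KS9 (Irr)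
open scoped commutatorElement

/-- `⟨Ω₁ Z(T)^L⟩` -/
scoped notation:max "𝐕 " X:max => sylowCenterClosure 2 X

/-- `ZN`-groups of local characteristic two. -/
structure ZN (G : Type*) [Group G] : Prop where
  chr : ∀ P : Subgroup G, IsPGroup 2 P → P ≠ ⊥ → CharP 2 (𝐍 P)
  sol : ∀ P : Subgroup G, IsPGroup 2 P → P ≠ ⊥ → Group.IsSolvable (𝐍 P)
  z : ∀ S : Subgroup G, Syl 2 S ⊤ → 𝐂 (𝛀 S) ≤ 𝐍 S

variable {G : Type*} [Group G] [Finite G]

theorem om_eq (X : Subgroup G) : omegaCenterOf X = 𝛀 X := by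
  unfold omegaCenterOf omegaOneCenter; rfl

theorem zn_of (hL : IsCharacteristicTwoType G)
    (hN : ∀ N : Subgroup G, IsTwoLocal N → Group.IsSolvable N)
    (hZ : ∀ S : Sylow 2 G, 𝐂 (omegaCenterOf (S : Subgroup G)) ≤ 𝐍 (S : Subgroup G)) : ZN G :=
  ⟨fun P h1 h2 => charP_iff.2 (hL.2 P h1 h2), fun P h1 h2 => hN _ ⟨P, h1, h2, rfl⟩, fun S hS => by
    obtain ⟨S, rfl⟩ := syl_top_iff.1 hS
    rw [← om_eq]; exact hZ S⟩

/-- `T ≠ 1` is a Sylow `2`-subgroup of `L`, and `C_G(O₂(L)) ≤ O₂(L)`. -/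
structure LL (T L : Subgroup G) : Prop where
  syl : Syl 2 T L
  cent : 𝐂 (𝐎 L) ≤ 𝐎 L
  ne : T ≠ ⊥

theorem J_le_of_cj_le {T J : Subgroup G} {g : G} (h : cj g (𝐉 T) ≤ T) : cj g (𝐉 T) = 𝐉 T := by
  refine eq_of_le_of_card_le' ?_ (card_cj _ _).ge
  rw [cj_le_iff, Transfer.thompsonOf_le_iff]
  intro A hA
  rw [← cj_le_iff]
  exact Transfer.le_thompsonOf (Transfer.mem_maxEl_of_card_le hA
    ((cj_mono g (Transfer.le_thompsonOf hA)).trans h) (elemAb_map hA.2.1 _) (card_cj _ _).ge)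

/-- `J(T)` is the Thompson subgroup of every `2`-subgroup of `L` containing it. -/
theorem J_eq_of_syl {T L P : Subgroup G} (h : Syl 2 T L) (hP : IsPGroup 2 P) (hle : P ≤ L)
    (hJ : 𝐉 T ≤ P) : 𝐉 P = 𝐉 T := by
  obtain ⟨g, -, hg⟩ := h.exists_conj_le hP hle
  have e := J_le_of_cj_le (J := T) ((cj_mono g hJ).trans hg)
  have := Transfer.thompsonOf_eq_of_le (e.ge.trans (cj_mono g hJ)) hg
  rwa [← cj_J, ← e, cj_inj] at this

theorem ZN.cent_le (z : ZN G) {P L : Subgroup G} (hP : IsPGroup 2 P) (hne : P ≠ ⊥) (e : L = 𝐍 P) :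
    𝐂 (𝐎 L) ≤ 𝐎 L := by
  subst e
  exact (z.chr P hP hne).le ((cent_anti (le_op_normalizer hP)).trans (cent_le_norm P)) le_rfl

theorem K3.comm_le_W {K V : Subgroup G} (h : K3 K) (hV : IsElementaryAbelian 2 V) (h1 : K ≤ 𝐍 V)
    (h2 : V ≤ 𝐍 K) (h3 : 𝐎 K ≤ 𝐂 V) : ⁅V, K⁆ ≤ wOf K := by
  have a1 := comm_le_left h1
  rw [← h.comm_comm (elemAb_isPGroup hV) h1]
  exact commutator_mono (le_omZ (h.le_op ((elemAb_isPGroup hV).to_le a1) (comm_le_right h2))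
    (a1.trans (le_cent_symm h3)) fun a ha => hV.2 a (a1 ha)) le_rfl

theorem Cmp.comm_eq_W {J K V : Subgroup G} (h : Cmp J K) (hV : IsElementaryAbelian 2 V)
    (h1 : K ≤ 𝐍 V) (h2 : V ≤ 𝐍 K) (h3 : 𝐎 K ≤ 𝐂 V) (h4 : ¬ K ≤ 𝐂 V) : ⁅V, K⁆ = wOf K :=
  (h.irr _ (h.comm_le_W hV h1 h2 h3) (right_le_normalizer_comm V K)).resolve_left
    fun e => h4 (comm_eq_bot_iff'.1 e)

theorem K3.relIndex_eq {K C : Subgroup G} (h : K3 K) (h1 : 𝐎 K ≤ C) (h2 : ¬ K ≤ C) :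
    C.relIndex K = 3 := by
  have : C ⊓ K = 𝐎 K := le_antisymm (by
    by_contra e; exact h2 (h.le_of h1 (by rwa [inf_comm]))) (le_inf h1 (op_le K))
  rw [← inf_relIndex_right, this, h.idx]

namespace LL
variable {T T' L P K K' X : Subgroup G}

theorem op_ne_bot (h : LL T L) : 𝐎 L ≠ ⊥ := fun e => by
  have := h.cent
  rw [e, centralizer_bot] at this
  exact h.ne (eq_bot_iff.2 (le_top.trans this))

theorem charP (h : LL T L) : CharP 2 L := inf_le_right.trans h.cent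

theorem pRed (h : LL T L) : PRed 2 (𝐕 L) L := h.charP.pRed_scc

theorem normV (h : LL T L) : L ≤ 𝐍 (𝐕 L) := h.pRed.norm

theorem normC (h : LL T L) : L ≤ 𝐍 (L ⊓ 𝐂 (𝐕 L)) :=
  le_normalizer_inf le_normalizer (h.normV.trans (normalizer_le_normalizer_centralizer _))

theorem solv (z : ZN G) (h : LL T L) : IsPSolvable 2 L :=
  haveI := z.sol _ (op_isPGroup L) h.op_ne_bot
  isPSolvable_of_le Nat.prime_two (isPSolvable_of_isSolvable Nat.prime_two) (le_norm_op (p := 2) L)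

theorem of_syl (h : LL T L) (hT : Syl 2 T' L) : LL T' L :=
  ⟨hT, h.cent, fun e => h.op_ne_bot (eq_bot_iff.2 (e ▸ hT.op_le))⟩

theorem conj (h : LL T L) (g : G) : LL (cj g T) (cj g L) :=
  ⟨h.syl.conj g, by rw [← cj_op, ← cj_centralizer]; exact cj_mono g h.cent,
    fun e => h.ne (cj_eq_bot_iff.1 e)⟩

theorem of_le (h : LL T L) (hT : Syl 2 T' X) (h1 : 𝐎 L ≤ X) (h2 : X ≤ L) : LL T' X :=
  have := op_le_op_of_le h2 h1
  ⟨hT, (cent_anti this).trans (h.cent.trans this),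
    fun e => h.op_ne_bot (eq_bot_iff.2 (e ▸ this.trans hT.op_le))⟩

theorem om_le (h : LL T L) (hP : T ≤ P) : 𝛀 P ≤ 𝛀 T :=
  omZ_le_omZ hP (((omZ_le_cent P).trans (cent_anti (h.syl.op_le.trans hP))).trans
    (h.cent.trans h.syl.op_le))

theorem cent_norm (z : ZN G) (h : LL T L) : L ⊓ 𝐂 (𝐕 L) ≤ 𝐍 T := by
  obtain ⟨S, s1, s2⟩ := exists_syl_ge h.syl.isPGroup le_top
  have e : L ⊓ S = T := le_antisymm (h.syl.le_of_le (le_inf h.syl.le s2) inf_le_left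
    (s1.isPGroup.to_le inf_le_right)) (le_inf h.syl.le s2)
  rw [← e]
  exact le_normalizer_inf (le_normalizer_of_le inf_le_left) (inf_le_right.trans
    ((cent_anti ((h.om_le s2).trans h.syl.omZ_le_scc)).trans (z.z S s1)))

theorem le_op (z : ZN G) (h : LL T L) (hP : IsPGroup 2 P) (h1 : P ≤ L) (h2 : P ≤ 𝐂 (𝐕 L)) :
    P ≤ 𝐎 L :=
  (pCl_of_syl (h.syl.inf_cent h.normV) (le_normalizer_inf (h.cent_norm z) (inf_le_left.trans
    (h.normV.trans (normalizer_le_normalizer_centralizer _))))).le_op inf_le_left h.normC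
    (le_inf h1 h2) hP

theorem comm_cent (z : ZN G) (h : LL T L) (hP : IsPGroup 2 P) (h1 : P ≤ L) :
    ⁅L ⊓ 𝐂 (𝐕 L), P⁆ ≤ 𝐎 L := by
  obtain ⟨S, s1, s2⟩ := exists_syl_ge hP h1
  have := comm_le_inf (s1.le.trans h.normC) ((h.of_syl s1).cent_norm z)
  exact (commutator_mono le_rfl s2).trans (h.le_op z (s1.isPGroup.to_le (this.trans inf_le_right))
    (this.trans (inf_le_left.trans inf_le_left)) (this.trans (inf_le_left.trans inf_le_right)))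

theorem comm_cent_J (z : ZN G) (h : LL T L) : ⁅L ⊓ 𝐂 (𝐕 L), 𝐉 L⁆ ≤ 𝐎 L := by
  rw [Transfer.thompsonOf_eq, sSup_eq_iSup', commutator_comm]
  exact comm_iSup_le (fun A => (commutator_comm _ _).le.trans
    (h.comm_cent z (elemAb_isPGroup A.2.2.1) A.2.1)) fun A => A.2.1.trans (le_norm_op L)

theorem normE (L : Subgroup G) : L ≤ 𝐍 (𝐉 L) := Transfer.le_normalizer_thompsonOf L

theorem normR (L : Subgroup G) : L ≤ 𝐍 (𝐑 (𝐉 L)) := (normE L).trans (norm_le_norm_res _)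

theorem R_le (L : Subgroup G) : 𝐑 (𝐉 L) ≤ L := (res_le _).trans (Transfer.thompsonOf_le L)

theorem comm_ker (z : ZN G) (h : LL T L) (hX : X ≤ 𝐉 L) : ⁅𝐉 L ⊓ 𝐂 (𝐕 L), X⁆ ≤ 𝐎 L :=
  (commutator_mono (inf_le_inf_right _ (Transfer.thompsonOf_le L)) hX).trans (h.comm_cent_J z)

theorem fac_comm (z : ZN G) (h : LL T L) {D A : Subgroup G} (f : Fac (𝐕 L) (𝐉 L) D A) :
    ⁅D, D⁆ ≤ 𝐎 L := by
  have hEL := Transfer.thompsonOf_le (p := 2) L
  have hn : D ≤ 𝐍 (𝐎 L) := f.leD.trans (hEL.trans (le_norm_op L))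
  obtain ⟨d, hd, hd'⟩ : ∃ d ∈ D, d ∉ 𝐂 (𝐕 L) := by
    by_contra e
    push Not at e
    have := f.idx
    rw [relIndex_eq_one.2 e] at this; omega
  have z1 : zpowers d ≤ D := zpowers_le.2 hd
  have e : D ≤ zpowers d ⊔ (𝐉 L ⊓ 𝐂 (𝐕 L)) := le_of_relIndex_prime Nat.prime_three f.idx
    (le_sup_of_le_right (le_inf (inf_le_right.trans f.leD) inf_le_left))
    fun e => hd' (e ⟨hd, mem_sup_left (mem_zpowers d)⟩)
  refine (commutator_mono e le_rfl).trans (comm_sup_le ?_ (h.comm_ker z f.leD) (z1.trans hn)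
    (f.ker.trans hn))
  refine (commutator_mono le_rfl e).trans (comm_sup_le' ?_ ?_ (z1.trans hn) (f.ker.trans hn))
  · rw [comm_eq_bot_iff.2 (isMulCommutative_iff_le_cent.1 inferInstance)]; exact bot_le
  · rw [commutator_comm]; exact h.comm_ker z (z1.trans f.leD)

theorem fac_comm' (z : ZN G) (h : LL T L) {D A D' A' : Subgroup G} (f : Fac (𝐕 L) (𝐉 L) D A)
    (f' : Fac (𝐕 L) (𝐉 L) D' A') (hc : ⁅D ⊔ A, D' ⊔ A'⁆ ≤ 𝐂 (𝐕 L)) : ⁅D, D'⁆ ≤ 𝐎 L := by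
  have hn : 𝐉 L ≤ 𝐍 (𝐎 L) := (Transfer.thompsonOf_le L).trans (le_norm_op L)
  have k : ∀ {X Y Z}, X ≤ D ⊔ A → Y ≤ D' ⊔ A' → Z ≤ 𝐉 L → ⁅⁅X, Y⁆, Z⁆ ≤ 𝐎 L := fun h1 h2 h3 =>
    (commutator_mono (le_inf (comm_le_of_le (h1.trans (sup_le f.leD f.leA))
      (h2.trans (sup_le f'.leD f'.leA))) ((commutator_mono h1 h2).trans hc)) le_rfl).trans
      (h.comm_ker z h3)
  refine (commutator_mono f.comm le_rfl).trans (comm_sup_le ?_ (h.comm_ker z f'.leD)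
    ((comm_le_of_le f.leD f.leA).trans hn) (inf_le_left.trans hn))
  refine PGrp.three_subgroups_of_le_normalizer (f.leD.trans hn) (f.leA.trans hn) (f'.leD.trans hn)
    (k le_sup_right le_sup_left f.leD) ?_
  rw [commutator_comm D']; exact k le_sup_left le_sup_left f.leA

theorem res_comm (z : ZN G) (h : LL T L) : ⁅𝐑 (𝐉 L), 𝐑 (𝐉 L)⁆ ≤ 𝐎 L := by
  obtain ⟨s, s1, s2, s3, -⟩ := exists_facs h.pRed (h.solv z)
  have hn : 𝐉 L ≤ 𝐍 (𝐎 L) := (Transfer.thompsonOf_le L).trans (le_norm_op L)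
  have k : ∀ Y, Y ≤ 𝐉 L → (∀ x ∈ s, ⁅x.1, Y⁆ ≤ 𝐎 L) → ⁅𝐑 (𝐉 L), Y⁆ ≤ 𝐎 L := fun Y y1 y2 => by
    rw [← BG1.quo_cent_iff ((res_le _).trans hn) (y1.trans hn), BG1.mim_le_iff ((res_le _).trans hn)]
    refine s3 _ ?_ fun x hx => ?_
    · rw [← BG1.mim_le_iff (inf_le_left.trans hn), BG1.quo_cent_iff (inf_le_left.trans hn)
        (y1.trans hn)]
      exact h.comm_ker z y1
    · rw [← BG1.mim_le_iff ((s1 x hx).leD.trans hn), BG1.quo_cent_iff ((s1 x hx).leD.trans hn)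
        (y1.trans hn)]
      exact y2 x hx
  refine k _ (res_le _) fun x hx => ?_
  rw [commutator_comm]
  refine k _ (s1 x hx).leD fun y hy => ?_
  rcases s2 y hy x hx with e | e
  · rw [e]; exact h.fac_comm z (s1 x hx)
  · exact h.fac_comm' z (s1 y hy) (s1 x hx) e

theorem E_le (hT : Syl 2 T L) : 𝐉 L ≤ 𝐑 (𝐉 L) ⊔ 𝐉 T := by
  rw [Transfer.thompsonOf_le_iff]
  intro A hA
  have hs := hT.inf_normal (Transfer.thompsonOf_le L) (normE L)
  obtain ⟨g, g1, g2⟩ := hs.exists_le_conj (elemAb_isPGroup hA.2.1) (Transfer.le_thompsonOf hA)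
  obtain ⟨r, hr, t, ht, rfl⟩ := hs.mem_res_mul g1
  rw [cj_mul, cj_of_mem ht, le_cj_iff] at g2
  have hA' : cj r⁻¹ A ∈ maxEl 2 L := by
    have := Transfer.cj_mem_maxEl (g := r⁻¹) hA
    rwa [show Transfer.cj r⁻¹ L = L from cj_of_mem (inv_mem (R_le L hr))] at this
  have := Transfer.le_thompsonOf (Transfer.mem_maxEl_of_le hA' (g2.trans inf_le_left) hT.le)
  rw [cj_le_iff, inv_inv] at this
  exact this.trans (cj_le_of_le_of_mem le_sup_right (mem_sup_left hr))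

theorem L_le (hT : Syl 2 T L) : L ≤ 𝐑 (𝐉 L) ⊔ (L ⊓ 𝐍 (𝐉 T)) := fun g hg => by
  obtain ⟨n, hn, m, hm, rfl⟩ := KS9.frattini_thompson hT (Transfer.thompsonOf_le L) (normE L)
    (KS9.syl_thompson_le hT) hg
  refine mul_mem ((E_le hT).trans (sup_le_sup_left ?_ _) hn) (mem_sup_right hm)
  exact le_inf ((Transfer.thompsonOf_le T).trans hT.le) le_normalizer

theorem isPGroup_J (h : LL T L) : IsPGroup 2 (𝐉 T) := h.syl.isPGroup.to_le (Transfer.thompsonOf_le T)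

theorem J_le (h : LL T L) : 𝐉 T ≤ L := (Transfer.thompsonOf_le T).trans h.syl.le

theorem op_norm_J (h : LL T L) : 𝐎 L ≤ 𝐍 (𝐉 T) :=
  h.syl.op_le.trans (Transfer.le_normalizer_thompsonOf T)

section
variable (z : ZN G) (h : LL T L) (hK : Cmp (𝐉 T) K) (hKL : K ≤ L)
include h hK hKL

theorem le_R : K ≤ 𝐑 (𝐉 L) :=
  hK.le_res (hK.le_of_J_le (hKL.trans (normE L)) (KS9.syl_thompson_le h.syl))

theorem op_norm : 𝐎 L ≤ 𝐍 K := hK.le_norm h.isPGroup_J (hKL.trans (le_norm_op L)) h.op_norm_J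

include z

theorem R_norm : 𝐑 (𝐉 L) ≤ 𝐍 K := by
  have : 𝐑 (𝐉 L) ≤ 𝐍 (K ⊔ 𝐎 L) := le_normalizer_of_comm_le (le_sup_of_le_right (comm_sup_le
    ((commutator_mono (h.le_R hK hKL) le_rfl).trans (h.res_comm z))
    (comm_le_left ((R_le L).trans (le_norm_op L))) (hKL.trans (le_norm_op L)) le_normalizer))
  have := this.trans (norm_le_norm_res (p := 2) _)
  rwa [hK.res_sup (op_isPGroup L) (h.op_norm hK hKL)] at this

theorem E_norm : 𝐉 L ≤ 𝐍 K := (E_le h.syl).trans (sup_le (h.R_norm z hK hKL) hK.norm)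

theorem subnormal : SubnormalIn L K :=
  (SubnormalIn.of_le_normalizer (h.le_R hK hKL) (h.R_norm z hK hKL)).trans
    (SubnormalIn.of_le_normalizer (R_le L) (normR L))

theorem op_le_op : 𝐎 K ≤ 𝐎 L := (h.subnormal z hK hKL).pCoreOf_le

theorem not_cent : ¬ K ≤ 𝐂 (𝐕 L) := fun e => hK.not_le (op_isPGroup L) (hK.comm.ge.trans
  ((commutator_mono (le_inf hKL e) le_rfl).trans (h.comm_cent z h.isPGroup_J h.J_le)))

theorem perm {g : G} (hg : g ∈ L) : Cmp (𝐉 T) (cj g K) := by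
  obtain ⟨n, hn, r, hr, rfl⟩ := (mem_sup_of_le_normalizer (inf_le_left.trans (normR L))).1
    ((L_le h.syl).trans (sup_comm _ _).le hg)
  rw [cj_mul, cj_of_mem_normalizer (h.R_norm z hK hKL hr)]
  exact hK.conj' hn.2

theorem W_eq : ⁅𝐕 L, K⁆ = wOf K :=
  hK.comm_eq_W h.pRed.elemAb (hKL.trans h.normV) (h.pRed.le_op.trans (h.op_norm hK hKL))
    ((h.op_le_op z hK hKL).trans h.pRed.op_le_cent) (h.not_cent z hK hKL)

theorem le_of_le_sup_cent (hK' : Cmp (𝐉 T) K') (e : K' ≤ K ⊔ (L ⊓ 𝐂 (𝐕 L))) : K' ≤ K := by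
  refine hK'.le_of_le_sup (op_isPGroup L) (h.op_norm hK hKL) (hK'.comm.ge.trans
    ((commutator_mono e le_rfl).trans (comm_sup_le (hK.comm.le.trans le_sup_left)
    ((h.comm_cent z h.isPGroup_J h.J_le).trans le_sup_right) (le_normalizer_of_le le_sup_left) ?_)))
  refine le_normalizer_of_comm_le' (le_sup_of_le_right (comm_sup_le' ?_
    (comm_le_right (inf_le_left.trans (le_norm_op L))) (hKL.trans (le_norm_op L)) le_normalizer))
  exact (commutator_mono le_rfl ((h.le_R hK hKL).trans (res_le _))).trans (h.comm_cent_J z)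

theorem pair_le (hK' : Cmp (𝐉 T) K') (hKL' : K' ≤ L) (e : wOf K' = wOf K) : K' ≤ K := by
  have hR : K ⊔ K' ≤ 𝐑 (𝐉 L) := sup_le (h.le_R hK hKL) (h.le_R hK' hKL')
  have n1 := hR.trans (h.R_norm z hK hKL)
  have n2 := n1.trans (norm_le_norm_W K)
  have n3 : K ⊔ K' ≤ 𝐍 ((K ⊔ K') ⊓ 𝐂 (wOf K)) :=
    le_normalizer_inf le_normalizer (n2.trans (normalizer_le_normalizer_centralizer _))
  have i1 : (𝐂 (wOf K)).relIndex (K ⊔ K') ∣ 3 * 2 :=
    KS9.relIndex_dvd_of_plane (p := 2) (elemAb_W K) hK.card n2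
  have i2 : ((K ⊔ K') ⊓ 𝐂 (wOf K)).relIndex K = 3 := hK.relIndex_eq
    (le_inf ((op_le K).trans le_sup_left) (op_le_cent_W K)) fun e => hK.not_le_cent (e.trans inf_le_right)
  have q : ⁅⁅𝐕 L, (K ⊔ K') ⊓ 𝐂 (wOf K)⁆, (K ⊔ K') ⊓ 𝐂 (wOf K)⁆ = ⊥ := by
    rw [comm_eq_bot_iff']
    refine inf_le_right.trans (cent_anti ((commutator_mono le_rfl inf_le_left).trans ?_))
    rw [KS9.comm_sup_eq (hKL.trans h.normV) (hKL'.trans h.normV), h.W_eq z hK hKL,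
      h.W_eq z hK' hKL', e, sup_idem]
  rw [← inf_relIndex_left] at i1
  have x1 : (K ⊔ K') ⊓ 𝐂 (wOf K) ≤ K ⊔ K' := inf_le_left
  generalize (K ⊔ K') ⊓ 𝐂 (wOf K) = X at *
  rw [← relIndex_mul_relIndex X (K ⊔ X) _ le_sup_right (sup_le le_sup_left x1),
    relIndex_sup_of_le_normalizer (le_sup_left.trans n3), i2] at i1
  obtain ⟨n, -, i3⟩ := (Nat.dvd_prime_pow Nat.prime_two (m := 1)).1
    (Nat.dvd_of_mul_dvd_mul_left three_pos i1)
  have a1 : K' ≤ K ⊔ X :=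
    (hK'.le_res le_sup_right).trans (res_le_of_relIndex (le_normalizer_sup n1 n3) i3)
  have xR := x1.trans hR
  have xL := xR.trans (R_le L)
  have xV := xL.trans h.normV
  have s1 : SubnormalIn L (X ⊔ 𝐎 L) := by
    refine (SubnormalIn.of_le_normalizer (sup_le_sup_right xR _) (sup_le ?_
      (le_normalizer_of_le le_sup_right))).trans (SubnormalIn.of_le_normalizer
      (sup_le (R_le L) (op_le L)) (le_normalizer_sup (normR L) (le_norm_op L)))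
    exact le_normalizer_of_comm_le (le_sup_of_le_right (comm_sup_le
      ((commutator_mono xR le_rfl).trans (h.res_comm z))
      (comm_le_left ((R_le L).trans (le_norm_op L))) (xL.trans (le_norm_op L)) le_normalizer))
  have s2 := h.pRed.red_subnormal s1 ((res_mono (sup_le_sup_left h.pRed.op_le_cent _)).trans
    (res_sup_le (xV.trans (normalizer_le_normalizer_centralizer _)) (KS9.res_le_cent_of_pow
      fun a ha => KS9.quad_pow_mem_cent h.pRed.elemAb.2 xV q ha)))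
  exact h.le_of_le_sup_cent z hK hKL hK'
    (a1.trans (sup_le_sup_left (le_inf xL (le_sup_left.trans s2)) _))

theorem pair (hK' : Cmp (𝐉 T) K') (hKL' : K' ≤ L) (hne : wOf K ⊓ wOf K' ≠ ⊥) : K' = K := by
  have e : wOf K = wOf K' := eq_of_le_of_card_le' (hK.le_of_inf_ne_bot
    ((h.le_R hK hKL).trans ((h.R_norm z hK' hKL').trans (norm_le_norm_W K'))) hne)
    (by rw [hK.card, hK'.card])
  exact le_antisymm (h.pair_le z hK hKL hK' hKL' e.symm) (h.pair_le z hK' hKL' hK hKL e)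

theorem mem_norm {g w : G} (hg : g ∈ L) (hw : w ∈ wOf K) (h1 : w ≠ 1) (h2 : g * w * g⁻¹ ∈ wOf K) :
    g ∈ 𝐍 K := by
  refine cj_eq_self_iff.1 (h.pair z hK hKL (h.perm z hK hKL hg) (cj_le_of_le_of_mem hKL hg)
    (ne_bot_iff_exists.2 ⟨g * w * g⁻¹, ⟨h2, ?_⟩, fun e => h1 (by simpa using e)⟩))
  rw [← cj_W]; exact conj_mem_cj g hw

/-- KS 12.2.3 -/
theorem le_norm_of_cent (hX : X ≤ L) (hne : wOf K ⊓ 𝐂 X ≠ ⊥) : X ≤ 𝐍 K := fun g hg => by
  obtain ⟨w, hw, h1⟩ := ne_bot_iff_exists.1 hne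
  refine h.mem_norm z hK hKL (hX hg) hw.1 h1 ?_
  rw [mem_centralizer_comm.1 hw.2 g hg, mul_inv_cancel_right]; exact hw.1

theorem inf_normW_le : L ⊓ 𝐍 (wOf K) ≤ 𝐍 K := fun g hg => by
  obtain ⟨w, hw, h1⟩ := ne_bot_iff_exists.1 hK.W_ne_bot
  exact h.mem_norm z hK hKL hg.1 hw h1 (Coprime.conj_mem le_rfl hg.2 hw)

end

end LL

/-- `K ∈ 𝒦₀`. -/
structure Cmp0 (J K : Subgroup G) : Prop extends Cmp J K where
  k0 : ∀ S, J ≤ S → Syl 2 S (𝐍 (wOf K)) → 𝐉 S = J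

theorem cmp0_iff {T K : Subgroup G} : K ∈ jComponentsZero T ↔ Cmp0 (𝐉 T) K := by
  simp only [jComponentsZero, Set.mem_setOf_eq, cmp_iff, isSylowTwoIn_iff]
  exact ⟨fun ⟨a, b⟩ => ⟨a, b⟩, fun h => ⟨h.toCmp, h.k0⟩⟩

namespace Cmp0
variable {J J' K : Subgroup G}

theorem conj (h : Cmp0 J K) (g : G) : Cmp0 (cj g J) (cj g K) := by
  refine ⟨h.toCmp.conj g, fun S h2 h1 => ?_⟩
  rw [← cj_W, ← cj_normalizer] at h1
  have := h.k0 (cj g⁻¹ S) (cj_le_iff.1 h2) (by simpa only [cj_inv_cj] using h1.conj g⁻¹)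
  rw [← this, cj_J, cj_cj_inv]

theorem exists_ll (z : ZN G) (h : Cmp0 J K) (hJ : IsPGroup 2 J) :
    ∃ S, LL S (𝐍 (wOf K)) ∧ J ≤ S ∧ 𝐉 S = J := by
  obtain ⟨S, s1, s2⟩ := exists_syl_ge hJ h.normW
  exact ⟨S, ⟨s1, z.cent_le (isPGroup_W K) h.W_ne_bot rfl, fun e =>
    h.W_ne_bot (eq_bot_iff.2 (e ▸ (h.W_le_J hJ).trans s2))⟩, s2, h.k0 S s2 s1⟩

/-- KS 12.2.4 -/
theorem norm_eq (z : ZN G) (h : Cmp0 J K) (hJ : IsPGroup 2 J) : 𝐍 K = 𝐍 (wOf K) := by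
  obtain ⟨S, s1, -, s3⟩ := h.exists_ll z hJ
  exact le_antisymm (norm_le_norm_W K) ((le_inf le_rfl le_rfl).trans
    (s1.inf_normW_le z (s3 ▸ h.toCmp) (le_norm_W K)))

theorem exists_conj (z : ZN G) (h : Cmp0 J K) (hJ : IsPGroup 2 J) {g : G}
    (hg : cj g J ≤ 𝐍 (wOf K)) : ∃ l ∈ 𝐍 K, cj l J = cj g J := by
  obtain ⟨S, s1, -, s3⟩ := h.exists_ll z hJ
  obtain ⟨l, l1, l2⟩ := s1.syl.exists_conj_le (isPGroup_cj g hJ) hg
  rw [← cj_mul, ← s3] at l2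
  have := J_le_of_cj_le (J := J) l2
  rw [s3, cj_mul, cj_eq_iff] at this
  exact ⟨l⁻¹, h.norm_eq z hJ ▸ inv_mem l1, this.symm⟩

theorem cmp0_conj (z : ZN G) (h : Cmp0 J K) (hJ : IsPGroup 2 J) {g : G}
    (hg : cj g J ≤ 𝐍 (wOf K)) : Cmp0 (cj g J) K := by
  obtain ⟨l, l1, l2⟩ := h.exists_conj z hJ hg
  have := h.conj l
  rwa [l2, cj_of_mem_normalizer l1] at this

end Cmp0

/-- KS 12.2.5 -/
theorem LL.norm_W_of_subnormal (z : ZN G) {T L J K : Subgroup G} (h : LL T L) (hK : Cmp J K)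
    (hKL : K ≤ L) (hs : SubnormalIn (K ⊔ 𝐉 T) K) : 𝐉 T ≤ 𝐍 (wOf K) := by
  have hJ := h.isPGroup_J
  have hH : K ⊔ 𝐉 T ≤ L := sup_le hKL h.J_le
  have hHQ := hH.trans (le_norm_op (p := 2) L)
  obtain ⟨T₁, t1, t2⟩ := exists_syl_ge hJ
    ((le_sup_right : 𝐉 T ≤ K ⊔ 𝐉 T).trans (le_sup_left : K ⊔ 𝐉 T ≤ (K ⊔ 𝐉 T) ⊔ 𝐎 L))
  have hL : (K ⊔ 𝐉 T) ⊔ 𝐎 L ≤ L := sup_le hH (op_le L)
  have h₁ := h.of_le t1 le_sup_right hL
  have e := J_eq_of_syl h.syl t1.isPGroup (t1.le.trans hL) t2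
  have hQ := op_le_op_of_le (p := 2) hL le_sup_right
  have hQ' := op_isPGroup (p := 2) L
  have hKH : K ≤ K ⊔ 𝐉 T := le_sup_left
  have hJH : 𝐉 T ≤ K ⊔ 𝐉 T := le_sup_right
  generalize K ⊔ 𝐉 T = H at *
  rw [← e] at hJ hJH ⊢
  generalize 𝐎 L = Q at *
  have v1 : 𝐕 (H ⊔ Q) ≤ H := by
    rw [t1.scc_eq]
    refine iSup_le fun x => ?_
    obtain ⟨a, ha, b, hb, e⟩ := (mem_sup_of_le_normalizer hHQ).1 x.2
    rw [← e, cj_mul, cj_of_mem_centralizer (le_cent_omZ T₁ (t1.op_le (hQ hb)))]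
    refine cj_le_of_le_of_mem (le_trans (fun x hx => ?_) hJH) ha
    exact Transfer.mem_thompsonOf_of_centralizes (omZ_le _ hx) ((isElemAb_omZ _).2 x hx)
      (cent_anti (Transfer.thompsonOf_le _) (omZ_le_cent _ hx))
  have o1 : 𝐎 H ≤ 𝐍 K := hK.res ▸ op_le_norm_res hs
  have o2 : 𝐎 H ≤ 𝐎 (H ⊔ Q) := le_sup_left.trans (Amalg.le_op (K := 𝐎 H ⊔ Q) (sup_le_sup_right (op_le H) _)
    (sup_le (le_normalizer_sup (le_norm_op H) hHQ) (le_normalizer_of_le le_sup_right))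
    (isPGroup_sup_of_le_normalizer (op_isPGroup H) hQ' ((op_le H).trans hHQ)))
  have o3 : 𝐎 K ≤ 𝐂 (𝐕 (H ⊔ Q)) := (hs.pCoreOf_le.trans o2).trans h₁.pRed.op_le_cent
  have o4 : 𝐕 (H ⊔ Q) ≤ 𝐍 K :=
    (Amalg.le_op v1 (le_sup_left.trans h₁.normV) h₁.pRed.isPGroup).trans o1
  have hKL₁ : K ≤ H ⊔ Q := hKH.trans le_sup_left
  by_cases hc : K ≤ 𝐂 (𝐕 (H ⊔ Q))
  · refine le_trans (fun j hj => mem_normalizer_of_cj_le ((hK.toK3.conj j).le_of_le_sup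
      (op_isPGroup H) o1 ?_)) (norm_le_norm_W K)
    have c1 := (commutator_mono (le_inf hKL₁ hc) le_rfl).trans (h₁.comm_cent z hJ h₁.J_le)
    have c2 : ⁅𝐉 T₁, K⁆ ≤ 𝐎 H := by
      rw [commutator_comm]
      exact (le_inf c1 (comm_le_of_le hKH hJH)).trans (op_inf_le le_sup_left)
    exact (cj_le_ncl hj).trans ((ncl_eq_comm_sup _ _).le.trans (sup_le (c2.trans le_sup_right)
      le_sup_left))
  have w := hK.comm_eq_W h₁.pRed.elemAb (hKL₁.trans h₁.normV) o4 o3 hc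
  obtain ⟨s, s1, -, -, s4⟩ := exists_facs h₁.pRed (h₁.solv z)
  have hE := KS9.syl_thompson_le t1
  have hEV := (Transfer.thompsonOf_le (p := 2) _).trans h₁.normV
  have wV : wOf K ≤ 𝐕 (H ⊔ Q) := w ▸ comm_le_left (hKL₁.trans h₁.normV)
  by_cases hx : ∃ x ∈ s, wOf K = ⁅𝐕 (H ⊔ Q), x.1⁆
  · obtain ⟨x, x1, x2⟩ := hx
    rw [x2]
    exact hE.trans (le_normalizer_commutator hEV (s1 x x1).norm)
  push Not at hx
  refine hE.trans ((s4 _ (inf_le_right.trans (cent_anti wV)) fun x x1 => ?_).trans (cent_le_norm _))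
  have f := s1 x x1
  have := pair_dich h₁.pRed le_sup_left (sup_le_sup_left (hQ.trans h₁.pRed.op_le_cent) _) hs
    ((SubnormalIn.of_le_normalizer f.leD f.norm).trans (SubnormalIn.of_le_normalizer
      (Transfer.thompsonOf_le _) (LL.normE _))) (w ▸ hK.irr) f.irr
    (fun e => hx x x1 (eq_of_le_of_card_le' (w ▸ e) (by rw [f.card, hK.card])))
    (fun e => hx x x1 (eq_of_le_of_card_le' (w ▸ e) (by rw [f.card, hK.card])).symm)
    (by rw [hK.relIndex_eq o3 hc]; omega) (by rw [f.idx]; omega)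
  rw [w] at this
  exact le_cent_symm ((le_inf wV (le_cent_symm this)).trans f.cent)

end Cfsg.Lib.Amalg.JC
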