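import Cfsg.Agent.Lib.Amalg.JComp3
import Cfsg.Agent.Lib.Amalg.StrongEmb

/-! Existence of `J(T)`-components and Kurzweil–Stellmacher 12.3.2–12.3.4. -/

set_option autoImplicit false
set_option linter.unusedSectionVars false

namespace Cfsg.Lib.Amalg.JC

open Subgroup
open Cfsg.Lib.Core hiding isPGroup_subgroupOf isPGroup_subgroupOf_iff isPGroup_map_subtype_iff
  isPGroup_zpowers_of_orderOf
open Cfsg.Lib.BG1 (mim mpre mker qmk)
open Cfsg.Lib.Transfer (maxEl)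
open Cfsg.Lib.KS9 (Irr)
open scoped commutatorElement

variable {G : Type*} [Group G] [Finite G]

theorem le_cent_of_relIndex_three {V D P : Subgroup G} (hD : D ≤ 𝐍 V)
    (h : (𝐂 V).relIndex D = 3) (hP : IsPGroup 2 P) (hle : P ≤ D) : P ≤ 𝐂 V := by
  have h1 := card_dvd_of_le (BG1.mim_mono (BG1.actHom V) hle)
  rw [BG1.card_mim_actHom (hle.trans hD), BG1.card_mim_actHom hD, h] at h1
  obtain ⟨n, e⟩ := hP.exists_card_eq
  have h2 : (𝐂 V).relIndex P ∣ 2 ^ n := e ▸ relIndex_dvd_card _ _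
  exact relIndex_eq_one.1 (Nat.eq_one_of_dvd_coprimes (Nat.Coprime.pow_left n (by decide)) h2 h1)

namespace LL
variable {T L X D A : Subgroup G}

theorem fac_not_cent (z : ZN G) (h : LL T L) (f : Fac (𝐕 L) (𝐉 L) D A) :
    ¬ ⁅D, 𝐉 T⁆ ≤ 𝐂 (𝐕 L) := fun e => by
  have hEL := Transfer.thompsonOf_le (p := 2) L
  have hC := h.normV.trans (normalizer_le_normalizer_centralizer _)
  have n1 : ¬ D ≤ 𝐂 (𝐕 L) := fun e => by
    have := f.idx; rw [relIndex_eq_one.2 e] at this; omega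
  have d1 : D ≤ 𝐑 D ⊔ (𝐉 L ⊓ 𝐂 (𝐕 L)) := by
    refine le_of_relIndex_prime Nat.prime_three f.idx
      (le_sup_of_le_right (le_inf (inf_le_right.trans f.leD) inf_le_left)) fun e => ?_
    obtain ⟨n, hn⟩ := relIndex_res (p := 2) D
    have := relIndex_dvd_of_le_left D ((le_inf (res_le D) le_sup_left).trans e)
    rw [f.idx, hn] at this
    exact absurd (Nat.Prime.dvd_of_dvd_pow Nat.prime_three this) (by decide)
  have d2 : ⁅D, 𝐑 (𝐉 L)⁆ ≤ 𝐂 (𝐕 L) := ((commutator_mono d1 le_rfl).trans (comm_sup_le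
    ((commutator_mono (res_mono f.leD) le_rfl).trans (h.res_comm z)) (h.comm_ker z (res_le _))
    ((res_le D).trans (f.leD.trans (hEL.trans (le_norm_op L))))
    (inf_le_left.trans (hEL.trans (le_norm_op L))))).trans h.pRed.op_le_cent
  exact n1 (f.comm.trans (sup_le ((commutator_mono le_rfl (f.leA.trans (E_le h.syl))).trans
    (comm_sup_le' d2 e ((R_le L).trans hC) (h.J_le.trans hC))) inf_le_right))

theorem fac_three (z : ZN G) (h : LL T L) (f : Fac (𝐕 L) (𝐉 L) D A) :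
    (𝐎 L).relIndex (⁅D, 𝐉 T⁆ ⊔ 𝐎 L) = 3 ∧ ⁅D, 𝐉 T⁆ ≤ 𝐎 L ⊔ ⁅⁅D, 𝐉 T⁆, 𝐉 T⁆ := by
  have hDL := f.leD.trans (Transfer.thompsonOf_le (p := 2) L)
  have hD := hDL.trans (le_norm_op (p := 2) L)
  have hJ := h.J_le.trans (le_norm_op (p := 2) L)
  have hJE := KS9.syl_thompson_le h.syl
  have hn := BG1.mim_norm (qmk (𝐎 L)) (hJE.trans f.norm)
  have c1 : ⁅D, 𝐉 T⁆ ≤ D := comm_le_left (hJE.trans f.norm)
  haveI := (BG1.isMulCommutative_quo_iff hD).2 (h.fac_comm z f)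
  have odd : (Nat.card (mim (qmk (𝐎 L)) D)).Coprime 2 := by
    obtain ⟨P, hP⟩ := exists_syl 2 D
    have h1 := h.le_op z hP.isPGroup (hP.le.trans hDL)
      (le_cent_of_relIndex_three (hDL.trans h.normV) f.idx hP.isPGroup hP.le)
    have h2 := BG1.syl_mim (qmk (𝐎 L)) hP hD
    exact (Nat.Prime.coprime_iff_not_dvd Nat.prime_two).2
      (h2.eq_bot_iff.1 ((BG1.quo_eq_bot_iff (hP.le.trans hD)).2 h1)) |>.symm
  have cop := (coprime_card_of_pPrime odd (BG1.isPGroup_mim (qmk (𝐎 L)) h.isPGroup_J)).symm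
  have e1 := Coprime.card_eq_card_centralizer_mul_card_commutator hn cop
  have e2 := Coprime.commutator_commutator_eq hn cop
  rw [← BG1.mim_commutator hD hJ] at e1 e2
  rw [← BG1.mim_commutator (c1.trans hD) hJ] at e2
  refine ⟨?_, (BG1.quo_le_quo_iff (c1.trans hD) ((comm_le_left (right_le_normalizer_comm _ _)).trans
    (c1.trans hD))).1 e2.ge⟩
  rw [relIndex_sup_of_le_normalizer (c1.trans hD), ← BG1.card_quo (c1.trans hD)]
  have k1 : mim (qmk (𝐎 L)) (𝐉 L ⊓ 𝐂 (𝐕 L)) ≤ mim (qmk (𝐎 L)) D ⊓ 𝐂 (mim (qmk (𝐎 L)) (𝐉 T)) :=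
    le_inf (BG1.mim_mono _ f.ker) ((BG1.quo_cent_iff (f.ker.trans hD) hJ).2 (h.comm_ker z hJE))
  have k2 := (relIndex_dvd_of_le_left _ k1).trans (BG1.relIndex_mim_dvd f.ker hD)
  have k3 : (𝐉 L ⊓ 𝐂 (𝐕 L)).relIndex D = 3 := by
    rw [← inf_relIndex_right, inf_right_comm, inf_eq_right.2 f.leD, inf_relIndex_left, f.idx]
  have k4 := card_mul_relIndex (inf_le_left : mim (qmk (𝐎 L)) D ⊓ 𝐂 (mim (qmk (𝐎 L)) (𝐉 T)) ≤ _)
  rw [k3, Nat.eq_of_mul_eq_mul_left Nat.card_pos (k4.trans e1)] at k2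
  refine ((Nat.dvd_prime Nat.prime_three).1 k2).resolve_left fun e => h.fac_not_cent z f ?_
  exact ((BG1.quo_eq_bot_iff (c1.trans hD)).1 (card_eq_one.1 e)).trans h.pRed.op_le_cent

theorem exists_cmp (z : ZN G) (h : LL T L) (f : Fac (𝐕 L) (𝐉 L) D A) :
    ∃ K, Cmp (𝐉 T) K ∧ K ≤ L ∧ D ≤ K ⊔ (L ⊓ 𝐂 (𝐕 L)) := by
  obtain ⟨i1, i2⟩ := h.fac_three z f
  have n0 := h.fac_not_cent z f
  have hDL := f.leD.trans (Transfer.thompsonOf_le (p := 2) L)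
  have c1 : ⁅D, 𝐉 T⁆ ≤ D := comm_le_left ((KS9.syl_thompson_le h.syl).trans f.norm)
  have hYL : ⁅D, 𝐉 T⁆ ⊔ 𝐎 L ≤ L := sup_le (c1.trans hDL) (op_le L)
  have hJY : 𝐉 T ≤ 𝐍 (⁅D, 𝐉 T⁆ ⊔ 𝐎 L) :=
    le_normalizer_sup (right_le_normalizer_comm _ _) (h.J_le.trans (le_norm_op L))
  have y1 : ⁅D, 𝐉 T⁆ ≤ ⁅D, 𝐉 T⁆ ⊔ 𝐎 L := le_sup_left
  have y2 : 𝐎 L ≤ ⁅D, 𝐉 T⁆ ⊔ 𝐎 L := le_sup_right
  have y3 : ⁅D, 𝐉 T⁆ ⊔ 𝐎 L ≤ 𝐎 L ⊔ ⁅⁅D, 𝐉 T⁆ ⊔ 𝐎 L, 𝐉 T⁆ :=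
    sup_le (i2.trans (sup_le_sup_left (commutator_mono y1 le_rfl) _)) le_sup_left
  generalize ⁅D, 𝐉 T⁆ ⊔ 𝐎 L = Y at *
  have s1 : Syl 2 (𝐎 L) Y := syl_of_not_dvd y2 (op_isPGroup L) (by rw [i1]; decide)
  have s2 := s1.res_sup
  have hQ := le_norm_op (p := 2) L
  have hKY := res_le (p := 2) Y
  have hQK : 𝐎 L ≤ 𝐍 (𝐑 Y) := y2.trans (le_norm_res Y)
  have hJK : 𝐉 T ≤ 𝐍 (𝐑 Y) := hJY.trans (norm_le_norm_res Y)
  have o1 : 𝐎 (𝐑 Y) ≤ 𝐎 L := s1.le_of_normal_syl (hYL.trans hQ) (op_isPGroup _) ((op_le _).trans hKY)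
  have k3 : K3 (𝐑 Y) := by
    refine ⟨res_res Y, ?_⟩
    have : 𝐎 (𝐑 Y) = 𝐎 L ⊓ 𝐑 Y := le_antisymm (le_inf o1 (op_le _)) (op_inf_le (hKY.trans hYL))
    rw [this, inf_relIndex_right, ← relIndex_sup_of_le_normalizer (hKY.trans (hYL.trans hQ)), s2, i1]
  have kc : ⁅𝐑 Y, 𝐉 T⁆ = 𝐑 Y := by
    have n1 : 𝐎 L ≤ 𝐍 ⁅𝐑 Y, 𝐉 T⁆ := le_normalizer_commutator hQK h.op_norm_J
    refine le_antisymm (comm_le_left hJK) (k3.le_of_le_sup (op_isPGroup L) n1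
      (hKY.trans (y3.trans (sup_le le_sup_right ?_))))
    conv_lhs => rw [← s2]
    exact comm_sup_le le_sup_left (le_sup_of_le_right (comm_le_left (h.J_le.trans hQ)))
      (le_normalizer_sup (left_le_normalizer_comm _ _) (hKY.trans (hYL.trans hQ)))
      (le_normalizer_of_le le_sup_right)
  have kn : ¬ 𝐑 Y ≤ 𝐂 (𝐕 L) := fun e => n0 (y1.trans (s2.ge.trans (sup_le e h.pRed.op_le_cent)))
  refine ⟨𝐑 Y, ⟨k3, kc, fun S h1 h2 => J_eq_of_syl h.syl h1.isPGroup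
    (h1.le.trans (sup_le (hKY.trans hYL) h.J_le)) h2, k3.card_W kc
    ((W_le_op _).trans (o1.trans h.syl.op_le)) fun e => kn ?_⟩, hKY.trans hYL, ?_⟩
  · exact comm_eq_bot_iff'.1 (eq_bot_iff.2 (e ▸ k3.comm_le_W h.pRed.elemAb
      (hKY.trans (hYL.trans h.normV)) (h.pRed.le_op.trans hQK) (o1.trans h.pRed.op_le_cent)))
  · refine le_of_relIndex_prime Nat.prime_three f.idx
      (le_sup_of_le_right (le_inf (inf_le_right.trans hDL) inf_le_left)) fun e => n0 ?_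
    exact (le_inf c1 (y1.trans (s2.ge.trans (sup_le_sup_left
      (le_inf (op_le L) h.pRed.op_le_cent) _)))).trans e

theorem le_of_cmps (z : ZN G) (h : LL T L) (h1 : L ⊓ 𝐍 (𝐉 T) ≤ X)
    (h2 : ∀ K, Cmp (𝐉 T) K → K ≤ L → K ≤ X) : L ≤ X := by
  obtain ⟨s, s1, -, s3, -⟩ := exists_facs h.pRed (h.solv z)
  have c : L ⊓ 𝐂 (𝐕 L) ≤ X := (le_inf inf_le_left ((h.cent_norm z).trans
    (Transfer.normalizer_le_normalizer_thompsonOf T))).trans h1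
  refine (L_le h.syl).trans (sup_le (s3 X ((inf_le_inf_right _ (Transfer.thompsonOf_le L)).trans c)
    fun x hx => ?_) h1)
  obtain ⟨K, k1, k2, k3⟩ := h.exists_cmp z (s1 x hx)
  exact k3.trans (sup_le (h2 K k1 k2) c)

theorem exists_cmp_not_le (z : ZN G) (h : LL T L) (h1 : L ⊓ 𝐍 (𝐉 T) ≤ X) (h2 : ¬ L ≤ X) :
    ∃ K, Cmp (𝐉 T) K ∧ K ≤ L ∧ ¬ K ≤ X := by
  by_contra e
  push Not at e
  exact h2 (h.le_of_cmps z h1 e)

end LL

theorem a_eq {T A : Subgroup G} (hA : A ∈ maxEl 2 T) : maxElemAbelianOrder T = Nat.card A := by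
  have e : ((fun A : Subgroup T => Nat.card A) '' maxElementaryAbelianSubgroups 2 T) =
      {Nat.card A} := by
    rw [← Transfer.maxEl_top]
    have k : ∀ B : Subgroup T, B ∈ maxEl 2 (⊤ : Subgroup T) ↔ B.map T.subtype ∈ maxEl 2 T :=
      fun B => by rw [← Transfer.map_mem_maxEl_iff T.subtype_injective, map_subtype_top]
    ext n
    constructor
    · rintro ⟨B, hB, rfl⟩
      exact (card_map_subtype B).symm.trans (Transfer.card_eq_of_mem_maxEl ((k B).1 hB) hA)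
    · rintro rfl
      exact ⟨A.subgroupOf T, (k _).2 (by rwa [map_subgroupOf_of_le hA.1]),
        card_subgroupOf_of_le hA.1⟩
  rw [maxElemAbelianOrder, e, csSup_singleton]

theorem twoLocal_cj {L : Subgroup G} (h : IsTwoLocal L) (g : G) : IsTwoLocal (cj g L) := by
  obtain ⟨P, h1, h2, rfl⟩ := h
  exact ⟨cj g P, isPGroup_cj g h1, fun e => h2 (cj_eq_bot_iff.1 e), cj_normalizer g P⟩

theorem maxLocal_cj {L : Subgroup G} (h : IsMaximalTwoLocal L) (g : G) :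
    IsMaximalTwoLocal (cj g L) :=
  ⟨twoLocal_cj h.1 g, fun N h1 h2 => by
    rw [← h.2 _ (twoLocal_cj h1 g⁻¹) (cj_le_iff.1 h2), cj_cj_inv]⟩

theorem twoLocal_norm {P : Subgroup G} (h1 : IsPGroup 2 P) (h2 : P ≠ ⊥) : IsTwoLocal (𝐍 P) :=
  ⟨P, h1, h2, rfl⟩

theorem exists_maxLocal {U : Subgroup G} (h : IsTwoLocal U) : ∃ L, IsMaximalTwoLocal L ∧ U ≤ L := by
  obtain ⟨L, h1, h2⟩ := Finite.exists_le_maximal (p := fun L : Subgroup G => IsTwoLocal L) h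
  exact ⟨L, ⟨h2.1, fun N a b => le_antisymm (h2.2 a b) b⟩, h1⟩

theorem ZN.ll (z : ZN G) {T L : Subgroup G} (hL : IsTwoLocal L) (hT : Syl 2 T L) : LL T L := by
  obtain ⟨P, h1, h2, e⟩ := hL
  refine ⟨hT, z.cent_le h1 h2 e, fun e' => h2 (eq_bot_iff.2 (e' ▸ ?_))⟩
  exact hT.le_of_normal h1 (e ▸ le_normalizer) e.le

theorem maxLocal_eq {L P : Subgroup G} (h : IsMaximalTwoLocal L) (h1 : IsPGroup 2 P) (h2 : P ≠ ⊥)
    (h3 : L ≤ 𝐍 P) : 𝐍 P = L := h.2 _ (twoLocal_norm h1 h2) h3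

theorem strad_cj {M T : Subgroup G} (h : T ∈ straddlingTwoSubgroups M) {g : G} (hg : g ∈ M) :
    cj g T ∈ straddlingTwoSubgroups M := by
  obtain ⟨a1, a2, a3, L, b1, b2, b3⟩ := h
  exact ⟨isPGroup_cj g a1, fun e => a2 (cj_eq_bot_iff.1 e), cj_le_of_le_of_mem a3 hg, cj g L,
    twoLocal_cj b1 g, cj_mono g b2, fun e => b3 (by rwa [cj_le_iff, cj_of_mem (inv_mem hg)] at e)⟩

theorem a_cj (g : G) (T : Subgroup G) : maxElemAbelianOrder (cj g T) = maxElemAbelianOrder T := by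
  obtain ⟨A, hA⟩ := Transfer.exists_mem_maxEl 2 T
  rw [a_eq hA, ← card_cj g A]
  exact a_eq (Transfer.cj_mem_maxEl hA)

theorem maxStrad_cj {M T : Subgroup G} (h : T ∈ maxStraddlingTwoSubgroups M) {g : G} (hg : g ∈ M) :
    cj g T ∈ maxStraddlingTwoSubgroups M :=
  ⟨strad_cj h.1 hg, fun P hP => by rw [a_cj, ← cj_J, card_cj, card_cj]; exact h.2 P hP⟩

theorem exists_maxStrad {M T : Subgroup G} (h : T ∈ straddlingTwoSubgroups M) :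
    ∃ T, T ∈ maxStraddlingTwoSubgroups M := by
  obtain ⟨T₀, h1, h2⟩ := Set.exists_max_image (straddlingTwoSubgroups M)
    (fun T => toLex (maxElemAbelianOrder T, toLex (Nat.card (𝐉 T), Nat.card T))) (Set.toFinite _) ⟨T, h⟩
  refine ⟨T₀, h1, fun P hP => ?_⟩
  have := h2 P hP
  simp only [Prod.Lex.toLex_le_toLex] at this
  omega

/-- The situation of KS 12.3. -/
structure St (S M T : Subgroup G) : Prop where
  syl : Syl 2 S ⊤
  le : 𝐍 (𝐉 S) ≤ M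
  mem : T ∈ maxStraddlingTwoSubgroups M

namespace St
variable {S M T P L K : Subgroup G}

theorem isPGroup (h : St S M T) : IsPGroup 2 T := h.mem.1.1

theorem isPGroup_J (h : St S M T) : IsPGroup 2 (𝐉 T) := h.isPGroup.to_le (Transfer.thompsonOf_le T)

theorem J_ne_bot (h : St S M T) : 𝐉 T ≠ ⊥ :=
  Transfer.thompsonOf_ne_bot_of_isPGroup h.isPGroup h.mem.1.2.1

theorem T_le (h : St S M T) : T ≤ M := h.mem.1.2.2.1

theorem S_le (h : St S M T) : S ≤ M := (Transfer.le_normalizer_thompsonOf S).trans h.le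

theorem max (h : St S M T) (hP : P ∈ straddlingTwoSubgroups M) (hJ : 𝐉 T ≤ P) :
    𝐉 P = 𝐉 T ∧ Nat.card P ≤ Nat.card T := by
  obtain ⟨h1, h2⟩ := h.mem.2 P hP
  obtain ⟨B, hB⟩ := Transfer.exists_mem_maxEl 2 P
  have k : ∀ A ∈ maxEl 2 T, A ∈ maxEl 2 P := fun A hA => Transfer.mem_maxEl_of_card_le hB
    ((Transfer.le_thompsonOf hA).trans hJ) hA.2.1 (by rwa [a_eq hA, a_eq hB] at h1)
  obtain ⟨A, hA⟩ := Transfer.exists_mem_maxEl 2 T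
  obtain ⟨h3, h4⟩ := h2 (by rw [a_eq hA, a_eq (k A hA)])
  have e := eq_of_le_of_card_le' (Transfer.thompsonOf_le_iff.2 fun A hA =>
    Transfer.le_thompsonOf (k A hA)) h3
  exact ⟨e.symm, h4 (by rw [e])⟩

theorem norm_J_le (h : St S M T) : 𝐍 (𝐉 T) ≤ M := by
  by_contra hn
  have hTJ := Transfer.le_normalizer_thompsonOf (p := 2) T
  obtain ⟨P, p1, p2⟩ := exists_syl_ge h.isPGroup (le_inf h.T_le hTJ)
  have p3 := (h.max ⟨p1.isPGroup, fun e => h.mem.1.2.1 (eq_bot_iff.2 (e ▸ p2)),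
    p1.le.trans inf_le_left, _, twoLocal_norm h.isPGroup_J h.J_ne_bot, p1.le.trans inf_le_right, hn⟩
    ((Transfer.thompsonOf_le T).trans p2)).2
  rw [← eq_of_le_of_card_le' p2 p3] at p1
  have p4 := p1.of_normalizer_le inf_le_left
    (inf_le_inf_left _ (Transfer.normalizer_le_normalizer_thompsonOf T))
  obtain ⟨g, g1, g2⟩ := (h.syl.of_le h.S_le le_top).exists_conj p4
  rw [← g2, ← cj_J, ← cj_normalizer] at hn
  exact hn (cj_le_of_le_of_mem h.le g1)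

/-- KS 12.3.2 -/
theorem J_eq (h : St S M T) (hL : IsTwoLocal L) (hLM : ¬ L ≤ M) (hP : IsPGroup 2 P) (hPL : P ≤ L)
    (hJ : 𝐉 T ≤ P) : 𝐉 P = 𝐉 T ∧ P ∈ straddlingTwoSubgroups M ∧ Nat.card P ≤ Nat.card T := by
  have j1 : 𝐉 T ≤ P ⊓ M := le_inf hJ ((Transfer.thompsonOf_le T).trans h.T_le)
  have s1 : P ⊓ M ∈ straddlingTwoSubgroups M := ⟨hP.to_le inf_le_left,
    fun e => h.J_ne_bot (eq_bot_iff.2 (e ▸ j1)), inf_le_right, L, hL, inf_le_left.trans hPL, hLM⟩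
  obtain ⟨e1, e2⟩ := h.max s1 j1
  have e : P ⊓ M = P := eq_of_inf_normalizer_le hP inf_le_left (inf_le_inf_left _
    ((Transfer.normalizer_le_normalizer_thompsonOf _).trans (e1 ▸ h.norm_J_le)))
  rw [e] at s1 e1 e2
  exact ⟨e1, s1, e2⟩

theorem syl_of_le (h : St S M T) (hL : IsTwoLocal L) (hLM : ¬ L ≤ M) (hT : T ≤ L) : Syl 2 T L := by
  obtain ⟨P, p1, p2⟩ := exists_syl_ge h.isPGroup hT
  exact p1.of_card_ge h.isPGroup hT
    (h.J_eq hL hLM p1.isPGroup p1.le ((Transfer.thompsonOf_le T).trans p2)).2.2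

theorem not_le_op (h : St S M T) (hLM : ¬ L ≤ M) (hP : Syl 2 P L) (e : 𝐉 P = 𝐉 T) :
    ¬ 𝐉 P ≤ 𝐎 L := fun e' => hLM ((le_norm_op L).trans
  ((Transfer.normalizer_le_normalizer_thompsonOf _).trans (by
    rw [Transfer.thompsonOf_eq_of_le e' hP.op_le, e]; exact h.norm_J_le)))

theorem cmp0 (h : St S M T) (hK : Cmp (𝐉 T) K) (hKM : ¬ K ≤ M) : Cmp0 (𝐉 T) K :=
  ⟨hK, fun _ h1 h2 => (h.J_eq (twoLocal_norm (isPGroup_W K) hK.W_ne_bot)
    (fun e => hKM ((le_norm_W K).trans e)) h2.isPGroup h2.le h1).1⟩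

/-- KS 12.3.3 -/
theorem exists_outside (z : ZN G) (h : St S M T) :
    ∃ K, Cmp (𝐉 T) K ∧ ¬ K ≤ M ∧ 𝐎 (K ⊔ T) ≠ ⊥ := by
  obtain ⟨L, l1, l2, l3⟩ := h.mem.1.2.2.2
  have l := z.ll l1 (h.syl_of_le l1 l3 l2)
  obtain ⟨K, k1, k2, k3⟩ := l.exists_cmp_not_le z (inf_le_right.trans h.norm_J_le) l3
  exact ⟨K, k1, k3, fun e => l.op_ne_bot (eq_bot_iff.2 (e ▸ op_le_op_of_le (sup_le k2 l2)
    (l.syl.op_le.trans le_sup_right)))⟩

end St

/-- the join of the `J`-components in `U` -/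
def cmps (J U : Subgroup G) : Subgroup G := ⨆ K : {K // Cmp J K ∧ K ≤ U}, K.1

theorem le_cmps {J U K : Subgroup G} (h : Cmp J K) (hU : K ≤ U) : K ≤ cmps J U :=
  le_iSup (fun K : {K // Cmp J K ∧ K ≤ U} => K.1) ⟨K, h, hU⟩

theorem cmps_le (J U : Subgroup G) : cmps J U ≤ U := iSup_le fun K => K.2.2

theorem LL.norm_cmps (z : ZN G) {T L : Subgroup G} (h : LL T L) : L ≤ 𝐍 (cmps (𝐉 T) L) :=
  le_normalizer_of_cj_le fun g hg => by
    rw [cmps, cj_iSup]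
    exact iSup_le fun K => le_cmps (h.perm z K.2.1 K.2.2 hg) (cj_le_of_le_of_mem K.2.2 hg)

/-- every `2`-overgroup of `J` in a `2`-local overgroup of `K` has Thompson subgroup `J` -/
structure Uni (J K : Subgroup G) : Prop extends Cmp J K where
  isPGroup : IsPGroup 2 J
  jeq : ∀ U P, IsTwoLocal U → K ≤ U → P ≤ U → IsPGroup 2 P → J ≤ P → 𝐉 P = J

namespace Uni
variable {J K U U' : Subgroup G}

theorem conj (h : Uni J K) (g : G) : Uni (cj g J) (cj g K) :=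
  ⟨h.toCmp.conj g, isPGroup_cj g h.isPGroup, fun U P h1 h2 h3 h4 h5 => by
    rw [← h.jeq _ _ (twoLocal_cj h1 g⁻¹) (cj_le_iff.1 h2) (cj_mono g⁻¹ h3) (isPGroup_cj _ h4)
      (cj_le_iff.1 h5), cj_J, cj_cj_inv]⟩

theorem conj' (h : Uni J K) {g : G} (hg : g ∈ 𝐍 J) : Uni J (cj g K) := by
  have := h.conj g
  rwa [cj_of_mem_normalizer hg] at this

theorem exists_ll (z : ZN G) (h : Uni J K) (hU : IsTwoLocal U) (h1 : K ≤ U) (h2 : J ≤ U) :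
    ∃ T, LL T U ∧ 𝐉 T = J := by
  obtain ⟨T, t1, t2⟩ := exists_syl_ge h.isPGroup h2
  exact ⟨T, z.ll hU t1, h.jeq U T hU h1 t1.le t1.isPGroup t2⟩

theorem eq_norm (z : ZN G) (h : Uni J K) (hU : IsMaximalTwoLocal U) (h1 : K ≤ U) (h2 : J ≤ U) :
    𝐍 (𝐎 (cmps J U)) = U := by
  obtain ⟨T, t1, rfl⟩ := h.exists_ll z hU.1 h1 h2
  refine maxLocal_eq hU (op_isPGroup _) (fun e => h.W_ne_bot (eq_bot_iff.2 (e ▸ (W_le_op K).trans ?_)))
    (le_norm_op_of_le (t1.norm_cmps z))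
  exact ((t1.subnormal z h.toCmp h1).mono (le_cmps h.toCmp h1) (cmps_le _ _)).pCoreOf_le

theorem eq_of_le (z : ZN G) (h : Uni J K) (hU : IsMaximalTwoLocal U) (h1 : K ≤ U) (h2 : J ≤ U)
    (hU' : IsMaximalTwoLocal U') (h3 : 𝐍 K ≤ U') : U = U' := by
  have h1' : K ≤ U' := le_normalizer.trans h3
  have h2' : J ≤ U' := h.norm.trans h3
  have e1 := h.eq_norm z hU h1 h2
  have e2 := h.eq_norm z hU' h1' h2'
  obtain ⟨T, t1, rfl⟩ := h.exists_ll z hU.1 h1 h2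
  obtain ⟨T', t2, e⟩ := h.exists_ll z hU'.1 h1' h2'
  have a1 : ∀ K', Cmp (𝐉 T) K' → K' ≤ U → K' ≤ U' := fun K' k1 k2 =>
    (t1.le_R k1 k2).trans ((t1.R_norm z h.toCmp h1).trans h3)
  have a2 : ∀ K', Cmp (𝐉 T) K' → K' ≤ U' → K' ≤ U := fun K' k1 k2 => by
    rw [← e1]
    refine le_norm_op_of_le (le_normalizer_iSup fun K'' => ?_)
    exact (t2.le_R (e ▸ k1) k2).trans (t2.R_norm z (by rw [e]; exact K''.2.1) (a1 _ K''.2.1 K''.2.2))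
  have : cmps (𝐉 T) U = cmps (𝐉 T) U' := le_antisymm
    (iSup_le fun K' => le_cmps K'.2.1 (a1 _ K'.2.1 K'.2.2))
    (iSup_le fun K' => le_cmps K'.2.1 (a2 _ K'.2.1 K'.2.2))
  rw [← e1, ← e2, this]

/-- KS 12.3.4 -/
theorem unique (z : ZN G) (h : Uni J K) (hU : IsMaximalTwoLocal U) (h1 : K ≤ U) (h2 : J ≤ U)
    (hU' : IsMaximalTwoLocal U') (h1' : K ≤ U') (h2' : J ≤ U') : U = U' := by
  obtain ⟨L, l1, l2⟩ := exists_maxLocal (twoLocal_norm (isPGroup_W K) h.W_ne_bot)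
  rw [h.eq_of_le z hU h1 h2 l1 ((norm_le_norm_W K).trans l2),
    h.eq_of_le z hU' h1' h2' l1 ((norm_le_norm_W K).trans l2)]

theorem norm_le (z : ZN G) (h : Uni J K) (hU : IsMaximalTwoLocal U) (h1 : K ≤ U) (h2 : J ≤ U)
    {P : Subgroup G} (hP : IsPGroup 2 P) (hne : P ≠ ⊥) (h1' : K ≤ 𝐍 P) (h2' : J ≤ 𝐍 P) :
    𝐍 P ≤ U := by
  obtain ⟨L, l1, l2⟩ := exists_maxLocal (twoLocal_norm hP hne)
  rwa [h.unique z hU h1 h2 l1 (h1'.trans l2) (h2'.trans l2)]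

end Uni

/-- `K` is a good `J(T)`-component with maximal `2`-local overgroup `L`. -/
structure Good (T K L : Subgroup G) : Prop extends Uni (𝐉 T) K where
  max : IsMaximalTwoLocal L
  le : K ≤ L
  sylT : Syl 2 T L

theorem St.uni {S M T K : Subgroup G} (h : St S M T) (hK : Cmp (𝐉 T) K) (hKM : ¬ K ≤ M) :
    Uni (𝐉 T) K :=
  ⟨hK, h.isPGroup_J, fun _ _ h1 h2 h3 h4 h5 => (h.J_eq h1 (fun e => hKM (h2.trans e)) h4 h3 h5).1⟩

theorem St.good {S M T K : Subgroup G} (h : St S M T) (hK : Cmp (𝐉 T) K) (hKM : ¬ K ≤ M)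
    (hO : 𝐎 (K ⊔ T) ≠ ⊥) : ∃ L, Good T K L := by
  obtain ⟨L, l1, l2⟩ := exists_maxLocal (twoLocal_norm (op_isPGroup (K ⊔ T)) hO)
  have := (le_norm_op _).trans l2
  exact ⟨L, h.uni hK hKM, l1, le_sup_left.trans this, h.syl_of_le l1.1
    (fun e => hKM (le_sup_left.trans (this.trans e))) (le_sup_right.trans this)⟩

end Cfsg.Lib.Amalg.JC
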