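import Cfsg.Agent.Lib.Amalg.JComp4
import Cfsg.Agent.Lib.Invol.Strong

/-! Kurzweil–Stellmacher 12.3.5–12.3.8. -/

set_option autoImplicit false
set_option linter.unusedSectionVars false

namespace Cfsg.Lib.Amalg.JC

open Subgroup
open Cfsg.Lib.Core hiding isPGroup_subgroupOf isPGroup_subgroupOf_iff isPGroup_map_subtype_iff
  isPGroup_zpowers_of_orderOf
open Cfsg.Lib.Transfer (maxEl)
open scoped commutatorElement

variable {G : Type*} [Group G] [Finite G]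

theorem two_cases {U : Subgroup G} (h : Nat.card U ≤ 2) {a x : G} (ha : a ∈ U) (h1 : a ≠ 1)
    (hx : x ∈ U) : x = 1 ∨ x = a := by
  classical
  by_contra e
  push Not at e
  have : ({1, a, x} : Set G).ncard ≤ (U : Set G).ncard :=
    Set.ncard_le_ncard (by rintro _ (rfl | rfl | rfl) <;> simp [*]) (Set.toFinite _)
  rw [Set.ncard_insert_of_notMem (by simp [h1.symm, e.1.symm]), Set.ncard_pair e.2.symm,
    ← Nat.card_coe_set_eq] at this
  exact absurd (this.trans h) (by decide)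

theorem four_cases {U : Subgroup G} (hU : IsElementaryAbelian 2 U) (h : Nat.card U ≤ 4) {a b x : G}
    (ha : a ∈ U) (hb : b ∈ U) (h1 : a ≠ 1) (h2 : b ≠ 1) (h3 : a ≠ b) (hx : x ∈ U) :
    x = 1 ∨ x = a ∨ x = b ∨ x = a * b := by
  classical
  by_contra e
  push Not at e
  obtain ⟨e1, e2, e3, e4⟩ := e
  have n1 : a * b ≠ 1 := fun e => h3 (by
    have := hU.2 b hb
    rw [pow_two] at this
    exact mul_right_cancel (e.trans this.symm))
  have n2 : a * b ≠ a := fun e => h2 (by simpa using e)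
  have n3 : a * b ≠ b := fun e => h1 (by simpa using e)
  have : ({1, a, b, a * b, x} : Set G).ncard ≤ (U : Set G).ncard :=
    Set.ncard_le_ncard (by rintro _ (rfl | rfl | rfl | rfl | rfl) <;> simp [*, mul_mem]) (Set.toFinite _)
  rw [Set.ncard_insert_of_notMem (by simp [h1.symm, h2.symm, n1.symm, e1.symm]),
    Set.ncard_insert_of_notMem (by simp [h3, n2.symm, e2.symm, h2]),
    Set.ncard_insert_of_notMem (by simp [n3.symm, e3.symm, h1]), Set.ncard_pair e4.symm,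
    ← Nat.card_coe_set_eq] at this
  exact absurd (this.trans h) (by decide)

theorem le_cent_of_card_le_two {U K : Subgroup G} (h : Nat.card U ≤ 2) (hn : K ≤ 𝐍 U) :
    K ≤ 𝐂 U := by
  by_cases e : U = ⊥
  · rw [e, centralizer_bot]; exact le_top
  · have : Nat.card U ≠ 1 := fun e' => e (card_eq_one.1 e')
    have : 0 < Nat.card U := Nat.card_pos
    exact KS9.le_cent_of_card_two (by omega) hn

theorem om_le_om_J (P : Subgroup G) : 𝛀 P ≤ 𝛀 (𝐉 P) :=
  omZ_le_omZ (Transfer.thompsonOf_le P) fun x hx => Transfer.mem_thompsonOf_of_centralizes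
    (omZ_le _ hx) ((isElemAb_omZ _).2 x hx) (cent_anti (Transfer.thompsonOf_le _) (omZ_le_cent _ hx))

theorem cent_le_norm_zpowers (y : G) : centralizer {y} ≤ 𝐍 (zpowers y) := fun x hx =>
  cj_eq_self_iff.1 (by rw [cj_zpowers, mem_centralizer_singleton_iff.1 hx, mul_inv_cancel_right])

/-- `Z_K = C_{Z₀}(K)` -/
abbrev ZK (J K : Subgroup G) : Subgroup G := 𝛀 J ⊓ 𝐂 (K ⊔ J)

theorem mem_ZK {J K : Subgroup G} {x : G} (h1 : x ∈ 𝛀 J) (h2 : x ∈ 𝐂 K) : x ∈ ZK J K :=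
  ⟨h1, by rw [Lib.Core.centralizer_sup]; exact ⟨h2, omZ_le_cent J h1⟩⟩

namespace Cmp
variable {J K S : Subgroup G}

theorem om_eq_sup (h : Cmp J K) (hJ : IsPGroup 2 J) : ZK J K ⊔ (𝛀 J ⊓ wOf K) = 𝛀 J :=
  le_antisymm (sup_le inf_le_left inf_le_left) (h.om_le hJ)

theorem card_om (h : Cmp J K) (hJ : IsPGroup 2 J) : Nat.card (𝛀 J) = Nat.card (ZK J K) * 2 := by
  have := card_sup_of_disjoint (H := ZK J K) (K := 𝛀 J ⊓ wOf K)
    (inf_le_left.trans (KS9.le_norm_of_comm (isElemAb_omZ J).1 inf_le_left))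
    (h.eq_bot (inf_le_right.trans inf_le_right) (le_cent_symm
      (inf_le_left.trans (inf_le_right.trans (cent_anti le_sup_left)))))
  rwa [h.om_eq_sup hJ, h.card_om_inf_W hJ] at this

theorem not_cent_om (z : ZN G) (h : Cmp J K) (hJ : IsPGroup 2 J) (hS : Syl 2 S ⊤) :
    ¬ 𝛀 S ≤ 𝐂 (K ⊔ J) := fun e => by
  have := (le_cent_symm e).trans (z.z S hS)
  exact h.not_le hS.isPGroup (h.comm.ge.trans ((commutator_mono le_rfl (hS.le_of_le_normalizer' hJ
    le_top (le_sup_right.trans this))).trans (comm_le_right (le_sup_left.trans this))))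

theorem trans_W (h : Cmp J K) {a b : G} (ha : a ∈ wOf K) (h1 : a ≠ 1) (hb : b ∈ wOf K)
    (h2 : b ≠ 1) : ∃ k ∈ K, k * a * k⁻¹ = b := by
  obtain ⟨D, d1, d2, d3⟩ := h.exists_three
  obtain ⟨d, hd, d4⟩ := ne_bot_iff_exists.1 (fun e => by rw [e, card_bot] at d2; omega : D ≠ ⊥)
  have dK := d1 hd
  have d5 : d ^ 3 = 1 := by
    have := congrArg Subtype.val (pow_card_eq_one' (x := (⟨d, hd⟩ : D)))
    rwa [d2] at this
  have d6 : K ≤ zpowers d ⊔ 𝐎 K := h.le_of le_sup_right fun e => d4 (by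
    have := KS9.inf_eq_bot_of_pPrime (op_isPGroup (p := 2) K) (F := D) (by rw [d2]; decide)
    exact mem_bot.1 (this ▸ mem_inf.2 ⟨hd, e ⟨dK, mem_sup_left (mem_zpowers d)⟩⟩))
  have fix : ∀ x ∈ wOf K, d * x * d⁻¹ = x → x = 1 := fun x hx e =>
    zpowers_eq_bot.1 (h.eq_bot (zpowers_le.2 hx) (d6.trans (sup_le (by
      rw [centralizer_zpowers, zpowers_le, mem_centralizer_singleton_iff]
      exact mul_inv_eq_iff_eq_mul.1 e) ((op_le_cent_W K).trans (cent_anti (zpowers_le.2 hx))))))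
  have cm : ∀ x ∈ wOf K, d * x * d⁻¹ ∈ wOf K := fun x hx => Coprime.conj_mem (le_norm_W K) dK hx
  have n1 : d * a * d⁻¹ ≠ 1 := fun e => h1 (by simpa using e)
  have n2 : a ≠ d * a * d⁻¹ := fun e => h1 (fix a ha e.symm)
  rcases four_cases (elemAb_W K) h.card.le ha (cm a ha) h1 n1 n2 hb with e | e | e | e
  · exact absurd e h2
  · exact ⟨1, one_mem K, by simp [e]⟩
  · exact ⟨d, dK, e.symm⟩
  refine ⟨d * d, mul_mem dK dK, ?_⟩
  have e' : d * d * a * (d * d)⁻¹ = d * (d * a * d⁻¹) * d⁻¹ := by group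
  rw [e', e]
  rcases four_cases (elemAb_W K) h.card.le ha (cm a ha) h1 n1 n2 (cm _ (cm a ha)) with e | e | e | e
  · exact absurd (by simpa using e) h1
  · refine absurd ?_ n2
    conv_rhs => rw [← e]
    have : d * (d * (d * a * d⁻¹) * d⁻¹) * d⁻¹ = d ^ 3 * a * (d ^ 3)⁻¹ := by
      simp only [pow_succ, pow_zero, one_mul, mul_inv_rev, mul_assoc]
    rw [this, d5]; group
  · exact absurd (fix _ (cm a ha) e) n1
  · exact e

end Cmp

theorem LL.cent_of_ne (z : ZN G) {T L K K' : Subgroup G} (h : LL T L) (hK : Cmp (𝐉 T) K)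
    (hKL : K ≤ L) (hK' : Cmp (𝐉 T) K') (hKL' : K' ≤ L) (hne : K' ≠ K) : K ≤ 𝐂 (wOf K') := by
  have e : wOf K ⊓ wOf K' = ⊥ := by by_contra e; exact hne (h.pair z hK hKL hK' hKL' e)
  refine comm_eq_bot_iff'.1 (eq_bot_iff.2 (e ▸ le_inf ?_ (comm_le_left ((h.le_R hK hKL).trans
    ((h.R_norm z hK' hKL').trans (norm_le_norm_W K'))))))
  rw [← h.W_eq z hK hKL, ← h.W_eq z hK' hKL']
  exact commutator_mono (comm_le_left (hKL'.trans h.normV)) le_rfl

theorem Uni.cent_le (z : ZN G) {J K L : Subgroup G} (h : Uni J K) (hL : IsMaximalTwoLocal L)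
    (h1 : K ≤ L) (h2 : J ≤ L) {y : G} (hy : y ∈ ZK J K) (hne : y ≠ 1) : centralizer {y} ≤ L := by
  have := (le_cent_singleton hy.2).trans (cent_le_norm_zpowers y)
  exact (cent_le_norm_zpowers y).trans (h.norm_le z hL h1 h2 ((isPGroup_omZ J).to_le
    (zpowers_le.2 hy.1)) (fun e => hne (zpowers_eq_bot.1 e)) (le_sup_left.trans this)
    (le_sup_right.trans this))

/-- there is a good `J`-component whose maximal `2`-local overgroup is not `L` -/
def Far (J L : Subgroup G) : Prop :=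
  ∃ K' L', Uni J K' ∧ IsMaximalTwoLocal L' ∧ K' ≤ L' ∧ J ≤ L' ∧ L' ≠ L

theorem Uni.disjoint (z : ZN G) {J K L K' L' : Subgroup G} (h : Uni J K) (hL : IsMaximalTwoLocal L)
    (h1 : K ≤ L) (h2 : J ≤ L) (h' : Uni J K') (hL' : IsMaximalTwoLocal L') (h1' : K' ≤ L')
    (h2' : J ≤ L') (hne : L' ≠ L) {y : G} (hy : y ∈ ZK J K) (hy' : y ∈ ZK J K') : y = 1 := by
  by_contra e
  exact hne (h'.unique z hL' h1' h2' hL (le_sup_left.trans ((le_cent_singleton hy'.2).trans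
    (h.cent_le z hL h1 h2 hy e))) h2)

theorem norm_maxLocal (z : ZN G) {L : Subgroup G} (h : IsMaximalTwoLocal L) : 𝐍 L ≤ L := by
  obtain ⟨T, hT⟩ := exists_syl 2 L
  conv_rhs => rw [← maxLocal_eq h (op_isPGroup L) (z.ll h.1 hT).op_ne_bot (le_norm_op L)]
  exact norm_le_norm_op L

namespace Good
variable {T K L S K' L' : Subgroup G}

theorem ll (z : ZN G) (g : Good T K L) : LL T L := z.ll g.max.1 g.sylT

theorem J_le (g : Good T K L) : 𝐉 T ≤ L := (Transfer.thompsonOf_le T).trans g.sylT.le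

theorem conj (g : Good T K L) (x : G) : Good (cj x T) (cj x K) (cj x L) :=
  ⟨cj_J x T ▸ g.toUni.conj x, maxLocal_cj g.max x, cj_mono x g.le, g.sylT.conj x⟩

theorem far (z : ZN G) (g : Good T K L) (h : ¬ 𝐍 (𝐉 T) ≤ L) : Far (𝐉 T) L := by
  obtain ⟨x, h1, h2⟩ := SetLike.not_le_iff_exists.1 h
  exact ⟨_, _, g.toUni.conj' h1, maxLocal_cj g.max x, cj_mono x g.le,
    (cj_of_mem_normalizer h1).ge.trans (cj_mono x g.J_le),
    fun e => h2 (norm_maxLocal z g.max (cj_eq_self_iff.1 e))⟩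

theorem far_of_ne (g : Good T K' L') (hne : L' ≠ L) : Far (𝐉 T) L :=
  ⟨K', L', g.toUni, g.max, g.le, g.J_le, hne⟩

theorem card_ZK (z : ZN G) (g : Good T K L) (f : Far (𝐉 T) L) : Nat.card (ZK (𝐉 T) K) ≤ 2 := by
  obtain ⟨K', L', h', hL', h1, h2, hne⟩ := f
  have e : ZK (𝐉 T) K' ⊓ ZK (𝐉 T) K = ⊥ := eq_bot_iff.2 fun y hy =>
    g.disjoint z g.max g.le g.J_le h' hL' h1 h2 hne hy.2 hy.1
  have i := card_mul_relIndex (inf_le_left : ZK (𝐉 T) K' ≤ _)
  rw [h'.card_om g.isPGroup] at i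
  have := relIndex_le_of_le_right (H := ZK (𝐉 T) K') (inf_le_left : ZK (𝐉 T) K ≤ _)
    BG1.relIndex_ne_zero'
  rwa [Nat.eq_of_mul_eq_mul_left Nat.card_pos i, ← inf_relIndex_right, e, relIndex_bot_left] at this

theorem card_om (z : ZN G) (g : Good T K L) (f : Far (𝐉 T) L) : Nat.card (𝛀 (𝐉 T)) ≤ 4 := by
  have := g.card_ZK z f
  rw [g.toCmp.card_om g.isPGroup]; omega

/-- KS 12.3.6 -/
theorem le_norm (z : ZN G) (g : Good T K L) (f : Far (𝐉 T) L) : T ≤ 𝐍 K := by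
  have c4 := g.card_om z f
  have l := g.ll z
  have c2 := g.card_om_inf_W g.isPGroup
  obtain ⟨w, hw, w1⟩ := ne_bot_iff_exists.1
    (fun e => by rw [e, card_bot] at c2; omega : 𝛀 (𝐉 T) ⊓ wOf K ≠ ⊥)
  by_cases hc : w ∈ 𝐂 T
  · exact l.le_norm_of_cent z g.toCmp g.le g.sylT.le (ne_bot_iff_exists.2 ⟨w, ⟨hw.2, hc⟩, w1⟩)
  exfalso
  obtain ⟨K', L', h', hL', h1, h2, hne⟩ := f
  obtain ⟨t, ht, t1⟩ : ∃ t ∈ T, t * w * t⁻¹ ≠ w := by
    by_contra e
    push Not at e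
    exact hc (mem_centralizer_comm.2 fun t ht => mul_inv_eq_iff_eq_mul.1 (e t ht))
  have tJ := Transfer.le_normalizer_thompsonOf (p := 2) T ht
  have u := g.toUni.conj' tJ
  have uL := cj_le_of_le_of_mem g.le (g.sylT.le ht)
  have a1 : t * w * t⁻¹ ∈ 𝛀 (𝐉 T) := Coprime.conj_mem (norm_le_norm_omZ _) tJ hw.1
  have a2 : t * w * t⁻¹ ∈ wOf (cj t K) := cj_W t K ▸ conj_mem_cj t hw.2
  have a3 : t * w * t⁻¹ ≠ 1 := fun e => w1 (by simpa using e)
  have a4 : cj t K ≠ K := fun e => by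
    rw [e] at a2
    exact (two_cases c2.le hw w1 (mem_inf.2 ⟨a1, a2⟩)).elim a3 t1
  have b1 := mem_ZK a1 (le_cent_symm (l.cent_of_ne z g.toCmp g.le u.toCmp uL a4) a2)
  have b2 := mem_ZK hw.1 (le_cent_symm (l.cent_of_ne z u.toCmp uL g.toCmp g.le a4.symm) hw.2)
  obtain ⟨S, s1, s2⟩ := exists_syl_ge g.sylT.isPGroup le_top
  refine h'.not_cent_om z g.isPGroup s1 fun x hx => ?_
  have x1 := l.om_le s2 hx
  have x2 := omZ_le_cent T x1
  have hc' : t * w * t⁻¹ ∉ 𝐂 T := fun e => t1 (by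
    have := mem_centralizer_comm.1 e t ht
    have e' : t * (t * w * t⁻¹) = t * w := by rw [this]; group
    exact mul_left_cancel e')
  obtain ⟨y, y1, y2⟩ := ne_bot_iff_exists.1 (fun e => by
    have := h'.card_om g.isPGroup
    rw [e, card_bot] at this
    exact (two_cases this.le hw.1 w1 a1).elim a3 t1 : ZK (𝐉 T) K' ≠ ⊥)
  have k := fun {x} => four_cases (isElemAb_omZ _) c4 (x := x) hw.1 a1 w1 a3 t1.symm
  rcases k (om_le_om_J T x1) with e | e | e | e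
  · rw [e]; exact one_mem _
  · exact absurd (e ▸ x2) hc
  · exact absurd (e ▸ x2) hc'
  rcases k y1.1 with e' | e' | e' | e'
  · exact absurd e' y2
  · exact absurd (u.disjoint z g.max uL g.J_le h' hL' h1 h2 hne b2 (e' ▸ y1)) w1
  · exact absurd (g.disjoint z g.max g.le g.J_le h' hL' h1 h2 hne b1 (e' ▸ y1)) a3
  · rw [e, ← e']; exact y1.2

theorem om_eq (z : ZN G) (g : Good T K L) (f : Far (𝐉 T) L) : 𝛀 T = 𝛀 (𝐉 T) := by
  have n1 := Transfer.le_normalizer_thompsonOf (p := 2) T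
  have n2 := g.le_norm z f
  refine le_antisymm (om_le_om_J T) (le_omZ ((omZ_le _).trans (Transfer.thompsonOf_le T))
    ((g.om_le g.isPGroup).trans (sup_le (le_cent_symm (le_cent_of_card_le_two (g.card_ZK z f) ?_))
    (le_cent_symm (le_cent_of_card_le_two (g.card_om_inf_W g.isPGroup).le ?_)))) (isElemAb_omZ _).2)
  · exact le_normalizer_inf (le_norm_omZ n1) ((le_normalizer_sup n2 n1).trans
      (normalizer_le_normalizer_centralizer _))
  · exact le_normalizer_inf (le_norm_omZ n1) (n2.trans (norm_le_norm_W K))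

theorem exists_norm (z : ZN G) (g : Good T K L) (h : ¬ 𝐍 (𝐉 T) ≤ L) : ¬ 𝐍 T ≤ L := fun e => by
  have hT : Syl 2 T ⊤ := g.sylT.of_normalizer_le le_top (inf_le_right.trans e)
  refine h (le_trans ?_ e)
  have s : T = 𝐎 (𝐂 (𝛀 T)) := (hT.of_le (le_cent_omZ T) le_top).eq_op (z.z T hT)
  conv_rhs => rw [s]
  rw [g.om_eq z (g.far z h)]
  exact (norm_le_norm_omZ _).trans ((normalizer_le_normalizer_centralizer _).trans (norm_le_norm_op _))

theorem exists_two (z : ZN G) (g : Good T K L) (h : ¬ 𝐍 (𝐉 T) ≤ L) :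
    ∃ K' L', Good T K' L' ∧ L' ≠ L := by
  obtain ⟨x, h1, h2⟩ := SetLike.not_le_iff_exists.1 (g.exists_norm z h)
  have := g.conj x
  rw [cj_of_mem_normalizer h1] at this
  exact ⟨_, _, this, fun e => h2 (norm_maxLocal z g.max (cj_eq_self_iff.1 e))⟩

theorem not_conj (z : ZN G) (g : Good T K L) (hS : Syl 2 S ⊤) {y : G} (hy : y ∈ ZK (𝐉 T) K)
    (h : 𝛀 S ≤ zpowers y) : False :=
  g.not_cent_om z g.isPGroup hS (h.trans (zpowers_le.2 hy.2))

/-- KS 12.3.5 -/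
theorem cases (z : ZN G) (g : Good T K L) (f : Far (𝐉 T) L) (hS : Syl 2 S ⊤) (hTS : T ≤ S) :
    (𝛀 S = 𝛀 (𝐉 T) ∧ Nat.card (𝛀 (𝐉 T)) = 2) ∨ (𝛀 S = 𝛀 (𝐉 T) ∧ Nat.card (𝛀 (𝐉 T)) = 4 ∧ T = S) ∨
      (𝛀 T = 𝛀 (𝐉 T) ∧ Nat.card (𝛀 (𝐉 T)) = 4 ∧
        (L ⊓ 𝐂 (𝛀 (𝐉 T))).relIndex (𝐍 (𝛀 (𝐉 T))) = 2) := by
  have c1 := g.card_ZK z f
  have c2 := g.toCmp.card_om g.isPGroup
  have e0 := g.om_eq z f
  have l := g.ll z
  have z1 : 𝛀 S ≤ 𝛀 (𝐉 T) := e0 ▸ l.om_le hTS
  obtain ⟨u, u1, u2⟩ := ne_bot_iff_exists.1 (omZ_ne_bot hS.isPGroup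
    fun e => l.ne (eq_bot_iff.2 (e ▸ hTS)))
  by_cases hb : ZK (𝐉 T) K = ⊥
  · rw [hb, card_bot] at c2
    refine Or.inl ⟨le_antisymm z1 fun x hx => ?_, c2⟩
    rcases two_cases c2.le (z1 u1) u2 hx with e | e
    · rw [e]; exact one_mem _
    · rwa [e]
  right
  have c3 : Nat.card (ZK (𝐉 T) K) = 2 := by
    have : Nat.card (ZK (𝐉 T) K) ≠ 1 := fun e => hb (card_eq_one.1 e)
    have : 0 < Nat.card (ZK (𝐉 T) K) := Nat.card_pos
    omega
  rw [c3] at c2
  obtain ⟨y, y1, y2⟩ := ne_bot_iff_exists.1 hb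
  have y3 := g.cent_le z g.max g.le g.J_le y1 y2
  by_cases hT : T = S
  · exact Or.inl ⟨hT ▸ e0, c2, hT⟩
  refine Or.inr ⟨e0, c2, ?_⟩
  obtain ⟨s, s1, s2⟩ := SetLike.exists_of_lt (lt_inf_normalizer_of_lt hS.isPGroup
    (lt_of_le_of_ne hTS hT))
  have s3 : s ∉ L := fun e => s2 (g.sylT.le_of_le (le_inf hTS g.sylT.le) inf_le_right
    (hS.isPGroup.to_le inf_le_left) ⟨s1.1, e⟩)
  have s4 : s ∈ 𝐍 (𝛀 (𝐉 T)) := e0 ▸ norm_le_norm_omZ T s1.2
  have hE := isElemAb_omZ (p := 2) (𝐉 T)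
  have c4 : Nat.card (𝛀 S) ≤ 2 := by
    have := KS9.card_eq_of_lt_plane (p := 2) c2 z1 (ne_bot_iff_exists.2 ⟨u, u1, u2⟩) fun e =>
      s3 (y3 (le_cent_singleton (omZ_le_cent S (e ▸ y1.1)) s1.1))
    exact this.le
  have hu : 𝛀 S ≤ zpowers u := fun x hx => by
    rcases two_cases c4 u1 u2 hx with e | e
    · rw [e]; exact one_mem _
    · rw [e]; exact mem_zpowers _
  have nc : ∀ x : G, x * u * x⁻¹ ≠ y := fun x e => g.not_conj z (hS.conj_top x) y1 (by
    rw [← cj_omZ, ← e, ← cj_zpowers]; exact cj_mono x hu)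
  have uy : u ≠ y := by simpa using nc 1
  replace y1 := (mem_inf.1 y1).1
  generalize 𝛀 (𝐉 T) = Z at *
  have k := fun {x} => four_cases hE c2.le (x := x) (z1 u1) y1 u2 y2 uy
  have cm : ∀ {x a}, x ∈ 𝐍 Z → a ∈ Z → x * a * x⁻¹ ∈ Z := fun h1 h2 => Coprime.conj_mem le_rfl h1 h2
  have ky : ∀ x ∈ 𝐍 Z, x * y * x⁻¹ = y ∨ x * y * x⁻¹ = u * y := fun x hx => by
    rcases k (cm hx y1) with e | e | e | e
    · exact absurd (by simpa using e) y2
    · exact absurd (by rw [← e]; group) (nc x⁻¹)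
    · exact Or.inl e
    · exact Or.inr e
  have sy : s * y * s⁻¹ = u * y := (ky s s4).resolve_left fun e =>
    s3 (y3 (mem_centralizer_singleton_iff.2 (mul_inv_eq_iff_eq_mul.1 e)))
  have ku : ∀ x ∈ 𝐍 Z, x * u * x⁻¹ = u := fun x hx => by
    rcases k (cm hx (z1 u1)) with e | e | e | e
    · exact absurd (by simpa using e) u2
    · exact e
    · exact absurd e (nc x)
    · refine absurd ?_ (nc (s⁻¹ * x))
      rw [← sy] at e
      rw [mul_assoc s⁻¹, mul_inv_rev, ← mul_assoc, mul_assoc s⁻¹, e]; group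
  have km : ∀ x ∈ 𝐍 Z, x ∈ L ⊓ 𝐂 Z ↔ x * y * x⁻¹ = y := fun x hx => by
    refine ⟨fun h => mul_inv_eq_iff_eq_mul.2 (mem_centralizer_comm.1 h.2 y y1).symm, fun e =>
      ⟨y3 (mem_centralizer_singleton_iff.2 (mul_inv_eq_iff_eq_mul.1 e)),
        mem_centralizer_comm.2 fun a ha => ?_⟩⟩
    have e1 := mul_inv_eq_iff_eq_mul.1 (ku x hx)
    have e2 := mul_inv_eq_iff_eq_mul.1 e
    rcases k ha with rfl | rfl | rfl | rfl
    · simp
    · exact e1.symm
    · exact e2.symm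
    · rw [mul_assoc, ← e2, ← mul_assoc, ← e1, mul_assoc]
  have uu : u * u = 1 := by rw [← pow_two]; exact hE.2 u (z1 u1)
  have uy' : u * y ≠ y := fun e => u2 (by simpa using e)
  refine relIndex_eq_two_iff.2 ⟨s, s4, fun b hb => ?_⟩
  rw [km _ (mul_mem hb s4), km _ hb]
  have : b * s * y * (b * s)⁻¹ = u * (b * y * b⁻¹) := by
    rw [← ku b hb]
    have : b * s * y * (b * s)⁻¹ = b * (s * y * s⁻¹) * b⁻¹ := by group
    rw [this, sy]; group
  rw [this]
  rcases ky b hb with e | e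
  · rw [e]; exact Or.inr ⟨rfl, uy'⟩
  · rw [e, ← mul_assoc, uu, one_mul]; exact Or.inl ⟨rfl, uy'⟩

theorem op_le_T (z : ZN G) (g : Good T K L) : 𝐎 K ≤ T :=
  ((g.ll z).op_le_op z g.toCmp g.le).trans g.sylT.op_le

theorem P_le (g : Good T K L) : K ⊔ T ≤ L := sup_le g.le g.sylT.le

theorem sylP (g : Good T K L) : Syl 2 T (K ⊔ T) := g.sylT.of_le le_sup_right g.P_le

theorem llP (z : ZN G) (g : Good T K L) : LL T (K ⊔ T) :=
  (g.ll z).of_le g.sylP (g.sylT.op_le.trans le_sup_right) g.P_le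

theorem normW_P (z : ZN G) (g : Good T K L) (f : Far (𝐉 T) L) : K ⊔ T ≤ 𝐍 (wOf K) :=
  (sup_le le_normalizer (g.le_norm z f)).trans (norm_le_norm_W K)

theorem opP (z : ZN G) (g : Good T K L) (f : Far (𝐉 T) L) : 𝐎 (K ⊔ T) = (K ⊔ T) ⊓ 𝐂 (wOf K) := by
  have n := g.normW_P z f
  refine le_antisymm (le_inf (op_le _) (le_cent_symm ((g.le_of_inf_ne_bot (le_sup_left.trans
    ((le_norm_op _).trans (normalizer_le_normalizer_centralizer _))) fun e => ?_))))
    (Amalg.le_op inf_le_left (le_normalizer_inf le_normalizer (n.trans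
      (normalizer_le_normalizer_centralizer _))) (g.isPGroup_cent g.sylT.isPGroup (g.le_norm z f)))
  exact inf_center_ne_bot g.sylT.isPGroup ((W_le_op K).trans (g.op_le_T z)) (le_sup_right.trans n)
    g.W_ne_bot (eq_bot_iff.2 (e ▸ inf_le_inf_left _ (cent_anti g.sylP.op_le)))

theorem relIndex_T (z : ZN G) (g : Good T K L) (f : Far (𝐉 T) L) : (𝐎 (K ⊔ T)).relIndex T = 2 := by
  rw [g.opP z f, ← inf_relIndex_right, inf_right_comm, inf_eq_right.2 (le_sup_right : T ≤ K ⊔ T),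
    inf_relIndex_left]
  refine ((Nat.dvd_prime Nat.prime_two).1 (g.relIndex_cent g.sylT.isPGroup
    (le_sup_right.trans (g.normW_P z f)))).resolve_left fun e => g.J_not_le_cent ?_
  exact (Transfer.thompsonOf_le T).trans (relIndex_eq_one.1 e)

theorem relIndex_six (z : ZN G) (g : Good T K L) (f : Far (𝐉 T) L) :
    (𝐎 (K ⊔ T)).relIndex (K ⊔ T) = 6 := by
  rw [← relIndex_mul_relIndex _ T _ g.sylP.op_le le_sup_right, g.relIndex_T z f,
    g.relIndex_syl g.sylT.isPGroup (g.le_norm z f) (g.op_le_T z)]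

theorem not_comm_le (g : Good T K L) : ¬ ⁅K ⊔ T, K ⊔ T⁆ ≤ 𝐎 (K ⊔ T) := fun e =>
  g.not_le (op_isPGroup _) (g.comm.ge.trans ((commutator_mono le_sup_left
    ((Transfer.thompsonOf_le T).trans le_sup_right)).trans e))

theorem not_cent_omT (z : ZN G) (g : Good T K L) : ¬ K ⊔ T ≤ 𝐂 (𝛀 T) := fun e => by
  obtain ⟨S, s1, s2⟩ := exists_syl_ge g.sylT.isPGroup le_top
  exact g.not_cent_om z g.isPGroup s1 (((g.ll z).om_le s2).trans (le_cent_symm
    ((sup_le_sup_left (Transfer.thompsonOf_le T) K).trans e)))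

theorem op_two (z : ZN G) (g : Good T K L) (g' : Good T K' L') (hne : L' ≠ L) :
    𝐎 ((K ⊔ T) ⊔ (K' ⊔ T)) = ⊥ := by
  by_contra e
  have n := le_norm_op (p := 2) ((K ⊔ T) ⊔ (K' ⊔ T))
  have j := (Transfer.thompsonOf_le (p := 2) T).trans (le_sup_right.trans (le_sup_left.trans n))
  exact hne (g'.unique z g'.max g'.le g'.J_le g.max ((le_sup_left.trans (le_sup_right.trans n)).trans
    (g.norm_le z g.max g.le g.J_le (op_isPGroup _) e (le_sup_left.trans (le_sup_left.trans n)) j))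
    g.J_le)

end Good

theorem comm_le_of_relIndex_two {A W X : Subgroup G} (h : W.relIndex A ∣ 2) (h1 : X ≤ 𝐍 A)
    (h2 : X ≤ 𝐍 W) : ⁅A, X⁆ ≤ W := by
  obtain ⟨c, -, hc⟩ := relIndex_dvd_two_iff.1 h
  rw [commutator_le]
  intro a ha x hx
  by_cases e : a ∈ W
  · exact KS9.comm_mem_of_norm e (h2 hx)
  have e1 := (hc a ha).resolve_right e
  have e2 := (hc _ (Coprime.conj_mem h1 hx ha)).resolve_right fun e' =>
    e (by simpa [mul_assoc] using Coprime.conj_mem' h2 hx e')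
  have := mul_mem e1 (inv_mem e2)
  simpa [commutatorElement_def, mul_assoc] using this

theorem Good.small (z : ZN G) {T K L : Subgroup G} (g : Good T K L) (f : Far (𝐉 T) L)
    (hc : Nat.card (K ⊔ T : Subgroup G) ≤ 48) :
    IsElementaryAbelian 2 (𝐎 L) ∧ Nat.card (𝐎 L) ≤ 8 ∧ L = K ⊔ T := by
  have l := g.ll z
  have i6 := g.relIndex_six z f
  have c1 := card_mul_relIndex (op_le (p := 2) (K ⊔ T))
  have e := g.opP z f
  have a1 : wOf K ≤ 𝐎 (K ⊔ T) := e ▸ le_inf ((W_le K).trans le_sup_left) (elemAb_le_cent (elemAb_W K))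
  have a2 : 𝐎 (K ⊔ T) ≤ 𝐂 (wOf K) := e ▸ inf_le_right
  have a3 := le_norm_op (p := 2) (K ⊔ T)
  have a4 := op_le_op_of_le (p := 2) g.P_le (g.sylT.op_le.trans le_sup_right)
  have a5 := (op_le (p := 2) _).trans g.P_le
  have a6 := op_isPGroup (p := 2) (K ⊔ T)
  rw [i6] at c1
  generalize 𝐎 (K ⊔ T) = A at *
  have c2 := card_mul_relIndex a1
  rw [g.card] at c2
  have i2 : (wOf K).relIndex A ∣ 2 := by
    have := BG1.relIndex_ne_zero' (A := wOf K) (B := A)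
    have : (wOf K).relIndex A = 1 ∨ (wOf K).relIndex A = 2 := by omega
    rcases this with e | e <;> simp [e]
  have ab : IsMulCommutative A := by
    obtain ⟨c, c3, c4⟩ := relIndex_dvd_two_iff.1 i2
    have : A ≤ zpowers c ⊔ wOf K := fun b hb => (c4 b hb).elim (fun h => by
      simpa using mul_mem (mem_sup_right h) (mem_sup_left (inv_mem (mem_zpowers c)))) mem_sup_right
    have k : A ≤ 𝐂 (zpowers c) := this.trans (sup_le (isMulCommutative_iff_le_cent.1 inferInstance)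
      (le_cent_symm ((zpowers_le.2 c3).trans a2)))
    exact isMulCommutative_iff_le_cent.2 (le_cent_symm (this.trans (sup_le (le_cent_symm k)
      (le_cent_symm a2))))
  have el : IsElementaryAbelian 2 A := ⟨ab, fun a ha => by
    have h1 : a ^ 2 ∈ wOf K := by
      obtain ⟨c, -, c4⟩ := relIndex_dvd_two_iff.1 i2
      by_cases h : a ∈ wOf K
      · exact pow_mem h 2
      · have := mul_mem ((c4 a ha).resolve_right h) (inv_mem ((c4 _ (inv_mem ha)).resolve_right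
          (by simpa using h)))
        simpa [pow_two, mul_assoc] using this
    refine mem_bot.1 (g.W_inf_cent ▸ mem_inf.2 ⟨h1, mem_centralizer_comm.2 fun k hk => ?_⟩)
    have h2 := comm_le_of_relIndex_two i2 (le_sup_left.trans a3) (le_norm_W K)
      (commutator_mem_commutator (inv_mem ha) hk)
    have h3 : k * a * k⁻¹ = a * ⁅a⁻¹, k⁆ := by simp [commutatorElement_def, mul_assoc]
    have h4 : Commute a ⁅a⁻¹, k⁆ := comm_of_mem_of_isMulCommutative ab ha (a1 h2)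
    rw [← mul_inv_eq_iff_eq_mul, ← conj_pow, h3, h4.mul_pow, (elemAb_W K).2 _ h2, mul_one]⟩
  have e1 : 𝐎 L = A := le_antisymm a4 (((elemAb_le_cent el).trans (cent_anti a4)).trans l.cent)
  have c8 : Nat.card A ≤ 8 := by omega
  refine ⟨e1 ▸ el, e1 ▸ c8, le_antisymm ?_ g.P_le⟩
  have n1 : L ≤ 𝐍 (wOf K) := le_trans (fun x hx => by
    have k1 := l.perm z g.toCmp g.le hx
    have k2 := cj_le_of_le_of_mem g.le hx
    have k3 : wOf (cj x K) ≤ A := e1 ▸ (W_le_op _).trans (l.op_le_op z k1 k2)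
    refine cj_eq_self_iff.1 (l.pair z g.toCmp g.le k1 k2 fun e => ?_)
    have := card_sup_of_disjoint (a1.trans (KS9.le_norm_of_comm ab k3)) e
    have := card_le_of_le (sup_le a1 k3)
    rw [g.card, k1.card] at *
    omega) (norm_le_norm_W K)
  have n2 : L ≤ 𝐍 A := e1 ▸ le_norm_op L
  have x1 : 𝐑 (L ⊓ 𝐂 (wOf K)) ≤ 𝐂 A := res_le_cent_of_comm_le_cent a6 (inf_le_left.trans n2)
    ((comm_le_of_relIndex_two i2 ((res_le _).trans (inf_le_left.trans n2))
      ((res_le _).trans (inf_le_left.trans n1))).trans (le_cent_symm ((res_le _).trans inf_le_right)))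
  have x2 : L ⊓ 𝐂 (wOf K) ≤ A := e1 ▸ Amalg.le_op inf_le_left (le_normalizer_inf le_normalizer
    (n1.trans (normalizer_le_normalizer_centralizer _))) (isPGroup_of_res_le (op_isPGroup L)
    (x1.trans (e1 ▸ l.cent)))
  have i1 : (𝐂 (wOf K)).relIndex L ∣ 6 * 1 :=
    KS9.relIndex_dvd_of_plane (p := 2) (elemAb_W K) g.card n1
  rw [← inf_relIndex_left, le_antisymm x2 (le_inf a5 a2), ← relIndex_mul_relIndex A (K ⊔ T) L
    (e ▸ inf_le_left) g.P_le, i6] at i1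
  exact relIndex_eq_one.1 (Nat.dvd_one.1 (Nat.dvd_of_mul_dvd_mul_left (by decide) i1))

theorem exists_strad {S K L : Subgroup G} (hO : pCore 2 G = ⊥) (z : ZN G) (g : Good S K L) :
    ∃ T, T ∈ straddlingTwoSubgroups L := by
  by_contra h
  push Not at h
  have l := g.ll z
  have se : IsStronglyEmbedded L := by
    refine spe_two_iff.1 ⟨le_top, fun e => l.op_ne_bot ?_,
      dvd_card_of_isPGroup_le g.sylT.isPGroup l.ne g.sylT.le, fun A a1 a2 a3 => ?_⟩
    · rw [e, op_top, hO]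
    · by_contra hn
      exact h A ⟨a2, a3, a1, _, twoLocal_norm a2 a3, le_normalizer, fun e => hn (inf_le_right.trans e)⟩
  obtain ⟨w, hw, w1⟩ := ne_bot_iff_exists.1 g.W_ne_bot
  have w2 := (W_le_op K).trans (l.op_le_op z g.toCmp g.le) hw
  refine g.not_le (op_isPGroup L) (g.comm.ge.trans ((commutator_mono le_rfl
    (Transfer.thompsonOf_le_iff.2 fun A hA a ha => ?_)).trans
    (comm_le_right (g.le.trans (le_norm_op L)))))
  by_cases a1 : a = 1
  · rw [a1]; exact one_mem _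
  obtain ⟨x, x1, rfl⟩ := Invol.se_exists_conj se (orderOf_eq_prime ((elemAb_W K).2 w hw) w1)
    (orderOf_eq_prime (hA.2.1.2 a ha) a1) (op_le L w2) (g.sylT.le (hA.1 ha))
  exact Coprime.conj_mem (le_norm_op L) x1 w2

theorem mem_or_mem {A B T : Subgroup G} (hA : IsElementaryAbelian 2 A)
    (hB : IsElementaryAbelian 2 B) (hAT : A ≤ T) (hBT : B ≤ T) (h1 : A.relIndex T = 2)
    (h2 : B.relIndex T = 2) (hne : ¬ B ≤ A) (hne' : ¬ A ≤ B) (hn : T ≤ 𝐍 A) (hc : 𝐂 A ≤ A) {x : G}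
    (hx : x ∈ T) (h : x ^ 2 = 1) : x ∈ A ∨ x ∈ B := by
  have e : T ≤ B ⊔ A := le_of_relIndex_prime Nat.prime_two h1 (le_sup_of_le_right inf_le_left)
    fun e => hne ((le_inf hBT le_sup_left).trans e)
  obtain ⟨b, hb, a, ha, rfl⟩ := (mem_sup_of_le_normalizer (hBT.trans hn)).1 (e hx)
  by_cases a1 : a ∈ B
  · exact Or.inr (mul_mem hb a1)
  refine Or.inl (mul_mem (hc (mem_centralizer_comm.2 fun y hy => ?_)) ha)
  have c : a * b = b * a := by
    have b2 := hB.2 b hb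
    have a2 := hA.2 a ha
    rw [pow_two] at h b2 a2
    rw [eq_inv_of_mul_eq_one_left h, mul_inv_rev, ← eq_inv_of_mul_eq_one_left a2,
      ← eq_inv_of_mul_eq_one_left b2]
  have i : B.relIndex A = 2 := by
    have i1 := relIndex_le_of_le_right (H := B) hAT BG1.relIndex_ne_zero'
    have i2 := BG1.relIndex_ne_zero' (A := B) (B := A)
    have i3 : B.relIndex A ≠ 1 := fun e => hne' (relIndex_eq_one.1 e)
    omega
  exact mem_centralizer_singleton_iff.1 (le_of_relIndex_prime Nat.prime_two i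
    (inf_le_left.trans (le_cent_singleton (elemAb_le_cent hB hb)))
    (fun e => a1 (e ⟨ha, mem_centralizer_singleton_iff.2 c⟩)) hy)

theorem le_or_le {U A B : Subgroup G} (h : ∀ x ∈ U, x ∈ A ∨ x ∈ B) : U ≤ A ∨ U ≤ B := by
  by_contra e
  push Not at e
  obtain ⟨a, a1, a2⟩ := SetLike.not_le_iff_exists.1 e.1
  obtain ⟨b, b1, b2⟩ := SetLike.not_le_iff_exists.1 e.2
  rcases h _ (mul_mem a1 b1) with e | e
  · exact a2 ((mul_mem_cancel_right ((h b b1).resolve_right b2)).1 e)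
  · exact b2 ((mul_mem_cancel_left ((h a a1).resolve_left a2)).1 e)

/-- the order bound supplied by the amalgam theorem KS 10.3.11 -/
def Bd (G : Type*) [Group G] : Prop := ∀ T K L K' L' : Subgroup G, Good T K L → Good T K' L' →
  L' ≠ L → Nat.card (K ⊔ T : Subgroup G) ≤ 48

theorem Good.exists_two' (z : ZN G) (hB : Bd G) (hO : pCore 2 G = ⊥) {S K L : Subgroup G}
    (g : Good S K L) : ∃ K' L', Good S K' L' ∧ L' ≠ L := by
  by_cases h : 𝐍 (𝐉 S) ≤ L
  swap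
  · exact g.exists_two z h
  have hS : Syl 2 S ⊤ := g.sylT.of_normalizer_le le_top
    (inf_le_right.trans ((Transfer.normalizer_le_normalizer_thompsonOf S).trans h))
  obtain ⟨T, hT⟩ := exists_strad hO z g
  obtain ⟨T, hT⟩ := exists_maxStrad hT
  obtain ⟨x, x1, hTS⟩ := g.sylT.exists_conj_le hT.1.1 hT.1.2.2.1
  have st : St S L (cj x T) := ⟨hS, h, maxStrad_cj hT x1⟩
  generalize cj x T = T at st hTS
  obtain ⟨K₁, k1, k2, k3⟩ := st.exists_outside z
  obtain ⟨L₁, g₁⟩ := st.good k1 k2 k3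
  by_cases e : T = S
  · exact ⟨K₁, L₁, e ▸ g₁, fun e => k2 (e ▸ g₁.le)⟩
  exfalso
  obtain ⟨s, s1, s2⟩ := SetLike.exists_of_lt (lt_inf_normalizer_of_lt hS.isPGroup
    (lt_of_le_of_ne hTS e))
  have sL : S ⊓ L₁ ≤ T := g₁.sylT.le_of_le (le_inf hTS g₁.sylT.le) inf_le_right
    (hS.isPGroup.to_le inf_le_left)
  have g₂ := g₁.conj s
  rw [cj_of_mem_normalizer s1.2] at g₂
  have ne : cj s L₁ ≠ L₁ := fun e => s2 (sL ⟨s1.1, norm_maxLocal z g₁.max (cj_eq_self_iff.1 e)⟩)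
  have f₁ := g₂.far_of_ne ne
  obtain ⟨a1, a2, a3⟩ := g₁.small z f₁ (hB _ _ _ _ _ g₁ g₂ ne)
  have l₁ := g₁.ll z
  have a4 : (𝐎 L₁).relIndex T = 2 := a3 ▸ g₁.relIndex_T z f₁
  have a5 := maxLocal_eq g₁.max (op_isPGroup L₁) l₁.op_ne_bot (le_norm_op L₁)
  have a6 := g₁.sylT.op_le
  have a7 := l₁.cent
  have a8 : cj s (𝐎 L₁) ≠ 𝐎 L₁ := fun e => s2 (sL ⟨s1.1, a5 ▸ cj_eq_self_iff.1 e⟩)
  have a9 := g₁.sylT.le.trans (le_norm_op (p := 2) L₁)
  generalize 𝐎 L₁ = A at *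
  have b1 : IsElementaryAbelian 2 (cj s A) := elemAb_map a1 _
  have b6 := cj_le_of_le_of_mem_normalizer a6 s1.2
  have b4 : (cj s A).relIndex T = 2 := by rw [← cj_of_mem_normalizer s1.2, relIndex_cj, a4]
  have b8 : ¬ cj s A ≤ A := fun e => a8 (eq_of_le_of_card_le' e (card_cj s A).ge)
  have b9 : ¬ A ≤ cj s A := fun e => a8 (eq_of_le_of_card_le' e (card_cj s A).le).symm
  have l := g.ll z
  have v1 := l.pRed.elemAb
  have v2 : S ≤ 𝐍 (𝐕 L) := g.sylT.le.trans l.normV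
  have v3 : 𝐕 L ≤ S := l.pRed.le_op.trans g.sylT.op_le
  have v4 : wOf K ≤ 𝐕 L := l.W_eq z g.toCmp g.le ▸ comm_le_left (g.le.trans l.normV)
  have v5 : ⁅𝐕 L, K⁆ = wOf K := l.W_eq z g.toCmp g.le
  generalize 𝐕 L = V at *
  have u0 : cj s (V ⊓ T) = V ⊓ T := by
    rw [cj_inf, cj_of_mem_normalizer (v2 s1.1), cj_of_mem_normalizer s1.2]
  have u1 : V ⊓ T ≤ A := by
    rcases le_or_le (U := V ⊓ T) fun y hy =>
      mem_or_mem a1 b1 a6 b6 a4 b4 b8 b9 a9 a7 hy.2 (v1.2 y hy.1) with e | e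
    · exact e
    · rwa [← u0, cj_le_cj_iff] at e
  have u2 : V ≤ T := by
    have p := isPGroup_sup_of_le_normalizer g₁.sylT.isPGroup (elemAb_isPGroup v1) (hTS.trans v2)
    refine le_sup_right.trans (eq_of_inf_normalizer_le p le_sup_left ?_).ge
    rw [sup_inf_of_le_normalizer le_normalizer (hTS.trans v2)]
    refine sup_le le_rfl (le_trans (le_inf (inf_le_left.trans v3) ?_) sL)
    rw [← a5]
    refine le_normalizer_of_comm_le (le_trans (le_inf ?_ ?_) u1)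
    · exact (commutator_mono le_rfl inf_le_left).trans (comm_le_right (a6.trans (hTS.trans v2)))
    · exact (commutator_mono a6 inf_le_right).trans (comm_le_left le_rfl)
  rw [inf_eq_left.2 u2] at u0 u1
  have u3 : V ≤ cj s A := u0 ▸ cj_mono s u1
  have u4 : V ≤ wOf K := by
    refine (eq_of_le_of_card_le' v4 ?_).ge
    have := KS9.mul_card_le_of_lt (elemAb_isPGroup a1) (lt_of_le_of_ne u1 fun e => b9 (e ▸ u3))
    rw [g.card]; omega
  have u5 : V ≤ 𝛀 (𝐉 T) := by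
    refine (le_omZ u2 (le_cent_symm ?_) v1.2).trans (om_le_om_J T)
    exact (le_of_relIndex_prime Nat.prime_two a4 (le_sup_of_le_right inf_le_left) fun e =>
      b8 ((le_inf b6 le_sup_left).trans e)).trans
      (sup_le ((elemAb_le_cent b1).trans (cent_anti u3)) ((elemAb_le_cent a1).trans (cent_anti u1)))
  have c1 := g₁.card_om z f₁
  have c2 := g₁.toCmp.card_om g₁.isPGroup
  have c3 : V = 𝛀 (𝐉 T) := eq_of_le_of_card_le' u5 (c1.trans (g.card ▸ card_le_of_le v4))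
  obtain ⟨y, y1, y2⟩ := ne_bot_iff_exists.1 (fun e => by
    rw [e, card_bot, ← c3, le_antisymm u4 v4, g.card] at c2; omega : ZK (𝐉 T) K₁ ≠ ⊥)
  obtain ⟨w, w1, w2⟩ := ne_bot_iff_exists.1 (inf_center_ne_bot hS.isPGroup v3 v2
    fun e => g.W_ne_bot (eq_bot_iff.2 (e ▸ v4)))
  obtain ⟨k, -, k4⟩ := g.trans_W (u4 w1.1) w2 (u4 (c3 ▸ y1.1)) y2
  have := g₁.sylT.card_le (isPGroup_cj k hS.isPGroup) (le_trans (by
    rw [← k4, ← cj_centralizer_singleton]; exact cj_mono k (le_cent_singleton w1.2))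
    (g₁.cent_le z g₁.max g₁.le g₁.J_le y1 y2))
  exact e (eq_of_le_of_card_le' hTS (by rwa [card_cj] at this))

theorem Good.two (z : ZN G) (hB : Bd G) (hO : pCore 2 G = ⊥) {T K L : Subgroup G}
    (g : Good T K L) : Far (𝐉 T) L := by
  obtain ⟨K', L', g', hne⟩ := g.exists_two' z hB hO
  exact g'.far_of_ne hne

end Cfsg.Lib.Amalg.JC
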