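import Cfsg.Agent.Lib.Amalg.JComp5
import Cfsg.Agent.Lib.Linear.PSL2Small

/-! The link of KS 12.3 with the amalgam theorem KS 10.3.11. -/

set_option autoImplicit false
set_option linter.unusedSectionVars false

namespace Cfsg.Lib.Amalg.JC

open Subgroup
open Cfsg.Lib.Core hiding isPGroup_subgroupOf isPGroup_subgroupOf_iff isPGroup_map_subtype_iff
  isPGroup_zpowers_of_orderOf
open scoped commutatorElement

universe u

/-- The amalgam theorem KS 10.3.11, as a proposition. -/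
def Tri : Prop := ∀ {G : Type u} [Group G] (P₁ P₂ : Subgroup G) [Finite P₁] [Finite P₂]
  (_ : P₁ ⊔ P₂ = ⊤) (T : Subgroup G) (_ : T = P₁ ⊓ P₂)
  (_ : ∀ P ∈ ({P₁, P₂} : Set (Subgroup G)), P ⊓ 𝐂 (𝐎 P) ≤ 𝐎 P)
  (_ : ∀ P ∈ ({P₁, P₂} : Set (Subgroup G)), ∃ S : Sylow 2 P, (S : Subgroup P) = T.subgroupOf P)
  (_ : ∀ N : Subgroup G, N.Normal → N ≤ T → N = ⊥)
  (_ : ∀ P ∈ ({P₁, P₂} : Set (Subgroup G)), Nonempty (P ⧸ pCore 2 P ≃* Equiv.Perm (Fin 3)))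
  (_ : ∀ P ∈ ({P₁, P₂} : Set (Subgroup G)), ¬ P ≤ 𝐂 (omegaOne 2 (T ⊓ 𝐂 T))),
  (Nonempty (P₁ ≃* Equiv.Perm (Fin 4)) ∧ Nonempty (P₂ ≃* Equiv.Perm (Fin 4))) ∨
    (Nonempty (P₁ ≃* Multiplicative (ZMod 2) × Equiv.Perm (Fin 4)) ∧
      Nonempty (P₂ ≃* Multiplicative (ZMod 2) × Equiv.Perm (Fin 4)))

variable {G : Type u} [Group G] [Finite G] {T K L K' L' : Subgroup G}

theorem Good.quot_equiv (z : ZN G) (g : Good T K L) (f : Far (𝐉 T) L) :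
    Nonempty (↥(K ⊔ T) ⧸ pCore 2 ↥(K ⊔ T) ≃* Equiv.Perm (Fin 3)) := by
  obtain ⟨_, ⟨e⟩⟩ := KS9.plane_quotient_equiv (p := 2) (elemAb_W K) g.card (g.normW_P z f)
    (sup_le (g.le_of_J_le (le_sup_left.trans (le_norm_pec _)) (le_pec g.isPGroup
      ((Transfer.thompsonOf_le T).trans le_sup_right))) g.sylP.le_pec)
    fun e => g.not_le_cent ((g.le_res le_sup_left).trans e)
  obtain ⟨e'⟩ := Linear.sl2_two_equiv (F := ZMod 2) (by simp)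
  have : pCore 2 ↥(K ⊔ T) = (𝐂 (wOf K)).subgroupOf (K ⊔ T) := by
    rw [← op_subgroupOf_self, g.opP z f, inf_subgroupOf_left]
  exact ⟨(QuotientGroup.quotientMulEquivOfEq this).trans (e.trans e')⟩

theorem Good.tri (z : ZN G) (t : Tri.{u}) (g : Good T K L) (g' : Good T K' L') (hne : L' ≠ L) :
    (Nonempty (↥(K ⊔ T) ≃* Equiv.Perm (Fin 4)) ∧ Nonempty (↥(K' ⊔ T) ≃* Equiv.Perm (Fin 4))) ∨
    (Nonempty (↥(K ⊔ T) ≃* Multiplicative (ZMod 2) × Equiv.Perm (Fin 4)) ∧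
      Nonempty (↥(K' ⊔ T) ≃* Multiplicative (ZMod 2) × Equiv.Perm (Fin 4))) := by
  have f := g'.far_of_ne hne
  have f' := g.far_of_ne hne.symm
  have hO := g.op_two z g' hne
  have hI : T = (K ⊔ T) ⊓ (K' ⊔ T) := by
    refine le_antisymm (le_inf le_sup_right le_sup_right) ?_
    by_contra e
    have := le_of_relIndex_prime Nat.prime_three (g.relIndex_syl g.sylT.isPGroup (g.le_norm z f)
      (g.op_le_T z)) (inf_le_left.trans le_sup_right) e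
    exact hne (g.unique z g'.max (le_sup_left.trans (this.trans g'.P_le)) g'.J_le g.max g.le g.J_le)
  have k : ∀ {K L}, Good T K L → Far (𝐉 T) L → ∀ H, K ⊔ T ≤ H →
      CharP 2 ((K ⊔ T).subgroupOf H) ∧ Syl 2 (T.subgroupOf H) ((K ⊔ T).subgroupOf H) ∧
      Nonempty (↥((K ⊔ T).subgroupOf H) ⧸ pCore 2 ↥((K ⊔ T).subgroupOf H) ≃* Equiv.Perm (Fin 3)) ∧
      ¬ (K ⊔ T).subgroupOf H ≤ 𝐂 (𝛀 (T.subgroupOf H)) := fun {K L} g f H hH => by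
    refine ⟨(charP_subgroupOf hH).2 (g.llP z).charP, g.sylP.subgroupOf hH, ?_, fun e => ?_⟩
    · obtain ⟨e⟩ := g.quot_equiv z f
      exact ⟨(QuotientGroup.congr _ _ (subgroupOfEquivOfLe hH) (map_pCore_equiv _)).trans e⟩
    · rw [omZ_subgroupOf (le_sup_right.trans hH)] at e
      refine g.not_cent_omT z fun x hx => mem_centralizer_comm.2 fun y hy => ?_
      exact congrArg Subtype.val (mem_centralizer_comm.1 (e (x := ⟨x, hH hx⟩) hx)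
        ⟨y, (le_sup_right.trans hH) (omZ_le T hy)⟩ hy)
  obtain ⟨a1, a2, a3, a4⟩ := k g f _ (le_sup_left : K ⊔ T ≤ (K ⊔ T) ⊔ (K' ⊔ T))
  obtain ⟨b1, b2, b3, b4⟩ := k g' f' _ (le_sup_right : K' ⊔ T ≤ (K ⊔ T) ⊔ (K' ⊔ T))
  have e1 := subgroupOfEquivOfLe (le_sup_left : K ⊔ T ≤ (K ⊔ T) ⊔ (K' ⊔ T))
  have e2 := subgroupOfEquivOfLe (le_sup_right : K' ⊔ T ≤ (K ⊔ T) ⊔ (K' ⊔ T))
  have := t ((K ⊔ T).subgroupOf ((K ⊔ T) ⊔ (K' ⊔ T))) ((K' ⊔ T).subgroupOf ((K ⊔ T) ⊔ (K' ⊔ T)))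
    (by rw [← subgroupOf_sup le_sup_left le_sup_right, subgroupOf_self])
    (T.subgroupOf _) (Subgroup.ext fun x => by
      simp only [mem_subgroupOf, mem_inf]; rw [← mem_inf, ← hI])
    (by rintro _ (rfl | rfl); exacts [a1, b1])
    (by rintro _ (rfl | rfl); exacts [a2.exists_sylow', b2.exists_sylow'])
    (fun N n1 n2 => eq_bot_of_pCore_eq_bot (op_eq_bot_iff.1 hO) (a2.isPGroup.to_le n2))
    (by rintro _ (rfl | rfl); exacts [a3, b3]) (by rintro _ (rfl | rfl); exacts [a4, b4])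
  rcases this with ⟨⟨a⟩, ⟨b⟩⟩ | ⟨⟨a⟩, ⟨b⟩⟩
  · exact Or.inl ⟨⟨e1.symm.trans a⟩, ⟨e2.symm.trans b⟩⟩
  · exact Or.inr ⟨⟨e1.symm.trans a⟩, ⟨e2.symm.trans b⟩⟩

theorem bd (z : ZN G) (t : Tri.{u}) : Bd G := fun T K L K' L' g g' hne => by
  rcases g.tri z t g' hne with ⟨⟨a⟩, -⟩ | ⟨⟨a⟩, -⟩ <;> rw [Nat.card_congr a.toEquiv] <;>
    simp [Fintype.card_perm, Nat.factorial]

theorem St.exists_two {S M : Subgroup G} (z : ZN G) (t : Tri.{u}) (hO : pCore 2 G = ⊥)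
    (h : St S M T) : ∃ K L K' L', Good T K L ∧ Good T K' L' ∧ L' ≠ L := by
  obtain ⟨K, k1, k2, k3⟩ := h.exists_outside z
  obtain ⟨L, g⟩ := h.good k1 k2 k3
  obtain ⟨K', L', g', hne⟩ := g.exists_two' z (bd z t) hO
  exact ⟨K, L, K', L', g, g', hne⟩

end Cfsg.Lib.Amalg.JC
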