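import Cfsg.Agent.Lib.Amalg.WClosed
import Cfsg.Agent.Lib.Layer.CompAction

/-! `O^p(E°)` when `O^p(E/C_E(U))` is quasisimple. -/

set_option autoImplicit false
set_option linter.unusedSectionVars false

namespace Cfsg.Lib.Amalg.LargeQS

open Subgroup
open Cfsg.Lib.Core hiding isPGroup_subgroupOf isPGroup_subgroupOf_iff isPGroup_map_subtype_iff
open scoped commutatorElement

variable {G : Type*} [Group G] [Finite G] {p : ℕ} [hp : Fact p.Prime]

theorem eq_bot_of_cent_res (hO : pCore p G = ⊥) {Y : Subgroup G} (hY : IsPGroup p Y)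
    (h : ⁅pResidualOf p (⊤ : Subgroup G), Y⁆ = ⊥) : Y = ⊥ := by
  obtain ⟨S, hS, hle⟩ := exists_syl_ge hY (le_top : Y ≤ ⊤)
  haveI := res_normal (p := p) (⊤ : Subgroup G)
  haveI : (S ⊓ 𝐂 (pResidualOf p (⊤ : Subgroup G))).Normal := normal_of_top_le_normalizer (hS.res_sup.ge.trans
    (sup_le ((le_cent_symm inf_le_right).trans (cent_le_norm _))
      (le_normalizer_inf le_normalizer le_normalizer_of_normal')))
  exact le_bot_iff.1 ((le_inf hle (comm_eq_bot_iff'.1 h)).trans (hO ▸ le_pCore (hS.isPGroup.to_le inf_le_left)))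

theorem quo {H : Type*} [Group H] [Finite H] {π : G →* H} (hπ : Function.Surjective π) (hO : pCore p H = ⊥)
    (hqs : IsQuasisimple (pResidualOf p (⊤ : Subgroup H))) {N Q : Subgroup G} [hN : N.Normal] (hQ : IsPGroup p Q)
    (hQN : Q ≤ N) (hQD : ¬ Q ≤ π.ker) : (pResidualOf p N).map π = pResidualOf p ⊤ ∧
      ∀ Y : Subgroup G, IsPGroup p Y → ¬ Y ≤ π.ker → pResidualOf p N ≤ ⁅pResidualOf p N, Y⁆ ⊔ π.ker := by
  haveI := res_normal (p := p) (⊤ : Subgroup H)
  have key : ∀ Y : Subgroup G, IsPGroup p Y → ¬ Y ≤ π.ker →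
      ⁅pResidualOf p (⊤ : Subgroup H), Y.map π⁆ = pResidualOf p ⊤ := fun Y hY hn =>
    (Cfsg.Lib.Layer.IsQuasisimple.commutator_eq_or_eq_bot hqs le_normalizer_of_normal').resolve_right fun a =>
      hn ((Subgroup.map_eq_bot_iff _).1 (eq_bot_of_cent_res hO (hY.map π) a))
  haveI := hN.map π hπ
  have e : (pResidualOf p N).map π = pResidualOf p ⊤ := by
    rw [map_res]
    exact le_antisymm (res_mono le_top) ((res_res ⊤).ge.trans (res_mono ((key Q hQ hQD).ge.trans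
      ((commutator_mono le_rfl (map_mono hQN)).trans (comm_le_right le_normalizer_of_normal')))))
  refine ⟨e, fun Y hY hn => ?_⟩
  rw [← comap_map_eq, map_commutator, e, key Y hY hn, ← e]
  exact le_comap_map _ _

theorem le_of_le_sup_cent {R C M : Subgroup G} (hR : pResidualOf p R = R) (hC : R ≤ 𝐍 C) {A : Subgroup G}
    (hA : ⁅R, A⁆ = R) (hM : M ≤ R) (hn : R ≤ 𝐍 M) (hMA : A ≤ 𝐍 M) (hc : ⁅R ⊓ C, A⁆ ≤ pCoreOf p R)
    (h : R ≤ M ⊔ C) : R ≤ M := by
  have e : R ≤ M ⊔ (C ⊓ R) := (le_inf h le_rfl).trans (sup_inf_of_le_normalizer hM (hM.trans hC)).le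
  have hO : pCoreOf p R ≤ 𝐍 M := (op_le R).trans hn
  refine hR.ge.trans (res_le_of_le_sup (op_isPGroup R) hO (hA.ge.trans ((commutator_mono e le_rfl).trans
    (comm_sup_le (le_sup_of_le_left (comm_le_left hMA)) (le_sup_of_le_right (inf_comm R C ▸ hc))
      (le_normalizer_of_le le_sup_left) (inf_le_right.trans (le_normalizer_sup hn (le_norm_op R)))))))

theorem main {Q U E R : Subgroup G} (hQp : IsPGroup p Q) (hQ1 : Q ≠ ⊥) (hQ : IsLarge Q) (hU : IsPGroup p U)
    (hU1 : U ≠ ⊥) (hQE : Q ≤ E) (hEU : E ≤ 𝐍 U) (hQn : ¬ E ≤ 𝐍 Q) [((𝐂 U).subgroupOf E).Normal]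
    (hred : pCore p (E ⧸ (𝐂 U).subgroupOf E) = ⊥)
    (hqs : IsQuasisimple ((pResidual p E ⊔ (𝐂 U).subgroupOf E).map (QuotientGroup.mk' ((𝐂 U).subgroupOf E))))
    (hR : R = pResidualOf p (weakClosure Q E)) [((𝐂 U).subgroupOf R).Normal] :
    pResidualOf p E ⊔ (E ⊓ 𝐂 U) = R ⊔ (E ⊓ 𝐂 U) ∧ ⁅R, R⁆ = R ∧ pResidualOf p R = R ∧
      IsQuasisimple (R ⧸ (𝐂 U).subgroupOf R) ∧ IsQuasisimple (R ⧸ pCore p R) ∧
      ∀ Y : Subgroup G, Y ≤ E → IsPGroup p Y → ¬ Y ≤ 𝐂 U → ⁅R, Y⁆ = R := by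
  have hw := large_wc hQ hQp hQ1
  have hwE := hw.mono hQE le_top
  rw [hw.wc_eq_ncl hQE] at hR
  set π := QuotientGroup.mk' ((𝐂 U).subgroupOf E) with hπ
  have hsur : Function.Surjective π := QuotientGroup.mk'_surjective _
  have hker : π.ker = (𝐂 U).subgroupOf E := QuotientGroup.ker_mk' _
  have hNE : ncl Q E ≤ E := ncl_le hQE
  have hEN : E ≤ 𝐍 (ncl Q E) := le_normalizer_iSup_cj Q E
  have hQN : Q ≤ ncl Q E := le_iSup_cj Q E
  have hRN : R ≤ ncl Q E := hR ▸ res_le _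
  have hRE : R ≤ E := hRN.trans hNE
  have hER : E ≤ 𝐍 R := hR ▸ hEN.trans (norm_le_norm_res _)
  have hRR : pResidualOf p R = R := by rw [hR, res_res]
  have hEC : E ≤ 𝐍 (E ⊓ 𝐂 U) := le_normalizer_inf le_normalizer (hEU.trans (normalizer_le_normalizer_centralizer _))
  have hqs' : IsQuasisimple (pResidualOf p (⊤ : Subgroup (E ⧸ (𝐂 U).subgroupOf E))) := by
    rwa [Subgroup.map_sup, (Subgroup.map_eq_bot_iff _).2 hker.ge, sup_bot_eq, ← res_top, map_res,
      map_top_of_surjective _ hsur] at hqs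
  have hQC : ¬ Q ≤ 𝐂 U := fun a => hQn (((hwE.frattini (le_inf hQE a) inf_le_left hEC)).trans
    (sup_le (inf_le_right.trans (large_cent_le hQ hQp hU hU1 (hQE.trans hEU))) inf_le_right))
  haveI : ((ncl Q E).subgroupOf E).Normal := (normal_subgroupOf_iff_le_normalizer hNE).2 hEN
  have hsub : ∀ Y : Subgroup G, Y ≤ E → ¬ Y ≤ 𝐂 U → ¬ Y.subgroupOf E ≤ π.ker := fun Y h1 h2 a =>
    h2 fun y hy => hker.le (a (show (⟨y, h1 hy⟩ : E) ∈ Y.subgroupOf E from hy))
  obtain ⟨e1, e2⟩ := quo hsur hred hqs' (isPGroup_subgroupOf hQp E) (N := (ncl Q E).subgroupOf E)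
    (fun _ h => hQN h) (hsub Q hQE hQC)
  rw [res_subgroupOf hNE, ← hR] at e1 e2
  have hmap : ∀ A B : Subgroup E, A ≤ B ⊔ π.ker → A.map E.subtype ≤ B.map E.subtype ⊔ (E ⊓ 𝐂 U) := fun A B h => by
    have := map_mono (f := E.subtype) h
    rwa [Subgroup.map_sup, hker, subgroupOf_map_subtype, inf_comm] at this
  have hc : ∀ A : Subgroup G, A ≤ ncl Q E → ⁅R ⊓ (E ⊓ 𝐂 U), A⁆ ≤ pCoreOf p R := fun A hA => by
    rw [op_eq_inf hRN (hNE.trans hER)]
    refine le_inf ?_ ((commutator_mono inf_le_left le_rfl).trans (comm_le_left ((hA.trans hNE).trans hER)))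
    rw [commutator_comm]
    exact (commutator_mono hA (inf_le_right.trans inf_le_right)).trans (large_ncl hQ hQp hQE hU hU1 hEU).2.1
  have hperf : ⁅R, R⁆ = R := by
    refine le_antisymm (comm_le_of_le le_rfl le_rfl) (le_of_le_sup_cent hRR (hRE.trans hEC) (A := Q)
      (hR ▸ hwE.comm_res) (comm_le_of_le le_rfl le_rfl) (left_le_normalizer_comm _ _)
      (le_normalizer_commutator (hQE.trans hER) (hQE.trans hER)) (hc Q hQN) ?_)
    have := hmap (R.subgroupOf E) ⁅R.subgroupOf E, R.subgroupOf E⁆ (by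
      rw [← comap_map_eq, map_commutator, e1, Cfsg.Lib.Layer.IsQuasisimple.commutator_self hqs', ← e1]
      exact le_comap_map _ _)
    rwa [map_commutator, map_subgroupOf_of_le hRE] at this
  have hq1 : IsQuasisimple (R ⧸ (𝐂 U).subgroupOf R) := by
    have hk : (π.comp (inclusion hRE)).ker = (𝐂 U).subgroupOf R := by
      rw [← MonoidHom.comap_ker, hker]; rfl
    have hr : (π.comp (inclusion hRE)).range = pResidualOf p ⊤ := by
      rw [MonoidHom.range_comp, inclusion_range, e1]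
    exact Cfsg.Lib.Layer.IsQuasisimple.of_mulEquiv hqs' (((QuotientGroup.quotientMulEquivOfEq hk.symm).trans
      (QuotientGroup.quotientKerEquivRange _)).trans (MulEquiv.subgroupCongr hr)).symm
  have hOC : pCoreOf p R ≤ 𝐂 U := by
    have hle := (op_le R).trans hRE (a := pCoreOf p R)
    haveI : ((pCoreOf p R).subgroupOf E).Normal :=
      (normal_subgroupOf_iff_le_normalizer hle).2 (le_norm_op_of_le hER)
    haveI := this.map π hsur
    by_contra a
    exact hsub _ hle a ((Subgroup.map_eq_bot_iff _).1 (le_bot_iff.1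
      (hred ▸ le_pCore ((isPGroup_subgroupOf (op_isPGroup R) E).map π))))
  refine ⟨le_antisymm (sup_le ?_ le_sup_right) (sup_le_sup_right (hR ▸ res_mono hNE) _), hperf, hRR, hq1, ?_,
    fun Y h1 h2 h3 => le_antisymm (comm_le_left (h1.trans hER)) (le_of_le_sup_cent hRR (hRE.trans hEC) hperf
      (comm_le_left (h1.trans hER)) (left_le_normalizer_comm _ _) (left_le_normalizer_comm _ _) (hc R hRN) ?_)⟩
  · have := hmap (pResidual p E) (R.subgroupOf E) (by
      rw [← comap_map_eq, e1, ← map_le_iff_le_comap, ← res_top, map_res]; exact res_mono le_top)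
    rwa [map_subgroupOf_of_le hRE] at this
  · have hle : pCore p R ≤ (𝐂 U).subgroupOf R := fun x hx => hOC (mem_op_iff.2 hx)
    haveI : Group.IsPerfect R := Subgroup.isPerfect_iff.2 hperf
    refine Cfsg.Lib.Layer.isQuasisimple_of_ker_le_center
      (Group.IsPerfect.ofSurjective (QuotientGroup.mk'_surjective _))
      (QuotientGroup.map _ ((𝐂 U).subgroupOf R) (MonoidHom.id R) hle) (fun y => ?_) (fun y hy => ?_) hq1
    · obtain ⟨y, rfl⟩ := QuotientGroup.mk_surjective y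
      exact ⟨y, rfl⟩
    · obtain ⟨y, rfl⟩ := QuotientGroup.mk_surjective y
      replace hy : y ∈ (𝐂 U).subgroupOf R := (QuotientGroup.eq_one_iff y).1 hy
      refine mem_center_iff.2 fun g => ?_
      obtain ⟨g, rfl⟩ := QuotientGroup.mk_surjective g
      rw [eq_comm, ← commutatorElement_eq_one_iff_mul_comm]
      exact (QuotientGroup.eq_one_iff ⁅y, g⁆).2 (mem_op_iff.1
        (hc R hRN (commutator_mem_commutator ⟨y.2, hRE y.2, hy⟩ g.2)))
  · have := hmap _ _ (e2 _ (isPGroup_subgroupOf h2 E) (hsub Y h1 h3))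
    rwa [map_commutator, map_subgroupOf_of_le hRE, map_subgroupOf_of_le h1] at this

end Cfsg.Lib.Amalg.LargeQS
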