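import Mathlib.Algebra.Polynomial.Degree.Lemmas
import Mathlib.Algebra.Polynomial.AlgebraMap
import Mathlib.Algebra.Polynomial.BigOperators
import Mathlib.LinearAlgebra.FiniteDimensional.Lemmas
import Mathlib.LinearAlgebra.Projection
import Mathlib.LinearAlgebra.Dimension.Constructions
import Mathlib.LinearAlgebra.Basis.VectorSpace
import Mathlib.Tactic

/-! Limits of subspaces of an algebra under a one-parameter group. -/

set_option autoImplicit false

namespace Cfsg.Lib.Amalg.Lim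

open Polynomial Module

variable {F R : Type*} [Field F] [Ring R] [Algebra F R]

/-- Polynomials with coefficients in a subspace. -/
def cf (U : Submodule F R) : Submodule F R[X] where
  carrier := {g | ∀ k, g.coeff k ∈ U}
  add_mem' := fun ha hb k => by rw [coeff_add]; exact U.add_mem (ha k) (hb k)
  zero_mem' := fun _ => U.zero_mem
  smul_mem' := fun c _ h k => by rw [coeff_smul]; exact U.smul_mem c (h k)

variable {U U' L : Submodule F R} {u v u' v' : R[X]}

theorem mono_mem {a : R} (ha : a ∈ U) (k : ℕ) : monomial k a ∈ cf U := fun j => by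
  rw [coeff_monomial]; split_ifs
  exacts [ha, U.zero_mem]

theorem mul_X_mem {g : R[X]} (hg : g ∈ cf U) (e : ℕ) : g * X ^ e ∈ cf U := fun k => by
  rw [coeff_mul_X_pow']; split_ifs
  exacts [hg _, U.zero_mem]

theorem shift (u v g : R[X]) (e : ℕ) : u * (g * X ^ e) * v = u * g * v * X ^ e := by
  rw [← mul_assoc, mul_assoc _ (X ^ e), X_pow_mul, mul_assoc, mul_assoc, mul_assoc]

theorem deg_shift {f : R[X]} {d : ℕ} (h : f.natDegree ≤ d) (e : ℕ) : (f * X ^ e).natDegree ≤ d + e :=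
  natDegree_mul_le.trans (add_le_add h (natDegree_X_pow_le e))

/-- Leading coefficients of the transforms of polynomials with coefficients in `U`. -/
def lead (u v : R[X]) (U : Submodule F R) : Submodule F R where
  carrier := {c | ∃ d, ∃ g ∈ cf U, (u * g * v).natDegree ≤ d ∧ (u * g * v).coeff d = c}
  add_mem' := by
    rintro _ _ ⟨d, g, hg, h1, rfl⟩ ⟨e, h, hh, h2, rfl⟩
    have e1 : u * (g * X ^ e + h * X ^ d) * v = u * g * v * X ^ e + u * h * v * X ^ d := by
      rw [mul_add, add_mul, shift, shift]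
    refine ⟨d + e, g * X ^ e + h * X ^ d, (cf U).add_mem (mul_X_mem hg e) (mul_X_mem hh d), ?_, ?_⟩
    · rw [e1]
      exact natDegree_add_le_of_degree_le (deg_shift h1 e) (add_comm e d ▸ deg_shift h2 d)
    · rw [e1, coeff_add, coeff_mul_X_pow, add_comm d e, coeff_mul_X_pow]
  zero_mem' := ⟨0, 0, (cf U).zero_mem, by simp, by simp⟩
  smul_mem' := by
    rintro c _ ⟨d, g, hg, h1, rfl⟩
    have e1 : u * (c • g) * v = c • (u * g * v) := by rw [mul_smul_comm, smul_mul_assoc]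
    exact ⟨d, c • g, (cf U).smul_mem c hg, e1 ▸ (natDegree_smul_le _ _).trans h1, by rw [e1, coeff_smul]⟩

theorem lead_mono (h : U ≤ U') : lead u v U ≤ lead u v U' := by
  rintro _ ⟨d, g, hg, h1, rfl⟩
  exact ⟨d, g, fun k => h (hg k), h1, rfl⟩

theorem lead_mul (h : ∀ a ∈ U, ∀ b ∈ U', a * b = 0) (e : v * u' = 1) {c c' : R} (hc : c ∈ lead u v U)
    (hc' : c' ∈ lead u' v' U') : c * c' = 0 := by
  obtain ⟨d, g, hg, h1, rfl⟩ := hc
  obtain ⟨d', g', hg', h2, rfl⟩ := hc'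
  have e1 : g * g' = 0 := Polynomial.ext fun k => by
    rw [coeff_mul]; exact Finset.sum_eq_zero fun x _ => h _ (hg _) _ (hg' _)
  have e2 : u * g * v * (u' * g' * v') = u * (g * (v * u') * g') * v' := by simp only [mul_assoc]
  rw [← coeff_mul_add_eq_of_natDegree_le h1 h2, e2, e, mul_one, e1, mul_zero, zero_mul, coeff_zero]

theorem lead_le (h : ∀ a ∈ U, ∀ k, u * monomial k a * v ∈ cf L) : lead u v U ≤ L := by
  rintro _ ⟨d, g, hg, -, rfl⟩
  suffices u * g * v ∈ cf L from this d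
  rw [g.as_sum_support, Finset.mul_sum, Finset.sum_mul]
  exact (cf L).sum_mem fun k _ => h _ (hg k) k

theorem finrank_le [FiniteDimensional F R] (hi : ∀ g, u * g * v = 0 → g = 0) (hu : u.natDegree ≤ 1)
    (hv : v.natDegree ≤ 1) (U : Submodule F R) : finrank F U ≤ finrank F (lead u v U) := by
  obtain ⟨π, hπ⟩ := (lead u v U).subtype.exists_leftInverse_of_injective (Submodule.ker_subtype _)
  have key : ∀ d : ℕ, (d + 1) * finrank F U ≤ (d + 3) * finrank F (lead u v U) := fun d => by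
    let P : (Fin (d + 1) → U) →ₗ[F] R[X] :=
      ∑ k : Fin (d + 1), (monomial (k : ℕ)).restrictScalars F ∘ₗ U.subtype ∘ₗ LinearMap.proj k
    have hP : ∀ x, P x = ∑ k : Fin (d + 1), monomial (k : ℕ) (x k : R) := fun x => by simp [P]
    let Ψ : (Fin (d + 1) → U) →ₗ[F] (Fin (d + 3) → lead u v U) := LinearMap.pi fun k =>
      π ∘ₗ (lcoeff R (k : ℕ)).restrictScalars F ∘ₗ LinearMap.mulRight F v ∘ₗ LinearMap.mulLeft F u ∘ₗ P
    have hΨ : Function.Injective Ψ := (injective_iff_map_eq_zero Ψ).2 fun x hx => by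
      have h1 : P x ∈ cf U := hP x ▸ (cf U).sum_mem fun k _ => mono_mem (x k).2 _
      have h2 : (P x).natDegree ≤ d := hP x ▸ natDegree_sum_le_of_forall_le _ _ fun k _ =>
        (natDegree_monomial_le _).trans (Nat.le_of_lt_succ k.2)
      have h3 : (u * P x * v).natDegree < d + 3 := by
        have := natDegree_mul_le (p := u * P x) (q := v)
        have := natDegree_mul_le (p := u) (q := P x)
        omega
      have h4 : π ((u * P x * v).coeff (u * P x * v).natDegree) = 0 := congrFun hx ⟨_, h3⟩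
      have h5 := LinearMap.congr_fun hπ ⟨_, _, _, h1, le_rfl, rfl⟩
      rw [LinearMap.comp_apply, Submodule.subtype_apply, h4] at h5
      have h6 := hi _ (leadingCoeff_eq_zero.1 (congrArg Subtype.val h5).symm)
      ext k
      have := congrArg (coeff · k) h6
      simpa [hP, coeff_monomial, Fin.val_inj] using this
    simpa [finrank_pi_fintype] using LinearMap.finrank_le_finrank_of_injective hΨ
  have := key (2 * finrank F (lead u v U))
  nlinarith

/-- `1 + ξ X` -/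
noncomputable def ex (ξ : R) : R[X] := 1 + monomial 1 ξ

variable {ξ : R}

theorem ex_deg (ξ : R) : (ex ξ).natDegree ≤ 1 :=
  natDegree_add_le_of_degree_le (by simp) (natDegree_monomial_le _)

theorem ex_mul (h : ξ * ξ = 0) : ex ξ * ex (-ξ) = 1 := by
  simp [ex, mul_add, add_mul, monomial_mul_monomial, h]

theorem ex_mul' (h : ξ * ξ = 0) : ex (-ξ) * ex ξ = 1 := by
  simpa using ex_mul (ξ := -ξ) (by rw [neg_mul_neg, h])

theorem ex_conj (ξ a : R) (k : ℕ) : ex ξ * monomial k a * ex (-ξ) =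
    monomial k a + monomial (k + 1) (ξ * a - a * ξ) - monomial (k + 2) (ξ * a * ξ) := by
  simp only [ex, mul_add, add_mul, monomial_mul_monomial, one_mul, mul_one, mul_neg, map_neg, map_sub,
    add_comm 1 k, add_assoc]
  abel

theorem ex_inj (h : ξ * ξ = 0) (g : R[X]) (e : ex ξ * g * ex (-ξ) = 0) : g = 0 := by
  have : ex (-ξ) * (ex ξ * g * ex (-ξ)) * ex ξ = ex (-ξ) * ex ξ * g * (ex (-ξ) * ex ξ) := by simp only [mul_assoc]
  rwa [e, ex_mul' h, mul_zero, zero_mul, one_mul, mul_one, eq_comm] at this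

/-- The limit of `U` under conjugation by `1 + t ξ`. -/
noncomputable abbrev lim (ξ : R) (U : Submodule F R) : Submodule F R := lead (ex ξ) (ex (-ξ)) U

theorem lim_le (h : ∀ a ∈ U, a ∈ L ∧ ξ * a - a * ξ ∈ L ∧ ξ * a * ξ ∈ L) : lim ξ U ≤ L :=
  lead_le fun a ha k => by
    rw [ex_conj]
    exact (cf L).sub_mem ((cf L).add_mem (mono_mem (h a ha).1 _) (mono_mem (h a ha).2.1 _)) (mono_mem (h a ha).2.2 _)

theorem finrank_le_lim [FiniteDimensional F R] (h : ξ * ξ = 0) (U : Submodule F R) :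
    finrank F U ≤ finrank F (lim ξ U) := finrank_le (ex_inj h) (ex_deg _) (ex_deg _) U

theorem mem_lim (h : ξ * ξ = 0) {a : R} (h0 : a ∈ U) (h1 : ξ * a - a * ξ ∈ U) (h2 : ξ * a * ξ ∈ U) : a ∈ lim ξ U := by
  have e : ex ξ * (ex (-ξ) * monomial 0 a * ex (- -ξ)) * ex (-ξ) = monomial 0 a := by
    rw [neg_neg, show ∀ x, ex ξ * (ex (-ξ) * x * ex ξ) * ex (-ξ) = ex ξ * ex (-ξ) * x * (ex ξ * ex (-ξ)) from
      fun x => by simp only [mul_assoc], ex_mul h, one_mul, mul_one]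
  refine ⟨0, ex (-ξ) * monomial 0 a * ex (- -ξ), ?_, by rw [e]; exact natDegree_monomial_le _, by rw [e]; simp⟩
  rw [ex_conj]
  refine (cf U).sub_mem ((cf U).add_mem (mono_mem h0 _) (mono_mem ?_ _)) (mono_mem ?_ _)
  · convert U.neg_mem h1 using 1; noncomm_ring
  · convert h2 using 1; noncomm_ring

theorem top_mem_lim {a : R} (h0 : a ∈ U) : ξ * a * ξ ∈ lim ξ U := by
  refine (lim ξ U).neg_mem_iff.1 ⟨2, monomial 0 a, mono_mem h0 _, ?_, ?_⟩ <;> rw [ex_conj]
  · compute_degree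
  · simp [coeff_monomial]

theorem mid_mem_lim (h : ξ * ξ = 0) {a : R} (h0 : a ∈ U) (h2 : ξ * a * ξ ∈ U) : ξ * a - a * ξ ∈ lim ξ U := by
  have e : ex ξ * (monomial 0 a + monomial 2 (ξ * a * ξ)) * ex (-ξ) = monomial 0 a + monomial 1 (ξ * a - a * ξ) := by
    have e1 : ξ * (ξ * a * ξ) = 0 := by rw [← mul_assoc, ← mul_assoc, h, zero_mul, zero_mul]
    have e2 : ξ * a * ξ * ξ = 0 := by rw [mul_assoc, h, mul_zero]
    rw [mul_add, add_mul, ex_conj, ex_conj, e1, e2]
    simp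
  refine ⟨1, _, (cf U).add_mem (mono_mem h0 0) (mono_mem h2 2), ?_, ?_⟩ <;> rw [e]
  · compute_degree
  · simp [coeff_monomial]

/-- Two square-zero subspaces normalising each other. -/
def Nm (A B : Submodule F R) : Prop := ∀ a ∈ A, ∀ b ∈ B, a * b - b * a ∈ A ⊓ B

/-- Square-zero subspaces. -/
def Sq (A : Submodule F R) : Prop := ∀ a ∈ A, ∀ b ∈ A, a * b = 0

theorem three (h2 : (2 : F) ≠ 0) {A B C : Submodule F R} (hA : Sq A) (hB : Sq B) (hC : Sq C) (n1 : Nm A B)
    (n2 : Nm A C) (n3 : Nm B C) {l : R} (hl : l ∈ A ⊔ B ⊔ C) (h0 : l * l = 0) :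
    ∃ a ∈ A, ∃ b ∈ B, ∃ c ∈ C, ∃ a' ∈ A, ∃ b' ∈ B, 1 + l = (1 + a) * (1 + b) * (1 + c) * (1 + a') * (1 + b') := by
  obtain ⟨_, h, c, hc, rfl⟩ := Submodule.mem_sup.1 hl
  obtain ⟨a, ha, b, hb, rfl⟩ := Submodule.mem_sup.1 h
  have aa := hA a ha a ha
  have bb := hB b hb b hb
  have cc := hC c hc c hc
  have canc : ∀ x : R, x + x = 0 → x = 0 := fun x hx => by
    rw [← two_smul F x] at hx; exact (smul_eq_zero.1 hx).resolve_left h2
  obtain ⟨m1, hm1, e1⟩ : ∃ m ∈ A ⊓ B, m + m = a * b - b * a :=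
    ⟨_, (A ⊓ B).smul_mem (2 : F)⁻¹ (n1 a ha b hb), by rw [← two_smul F, smul_inv_smul₀ h2]⟩
  obtain ⟨m2, hm2, e2⟩ : ∃ m ∈ A ⊓ C, m + m = a * c - c * a :=
    ⟨_, (A ⊓ C).smul_mem (2 : F)⁻¹ (n2 a ha c hc), by rw [← two_smul F, smul_inv_smul₀ h2]⟩
  obtain ⟨m3, hm3, e3⟩ : ∃ m ∈ B ⊓ C, m + m = b * c - c * b :=
    ⟨_, (B ⊓ C).smul_mem (2 : F)⁻¹ (n3 b hb c hc), by rw [← two_smul F, smul_inv_smul₀ h2]⟩
  have s0 : a * b + b * a + a * c + c * a + b * c + c * b = 0 := by
    rw [← h0]; simp only [mul_add, add_mul, aa, bb, cc]; abel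
  have hm : m1 + m2 + m3 = a * b + a * c + b * c := by
    rw [← sub_eq_zero]
    apply canc
    rw [← neg_eq_zero.2 s0, ← sub_eq_zero]
    calc _ = (m1 + m1 - (a * b - b * a)) + (m2 + m2 - (a * c - c * a)) + (m3 + m3 - (b * c - c * b)) := by abel
      _ = 0 := by rw [e1, e2, e3]; simp
  have t : ∀ {x y : R}, x * x = 0 → x * (y * x - x * y) = 0 → x * (y * x) = 0 := fun {x y} h1 h => by
    rwa [mul_sub, ← mul_assoc x x, h1, zero_mul, sub_zero] at h
  have bab := t bb (hB b hb _ (n1 a ha b hb).2)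
  have cac := t cc (hC c hc _ (n2 a ha c hc).2)
  have cbc := t cc (hC c hc _ (n3 b hb c hc).2)
  have aba : a * (b * a) = 0 := t aa (by rw [← neg_sub, mul_neg, hA a ha _ (n1 a ha b hb).1, neg_zero])
  have aca : a * (c * a) = 0 := t aa (by rw [← neg_sub, mul_neg, hA a ha _ (n2 a ha c hc).1, neg_zero])
  have bcb : b * (c * b) = 0 := t bb (by rw [← neg_sub, mul_neg, hB b hb _ (n3 b hb c hc).1, neg_zero])
  have z : ∀ {x : R}, x * x = 0 → ∀ y, x * (x * y) = 0 := fun h y => by rw [← mul_assoc, h, zero_mul]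
  have p1 := congrArg (a * ·) s0
  have p2 := congrArg (· * b) s0
  have p3 := congrArg (· * c) s0
  simp only [mul_add, add_mul, mul_assoc, z aa, aa, bb, cc, aba, aca, bab, bcb, cac, cbc, mul_zero, zero_mul, zero_add,
    add_zero] at p1 p2 p3
  have q1 : (a + b + c) * (a * b + a * c + b * c) = a * (b * c) := by
    simp only [mul_add, add_mul, z aa, z bb, bab, cac, cbc, zero_add, add_zero]
    rw [← sub_eq_zero]
    calc _ = a * (c * b) + c * (a * b) + (a * (b * c) + b * (a * c)) - (a * (b * c) + a * (c * b)) := by abel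
      _ = 0 := by rw [p1, p2, p3]; simp
  have q2 : a * (b * c) * (m1 + m2 + m3) = 0 := by
    have := hB b hb _ (n3 m1 hm1.2 c hc).1
    rw [mul_sub, ← mul_assoc, hB b hb _ hm1.2, zero_mul, zero_sub, neg_eq_zero] at this
    simp only [mul_add, mul_assoc, this, hC c hc _ hm2.2, hC c hc _ hm3.2, mul_zero, add_zero]
  have q3 : (m1 + m2 + m3) * (m1 + m2 + m3) = 0 := by
    simp only [mul_add, add_mul, hA _ hm1.1 _ hm1.1, hA _ hm1.1 _ hm2.1, hA _ hm2.1 _ hm1.1, hA _ hm2.1 _ hm2.1,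
      hB _ hm1.2 _ hm3.1, hB _ hm3.1 _ hm1.2, hC _ hm2.2 _ hm3.2, hC _ hm3.2 _ hm2.2, hC _ hm3.2 _ hm3.2, add_zero]
  refine ⟨a, ha, b, hb, c, hc, -(m1 + m2), A.neg_mem (A.add_mem hm1.1 hm2.1), -m3, B.neg_mem hm3.1, ?_⟩
  have r1 : (1 + -(m1 + m2)) * (1 + -m3) = 1 - (m1 + m2 + m3) := by
    simp only [mul_add, add_mul, mul_neg, neg_mul, neg_add, hB _ hm1.2 _ hm3.1, hC _ hm2.2 _ hm3.2, mul_one, one_mul]
    abel
  have r2 : (1 + a) * (1 + b) * (1 + c) = 1 + (a + b + c) + (a * b + a * c + b * c) + a * (b * c) := by noncomm_ring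
  rw [mul_assoc, r1, r2, mul_sub, mul_one, add_mul, add_mul, add_mul 1, q2, ← hm, q3, hm, q1]
  noncomm_ring

end Cfsg.Lib.Amalg.Lim
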