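import Cfsg.Agent.Lib.Amalg.Lim1
import Cfsg.Agent.Lib.Amalg.TVBridge

/-! Quadratic offenders that are normal in their normal closure. -/

set_option autoImplicit false

namespace Cfsg.Lib.Amalg.Lim

open Polynomial Module

variable {F W P : Type*} [Field F] [AddCommGroup W] [Module F W] [Group P] {ρ : P →* End F W}
  {C : ℕ → Submodule F W} {N : ℕ} {A B : Submodule F (End F W)}

/-- A central series for the action. -/
structure Fil (ρ : P →* End F W) (C : ℕ → Submodule F W) (N : ℕ) : Prop where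
  top : C 0 = ⊤
  bot : C N = ⊥
  anti : ∀ j, C (j + 1) ≤ C j
  step : ∀ g j, ∀ w ∈ C j, (ρ g - 1) w ∈ C (j + 1)

/-- Endomorphisms shifting the series by `i`. -/
def Fi (C : ℕ → Submodule F W) (i : ℕ) : Submodule F (End F W) where
  carrier := {φ | ∀ j, ∀ w ∈ C j, φ w ∈ C (j + i)}
  add_mem' := fun ha hb j w hw => (C _).add_mem (ha j w hw) (hb j w hw)
  zero_mem' := fun _ _ _ => (C _).zero_mem
  smul_mem' := fun c _ h j w hw => (C _).smul_mem c (h j w hw)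

theorem Fi_mul {i k : ℕ} {a b : End F W} (ha : a ∈ Fi C i) (hb : b ∈ Fi C k) : a * b ∈ Fi C (k + i) :=
  fun j w hw => add_assoc j k i ▸ ha _ _ (hb j w hw)

theorem Fil.fi_anti (h : Fil ρ C N) (i : ℕ) : Fi C (i + 1) ≤ Fi C i := fun _ ha j w hw => h.anti _ (ha j w hw)

theorem Fil.zero (h : Fil ρ C N) (g : P) : ρ g ∈ Fi C 0 := fun j w hw => by
  simpa using (C j).add_mem (h.anti j (h.step g j w hw)) hw

theorem Fil.fi_bot (h : Fil ρ C N) {a : End F W} (ha : a ∈ Fi C N) : a = 0 := LinearMap.ext fun w => by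
  simpa [h.bot] using ha 0 w (h.top ▸ Submodule.mem_top)

/-- The common kernel. -/
def ann (A : Submodule F (End F W)) : Submodule F W where
  carrier := {w | ∀ a ∈ A, a w = 0}
  add_mem' := fun hx hy a ha => by rw [map_add, hx a ha, hy a ha, add_zero]
  zero_mem' := fun a _ => map_zero a
  smul_mem' := fun c _ h a ha => by rw [map_smul, h a ha, smul_zero]

/-- Quadratic offenders, linearised. -/
structure Good (ρ : P →* End F W) (A : Submodule F (End F W)) : Prop where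
  ne : 0 < finrank F A
  sq : Sq A
  ran : ∀ a ∈ A, ∃ g, ρ g = 1 + a
  off : finrank F W ≤ finrank F A + finrank F (ann A)

theorem mul_inv (ρ : P →* End F W) (g : P) : ρ g * ρ g⁻¹ = 1 := by rw [← map_mul, mul_inv_cancel, map_one]
theorem inv_mul (ρ : P →* End F W) (g : P) : ρ g⁻¹ * ρ g = 1 := by rw [← map_mul, inv_mul_cancel, map_one]

theorem inv_eq {g : P} {a : End F W} (e : ρ g = 1 + a) (h : a * a = 0) : ρ g⁻¹ = 1 - a := by
  have : ρ g * (1 - a) = 1 := by rw [e, add_mul, mul_sub a, h]; simp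
  calc _ = ρ g⁻¹ * (ρ g * (1 - a)) := by rw [this, mul_one]
    _ = _ := by rw [← mul_assoc, inv_mul, one_mul]

/-- Conjugation. -/
noncomputable def cv (ρ : P →* End F W) (g : P) : End F W →ₗ[F] End F W :=
  LinearMap.mulRight F (ρ g⁻¹) ∘ₗ LinearMap.mulLeft F (ρ g)

theorem cv_apply (g : P) (a : End F W) : cv ρ g a = ρ g * a * ρ g⁻¹ := rfl

theorem cv_map (g x : P) : cv ρ g (ρ x - 1) = ρ (g * x * g⁻¹) - 1 := by
  rw [cv_apply, mul_sub, sub_mul, mul_one, mul_inv, map_mul, map_mul]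

theorem cv_inj (g : P) : Function.Injective (cv ρ g) := (injective_iff_map_eq_zero _).2 fun a h => by
  have : ρ g⁻¹ * cv ρ g a * ρ g = ρ g⁻¹ * ρ g * a * (ρ g⁻¹ * ρ g) := by simp only [cv_apply, mul_assoc]
  rwa [h, inv_mul, mul_zero, zero_mul, one_mul, mul_one, eq_comm] at this

theorem rank_le {E E' : Type*} [AddCommGroup E] [Module F E] [AddCommGroup E'] [Module F E'] [FiniteDimensional F E']
    {f : E →ₗ[F] E'} (hf : Function.Injective f) {U : Submodule F E} {U' : Submodule F E'}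
    (h : ∀ x ∈ U, f x ∈ U') : finrank F U ≤ finrank F U' :=
  LinearMap.finrank_le_finrank_of_injective (f := f.restrict h) fun _ _ e => Subtype.ext (hf (congrArg Subtype.val e))

/-- The subgroup belonging to a square-zero subspace. -/
def sub (ρ : P →* End F W) (A : Submodule F (End F W)) : Subgroup P := Subgroup.closure {g | ρ g - 1 ∈ A}

theorem mem_sub (h : Sq A) {g : P} : g ∈ sub ρ A ↔ ρ g - 1 ∈ A := by
  refine ⟨fun hg => ?_, fun hg => Subgroup.subset_closure hg⟩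
  induction hg using Subgroup.closure_induction with
  | mem x hx => exact hx
  | one => simp
  | mul x y _ _ hx hy =>
    have e : ρ (x * y) - 1 = (ρ x - 1) * (ρ y - 1) + (ρ x - 1) + (ρ y - 1) := by rw [map_mul]; noncomm_ring
    rw [e, h _ hx _ hy, zero_add]; exact A.add_mem hx hy
  | inv x _ hx =>
    rw [inv_eq (a := ρ x - 1) (by abel) (h _ hx _ hx), sub_sub_cancel_left]; exact A.neg_mem hx

theorem sub_map {K : Subgroup P} (hA : Sq A) (h : sub ρ A ≤ K) (hρ : Function.Injective ρ)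
    (hr : ∀ a ∈ A, ∃ g, ρ g = 1 + a) {y : P} (hy : y ∈ Subgroup.normalizer (K : Set P)) :
    sub ρ (A.map (cv ρ y)) ≤ K := (Subgroup.closure_le _).2 fun x hx => by
  obtain ⟨a, ha, e⟩ := hx
  obtain ⟨g, hg⟩ := hr a ha
  rw [eq_sub_of_add_eq' hg.symm] at ha e
  rw [cv_map, sub_left_inj] at e
  exact hρ e ▸ (Subgroup.mem_normalizer_iff.1 hy g).1 (h ((mem_sub hA).2 ha))

theorem nm_half (h2 : (2 : F) ≠ 0) (hA : Good ρ A) (h : ∀ x ∈ sub ρ A, ∀ b ∈ B, cv ρ x b ∈ B) {a b : End F W}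
    (ha : a ∈ A) (hb : b ∈ B) : a * b - b * a ∈ B := by
  obtain ⟨g, hg⟩ := hA.ran a ha
  have hg' := inv_eq hg (hA.sq a ha a ha)
  have hm : g ∈ sub ρ A := (mem_sub hA.sq).2 (by rwa [hg, add_sub_cancel_left])
  have := B.sub_mem (h g hm b hb) (h _ (Subgroup.inv_mem _ hm) b hb)
  rw [cv_apply, cv_apply, inv_inv, hg, hg'] at this
  refine (B.smul_mem_iff h2).1 ?_
  convert this using 1
  rw [two_smul]; noncomm_ring

variable [FiniteDimensional F W]

theorem Good.map (h : Good ρ A) (g : P) : Good ρ (A.map (cv ρ g)) := by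
  have h1 := rank_le (cv_inj (ρ := ρ) g) fun x (hx : x ∈ A) => Submodule.mem_map_of_mem hx
  refine ⟨h.ne.trans_le h1, ?_, ?_, h.off.trans (add_le_add h1 (rank_le (f := ρ g) ?_ ?_))⟩
  · rintro _ ⟨a, ha, rfl⟩ _ ⟨b, hb, rfl⟩
    have : cv ρ g a * cv ρ g b = ρ g * (a * (ρ g⁻¹ * ρ g) * b) * ρ g⁻¹ := by simp only [cv_apply, mul_assoc]
    rw [this, inv_mul, mul_one, h.sq a ha b hb, mul_zero, zero_mul]
  · rintro _ ⟨a, ha, rfl⟩
    obtain ⟨x, hx⟩ := h.ran a ha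
    exact ⟨g * x * g⁻¹, by rw [eq_sub_of_add_eq' hx.symm, cv_map, add_sub_cancel]⟩
  · exact Function.LeftInverse.injective (g := ρ g⁻¹) fun w => by rw [← End.mul_apply, inv_mul, End.one_apply]
  · rintro w hw _ ⟨a, ha, rfl⟩
    rw [cv_apply, ← End.mul_apply, mul_assoc, inv_mul, mul_one, End.mul_apply, hw a ha, map_zero]

/-- Maps into a subspace as endomorphisms. -/
def lc (U : Submodule F W) : (W →ₗ[F] U) →ₗ[F] End F W where
  toFun φ := U.subtype ∘ₗ φ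
  map_add' _ _ := rfl
  map_smul' _ _ := rfl

theorem ann_le {ξ : End F W} (h : ξ * ξ = 0) (h0 : 0 < finrank F W) (A : Submodule F (End F W)) :
    finrank F (ann A) ≤ finrank F (ann (lim ξ A)) := by
  have inj : ∀ U : Submodule F W, Function.Injective (lc U) := fun U φ ψ e =>
    LinearMap.ext fun w => Subtype.ext (LinearMap.congr_fun e w)
  have h1 := finrank_le (u := ex ξ) (v := 1) (fun g e => ex_inj h g (by rw [mul_one] at e; rw [e, zero_mul]))
    (ex_deg ξ) (by simp) (LinearMap.range (lc (ann A)))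
  have h2 : lead (ex ξ) 1 (LinearMap.range (lc (ann A))) ≤ LinearMap.range (lc (ann (lim ξ A))) := fun c hc =>
    ⟨c.codRestrict _ fun w a ha => LinearMap.congr_fun (lead_mul (by
      rintro a ha _ ⟨φ, rfl⟩
      exact LinearMap.ext fun w => (φ w).2 a ha) (ex_mul' h) ha hc) w, rfl⟩
  have h3 := h1.trans (Submodule.finrank_mono h2)
  rw [LinearMap.finrank_range_of_inj (inj _), LinearMap.finrank_range_of_inj (inj _), finrank_linearMap,
    finrank_linearMap] at h3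
  exact Nat.le_of_mul_le_mul_left h3 h0

/-- The measure. -/
noncomputable def ms (C : ℕ → Submodule F W) (N : ℕ) (A : Submodule F (End F W)) : ℕ :=
  ∑ i ∈ Finset.range (N + 1), finrank F ↥(A ⊓ Fi C i)

theorem ms_map (h : Fil ρ C N) (g : P) : ms C N A ≤ ms C N (A.map (cv ρ g)) :=
  Finset.sum_le_sum fun i _ => rank_le (cv_inj g) fun _ hx =>
    ⟨Submodule.mem_map_of_mem hx.1, by simpa [cv_apply] using Fi_mul (Fi_mul (h.zero g) hx.2) (h.zero g⁻¹)⟩

theorem repl (h2 : (2 : F) ≠ 0) (h : Fil ρ C N) (hA : Good ρ A) (hm : ∀ B, Good ρ B → ms C N B ≤ ms C N A) {x : P}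
    (hx : (ρ x - 1) * (ρ x - 1) = 0) (n1 : Nm A (A.map (cv ρ x))) (n2 : Nm A (A.map (cv ρ x⁻¹)))
    (n3 : Nm (A.map (cv ρ x)) (A.map (cv ρ x⁻¹))) : ∀ a ∈ A, cv ρ x a ∈ A := by
  have hξ := h.step x
  obtain ⟨ξ, e⟩ : ∃ ξ, ρ x = 1 + ξ := ⟨ρ x - 1, by abel⟩
  rw [e, add_sub_cancel_left] at hx hξ
  change ξ ∈ Fi C 1 at hξ
  have e' := inv_eq e hx
  have c1 : ∀ a, cv ρ x a = a + (ξ * a - a * ξ) - ξ * a * ξ := fun a => by rw [cv_apply, e, e']; noncomm_ring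
  have c2 : ∀ a, cv ρ x⁻¹ a = a - (ξ * a - a * ξ) - ξ * a * ξ := fun a => by
    rw [cv_apply, inv_inv, e, e']; noncomm_ring

  have d2 : ∀ a, ξ * (ξ * a - a * ξ) - (ξ * a - a * ξ) * ξ ∈ A → ξ * a * ξ ∈ A := fun a ha => by
    refine (A.smul_mem_iff h2).1 (A.neg_mem_iff.1 ?_)
    convert ha using 1
    rw [two_smul, mul_sub, sub_mul, ← mul_assoc, hx, mul_assoc a, hx]; noncomm_ring
  have sh : ∀ i, ∀ a ∈ Fi C i, ξ * a - a * ξ ∈ Fi C (i + 1) ∧ ξ * a * ξ ∈ Fi C (i + 1) := fun i a ha =>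
    ⟨(Fi C _).sub_mem (Fi_mul hξ ha) (add_comm 1 i ▸ Fi_mul ha hξ),
      h.fi_anti _ (by simpa [add_comm 1] using Fi_mul (Fi_mul hξ ha) hξ)⟩
  have A0 : ∀ a ∈ A, a ∈ Fi C 0 := fun a ha => by
    obtain ⟨g, hg⟩ := hA.ran a ha
    exact eq_sub_of_add_eq' hg.symm ▸ h.fi_anti 0 (h.step g)
  suffices H : ∀ a ∈ A, ξ * a - a * ξ ∈ A from fun a ha =>
    c1 a ▸ A.sub_mem (A.add_mem ha (H a ha)) (d2 a (H _ (H a ha)))
  by_contra H
  obtain ⟨i, hi, h1, h3⟩ : ∃ i < N, (¬ ∀ a ∈ A ⊓ Fi C i, ξ * a - a * ξ ∈ A) ∧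
      ∀ k > i, ∀ a ∈ A ⊓ Fi C k, ξ * a - a * ξ ∈ A := by
    classical
    have hN : ∀ k ≥ N, ∀ a ∈ A ⊓ Fi C k, ξ * a - a * ξ ∈ A := fun k hk a ha => by
      rw [h.fi_bot (antitone_nat_of_succ_le h.fi_anti hk ha.2)]; simp
    have h0 : ¬ ∀ a ∈ A ⊓ Fi C 0, ξ * a - a * ξ ∈ A := fun h0 => H fun a ha => h0 a ⟨ha, A0 a ha⟩
    have hs := Nat.findGreatest_spec (P := fun i => ¬ ∀ a ∈ A ⊓ Fi C i, ξ * a - a * ξ ∈ A) (Nat.zero_le N) h0
    refine ⟨_, lt_of_not_ge fun hge => hs (hN _ hge), hs, fun k hk => ?_⟩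
    rcases le_total N k with hk' | hk'
    exacts [hN k hk', not_not.1 (Nat.findGreatest_is_greatest hk hk')]
  have sq : Sq (lim ξ A) := fun a ha b hb => lead_mul hA.sq (ex_mul' hx) ha hb
  have hW : 0 < finrank F W := by
    have := hA.ne.trans_le A.finrank_le
    rw [finrank_linearMap] at this
    exact Nat.pos_of_mul_pos_left this
  have gd : Good ρ (lim ξ A) := by
    refine ⟨hA.ne.trans_le (finrank_le_lim hx A), sq, fun l hl => ?_,
      hA.off.trans (add_le_add (finrank_le_lim hx A) (ann_le hx hW A))⟩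
    have : lim ξ A ≤ A ⊔ A.map (cv ρ x) ⊔ A.map (cv ρ x⁻¹) := lim_le fun a ha => by
      have m0 : a ∈ A ⊔ A.map (cv ρ x) ⊔ A.map (cv ρ x⁻¹) := Submodule.mem_sup_left (Submodule.mem_sup_left ha)
      have m1 : cv ρ x a ∈ A ⊔ A.map (cv ρ x) ⊔ A.map (cv ρ x⁻¹) :=
        Submodule.mem_sup_left (Submodule.mem_sup_right (Submodule.mem_map_of_mem ha))
      have m2 : cv ρ x⁻¹ a ∈ A ⊔ A.map (cv ρ x) ⊔ A.map (cv ρ x⁻¹) :=
        Submodule.mem_sup_right (Submodule.mem_map_of_mem ha)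
      have m3 : ξ * a - a * ξ ∈ A ⊔ A.map (cv ρ x) ⊔ A.map (cv ρ x⁻¹) := by
        refine (Submodule.smul_mem_iff _ h2).1 ?_
        convert Submodule.sub_mem _ m1 m2 using 1
        rw [two_smul, c1, c2]; abel
      refine ⟨m0, m3, ?_⟩
      convert Submodule.sub_mem _ (Submodule.add_mem _ m0 m3) m1 using 1
      rw [c1]; abel
    obtain ⟨a, ha, b, hb, c, hc, a', ha', b', hb', e⟩ :=
      three h2 hA.sq (hA.map x).sq (hA.map x⁻¹).sq n1 n2 n3 (this hl) (sq l hl l hl)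
    obtain ⟨g1, e1⟩ := hA.ran a ha
    obtain ⟨g2, e2⟩ := (hA.map x).ran b hb
    obtain ⟨g3, e3⟩ := (hA.map x⁻¹).ran c hc
    obtain ⟨g4, e4⟩ := hA.ran a' ha'
    obtain ⟨g5, e5⟩ := (hA.map x).ran b' hb'
    exact ⟨g1 * g2 * g3 * g4 * g5, by simp only [map_mul, e1, e2, e3, e4, e5, e]⟩
  refine (hm _ gd).not_gt (Finset.sum_lt_sum (fun k _ => (finrank_le_lim hx _).trans (Submodule.finrank_mono
    (le_inf (lead_mono inf_le_left) (lim_le fun a ha => ⟨ha.2, h.fi_anti _ (sh k a ha.2).1,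
      h.fi_anti _ (sh k a ha.2).2⟩)))) ⟨i + 1, Finset.mem_range.2 (by omega), Submodule.finrank_lt_finrank_of_lt ?_⟩)
  refine SetLike.lt_iff_le_and_exists.2 ⟨fun b hb => ⟨?_, hb.2⟩, ?_⟩
  · have := h3 _ (by omega) b hb
    exact mem_lim hx hb.1 this (d2 b (h3 (i + 1 + 1) (by omega) _ ⟨this, (sh _ b hb.2).1⟩))
  · push Not at h1
    obtain ⟨a, ha, ha'⟩ := h1
    by_cases h4 : ξ * a * ξ ∈ A
    · exact ⟨_, ⟨mid_mem_lim hx ha.1 h4, (sh i a ha.2).1⟩, fun h5 => ha' h5.1⟩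
    · exact ⟨_, ⟨top_mem_lim ha.1, (sh i a ha.2).2⟩, fun h5 => h4 h5.1⟩

theorem core [Finite W] [Finite P] {p : ℕ} [Fact p.Prime] (hP : IsPGroup p P) (hρ : Function.Injective ρ)
    (h2 : (2 : F) ≠ 0) (h : Fil ρ C N) (hA : Good ρ A) :
    ∃ B, Good ρ B ∧ ∀ g, ∀ x ∈ sub ρ (B.map (cv ρ g)), ∀ b ∈ B, cv ρ x b ∈ B := by
  haveI : Finite (End F W) := DFunLike.finite _
  obtain ⟨M, hM, hm⟩ := Set.exists_max_image {B | Good ρ B} (ms C N) (Set.toFinite _) ⟨A, hA⟩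
  have key : ∀ n : ℕ, ∀ A B, Good ρ A → Good ρ B → ms C N M ≤ ms C N A → ms C N M ≤ ms C N B →
      Nat.card ↥(sub ρ A ⊔ sub ρ B) = n → ∀ x ∈ sub ρ B, ∀ a ∈ A, cv ρ x a ∈ A := by
    intro n
    induction n using Nat.strong_induction_on with
    | _ n ih =>
    intro A B hA hB mA mB hn x hx
    rcases (le_sup_left : sub ρ A ≤ sub ρ A ⊔ sub ρ B).eq_or_lt with e | e
    · intro a ha
      obtain ⟨g, hg⟩ := hA.ran a ha
      rw [eq_sub_of_add_eq' hg.symm] at ha ⊢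
      have hx' : x ∈ sub ρ A := e ▸ Subgroup.mem_sup_right hx
      rw [cv_map, ← mem_sub hA.sq]
      exact Subgroup.mul_mem _ (Subgroup.mul_mem _ hx' ((mem_sub hA.sq).2 ha)) (Subgroup.inv_mem _ hx')
    obtain ⟨K, h1, h3, h4⟩ := TV.exists_normal_lt (hP.to_subgroup _) e
    have hx1 := h4 (Subgroup.mem_sup_right hx)
    have nm : ∀ A B, Good ρ A → Good ρ B → ms C N M ≤ ms C N A → ms C N M ≤ ms C N B → sub ρ A ≤ K → sub ρ B ≤ K →
        Nm A B := fun A B hA hB mA mB kA kB a ha b hb => by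
      have lt : ∀ {X Y : Subgroup P}, X ≤ K → Y ≤ K → Nat.card ↥(X ⊔ Y) < n := fun hX hY =>
        hn ▸ Core.card_lt_of_lt ((sup_le hX hY).trans_lt h3)
      refine ⟨?_, nm_half h2 hA (ih _ (lt kB kA) B A hB hA mB mA rfl) ha hb⟩
      have := A.neg_mem (nm_half h2 hB (ih _ (lt kA kB) A B hA hB mA mB rfl) hb ha)
      rwa [neg_sub] at this
    have k1 := sub_map hA.sq h1 hρ hA.ran hx1
    have k2 := sub_map hA.sq h1 hρ hA.ran (Subgroup.inv_mem _ hx1)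
    have hx' := (mem_sub hB.sq).1 hx
    exact repl h2 h hA (fun B' hB' => (hm B' hB').trans mA) (hB.sq _ hx' _ hx')
      (nm _ _ hA (hA.map _) mA (mA.trans (ms_map h _)) h1 k1) (nm _ _ hA (hA.map _) mA (mA.trans (ms_map h _)) h1 k2)
      (nm _ _ (hA.map _) (hA.map _) (mA.trans (ms_map h _)) (mA.trans (ms_map h _)) k1 k2)
  exact ⟨M, hM, fun g => key _ _ _ hM (hM.map g) le_rfl (ms_map h g) rfl⟩

theorem main {P W : Type*} [Group P] [AddCommGroup W] [DistribMulAction P W] [Finite P] [Finite W] {p : ℕ}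
    [hp : Fact p.Prime] (h2 : p ≠ 2) (hP : IsPGroup p P) (hW : ∀ w : W, p • w = 0)
    (hf : ∀ g : P, (∀ w : W, g • w = w) → g = 1) {E : Subgroup P} (hE : IsElementaryAbelian p E) (hne : E ≠ ⊥)
    (hoff : Nat.card W ≤ TV.ms W E) : ∃ A : Subgroup P, A ≠ ⊥ ∧ Nat.card W ≤ TV.ms W A ∧ TV.Quad W A ∧
      ∀ g, ∀ x ∈ A, ∀ a ∈ A, (g * x * g⁻¹) * a * (g * x * g⁻¹)⁻¹ ∈ A := by
  obtain ⟨_⟩ : Nonempty (Module (ZMod p) W) := ⟨AddCommGroup.zmodModule hW⟩
  have cc : ∀ (X : Type _) [AddCommGroup X] [Module (ZMod p) X] [Finite X], p ^ finrank (ZMod p) X = Nat.card X :=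
    fun X _ _ _ => by rw [Module.natCard_eq_pow_finrank (K := ZMod p), Nat.card_zmod]
  let ρ : P →* End (ZMod p) W :=
    { toFun := fun g =>
        { toFun := fun w => g • w
          map_add' := smul_add g
          map_smul' := ZMod.map_smul (DistribMulAction.toAddMonoidHom W g) }
      map_one' := LinearMap.ext fun w => one_smul P w
      map_mul' := fun g h => LinearMap.ext fun w => mul_smul g h w }

  have hρ : Function.Injective ρ := (injective_iff_map_eq_one ρ).2 fun g e => hf g fun w => LinearMap.congr_fun e w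
  haveI : Finite (End (ZMod p) W) := DFunLike.finite _
  have h2' : (2 : ZMod p) ≠ 0 := fun e =>
    h2 ((Nat.prime_dvd_prime_iff_eq hp.out Nat.prime_two).1 ((ZMod.natCast_eq_zero_iff 2 p).1 e))
  let D : ℕ → AddSubgroup W := fun j => Nat.rec ⊤ (fun _ U => TV.cm U (⊤ : Subgroup P)) j
  have hD : ∀ j, TV.Inv (⊤ : Subgroup P) (D j) := fun j => by
    induction j with
    | zero => exact TV.inv_top _
    | succ j ih => exact ih.cm Subgroup.le_normalizer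
  obtain ⟨N, hN⟩ := WellFoundedGT.monotone_chain_condition (α := (AddSubgroup W)ᵒᵈ)
    ⟨D, monotone_nat_of_le_succ fun j => (hD j).cm_le⟩
  have hF : Fil ρ (fun j => (D j).toZModSubmodule p) N :=
    ⟨rfl, by rw [TV.eq_bot_of_le_cm (hP.to_subgroup ⊤) hW (hD N) (hN _ (Nat.le_succ N)).ge]; rfl,
      fun j => (hD j).cm_le, fun g j w hw => TV.dl_mem_cm hw (Subgroup.mem_top g)⟩
  have cd : ∀ (A : Subgroup P) (B : Submodule (ZMod p) (End (ZMod p) W)), (∀ g, g ∈ A ↔ ρ g - 1 ∈ B) →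
      (∀ b ∈ B, ∃ g, ρ g = 1 + b) → Nat.card A = p ^ finrank (ZMod p) B ∧
        Nat.card (TV.fx W A) = p ^ finrank (ZMod p) (ann B) := fun A B h1 h3 => by
    rw [cc, cc]
    refine ⟨Nat.card_eq_of_bijective (fun a => ⟨ρ a - 1, (h1 _).1 a.2⟩) ⟨fun a b e => Subtype.ext (hρ
      (sub_left_inj.1 (congrArg Subtype.val e))), fun b => ?_⟩, Nat.card_congr (Equiv.subtypeEquivRight fun w => ?_)⟩
    · obtain ⟨g, hg⟩ := h3 b b.2
      exact ⟨⟨g, (h1 g).2 (by simp [hg])⟩, Subtype.ext (by simp [hg])⟩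
    · refine ⟨fun h b hb => ?_, fun h a ha => TV.dl_eq_zero.1 (h _ ((h1 a).1 ha))⟩
      obtain ⟨g, hg⟩ := h3 b hb
      rw [eq_sub_of_add_eq' hg.symm] at hb ⊢
      exact TV.dl_eq_zero.2 (h g ((h1 g).2 hb))
  have off : ∀ (A : Subgroup P) (B : Submodule (ZMod p) (End (ZMod p) W)), (∀ g, g ∈ A ↔ ρ g - 1 ∈ B) →
      (∀ b ∈ B, ∃ g, ρ g = 1 + b) → (Nat.card W ≤ TV.ms W A ↔
        finrank (ZMod p) W ≤ finrank (ZMod p) B + finrank (ZMod p) (ann B)) ∧ (A ≠ ⊥ ↔ 0 < finrank (ZMod p) B) :=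
    fun A B h1 h3 => by
      rw [TV.ms, ← Subgroup.one_lt_card_iff_ne_bot, (cd A B h1 h3).1, (cd A B h1 h3).2, ← pow_add,
        ← cc W, Nat.pow_le_pow_iff_right hp.out.one_lt]
      exact ⟨Iff.rfl, Nat.pow_lt_pow_iff_right (n := 0) hp.out.one_lt⟩
  obtain ⟨A, -, hA, -⟩ := TV.exists_minOff hE hne hoff
  have q : ∀ a ∈ A, ∀ b ∈ A, (ρ a - 1) * (ρ b - 1) = 0 := fun a ha b hb =>
    LinearMap.ext fun w => TV.dl_eq_zero.2 (hA.quad hW b hb w a ha)
  let B0 : AddSubgroup (End (ZMod p) W) :=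
    { carrier := {b | ∃ a ∈ A, ρ a = 1 + b}
      add_mem' := by
        rintro x y ⟨a, ha, e⟩ ⟨b, hb, e'⟩
        have := q a ha b hb
        rw [e, e', add_sub_cancel_left, add_sub_cancel_left] at this
        exact ⟨a * b, A.mul_mem ha hb, by rw [map_mul, e, e', add_mul, mul_add x, this]; noncomm_ring⟩
      zero_mem' := ⟨1, A.one_mem, by simp⟩
      neg_mem' := by
        rintro x ⟨a, ha, e⟩
        have := q a ha a ha
        rw [e, add_sub_cancel_left] at this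
        exact ⟨a⁻¹, A.inv_mem ha, by rw [inv_eq e this, sub_eq_add_neg]⟩ }
  have m0 : ∀ g, g ∈ A ↔ ρ g - 1 ∈ B0.toZModSubmodule p := fun g =>
    ⟨fun h => ⟨g, h, by abel⟩, fun ⟨a, ha, e⟩ => hρ (e.trans (add_sub_cancel _ _)) ▸ ha⟩
  have r0 : ∀ b ∈ B0.toZModSubmodule p, ∃ g, ρ g = 1 + b := fun b ⟨a, _, e⟩ => ⟨a, e⟩
  obtain ⟨B, hB, hn⟩ := core hP hρ h2' hF (A := B0.toZModSubmodule p) ⟨(off _ _ m0 r0).2.1 hA.ne, by
    rintro x ⟨a, ha, e⟩ y ⟨b, hb, e'⟩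
    simpa [e, e'] using q a ha b hb, r0, (off _ _ m0 r0).1.1 hA.off⟩
  have m1 := fun g => mem_sub (ρ := ρ) (g := g) hB.sq
  refine ⟨sub ρ B, (off _ _ m1 hB.ran).2.2 hB.ne, (off _ _ m1 hB.ran).1.2 hB.off, fun a ha w b hb =>
    TV.dl_eq_zero.1 (LinearMap.congr_fun (hB.sq _ ((m1 b).1 hb) _ ((m1 a).1 ha)) w), fun g x hx a ha => ?_⟩
  rw [m1, ← cv_map]
  exact hn g _ ((mem_sub (hB.map g).sq).2 ⟨_, (m1 x).1 hx, cv_map g x⟩) _ ((m1 a).1 ha)

end Cfsg.Lib.Amalg.Lim
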