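import Cfsg.Agent.Lib.PGrp.MaxClass

/-! Mann's bound for the order of a `p`-group in terms of its derived length. -/

set_option autoImplicit false

namespace Cfsg.Lib.Amalg.Mann

open Subgroup Cfsg.Lib.PGrp
open scoped commutatorElement

variable {G : Type*} [Group G] {p : ℕ}

theorem two_gen {X K L : Subgroup G} [L.Normal] {a b : G} (hX : X ≤ zpowers b ⊔ (zpowers a ⊔ K))
    (hab : ⁅a, b⁆ ∈ L) (h : ⁅zpowers b ⊔ (zpowers a ⊔ K), K⁆ ≤ L) : ⁅X, X⁆ ≤ L := by
  refine (commutator_mono hX hX).trans ?_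
  rw [← map_mk'_eq_bot, map_commutator, commutator_eq_bot_iff_le_centralizer] at h ⊢
  have h' := le_centralizer_iff.1 h
  have e : ⁅QuotientGroup.mk' L a, QuotientGroup.mk' L b⁆ = 1 := by
    rw [← map_commutatorElement]; exact (QuotientGroup.eq_one_iff _).2 hab
  have c : Commute (QuotientGroup.mk' L a) (QuotientGroup.mk' L b) := commutatorElement_eq_one_iff_commute.1 e
  have key : ∀ x : G ⧸ L, Commute x (QuotientGroup.mk' L a) → Commute x (QuotientGroup.mk' L b) →
      x ∈ (zpowers b ⊔ (zpowers a ⊔ K)).map (QuotientGroup.mk' L) →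
      zpowers x ≤ centralizer ((zpowers b ⊔ (zpowers a ⊔ K)).map (QuotientGroup.mk' L) : Set (G ⧸ L)) := by
    intro x h1 h2 h3
    rw [le_centralizer_iff, Subgroup.map_sup, Subgroup.map_sup, MonoidHom.map_zpowers, MonoidHom.map_zpowers]
    refine sup_le ?_ (sup_le ?_ ?_)
    · rw [zpowers_le, ← zpowers_le, le_centralizer_iff, zpowers_le]
      rintro _ ⟨k, rfl⟩; exact (h2.zpow_right k).symm.eq
    · rw [zpowers_le, ← zpowers_le, le_centralizer_iff, zpowers_le]
      rintro _ ⟨k, rfl⟩; exact (h1.zpow_right k).symm.eq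
    · exact le_centralizer_iff.1 ((zpowers_le.2 h3).trans h)
  have ha : a ∈ zpowers b ⊔ (zpowers a ⊔ K) := mem_sup_right (mem_sup_left (mem_zpowers a))
  have hb : b ∈ zpowers b ⊔ (zpowers a ⊔ K) := mem_sup_left (mem_zpowers b)
  conv_lhs => rw [Subgroup.map_sup, Subgroup.map_sup, MonoidHom.map_zpowers, MonoidHom.map_zpowers]
  exact sup_le (key _ c.symm (Commute.refl _) (mem_map_of_mem _ hb))
    (sup_le (key _ (Commute.refl _) c (mem_map_of_mem _ ha)) h')

theorem one_gen {X K L : Subgroup G} [L.Normal] {a : G} (hX : X ≤ zpowers a ⊔ K)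
    (h : ⁅zpowers a ⊔ K, K⁆ ≤ L) : ⁅X, X⁆ ≤ L :=
  two_gen (a := a) (b := a) (hX.trans le_sup_right) (by rw [commutatorElement_self]; exact L.one_mem)
    (by rwa [← sup_assoc, sup_idem])

/-- Iterated commutators with the whole group. -/
def it (N : Subgroup G) : ℕ → Subgroup G
  | 0 => N
  | i + 1 => ⁅it N i, ⊤⁆

instance it_normal (N : Subgroup G) [N.Normal] : ∀ i, (it N i).Normal
  | 0 => ‹_›
  | i + 1 => by haveI := it_normal N i; exact commutator_normal _ _

theorem it_lcs (N : Subgroup G) [N.Normal] (i j : ℕ) :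
    ⁅it N i, (⊤ : Subgroup G).lowerCentralSeries j⁆ ≤ it N (i + j + 1) :=
  commutator_lowerCentralSeries_le (it N) ⊤ (fun _ _ => le_normalizer_of_normal) (fun _ => le_normalizer_of_normal)
    (fun _ => le_rfl) i j

variable [Finite G] [hp : Fact p.Prime]

theorem step (hG : IsPGroup p G) {K M : Subgroup G} (h : K ≤ M) (hne : ¬ M ≤ K) :
    ∃ a ∈ M, zpowers a ⊔ K ≤ M ∧ p * Nat.card K ≤ Nat.card ↥(zpowers a ⊔ K) := by
  obtain ⟨a, ha, ha'⟩ := SetLike.not_le_iff_exists.1 hne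
  exact ⟨a, ha, sup_le (zpowers_le.2 ha) h, mul_card_le_of_lt (hG.to_subgroup _)
    (lt_of_le_of_ne le_sup_right fun e => ha' (e ▸ mem_sup_left (mem_zpowers a)))⟩

theorem tri1 (hG : IsPGroup p G) {K M : Subgroup G} (h : K ≤ M) :
    (∃ a ∈ M, M ≤ zpowers a ⊔ K) ∨ p ^ 2 * Nat.card K ≤ Nat.card M := by
  by_cases h1 : M ≤ K
  · exact .inl ⟨1, M.one_mem, h1.trans le_sup_right⟩
  obtain ⟨a, ha, h2, h3⟩ := step hG h h1
  by_cases h4 : M ≤ zpowers a ⊔ K
  · exact .inl ⟨a, ha, h4⟩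
  refine .inr (le_trans ?_ (mul_card_le_of_lt (hG.to_subgroup _) (lt_of_le_of_ne h2 fun e => h4 e.ge)))
  rw [pow_two, mul_assoc]; exact Nat.mul_le_mul_left _ h3

theorem tri2 (hG : IsPGroup p G) {K M : Subgroup G} (h : K ≤ M) :
    (∃ a ∈ M, ∃ b ∈ M, M ≤ zpowers b ⊔ (zpowers a ⊔ K)) ∨ p ^ 3 * Nat.card K ≤ Nat.card M := by
  by_cases h1 : M ≤ K
  · exact .inl ⟨1, M.one_mem, 1, M.one_mem, h1.trans (le_sup_right.trans le_sup_right)⟩
  obtain ⟨a, ha, h2, h3⟩ := step hG h h1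
  rcases tri1 hG h2 with ⟨b, hb, h4⟩ | h4
  · exact .inl ⟨a, ha, b, hb, h4⟩
  refine .inr (le_trans ?_ h4)
  rw [pow_succ, mul_assoc]; exact Nat.mul_le_mul_left _ h3

theorem chain (hG : IsPGroup p G) (N : Subgroup G) [N.Normal] (i j : ℕ) {Y : Subgroup G} (hY : Y ≤ it N (i + j))
    (h : Y ≠ ⊥) : p ^ j * Nat.card Y ≤ Nat.card (it N i) := by
  induction j generalizing Y with
  | zero => simpa using card_le_of_le hY
  | succ j ih =>
    have h1 : it N (i + j) ≠ ⊥ := fun e => h (eq_bot_iff.2 (hY.trans (by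
      change ⁅it N (i + j), ⊤⁆ ≤ ⊥
      rw [e, commutator_bot_left])))
    refine le_trans ?_ (ih le_rfl h1)
    rw [pow_succ, mul_assoc]
    exact Nat.mul_le_mul_left _ ((Nat.mul_le_mul_left _ (card_le_of_le hY)).trans
      (mul_card_le_of_lt (hG.to_subgroup _) (commutator_top_lt hG _ h1)))

theorem chain1 (hG : IsPGroup p G) (N : Subgroup G) [N.Normal] {j : ℕ}
    (hN : N ≤ (⊤ : Subgroup G).lowerCentralSeries j) (h : ⁅N, N⁆ ≠ ⊥) :
    p ^ j * Nat.card ↥⁅N, N⁆ ≤ Nat.card (it N 1) := by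
  refine chain hG N 1 j ?_ h
  have := it_lcs N 0 j
  rw [zero_add, add_comm] at this
  exact (commutator_mono le_rfl hN).trans this

theorem hall (hG : IsPGroup p G) (N : Subgroup G) [N.Normal] {j : ℕ}
    (hN : N ≤ (⊤ : Subgroup G).lowerCentralSeries j) (h : ⁅N, N⁆ ≠ ⊥) :
    p ^ (j + 2) * Nat.card ↥⁅N, N⁆ ≤ Nat.card N := by
  have h1 : it N 1 ≤ N := commutator_le_left N ⊤
  rcases tri1 hG h1 with ⟨a, ha, h2⟩ | h2
  · refine chain hG N 0 (j + 2) (one_gen h2 ?_) h
    have := it_lcs N 1 j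
    rw [show 1 + j + 1 = 0 + (j + 2) by omega] at this
    rw [commutator_comm]
    exact (commutator_mono le_rfl ((sup_le (zpowers_le.2 ha) h1).trans hN)).trans this
  · refine le_trans ?_ h2
    rw [pow_add, mul_comm (p ^ j), mul_assoc]
    exact Nat.mul_le_mul_left _ (chain1 hG N hN h)

theorem small (hG : IsPGroup p G) (N : Subgroup G) [N.Normal] {j : ℕ}
    (hN : N ≤ (⊤ : Subgroup G).lowerCentralSeries j) (h : ⁅N, N⁆ ≠ ⊥) :
    p ^ (j + 3) * Nat.card ↥⁅N, N⁆ ≤ Nat.card N ∨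
      ⁅⁅N, N⁆, ⁅N, N⁆⁆ ≤ (⊤ : Subgroup G).lowerCentralSeries (4 * j + 4) := by
  have h1 : it N 1 ≤ N := commutator_le_left N ⊤
  rcases tri2 hG h1 with ⟨a, ha, b, hb, h2⟩ | h2
  · right
    have h3 : zpowers ⁅a, b⁆ ⊔ (⊤ : Subgroup G).lowerCentralSeries (j + j + 1 + 1) ≤
        (⊤ : Subgroup G).lowerCentralSeries (j + j + 1) :=
      sup_le (zpowers_le.2 (commutator_lcs_lcs ⊤ j j (commutator_mem_commutator (hN ha) (hN hb))))
        (Subgroup.lowerCentralSeries_antitone _ (by omega))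
    haveI : (zpowers ⁅a, b⁆ ⊔ (⊤ : Subgroup G).lowerCentralSeries (j + j + 1 + 1)).Normal := by
      refine ⟨fun x hx g => ?_⟩
      have : ⁅x⁻¹, g⁆ ∈ (⊤ : Subgroup G).lowerCentralSeries (j + j + 1 + 1) :=
        commutator_mem_commutator (Subgroup.inv_mem _ (h3 hx)) (mem_top g)
      have e : g * x * g⁻¹ = x * ⁅x⁻¹, g⁆ := by simp only [commutatorElement_def]; group
      rw [e]; exact Subgroup.mul_mem _ hx (mem_sup_right this)
    have h4 : ⁅N, N⁆ ≤ zpowers ⁅a, b⁆ ⊔ (⊤ : Subgroup G).lowerCentralSeries (j + j + 1 + 1) := by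
      refine two_gen h2 (mem_sup_left (mem_zpowers _)) (le_trans ?_ le_sup_right)
      have := commutator_lcs_lcs (⊤ : Subgroup G) j (j + 1)
      exact (commutator_mono ((sup_le (zpowers_le.2 hb) (sup_le (zpowers_le.2 ha) h1)).trans hN)
        (commutator_mono hN le_rfl)).trans this
    refine one_gen h4 ?_
    have := commutator_lcs_lcs (⊤ : Subgroup G) (j + j + 1) (j + j + 1 + 1)
    rw [show j + j + 1 + (j + j + 1 + 1) + 1 = 4 * j + 4 by omega] at this
    exact (commutator_mono h3 le_rfl).trans this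
  · refine .inl (le_trans ?_ h2)
    rw [pow_add, mul_comm (p ^ j), mul_assoc]
    exact Nat.mul_le_mul_left _ (chain1 hG N hN h)

omit [Finite G] in
theorem der_le (i : ℕ) : derivedSeries G i ≤ (⊤ : Subgroup G).lowerCentralSeries (2 ^ i - 1) := by
  induction i with
  | zero => exact le_rfl
  | succ i ih =>
    have := commutator_lcs_lcs (⊤ : Subgroup G) (2 ^ i - 1) (2 ^ i - 1)
    have h : 0 < 2 ^ i := by positivity
    rw [show 2 ^ i - 1 + (2 ^ i - 1) + 1 = 2 ^ (i + 1) - 1 by rw [pow_succ]; omega] at this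
    exact (commutator_mono ih ih).trans this

theorem main {n k : ℕ} (hc : Nat.card G = p ^ n) (hk : derivedSeries G k ≠ ⊥) : 2 ^ k + 2 * k ≤ n + 2 := by
  have hG : IsPGroup p G := IsPGroup.of_card hc
  choose c hc' using fun i => IsPGroup.iff_card.1 (hG.to_subgroup (derivedSeries G i))
  have conv : ∀ i m, p ^ m * Nat.card ↥⁅derivedSeries G i, derivedSeries G i⁆ ≤ Nat.card (derivedSeries G i) →
      m + c (i + 1) ≤ c i := fun i m h => by
    rwa [← derivedSeries_succ, hc', hc', ← pow_add, Nat.pow_le_pow_iff_right hp.out.one_lt] at h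
  have key : ∀ i, derivedSeries G i ≠ ⊥ → 2 ^ i + 2 * i + c i ≤ n + 1 ∨
      (2 ^ i + 2 * i + c i ≤ n + 2 ∧ derivedSeries G (i + 1) ≤ (⊤ : Subgroup G).lowerCentralSeries (2 ^ (i + 1))) ∨
      (2 ^ i + 2 * i + c i ≤ n + 3 ∧ derivedSeries G i ≤ (⊤ : Subgroup G).lowerCentralSeries (2 ^ i)) := by
    intro i
    induction i with
    | zero =>
      intro _
      have := hc' 0
      rw [derivedSeries_zero, card_top, hc] at this
      have := Nat.pow_right_injective hp.out.two_le this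
      left; omega
    | succ i ih =>
      intro h
      have h0 : derivedSeries G i ≠ ⊥ := fun e => h (by rw [derivedSeries_succ, e, commutator_bot_left])
      have hpos : 0 < 2 ^ i := by positivity
      have e1 : 2 ^ (i + 1) = 2 * 2 ^ i := by ring
      have H := conv i _ (hall hG _ (der_le i) h)
      rcases ih h0 with h1 | ⟨h1, h2⟩ | ⟨h1, h2⟩
      · rcases small hG _ (der_le i) h with h2 | h2
        · have := conv i _ h2
          left; omega
        · rw [show 4 * (2 ^ i - 1) + 4 = 2 ^ (i + 1 + 1) by rw [pow_succ, pow_succ]; omega] at h2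
          exact .inr (.inl ⟨by omega, h2⟩)
      · exact .inr (.inr ⟨by omega, h2⟩)
      · have := conv i _ (hall hG _ h2 h)
        refine .inr (.inr ⟨by omega, ?_⟩)
        exact ((commutator_mono h2 h2).trans (commutator_lcs_lcs ⊤ _ _)).trans
          (Subgroup.lowerCentralSeries_antitone _ (by omega))
  have h1 : c k ≠ 0 := fun e => hk (by rw [← card_eq_one, hc', e, pow_zero])
  rcases key k hk with h | ⟨h, -⟩ | ⟨h, -⟩ <;> omega

end Cfsg.Lib.Amalg.Mann
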