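/-
Essential subgroups `C_p³`: the normalizer tower.
-/
import Cfsg.Agent.Lib.Layer.P5e

set_option autoImplicit false
set_option linter.unusedSectionVars false

namespace Cfsg.Lib.McE

open Cfsg Cfsg.FusionSystem Equiv Subgroup Cfsg.Lib.Fus Cfsg.Lib.Layer.P5 Cfsg.Lib.PGrp
open scoped commutatorElement

variable {Ω : Type*} [Group Ω] {p : ℕ} [hp : Fact p.Prime]
variable {S E W L N R T A B H : Subgroup Ω} {σ τ δ : Perm Ω} {s x a e t : Ω} {φ ψ : Ω → ZMod p}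

omit hp in
theorem cj_eq_comm (y g : Ω) : y⁻¹ * (g * y * g⁻¹) = ⁅y⁻¹, g⁆ := by simp [commutatorElement_def, mul_assoc]

variable [Finite S] {F : FusionSystem S}

theorem ext_chain (hF : Sat p F) (hc : F.IsCentric T) (hn : F.IsFullyNormalized T) (hτ : Iso F T T τ)
    (A : ℕ → Subgroup Ω) (m : ℕ) (h0 : A 0 = ⊥) (hm : A m = T) (hle : ∀ i, A i ≤ T)
    (hmono : ∀ i, A i ≤ A (i + 1)) (h1 : ∀ i, ∀ y ∈ A i, τ y ∈ A i)
    (h2 : ∀ g ∈ normalizerIn S T, ∀ i < m, ∀ y ∈ A (i + 1), y⁻¹ * (g * y * g⁻¹) ∈ A i) :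
    ∃ δ, Iso F (normalizerIn S T) (normalizerIn S T) δ ∧ ∀ y ∈ T, δ y = τ y := by
  have hTS := hc.1
  have := finite_of_le hTS
  have pm : PMod p (fixP T) (chainStab F T A m) := pMod_of_chain_frattini (hF.pg.to_le hTS) A m (h0 ▸ bot_le) hm hle
    (inf_le_left.trans (autP_le_autAll F T)) fun σ hσ => ((mem_chainStab hTS hle hmono).mp hσ).2
  have l1 : autS S T ≤ chainStab F T A m := fun σ hσ => by
    obtain ⟨g, hg, hg', e⟩ := mem_autS.mp hσ
    refine (mem_chainStab hTS hle hmono).mpr ⟨(iso_cj F hTS hg hg').congr e, fun i hi y hy => ?_⟩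
    rw [e y (hle _ hy)]; exact h2 g ⟨hg, hg'⟩ i hi y hy
  have l2 : chainStab F T A m ≤ autS S T := pm.le_of_not_dvd inf_le_left (autP_le_normalizer F T)
    (relIndex_fixP_autP_ne_zero F hTS) (fixP_le_autS S T) l1 (hF.not_dvd hn)
  have hext : normalizerIn S T ≤ extP S T τ := fun g hg => by
    refine (mem_extP_iff_autS hτ.mem_iff).mpr ⟨hg.1, hg.2, l2 ((mem_chainStab hTS hle hmono).mpr
      ⟨hτ.conj (iso_cj F hTS hg.1 hg.2), fun i hi y hy => ?_⟩)⟩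
    have m1 := hτ.inv_mapsTo (hle _) (h1 (i + 1)) y hy
    have := h1 i _ (h2 g hg i hi _ m1)
    rwa [hτ.homOn.map_mul (T.inv_mem (hle _ m1)) (conj_mem_of_mem_normalizer hg.2 (hle _ m1)),
      hτ.homOn.map_inv (hle _ m1), perm_apply_inv_self] at this
  obtain ⟨δ, hδ, e⟩ := hF.extend hτ (centric_isFullyCentralized hc) hext
  have hN := hδ.mono (le_sup_right : normalizerIn S T ≤ _)
  refine ⟨δ, hN.iso_self fun t ht => ?_, e⟩
  have := hN.mem_normalizerIn_img (le_normalizerIn hTS) ht ht.2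
  rwa [(hτ.congr e).img_eq] at this

theorem lines (hS : IsPGroup p S) (h1 : Ip p B A) (h2 : Ip p A T) (hδ : Iso F T T δ) (hB : ∀ y ∈ B, δ y ∈ B)
    (ht : t ∈ S) (nT : t ∈ normalizer (T : Set Ω)) (nB : t ∈ normalizer (B : Set Ω))
    (cA : ∀ y ∈ A, ⁅y, t⁆ ∈ B) (he : e ∈ T) (c1 : e⁻¹ * (t * e * t⁻¹) ∈ A) (c2 : e⁻¹ * (t * e * t⁻¹) ∉ B) :
    (∀ y ∈ A, δ y ∈ A) ∨ ∃ ρ, Iso F T T ρ ∧ ρ e ∈ A ∧ ∀ y ∈ B, ρ y ∈ B := by
  by_cases hA : ∀ y ∈ A, δ y ∈ A
  · exact Or.inl hA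
  right
  have hTS := hδ.le
  have := finite_of_le hTS
  have hδA := hδ.homOn.mono h2.le
  have lX : img δ A ≤ T := hδ.img_le h2.le
  have := finite_of_le lX
  have iX : Ip p (img δ A) T := ip_of_card (hS.to_le hTS) lX (by rw [hδA.card_img, h2.card])
  have iB := hδ.inv_mapsTo (h1.le.trans h2.le) hB
  have BX : B ≤ img δ A := fun y hy => hδA.mem_img_iff_inv.mpr (h1.le (iB y hy))
  have cX : e⁻¹ * (t * e * t⁻¹) ∉ img δ A := fun k => hA fun y hy => by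
    have := eq_of_le_of_card_le' (h1.le_of_mem c1 c2 BX k) hδA.card_img.le
    exact this ▸ apply_mem_img δ hy
  obtain ⟨θ, a1, a2, a3⟩ := iX.exists_co (h2.le c1) cX
  have a0 : ∀ y ∈ B, θ y = 0 := fun y hy => (a2 y (h2.le (h1.le hy))).mpr (BX hy)
  have key : ∀ m : ℕ, e⁻¹ * (t ^ m * e * (t ^ m)⁻¹) ∈ A ∧ θ (e⁻¹ * (t ^ m * e * (t ^ m)⁻¹)) = m := fun m => by
    induction m with
    | zero => simp [co_one a1]
    | succ m ih =>
      have q : e⁻¹ * (t ^ (m + 1) * e * (t ^ (m + 1))⁻¹) =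
          e⁻¹ * (t * e * t⁻¹) * (t * (e⁻¹ * (t ^ m * e * (t ^ m)⁻¹)) * t⁻¹) := by rw [pow_succ']; group
      have m1 : t * (e⁻¹ * (t ^ m * e * (t ^ m)⁻¹)) * t⁻¹ ∈ A := by
        have := A.mul_mem ih.1 (h1.le (cA _ (A.inv_mem ih.1)))
        rwa [← cj_eq_comm, mul_inv_cancel_left] at this
      rw [q, a1 _ (h2.le c1) _ (h2.le m1), a3,
        co_conj a1 a0 (h1.le.trans h2.le) (h2.le ih.1) (cA _ (A.inv_mem ih.1)), ih.2]
      exact ⟨A.mul_mem c1 m1, by push_cast; ring⟩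
  obtain ⟨m, hm⟩ : ∃ m : ℕ, (m : ZMod p) = -θ e := ⟨_, ZMod.natCast_zmod_val _⟩
  have nT' := pow_mem nT m
  refine ⟨δ⁻¹ * cj (t ^ m), (iso_cj F hTS (S.pow_mem ht m) nT').trans hδ.symm, ?_, fun y hy =>
    iB _ (conj_mem_of_mem_normalizer (pow_mem nB m) hy)⟩
  refine hδA.mem_img_iff_inv.mp ((a2 _ (conj_mem_of_mem_normalizer nT' he)).mp ?_)
  have := a1 e he _ (h2.le (key m).1)
  rw [mul_inv_cancel_left, (key m).2, hm] at this
  rw [this]; ring

/-- Essential elementary abelian subgroups of order `p ^ 3`. -/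
structure Gc (p : ℕ) (F : FusionSystem S) (E : Subgroup Ω) : Prop where
  ess : F.IsEssential p E
  ab : IsMulCommutative E
  ex : ∀ u ∈ E, u ^ p = 1
  card : Nat.card E = p ^ 3

theorem Gc.img (h : Gc p F E) (hσ : Mor F (normalizerIn S E) σ) : Gc p F (img σ E) := by
  have hEN := le_normalizerIn h.ess.1.1
  have i := hσ.iso_of_le hEN
  refine ⟨i.essential h.ess (hσ.fn_img h.ess.2.1 i), comm_of_conj fun u hu v hv => ?_, fun u hu => ?_,
    i.card_eq ▸ h.card⟩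
  · obtain ⟨u, hu', rfl⟩ := i.exists_eq hu
    obtain ⟨v, hv', rfl⟩ := i.exists_eq hv
    rw [← i.homOn.map_conj hu' hv', conj_eq_of_comm h.ab hu' hv']
  · obtain ⟨u, hu', rfl⟩ := i.exists_eq hu
    rw [← i.homOn.map_pow hu', h.ex u hu', i.homOn.map_one]

/-- The configuration around an essential `C_p³` with a transvection. -/
structure Cf (p : ℕ) [Fact p.Prime] (F : FusionSystem S) (E W L : Subgroup Ω) (s x : Ω) (φ ψ : Ω → ZMod p) :
    Prop extends Gc p F E where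
  gd : Gd p F E ⊥ W
  dg : Dg p F E ⊥ W L s x φ ψ
  cW : Nat.card W = p
  cen : ∀ u ∈ L, ∀ g ∈ normalizerIn S E, u * g * u⁻¹ = g

theorem Gc.exists_cf (h : Gc p F E) (hF : Sat p F) (hH : Ip p H E) (ha : a ∈ normalizerIn S E) (ha' : a ∉ E)
    (hc : ∀ u ∈ H, a * u * a⁻¹ = u) : ∃ W s x φ ψ, Cf p F E W H s x φ ψ := by
  have hp0 := hp.out.pos
  have hES := h.ess.1.1
  obtain ⟨W, w1, w2⟩ := exists_W hF h.ess h.ab h.ex hH ha ha' hc
  have c : Nat.card E = p ^ 2 * Nat.card W := by rw [hH.card, w2.card]; ring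
  have cW : Nat.card W = p := Nat.eq_of_mul_eq_mul_left (pow_pos hp0 2) (by rw [← c, h.card]; ring)
  have hW := w2.le.trans hH.le
  have gd : Gd p F E ⊥ W := ⟨bot_le, bot_le, hW, inv_bot F E, w1, fun u hu v hv => by
    rw [conj_eq_of_comm h.ab (hW hv) (hW hu), inv_mul_cancel]; exact one_mem _, by rw [cW, card_bot, mul_one]⟩
  obtain ⟨L, s, x, φ, ψ, hD⟩ := gd.exists_dg hF h.ess c
  have iL := hD.pl.ip2
  have := finite_of_le (iL.le.trans hES)
  obtain rfl : H = L := eq_of_le_of_card_le' (fun u hu => hD.mem_L ha ha' (hH.le hu) (by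
    rw [hc u hu, inv_mul_cancel]; exact one_mem _)) (Nat.le_of_mul_le_mul_left (by rw [← hH.card, ← iL.card]) hp0)
  exact ⟨W, s, x, φ, ψ, h, gd, hD, cW, fun u hu g hg => conj_eq_iff.mp
    (hD.ip.le_of_mem ha ha' (fun v hv => conj_eq_iff.mpr (conj_eq_of_comm h.ab (iL.le hu) hv))
      (conj_eq_iff.mpr (conj_symm (hc u hu))) hg)⟩

namespace Cf

variable (h : Cf p F E W L s x φ ψ)
include h

theorem cL : Nat.card L = p ^ 2 := by rw [h.dg.pl.ip1.card, h.cW]; ring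

theorem cN : Nat.card (normalizerIn S E) = p ^ 4 := by rw [h.dg.ip.card, h.card]; ring

theorem ZN : centralizerIn (normalizerIn S E) (normalizerIn S E) = L := by
  have iE := h.dg.ip
  obtain ⟨a, ha, ha'⟩ := iE.exists_not_mem
  exact le_antisymm (fun u hu => h.dg.mem_L ha ha' (centric_centralizerIn_le h.ess.1
    (mem_centralizerIn'.mpr ⟨hu.1.1, fun v hv => (mem_centralizerIn'.mp hu).2 v (iE.le hv)⟩))
      (by rw [center_conj hu ha, inv_mul_cancel]; exact one_mem _))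
    fun u hu => mem_centralizerIn'.mpr ⟨iE.le (h.dg.pl.ip2.le hu), h.cen u hu⟩

theorem nN : ¬ IsMulCommutative (normalizerIn S E) := fun k => by
  have iE := h.dg.ip
  exact iE.ne fun u hu => centric_centralizerIn_le h.ess.1
    (mem_centralizerIn'.mpr ⟨hu.1, fun v hv => conj_eq_of_comm k hu (iE.le hv)⟩)

theorem ci (hS : IsPGroup p S) : CI p (normalizerIn S E) ⁅normalizerIn S E, normalizerIn S E⁆ :=
  ci_of hS (normalizerIn_le S E) h.nN (by rw [h.ZN, h.cN, h.cL]; exact le_of_eq (by ring))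

theorem nL (hN : N = normalizerIn S E) : normalizerIn S N ≤ normalizer (L : Set Ω) := fun g hg => by
  rw [← h.ZN, ← hN]; exact mem_normalizer_centralizerIn hg.2 hg.2

theorem tower (hS : IsPGroup p S) (hN : N = normalizerIn S E) (hR : R = normalizerIn S N) : R = N ∨
    ∃ A, Ip p L A ∧ Ip p A N ∧ R ≤ normalizer (A : Set Ω) ∧ x ∉ A ∧ Ip p N R ∧
      ∀ t ∈ R, t ∉ N → x⁻¹ * (t * x * t⁻¹) ∉ L := by
  have hES := h.ess.1.1
  have iE : Ip p E N := hN ▸ h.dg.ip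
  have iL := h.dg.pl.ip2
  have hx := h.dg.pl.hx
  have hNS : N ≤ S := hN ▸ normalizerIn_le S E
  have hRS : R ≤ S := hR ▸ normalizerIn_le S N
  have hNR : N ≤ R := hR ▸ le_normalizerIn hNS
  have := finite_of_le hES
  have := finite_of_le hNS
  have := finite_of_le hRS
  have nL : R ≤ normalizer (L : Set Ω) := hR ▸ h.nL hN
  have nN : R ≤ normalizer (N : Set Ω) := hR ▸ normalizerIn_le_normalizer S N
  have hRp := hS.to_le hRS
  obtain ⟨A, i1, l1, n1⟩ := exists_ip_normal hRp (iL.lt.trans iE.lt) hNR nL nN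
  have := finite_of_le l1
  have c0 : Nat.card A = p ^ 3 := by rw [i1.card, h.cL]; ring
  have i2 : Ip p A N := ip_of_card (hS.to_le hNS) l1 (by rw [hN, h.cN, c0]; ring)
  have key : ∀ t ∈ R, x⁻¹ * (t * x * t⁻¹) ∈ L → t ∈ N := fun t ht k => by
    rw [hN]
    refine ⟨hRS ht, mem_normalizer_of_conj_mem_finite fun u hu => ?_⟩
    refine iL.le_of_mem (H := E.comap (MulAut.conj t).toMonoidHom) hx h.dg.pl.x_not
      (fun v hv => iL.le (conj_mem_of_mem_normalizer (nL ht) hv)) ?_ hu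
    have := E.mul_mem hx (iL.le k)
    rwa [mul_inv_cancel_left] at this
  by_cases hRN : R ≤ N
  · exact Or.inl (le_antisymm hRN hNR)
  obtain ⟨t, ht, ht'⟩ := SetLike.not_le_iff_exists.mp hRN
  have hx0 : x ∉ A := fun k => hRN fun g hg => by
    have := eq_of_le_of_card_le' (iL.le_of_mem hx h.dg.pl.x_not i1.le k) (by rw [c0, h.card])
    rw [hN]; exact ⟨hRS hg, this ▸ n1 hg⟩
  refine Or.inr ⟨A, i1, i2, n1, hx0, ?_, fun t ht ht' k => ht' (key t ht k)⟩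
  have k := ip_tsc i2 i1 hNR (comm_ip hRp i2 hNR n1 nN) (comm_ip hRp i1 (l1.trans hNR) nL n1) nL
    (N.inv_mem (iE.le hx)) ht fun k => ht' (key t ht (by rwa [cj_eq_comm]))
  convert k using 1
  refine le_antisymm (fun g hg => (mem_tsc hNR nL).mpr ⟨hNR hg, fun y hy => ?_⟩) fun g hg => ?_
  · have := (h.ci hS).le
    rw [h.ZN, ← hN] at this
    exact this (commutator_mem_commutator hy hg)
  · obtain ⟨g1, g2⟩ := (mem_tsc hNR nL).mp hg
    exact key g g1 (by rw [cj_eq_comm]; exact g2 _ (N.inv_mem (iE.le hx)))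

theorem fnN (hS : IsPGroup p S) (htr : ∀ E', Gc p F E' → ∃ W L s x φ ψ, Cf p F E' W L s x φ ψ)
    (hN : N = normalizerIn S E) (iN : Ip p N (normalizerIn S N)) : F.IsFullyNormalized N := by
  have hNS : N ≤ S := hN ▸ normalizerIn_le S E
  refine isFullyNormalized_iff.mpr ⟨hNS, fun Q σ hσ => ?_⟩
  have m : Mor F (normalizerIn S E) σ := hN ▸ hσ.mor
  obtain ⟨W', L', s', x', φ', ψ', h'⟩ := htr _ (h.toGc.img m)
  have i := m.iso_normalizerIn h.ess.2.1 (m.iso_of_le (le_normalizerIn h.ess.1.1))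
  have hQ : Q = normalizerIn S (img σ E) := hσ.eq_of_eq (hN ▸ i)
  rw [iN.card, hσ.card_eq]
  obtain k | ⟨A, -, -, -, -, k, -⟩ := h'.tower hS hQ rfl
  · rw [k]; exact Nat.le_mul_of_pos_left _ hp.out.pos
  · exact k.card.le

theorem cent (hF : Sat p F) (hp5 : 5 ≤ p) (htr : ∀ E', Gc p F E' → ∃ W L s x φ ψ, Cf p F E' W L s x φ ψ)
    (hN : N = normalizerIn S E) (hR : R = normalizerIn S N) (hlt : N < S) :
    Ip p N R ∧ ∀ u ∈ L, ∀ g ∈ R, u * g * u⁻¹ = g := by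
  have hS := hF.pg
  have hES := h.ess.1.1
  have iE : Ip p E N := hN ▸ h.dg.ip
  have iL := h.dg.pl.ip2
  have iW := h.dg.pl.ip1
  have hx := h.dg.pl.hx
  have hNS : N ≤ S := hlt.le
  have hRS : R ≤ S := hR ▸ normalizerIn_le S N
  have := finite_of_le hES
  have := finite_of_le hNS
  have := finite_of_le hRS
  have hRp := hS.to_le hRS
  obtain ⟨A, i1, i2, n1, hx0, iN, hne⟩ :=
    (h.tower hS hN hR).resolve_left fun k => (lt_normalizerIn hS hlt).ne (by rw [← hR, k])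
  have hNR := iN.le
  have nL : R ≤ normalizer (L : Set Ω) := hR ▸ h.nL hN
  have fn := h.fnN hS htr hN (hR ▸ iN)
  refine ⟨iN, ?_⟩
  by_contra hcon
  push Not at hcon
  obtain ⟨u₀, hu₀, v₀, hv₀, ne₀⟩ := hcon
  have cNL : ∀ u ∈ L, ∀ g ∈ N, u * g * u⁻¹ = g := hN ▸ h.cen
  have ci := h.ci hS
  have ZN := h.ZN
  have nN := h.nN
  have hdiag := h.dg.diag
  have hne' := h.dg.ne
  rw [← hN] at ci ZN nN hdiag hne'
  have cmN : ∀ u ∈ N, ∀ v ∈ N, ⁅u, v⁆ ∈ ⁅N, N⁆ := fun u hu v hv => commutator_mem_commutator hu hv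
  have iCN := inv_comm F N
  obtain ⟨C, hC⟩ : ∃ C, C = ⁅N, N⁆ := ⟨_, rfl⟩
  rw [← hC] at ci cmN iCN
  have hCL : C ≤ L := ZN ▸ ci.le
  have hLR := (iL.le.trans iE.le).trans hNR
  have hAR := i2.le.trans hNR
  have := finite_of_le hLR
  have := finite_of_le hCL
  have := finite_of_le hAR
  have nC : R ≤ normalizer (C : Set Ω) := fun g hg =>
    mem_normalizer_of_conj_mem_finite (ci.inv _ (cj_mem_autAll (iN.norm hg)))
  have cC : ∀ u ∈ C, ∀ g ∈ R, ⁅u, g⁆ ∈ (⊥ : Subgroup Ω) := fun u hu g hg =>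
    comm_bot (conj_symm (conj_eq_of_card_le hRp (hCL.trans hLR) ci.cardD.le hg (nC hg) hu))
  have iC : Ip p C L := ip_of_card (hRp.to_le hLR) hCL (by rw [h.cL, ci.cardD]; ring)
  have i0 : Ip p ⊥ C := ip_of_card (hRp.to_le (hCL.trans hLR)) bot_le (by rw [ci.cardD, card_bot, mul_one])
  obtain ⟨a, ha, ha'⟩ := iE.exists_not_mem
  have hxN := iE.le hx
  obtain ⟨c, hcC, hcW⟩ : ∃ c ∈ C, c ∉ W := by
    refine ⟨_, ci.comm x hxN a ha, fun e => hne' a ha ha' ?_⟩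
    rw [h.dg.pl.eq1 hx (iE.conj_mem ha hx) e, h.dg.pl.φx]
  obtain ⟨w, hw, hwC⟩ : ∃ w ∈ W, w ∉ C := by
    by_contra k
    push Not at k
    exact hcW (eq_of_le_of_card_le' k (by rw [h.cW, ci.cardD]) ▸ hcC)
  have c0 : Nat.card A = p ^ 3 := by rw [i1.card, h.cL]; ring
  have ab0 : IsMulCommutative A := comm_of_ip i1 fun u hu v hv => cNL u hu v (i2.le hv)
  have cm0 : ∀ u ∈ A, ∀ v ∈ A, ⁅u, v⁆ ∈ (⊥ : Subgroup Ω) := fun u hu v hv => comm_bot (conj_eq_of_comm ab0 hu hv)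
  have k1 := comm_ip hRp i2 hNR n1 iN.norm
  have k2 := comm_ip hRp i1 hAR nL n1
  have k3 := comm_ip hRp iC hLR nC nL
  obtain ⟨t, ht, ht'⟩ := iN.exists_not_mem
  have hxt : ⁅x⁻¹, t⁆ ∉ L := cj_eq_comm x t ▸ hne t ht ht'
  have t2 : (2 : ZMod p) ≠ 0 := fun e =>
    absurd (Nat.le_of_dvd two_pos ((ZMod.natCast_eq_zero_iff 2 p).mp e)) (by omega)
  obtain ⟨g, g1, g2, g3, g4⟩ := hdiag 2 t2
  obtain ⟨e1, e2⟩ := h.dg.ev1 h.gd g2 g4
  have gA : ∀ y ∈ A, g y ∈ A := by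
    refine (lines hS i1 i2 g1 e1.mA (hRS ht) (iN.norm ht) (nL ht) (fun y hy => k2 y hy t ht) hxN
      (cj_eq_comm x t ▸ k1 _ (N.inv_mem hxN) t ht) (hne t ht ht')).resolve_right ?_
    rintro ⟨ρ, r1, r2, r3⟩
    have i := r1.mor.iso_of_le iE.le
    have le : img ρ E ≤ A := img_le_iff.mpr fun y hy =>
      (iL.le_of_mem (H := r1.homOn.pre A) hx h.dg.pl.x_not (fun v hv => ⟨iE.le (iL.le hv), i1.le (r3 v hv)⟩)
        ⟨hxN, r2⟩ hy).2
    rw [eq_of_le_of_card_le' le (by rw [← i.card_eq, c0, h.card])] at i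
    have k := (isFullyNormalized_iff.mp h.ess.2.1).2 _ _ i
    have := finite_of_le (normalizerIn_le S A)
    have k0 : R ≤ normalizerIn S A := fun r hr => ⟨hRS hr, n1 hr⟩
    have k' := card_le_of_le k0
    rw [← hN] at k
    exact (card_lt_of_lt iN.lt).not_ge (k'.trans k)
  obtain ⟨α, a1, a2⟩ := ext_chain hF (centric_mono h.ess.1 iE.le hNS) fn g1
    (fun i => match i with | 0 => ⊥ | 1 => C | 2 => L | 3 => A | _ + 4 => N) 4 rfl rfl
    (fun i => match i with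
      | 0 => bot_le | 1 => hCL.trans (i1.le.trans i2.le) | 2 => i1.le.trans i2.le | 3 => i2.le | _ + 4 => le_rfl)
    (fun i => match i with | 0 => bot_le | 1 => hCL | 2 => i1.le | 3 => i2.le | _ + 4 => le_rfl)
    (fun i => match i with
      | 0 => inv_bot F N g g1 | 1 => iCN g g1 | 2 => e1.mA | 3 => gA | _ + 4 => fun _ hy => g1.mem hy)
    (fun r hr i hi y hy => by
      rw [cj_eq_comm]
      rw [← hR] at hr
      exact match i, hi, hy with
      | 0, _, hy => cC _ (inv_mem hy) r hr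
      | 1, _, hy => k3 _ (inv_mem hy) r hr
      | 2, _, hy => k2 _ (inv_mem hy) r hr
      | 3, _, hy => k1 _ (inv_mem hy) r hr)
  rw [← hR] at a1
  have e1' := e1.congr iW.le fun u hu => a2 u (iE.le (iL.le hu))
  have e2' := e2.congr iL.le fun u hu => a2 u (iE.le hu)
  have a3 := g1.congr a2
  have mN : ∀ u ∈ N, α u ∈ N := fun u hu => a3.mem hu
  have m0 : ∀ u ∈ A, α u ∈ A := fun u hu => a2 u (i2.le hu) ▸ gA u hu
  have mb := inv_bot F R α a1
  obtain ⟨ν, f1⟩ := exists_ev iN a1.homOn (fun _ hu => a1.mem hu) mN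
  obtain ⟨d', f2⟩ := exists_ev i2 a3.homOn mN m0
  obtain ⟨μ, f3⟩ := exists_ev i1 (a1.homOn.mono hAR) m0 e1'.mA
  obtain ⟨k, f4⟩ := exists_ev iC (a1.homOn.mono hLR) e1'.mA (iCN α a3)
  obtain ⟨k', f5⟩ := exists_ev i0 (a1.homOn.mono (hCL.trans hLR)) (iCN α a3) mb
  obtain rfl := f2.eq_of_le e2' i2 iE.le i1.le hx hx0
  obtain rfl := f4.eq_of_le (ev_one_of e1'.mB mb bot_le fun u hu => by
    rw [a2 u (iE.le (h.gd.le2 hu))]; exact g3 u hu) iC iW.le bot_le hw hwC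
  obtain rfl := e1'.eq_of_le f5 iW hCL bot_le hcC hcW
  obtain ⟨u, hu, v, hv, ne⟩ : ∃ u ∈ N, ∃ v ∈ A, ⁅u, v⁆ ∉ (⊥ : Subgroup Ω) := by
    by_contra k
    push Not at k
    exact nN (comm_of_ip i2 fun u hu v hv => conj_symm (conj_of_bot (k v hv u hu)))
  have r1 := ev_pair a1.homOn hNR hAR f2 f3 f5 i0 (fun u hu v hv => cmN u hu v (i2.le hv))
    cm0 (fun u hu v hv => comm_bot (conj_symm (cNL v hv u hu))) cC hu hv ne
  have r2 := ev_pair a1.homOn hNR le_rfl f2 f1 f3 i1 k1 k2 (fun u hu v hv => hCL (cmN u hu v hv)) k2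
    (N.inv_mem hxN) ht hxt
  have r3 := ev_pair a1.homOn hLR le_rfl f4 f1 f5 i0 k3 cC (fun u hu v hv => comm_bot (cNL u hu v hv)) cC hu₀ hv₀
    fun e => ne₀ (conj_of_bot e)
  have r4 : (2 : ZMod p)⁻¹ * 2 = 1 := inv_mul_cancel₀ t2
  have k2 : ((3 : ℕ) : ZMod p) = 0 := by
    push_cast
    linear_combination (-2 : ZMod p) * r1 - 4 * r2 + 8 * r3 - 3 * r4
  exact absurd (Nat.le_of_dvd three_pos ((ZMod.natCast_eq_zero_iff _ p).mp k2)) (by omega)

end Cf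
end Cfsg.Lib.McE
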