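/-
Essential subgroups `C_p³` in groups of maximal class.
-/
import Cfsg.Agent.Lib.Amalg.Mc1

set_option autoImplicit false
set_option linter.unusedSectionVars false

namespace Cfsg.Lib.McE

open Cfsg Cfsg.FusionSystem Equiv Subgroup Cfsg.Lib.Fus Cfsg.Lib.Layer.P5 Cfsg.Lib.PGrp
open scoped commutatorElement

variable {Ω : Type*} [Group Ω] {p : ℕ} [hp : Fact p.Prime]
variable {S E W L N R T A B H Q : Subgroup Ω} {σ τ δ : Perm Ω} {s x a e t y : Ω} {φ ψ : Ω → ZMod p}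
variable {n m i j : ℕ} {G : ℕ → Subgroup Ω}

theorem u1 (h : MxC p S n G) (he : e ∈ S) (he' : e ∉ G 1) (h1 : 1 ≤ i) (h2 : i + 3 ≤ n) (hy : y ∈ G i)
    (hy' : y ∉ G (i + 1)) : ⁅y, e⁆ ∉ G (i + 2) := fun k =>
  he' (h.tw_eq h1 (by omega) (h.le_tw i h1 h2) ▸ h.mem_tw_of hy hy' he k)

theorem u2 (h : MxC p S n G) (hQ : Q ≤ S) (he : e ∈ Q) (he' : e ∉ G 1) (hl : G (n - 2) ≤ Q) :
    ∀ d i, n - 2 ≤ i + d → 1 ≤ i → ∀ y ∈ Q, y ∈ G i → y ∉ G (i + 1) → G i ≤ Q := by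
  intro d
  induction d with
  | zero => exact fun i hi _ _ _ _ _ => (h.anti hi).trans hl
  | succ d ih =>
    intro i hi h1 y hy k1 k2
    by_cases e1 : n - 2 ≤ i
    · exact (h.anti e1).trans hl
    exact (h.ip i (by omega)).le_of_mem k1 k2 (ih (i + 1) (by omega) (by omega) ⁅y, e⁆
      (Q.mul_mem (Q.mul_mem (Q.mul_mem hy he) (Q.inv_mem hy)) (Q.inv_mem he)) (h.c0 i y k1 e (hQ he))
      (u1 h (hQ he) he' h1 (by omega) k1 k2)) hy

theorem norm_bound [Finite S] (h : MxC p S n G) (hb : G n = ⊥) (hQ : Q ≤ S) (he : e ∈ Q) (he' : e ∉ G 1)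
    (hl : G (n - 2) ≤ Q) (h1 : 1 ≤ j) (h2 : j + 3 ≤ n) (hc : Nat.card Q ≤ p * Nat.card (G (j + 1))) :
    Nat.card (normalizerIn S Q) ≤ p * Nat.card (G j) := by
  have hp1 := hp.out.one_lt
  have k1 : ∀ y ∈ Q, y ∈ G 1 → y ∈ G (j + 1) := fun y hy hy1 => by
    by_contra k
    obtain ⟨i, i1, i2, i3⟩ := h.exists_level hb hy1 fun e => k (e ▸ one_mem _)
    have i4 : i ≤ j := by
      by_contra i4
      exact k (h.anti (by omega) i2)
    have l : G j ≤ G 1 ⊓ Q := le_inf (h.anti h1) ((h.anti i4).trans (u2 h hQ he he' hl n i (by omega) i1 y hy i2 i3))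
    have := finite_of_le (inf_le_right.trans hQ : G 1 ⊓ Q ≤ S)
    have := finite_of_le (h.le (j + 1))
    have c1 := (h.ip0.inf hQ fun k => he' (k he)).card
    have c2 := card_le_of_le l
    rw [(h.ip j (by omega)).card] at c2
    have := Nat.card_pos (α := G (j + 1))
    nlinarith
  have k2 : G 1 ⊓ normalizerIn S Q ≤ G j := fun y hy => by
    by_contra k
    obtain ⟨i, i1, i2, i3⟩ := h.exists_level hb hy.1 fun e => k (e ▸ one_mem _)
    have i4 : i < j := by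
      by_contra i4
      exact k (h.anti (by omega) i2)
    refine u1 h (hQ he) he' i1 (by omega) i2 i3 (h.anti (by omega) (k1 _ ?_ (h.anti (by omega) (h.c0 i y i2 e (hQ he)))))
    exact Q.mul_mem (conj_mem_of_mem_normalizer hy.2.2 he) (Q.inv_mem he)
  have := finite_of_le (h.le j)
  exact (h.ip0.card_le (normalizerIn_le S Q)).trans (Nat.mul_le_mul_left p (card_le_of_le k2))

theorem pairing (h : MxC p S n G) (hb : G n = ⊥) (hex : ¬ G 1 ≤ tw G (n - 2)) :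
    ∀ i j, 1 ≤ j → i + 1 + j + 1 = n → ∀ u ∈ G (i + 1), u ∉ G (i + 2) → ∀ v ∈ G j, v ∉ G (j + 1) → ⁅u, v⁆ ≠ 1 := by
  intro i
  induction i with
  | zero =>
    intro j h1 h2 u hu hu' v hv hv' k
    obtain rfl : j = n - 2 := by omega
    exact hex ((h.ip 1 (by omega)).le_of_mem hu hu' (h.two_le_tw _)
      (h.mem_tw_of hv hv' (h.le _ hu) (comm_symm (k ▸ one_mem _))))
  | succ i ih =>
    intro j h1 h2 u' hu hu' v hv hv' k
    obtain ⟨e, he, he'⟩ := h.ip0.exists_not_mem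
    obtain ⟨u, a1, a2⟩ := (h.ip (i + 1) (by omega)).exists_not_mem
    have b1 : ∀ z ∈ G (i + 2), ⁅z, v⁆ = 1 := fun z hz => mem_bot.mp (hb ▸ h.ext_left (k := n) hu hu' (h.le _ hv)
      (k ▸ one_mem _) (fun z hz => h.anti (by omega) (h.c1 _ _ z hz v hv)) z hz)
    have d1 := h.c0 j _ ((G j).inv_mem hv) e he
    have d2 := u1 h he he' h1 (by omega) ((G j).inv_mem hv) fun k => hv' (inv_mem_iff.mp k)
    have d3 := h.c0 _ _ ((G (i + 1)).inv_mem a1) e he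
    have d4 : ⁅⁅u⁻¹, e⁆, ⁅v⁻¹, e⁆⁆ = 1 := mem_bot.mp (hb ▸ h.anti (by omega) (h.c1 _ _ _ d3 _ d1))
    obtain ⟨b, rfl⟩ : ∃ b, j = b + 1 := ⟨j - 1, by omega⟩
    have c1 := h.c3 (m := n - 2) (fun j j1 j2 => h.le_tw j j1 (by omega)) b (i + 1) (by omega) (by omega) u a1 v hv
    have c2 : ⁅⁅u, v⁆, e⁆ = 1 := mem_bot.mp (hb ▸ h.anti (by omega) (h.c0 _ _ c1 e he))
    refine ih _ (by omega) (by omega) u a1 a2 _ d1 d2 ?_
    have q1 : e * u * e⁻¹ = u * ⁅u⁻¹, e⁆ := by simp [commutatorElement_def, mul_assoc]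
    have q2 : e * v * e⁻¹ = v * ⁅v⁻¹, e⁆ := by simp [commutatorElement_def, mul_assoc]
    have q3 := commutatorElement_eq_one_iff_commute.mp (b1 _ d3)
    have q4 := commutatorElement_eq_one_iff_commute.mp d4
    have q5 := (commutatorElement_eq_one_iff_commute.mp c2).symm
    generalize ⁅u⁻¹, e⁆ = a at q1 q3 q4
    generalize ⁅v⁻¹, e⁆ = d at q2 q4 ⊢
    have q6 : ⁅u * a, v * d⁆ = ⁅u, v⁆ := by
      rw [← q1, ← q2, ← conjugate_commutatorElement, q5.eq, mul_inv_cancel_right]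
    have q7 : ⁅u * a, v * d⁆ = ⁅u, v⁆ * (v * ⁅u, d⁆ * v⁻¹) := by
      have : ⁅u * a, v * d⁆ = u * (a * (v * d) * a⁻¹) * u⁻¹ * (v * d)⁻¹ := by
        simp [commutatorElement_def, mul_assoc]
      rw [this, (q3.mul_right q4).eq, mul_inv_cancel_right]
      simp [commutatorElement_def, mul_assoc]
    rw [q6, left_eq_mul] at q7
    simpa using q7

theorem even_of_exc (h : MxC p S n G) (hb : G n = ⊥) (hex : ¬ G 1 ≤ tw G (n - 2)) : Even n := by
  by_contra k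
  obtain ⟨i, hi⟩ := Nat.not_even_iff_odd.mp k
  have := h.four
  obtain ⟨u, a1, a2⟩ := (h.ip (i - 1 + 1) (by omega)).exists_not_mem
  exact pairing h hb hex (i - 1) (i - 1 + 1) (by omega) (by omega) u a1 a2 u a1 a2 (by simp)

variable [Finite S] {F : FusionSystem S}

theorem mem_tw_last (h : MxC p S (m + 5) G) (hb : G (m + 5) = ⊥) :
    a ∈ tw G (m + 3) ↔ a ∈ S ∧ ∀ u ∈ G (m + 3), a * u * a⁻¹ = u := by
  rw [h.mem_tw, hb]
  exact and_congr_right fun _ => forall₂_congr fun u _ => ⟨fun k => conj_symm (conj_of_bot k),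
    fun k => comm_bot (conj_symm k)⟩

theorem cfA (h : MxC p S (m + 5) G) (hb : G (m + 5) = ⊥) (hF : Sat p F) (hE : Gc p F E) (hA : G (m + 3) ≤ E) :
    ∃ W s x φ ψ, Cf p F E W (G (m + 3)) s x φ ψ := by
  have hES := hE.ess.1.1
  have := finite_of_le hES
  have iT := h.ip_tw (i := m + 3) (by omega) (by omega)
  have l : E ≤ tw G (m + 3) := fun u hu =>
    (mem_tw_last h hb).mpr ⟨hES hu, fun v hv => conj_eq_of_comm hE.ab hu (hA hv)⟩
  have lt : E < tw G (m + 3) := lt_of_le_of_ne l fun e => by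
    have := iT.card
    rw [← e, hE.card, ← h.zero, h.card_eq hb (m + 5) 0 (by omega), ← pow_succ'] at this
    have := pow_le_iff.mp this.le
    omega
  obtain ⟨a, ha, ha'⟩ := SetLike.not_le_iff_exists.mp (lt_normalizerIn_of_le hF.pg lt iT.le).not_ge
  exact hE.exists_cf hF (ip_of_card (hF.pg.to_le hES) hA (by
    rw [hE.card, h.card_eq hb 2 _ (by omega)]; ring)) ⟨iT.le ha.1, ha.2⟩ ha' ((mem_tw_last h hb).mp ha.1).2

theorem last_le (h : MxC p S (m + 5) G) (hb : G (m + 5) = ⊥) (hE : F.IsCentric E) : G (m + 4) ≤ E :=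
  (h.center_eq hb).ge.trans (center_le_of_centric hE)

omit hp [Finite S] in
theorem norm_of (k : ∀ u ∈ A, ∀ g ∈ B, ⁅u, g⁆ ∈ A) (hB : B ≤ S) : B ≤ normalizerIn S A :=
  fun _ hg => ⟨hB hg, norm_of_comm k hg⟩

theorem cfB (h : MxC p S (m + 5) G) (hb : G (m + 5) = ⊥) (hF : Sat p F) (hE : Gc p F E) (ha : a ∈ G (m + 3))
    (ha' : a ∉ E) : a ∈ normalizerIn S E ∧ ∃ W s x φ ψ, Cf p F E W (E ⊓ centralizer {a}) s x φ ψ := by
  have hES := hE.ess.1.1
  have k : ∀ u ∈ E, ∀ g ∈ G (m + 3), ⁅u, g⁆ ∈ G (m + 4) := fun u hu g hg => comm_symm (h.c0 _ g hg u (hES hu))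
  have an := norm_of (fun u hu g hg => last_le h hb hE.ess.1 (k u hu g hg)) (h.le _) ha
  exact ⟨an, hE.exists_cf hF (ip_centralizer hF.pg hES (h.le (m + 4)) (by rw [h.card_eq hb 1 _ (by omega), pow_one])
    (h.le _ ha) (fun w hw => k w hw a ha) fun l => ha' (centric_centralizerIn_le hE.ess.1
      (mem_centralizerIn'.mpr ⟨h.le _ ha, fun u hu => conj_eq_iff.mp (l hu)⟩))) an ha'
    fun u hu => conj_eq_iff.mp hu.2⟩

theorem htr (h : MxC p S (m + 5) G) (hb : G (m + 5) = ⊥) (hF : Sat p F) :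
    ∀ E', Gc p F E' → ∃ W L s x φ ψ, Cf p F E' W L s x φ ψ := fun E' hE => by
  by_cases k : G (m + 3) ≤ E'
  · obtain ⟨W, k⟩ := cfA h hb hF hE k
    exact ⟨W, _, k⟩
  · obtain ⟨a, ha, ha'⟩ := SetLike.not_le_iff_exists.mp k
    obtain ⟨-, W, k⟩ := cfB h hb hF hE ha ha'
    exact ⟨W, _, k⟩

theorem Cf.lt (c : Cf p F E W L s x φ ψ) (h : MxC p S (m + 5) G) (hb : G (m + 5) = ⊥) : normalizerIn S E < S :=
  lt_of_le_of_ne (normalizerIn_le S E) fun e => by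
    have := c.cN
    rw [e, ← h.zero, h.card_eq hb (m + 5) 0 (by omega)] at this
    have := pow_le_iff.mp this.le
    omega

theorem caseA1 (h : MxC p S (m + 5) G) (hb : G (m + 5) = ⊥) (hF : Sat p F) (hp5 : 5 ≤ p) (hE : Gc p F E)
    (hA : G (m + 3) ≤ E) : ¬ E ≤ G 1 := fun h1 => by
  obtain ⟨W, s, x, φ, ψ, c⟩ := cfA h hb hF hE hA
  have l : G (m + 1) ≤ normalizerIn S E := norm_of (fun u hu g hg => hA (comm_symm
    ((h.mem_tw.mp (h.le_tw (m + 1) (by omega) (by omega) (h1 hu))).2 g hg))) (h.le _)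
  have := finite_of_le (normalizerIn_le S E)
  have e := eq_of_le_of_card_le' l (by rw [c.cN, h.card_eq hb 4 _ (by omega)])
  obtain ⟨-, k⟩ := c.cent hF hp5 (htr h hb hF) e (normalizerIn_eq_of_le (h.norm _)).symm (e ▸ c.lt h hb)
  obtain ⟨y, hy, g, hg, ne⟩ := h.ne (m + 3) (by omega) (by omega)
  exact ne (hb ▸ comm_bot (k y hy g hg))

theorem caseB (h : MxC p S (m + 5) G) (hb : G (m + 5) = ⊥) (hF : Sat p F) (hp5 : 5 ≤ p) (hE : Gc p F E) :
    G (m + 3) ≤ E := by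
  by_contra hB
  obtain ⟨a, ha, ha'⟩ := SetLike.not_le_iff_exists.mp hB
  obtain ⟨an, W, s, x, φ, ψ, c⟩ := cfB h hb hF hE ha ha'
  obtain ⟨L, hL⟩ : ∃ L, L = E ⊓ centralizer {a} := ⟨_, rfl⟩
  rw [← hL] at c
  have hES := hE.ess.1.1
  have iL := c.dg.pl.ip2
  have a4 : a ∉ G (m + 4) := fun k => ha' (last_le h hb hE.ess.1 k)
  have k1 : ∀ u ∈ E, u ∉ L → u ∉ tw G (m + 3) := fun u hu hu' k => hu' (hL ▸ ⟨hu,
    conj_eq_iff.mpr (conj_symm (((mem_tw_last h hb).mp k).2 a ha))⟩)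
  have k2 : ∀ u ∈ E, u ∉ L → u ∈ G 1 := fun u hu hu' => by
    by_contra k
    have i := h.ip_cent (h.un_iff.mpr ⟨hES hu, k, k1 u hu hu'⟩) hb
    have l : E ≤ S ⊓ centralizer {u} := fun v hv => ⟨hES hv, conj_eq_iff.mpr (conj_eq_of_comm hE.ab hu hv)⟩
    have := finite_of_le (inf_le_left : S ⊓ centralizer {u} ≤ S)
    have := card_le_of_le l
    rw [i.card, h.card_eq hb 1 _ (by omega), hE.card, ← pow_succ'] at this
    have := pow_le_iff.mp this
    omega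
  have hx := c.dg.pl.hx
  have hx' := c.dg.pl.x_not
  have x1 := k2 x hx hx'
  have hex : ¬ G 1 ≤ tw G (m + 5 - 2) := fun k => k1 x hx hx' (k x1)
  have x2 : x ∉ G 2 := fun k => k1 x hx hx' (h.two_le_tw _ k)
  have E1 : E ≤ G 1 := fun u hu => by
    by_cases k : u ∈ L
    · exact ((G 1).mul_mem_cancel_right x1).mp
        (k2 _ (E.mul_mem hu hx) fun k' => hx' ((L.mul_mem_cancel_left k).mp k'))
    · exact k2 u hu k
  obtain ⟨N, hN⟩ : ∃ N, N = normalizerIn S E := ⟨_, rfl⟩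
  have iE : Ip p E N := hN ▸ c.dg.ip
  have hNS : N ≤ S := hN ▸ normalizerIn_le S E
  have N1 : N ≤ G 1 := iE.le_of_mem (hN ▸ an) ha' E1 (h.anti (by omega) ha)
  have l2 : G (m + 2) ≤ N := hN ▸ norm_of (fun u hu g hg => last_le h hb hE.ess.1 (comm_symm
    ((h.mem_tw.mp (h.le_tw (m + 2) (by omega) (by omega) (E1 hu))).2 g hg))) (h.le _)
  obtain ⟨iN, k3⟩ := c.cent hF hp5 (htr h hb hF) hN rfl (hN ▸ c.lt h hb)
  have ev := even_of_exc h hb hex
  have m1 : 1 ≤ m := by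
    obtain ⟨r, hr⟩ := ev
    omega
  have l0 : G m ≤ normalizerIn S N := norm_of (fun u hu g hg => l2 (comm_symm
    ((h.mem_tw.mp (h.le_tw m m1 (by omega) (N1 hu))).2 g hg))) (h.le _)
  have := finite_of_le (normalizerIn_le S N)
  have e0 := eq_of_le_of_card_le' l0 (by rw [iN.card, hN, c.cN, h.card_eq hb 5 _ (by omega), ← pow_succ'])
  obtain rfl : m = 1 := by
    by_contra k
    exact x2 (h.anti (by omega) (e0 ▸ iN.le (iE.le hx) : x ∈ G m))
  have := finite_of_le hNS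
  have i2 := (h.ip 1 (by omega)).inf N1 fun k => x2 (k (iE.le hx))
  have := finite_of_le i2.le
  have e3 : G 3 = G 2 ⊓ N := eq_of_le_of_card_le' (le_inf (h.succ_le 2) l2) (Nat.le_of_mul_le_mul_left (by
    rw [← i2.card, hN, c.cN, h.card_eq hb 3 _ (by omega), ← pow_succ']) hp.out.pos)
  have L3 : L ≤ G 3 := fun u hu => e3 ▸ ⟨by
    by_contra k
    exact hex ((h.ip 1 (by omega)).le_of_mem (E1 (iL.le hu)) k (h.two_le_tw _)
      (h.mem_tw_of ha a4 (hES (iL.le hu)) (hb ▸ comm_bot (conj_eq_iff.mp (hL ▸ hu).2)))), iE.le (iL.le hu)⟩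
  obtain ⟨w, hw, hw'⟩ : ∃ w ∈ L, w ∉ G 4 := by
    by_contra k
    push Not at k
    have := finite_of_le (h.le 4)
    exact hB ((eq_of_le_of_card_le' k (by rw [c.cL, h.card_eq hb 2 _ (by omega)])).ge.trans iL.le)
  obtain ⟨u, a1, a2⟩ := (h.ip 2 (by omega)).exists_not_mem
  exact pairing h hb hex 1 3 (by omega) rfl u a1 a2 w (L3 hw) hw'
    (mem_bot.mp (comm_bot (conj_symm (k3 w hw u (l0 (h.succ_le 1 a1))))))

end Cfsg.Lib.McE
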