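/-
A group of maximal class of order at least `p ^ 5`, `p ≥ 5`, has no essential subgroup `C_p³`.
-/
import Cfsg.Agent.Lib.Amalg.Mc2

set_option autoImplicit false
set_option linter.unusedSectionVars false

namespace Cfsg.Lib.McE

open Cfsg Cfsg.FusionSystem Equiv Subgroup Cfsg.Lib.Fus Cfsg.Lib.Layer.P5 Cfsg.Lib.PGrp
open scoped commutatorElement

variable {Ω : Type*} [Group Ω] {p : ℕ} [hp : Fact p.Prime]
variable {S E W L N R T A B H Q : Subgroup Ω} {σ τ δ : Perm Ω} {s x a e t y : Ω} {φ ψ : Ω → ZMod p}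
variable {n m i j : ℕ} {G : ℕ → Subgroup Ω}
variable [Finite S] {F : FusionSystem S}

theorem ip_T (h : MxC p S n G) (hx : x ∈ S) (x1 : x ∉ G 1) (xp : x ^ p = 1) (h1 : 1 ≤ j) :
    Ip p (G j) (G j ⊔ zpowers x) :=
  ip_sup (fun k => x1 (h.anti h1 k)) (h.norm j hx) (xp ▸ one_mem _)

theorem norm_T (h : MxC p S n G) (hb : G n = ⊥) (hx : x ∈ S) (x1 : x ∉ G 1) (xp : x ^ p = 1) (h1 : 1 ≤ j)
    (h2 : j + 3 ≤ n) : normalizerIn S (G (j + 1) ⊔ zpowers x) = G j ⊔ zpowers x := by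
  have l : G (j + 1) ⊔ zpowers x ≤ S := sup_le (h.le _) (zpowers_le.mpr hx)
  have := finite_of_le (normalizerIn_le S (G (j + 1) ⊔ zpowers x))
  refine (eq_of_le_of_card_le' (sup_le (norm_of (fun u hu g hg => mem_sup_left (comm_symm (h.c0 j g hg u (l hu))))
    (h.le j)) (le_sup_right.trans (le_normalizerIn l))) ?_).symm
  rw [(ip_T h hx x1 xp h1).card]
  exact norm_bound h hb l (mem_sup_right (mem_zpowers x)) x1 ((h.anti (by omega)).trans le_sup_left) h1 h2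
    (ip_T h hx x1 xp (by omega)).card.le

theorem no_cube (h : MxC p S (m + 5) G) (hb : G (m + 5) = ⊥) (hF : Sat p F) (hp5 : 5 ≤ p) (hE : Gc p F E) :
    False := by
  have hS := hF.pg
  have hA := caseB h hb hF hp5 hE
  have E1 := caseA1 h hb hF hp5 hE hA
  obtain ⟨W, s, x, φ, ψ, c⟩ := cfA h hb hF hE hA
  have hES := hE.ess.1.1
  have iL := c.dg.pl.ip2
  have iW := c.dg.pl.ip1
  have hx := c.dg.pl.hx
  have hx' := c.dg.pl.x_not
  have xS := hES hx
  have x1 : x ∉ G 1 := fun k => E1 (iL.le_of_mem hx hx' (h.anti (by omega)) k)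
  have xp := hE.ex x hx
  have xt : x ∈ tw G (m + 3) := (mem_tw_last h hb).mpr ⟨xS, fun v hv => conj_eq_of_comm hE.ab hx (hA hv)⟩
  have hex : ¬ G 1 ≤ tw G (m + 5 - 2) := fun k => x1 (h.tw_eq (i := m + 3) (by omega) (by omega) k ▸ xt)
  have odd : Odd m := by
    obtain ⟨r, hr⟩ := even_of_exc h hb hex
    exact ⟨r - 3, by omega⟩
  obtain ⟨T, hT⟩ : ∃ T : ℕ → Subgroup Ω, T = fun j => G j ⊔ zpowers x := ⟨_, rfl⟩
  have iT : ∀ j, 1 ≤ j → Ip p (G j) (T j) := fun j h1 => hT ▸ ip_T h xS x1 xp h1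
  have nT : ∀ j, 1 ≤ j → j ≤ m + 2 → normalizerIn S (T (j + 1)) = T j := fun j h1 h2 =>
    hT ▸ norm_T h hb xS x1 xp h1 (by omega)
  have xT : ∀ j, x ∈ T j := fun j => hT ▸ mem_sup_right (mem_zpowers x)
  have TS : ∀ j, T j ≤ S := fun j => hT ▸ sup_le (h.le _) (zpowers_le.mpr xS)
  have Tm : ∀ i j, i ≤ j → T j ≤ T i := fun i j k => hT ▸ sup_le_sup_right (h.anti k) _
  have cT : ∀ j, 2 ≤ j → ∀ g ∈ T j, ∀ u ∈ G (m + 3), g * u * g⁻¹ = u := fun j k g hg =>
    ((mem_tw_last h hb).mp ((iT j (by omega)).le_of_mem (xT j) (fun k => x1 (h.anti (by omega) k))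
      ((h.anti k).trans (h.two_le_tw _)) xt hg)).2
  have T1 : ∀ j, 1 ≤ j → ∀ y ∈ T j, y ∈ G 1 → y ∈ G j := fun j k y hy hy' => by
    by_contra k'
    exact x1 ((iT j k).le_of_mem hy k' (h.anti k) hy' (xT j))
  have eE : E = T (m + 3) := hT ▸ iL.eq_sup hx hx'
  have eN : normalizerIn S E = T (m + 2) := eE ▸ nT (m + 2) (by omega) le_rfl
  have ET : ∀ j, j ≤ m + 3 → E ≤ T j := fun j k => eE ▸ Tm _ _ k
  have img_gc : ∀ j, j ≤ m + 2 → ∀ ρ, Mor F (T j) ρ → Gc p F (img ρ E) := fun j k ρ hρ =>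
    hE.img (hρ.mono (eN ▸ Tm _ _ k))
  have invA : ∀ j, 1 ≤ j → j + 1 ≤ m + 2 → ∀ δ, Iso F (T (j + 1)) (T (j + 1)) δ → (∀ y ∈ G (j + 2), δ y ∈ G (j + 2)) →
      ∀ k, k ≤ j + 1 → ∀ y ∈ T (j + 1), y ∈ G k → δ y ∈ G k := fun j h1 h2 δ hδ hB => by
    obtain ⟨t, ht, ht'⟩ := (h.ip j (by omega)).exists_not_mem
    have tS := h.le _ ht
    have tn : t ∈ normalizerIn S (T (j + 1)) := nT j h1 (by omega) ▸ (iT j h1).le ht
    have k0 : ∀ y ∈ G (j + 1), δ y ∈ G (j + 1) := by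
      refine (lines hS (h.ip (j + 1) (by omega)) (iT (j + 1) (by omega)) hδ hB tS tn.2 (h.norm _ tS)
        (fun y hy => h.c0 _ y hy t tS) (xT _) (cj_eq_comm x t ▸ comm_symm (h.c0 j t ht _ (S.inv_mem xS)))
        fun k => u1 h (S.inv_mem xS) (fun k => x1 (inv_mem_iff.mp k)) h1 (by omega) ht ht'
          (comm_symm (cj_eq_comm x t ▸ k))).resolve_right ?_
      rintro ⟨ρ, r1, r2, r3⟩
      have g' := img_gc _ h2 ρ r1.mor
      exact caseA1 h hb hF hp5 g' (caseB h hb hF hp5 g') (img_le_iff.mpr fun y hy =>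
        (iL.le_of_mem (H := r1.homOn.pre (G 1)) hx hx' (fun v hv => ⟨ET _ (by omega) (hA hv),
          h.anti (by omega) (r3 v (h.anti (by omega) hv))⟩) ⟨xT _, h.anti (by omega) r2⟩ hy).2)
    intro k hk y hy hy'
    obtain rfl | k1 := Nat.eq_zero_or_pos k
    · exact h.zero ▸ TS _ (hδ.mem hy)
    · exact h.anti hk (k0 y (T1 _ (by omega) y hy (h.anti k1 hy')))
  have m1 : (-1 : ZMod p) ≠ 0 := neg_ne_zero.mpr one_ne_zero
  have t2 : (-1 : ZMod p) ≠ 1 := fun e =>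
    absurd (Nat.le_of_dvd two_pos ((ZMod.natCast_eq_zero_iff 2 p).mp (by push_cast; linear_combination -e))) (by omega)
  obtain ⟨g, g1, g2, g3, g4⟩ := c.dg.diag (-1) m1
  obtain ⟨e1, e2⟩ := c.dg.ev1 c.gd g2 g4
  rw [eN] at g1
  have key : ∀ d j, j + d = m → ∃ τ, Iso F (T (j + 2)) (T (j + 2)) τ ∧
      (∀ k, k ≤ m + 3 → ∀ y ∈ T (j + 2), y ∈ G k → τ y ∈ G k) ∧ ∀ y ∈ E, τ y = g y := fun d => by
    induction d with
    | zero =>
      intro j hj
      obtain rfl : j = m := hj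
      refine ⟨g, g1, fun k hk y hy hy' => ?_, fun _ _ => rfl⟩
      obtain rfl | k1 := hk.eq_or_lt
      · exact e1.mA y hy'
      · exact invA (j + 1) (by omega) le_rfl g g1 e1.mA k (by omega) y hy hy'
    | succ d ih =>
      intro j hj
      obtain ⟨τ, t1, t2, t3⟩ := ih (j + 1) (by omega)
      have eT := nT (j + 2) (by omega) (by omega)
      have fn : F.IsFullyNormalized (T (j + 3)) := isFullyNormalized_iff.mpr ⟨TS _, fun Q σ hσ => by
        have g' := img_gc _ (by omega) σ hσ.mor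
        have l := hσ.img_le (ET _ (by omega))
        have b := caseB h hb hF hp5 g'
        obtain ⟨e, he, he'⟩ := SetLike.not_le_iff_exists.mp (caseA1 h hb hF hp5 g' b)
        rw [eT, (iT _ (by omega)).card]
        exact norm_bound h hb hσ.le' (l he) he' (b.trans l) (by omega) (by omega)
          (by rw [← hσ.card_eq, (iT _ (by omega)).card])⟩
      obtain ⟨δ, d1, d2⟩ := ext_chain hF (centric_mono hE.ess.1 (ET _ (by omega)) (TS _)) fn t1
        (fun i => match i with | 0 => ⊥ | i + 1 => T (j + 3) ⊓ G (m + 3 - i)) (m + 4) rfl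
        (by simp only [Nat.sub_self]; rw [h.zero]; exact inf_eq_left.mpr (TS _))
        (fun i => match i with | 0 => bot_le | _ + 1 => inf_le_left)
        (fun i => match i with | 0 => bot_le | _ + 1 => inf_le_inf_left _ (h.anti (by omega)))
        (fun i => match i with
          | 0 => inv_bot F _ τ t1 | _ + 1 => fun y hy => ⟨t1.mem hy.1, t2 _ (by omega) y hy.1 hy.2⟩)
        (fun r hr i hi y hy => match i, hi, hy with
          | 0, _, hy => by rw [cT _ (by omega) r (eT ▸ hr) y hy.2, inv_mul_cancel]; exact one_mem _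
          | i + 1, hi, hy => ⟨(T (j + 3)).mul_mem ((T (j + 3)).inv_mem hy.1) (conj_mem_of_mem_normalizer hr.2 hy.1),
            cj_eq_comm y r ▸ h.anti (by omega) (h.c0 _ _ ((G _).inv_mem hy.2) r hr.1)⟩)
      rw [eT] at d1
      have k0 : ∀ k, j + 3 ≤ k → k ≤ m + 3 → ∀ y ∈ G k, δ y ∈ G k := fun k k1 k2 y hy => by
        have := (iT (j + 3) (by omega)).le (h.anti k1 hy)
        rw [d2 y this]; exact t2 k k2 y this hy
      refine ⟨δ, d1, fun k hk y hy hy' => ?_, fun y hy => (d2 y (ET _ (by omega) hy)).trans (t3 y hy)⟩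
      by_cases k1 : j + 3 ≤ k
      · exact k0 k k1 hk y hy'
      · exact invA (j + 1) (by omega) (by omega) δ d1 (k0 _ le_rfl (by omega)) k (by omega) y hy hy'
  obtain ⟨τ, t1, t2', t3⟩ := key m 0 (by omega)
  have hτ := t1.homOn
  have GT : ∀ k, 2 ≤ k → G k ≤ T 2 := fun k hk => (h.anti hk).trans (iT 2 (by omega)).le
  have E2 := ET 2 (by omega)
  have e1' := e1.congr iW.le fun u hu => t3 u (hA hu)
  have e2' := e2.congr hA t3
  have cL : ∀ u ∈ T 2, ∀ v ∈ G (m + 3), ⁅u, v⁆ ∈ (⊥ : Subgroup Ω) := fun u hu v hv => comm_bot (cT 2 le_rfl u hu v hv)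
  obtain ⟨u, hu, hu'⟩ := (h.ip 2 (by omega)).exists_not_mem
  obtain ⟨v, hv, hv'⟩ := (h.ip (m + 2) (by omega)).exists_not_mem
  have uv : ⁅u, v⁆ ∉ (⊥ : Subgroup Ω) := fun k =>
    pairing h hb hex 1 (m + 2) (by omega) (by omega) u hu hu' v hv hv' (mem_bot.mp k)
  have cc : ∀ u ∈ G 2, ∀ v ∈ G (m + 2), ⁅u, v⁆ ∈ G (m + 4) := fun u hu v hv => h.anti (by omega) (h.c1 _ _ u hu v hv)
  have i0 : Ip p ⊥ (G (m + 4)) := hb ▸ h.ip (m + 4) (by omega)
  have mb := inv_bot F _ τ t1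
  have inv : ∀ k, 2 ≤ k → k ≤ m + 4 → ∀ y ∈ G k, τ y ∈ G k := fun k k1 k2 y hy => by
    obtain rfl | k3 := k2.eq_or_lt
    · refine (i0.le_of_mem (H := hτ.pre (G (m + 4))) (cc u hu v hv) uv bot_le ⟨GT _ k1 (cc u hu v hv), ?_⟩ hy).2
      rw [hτ.map_commutatorElement (GT _ le_rfl hu) (GT _ (by omega) hv)]
      exact cc _ (t2' 2 (by omega) u (GT _ le_rfl hu) hu) _ (t2' _ (by omega) v (GT _ (by omega) hv) hv)
    · exact t2' k (by omega) y (GT k k1 hy) hy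
  have ex : ∀ k, 2 ≤ k → k ≤ m + 3 → ∃ μ : ZMod p, Ev τ (G (k + 1)) (G k) μ := fun k k1 k2 =>
    exists_ev (h.ip k (by omega)) (hτ.mono (GT k k1)) (inv k k1 (by omega)) (inv _ (by omega) (by omega))
  have step : ∀ k, 2 ≤ k → k ≤ m + 2 → ∀ μ ν : ZMod p, Ev τ (G (k + 1)) (G k) μ → Ev τ (G (k + 2)) (G (k + 1)) ν →
      ν = μ * (-1) := fun k k1 k2 μ ν f1 f2 => by
    obtain ⟨y, hy, hy'⟩ := (h.ip k (by omega)).exists_not_mem
    exact ev_pair hτ (GT k k1) E2 f1 e2' f2 (h.ip _ (by omega)) (fun u hu v hv => h.c0 _ u hu v (hES hv))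
      (fun u hu v hv => h.c0 _ u hu v (hES hv)) (fun u hu v hv => bot_le (a := G (k + 2)) (cL u (GT k k1 hu) v hv))
      (fun u hu v hv => h.c0 _ u hu v (TS _ hv)) hy hx (u1 h xS x1 (by omega) (by omega) hy hy')
  obtain ⟨μ, f1⟩ := ex (m + 2) (by omega) (by omega)
  have vN : v ∈ normalizerIn S E := eN ▸ (iT _ (by omega)).le hv
  have vE : v ∉ E := fun k => E1 (iL.le_of_mem k hv' (h.anti (by omega)) (h.anti (by omega) hv))
  have r1 := ev_pair hτ (GT _ (by omega)) E2 f1 e2' e1' iW (fun u hu v hv => h.c0 _ u hu v (hES hv))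
    (fun u hu v hv => bot_le (a := W) (comm_symm (cL v (E2 hv) u hu)))
    (fun u hu v hv => bot_le (a := W) (cL u (GT _ (by omega) hu) v hv))
    (fun u hu v hv => bot_le (a := W) (comm_symm (cL v hv u hu))) hv (E.inv_mem hx) fun k => c.dg.ne v vN vE (by
      rw [c.dg.pl.eq1 hx (conj_mem_of_mem_normalizer vN.2 hx) (cj_eq_comm x v ▸ comm_symm k), c.dg.pl.φx])
  rw [inv_neg, inv_one] at r1
  obtain rfl : μ = 1 := by linear_combination r1
  have par : ∀ d k, k + d = m → Ev τ (G (k + 3)) (G (k + 2)) ((-1 : ZMod p) ^ d) := fun d => by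
    induction d with
    | zero => intro k hk; obtain rfl : k = m := hk; simpa using f1
    | succ d ih =>
      intro k hk
      obtain ⟨ν, f⟩ := ex (k + 2) (by omega) (by omega)
      have := step (k + 2) (by omega) (by omega) _ _ f (ih (k + 1) (by omega))
      obtain rfl : ν = (-1) ^ (d + 1) := by rw [pow_succ, this]; ring
      exact f
  have f2 := par m 0 (by omega)
  rw [odd.neg_one_pow] at f2
  obtain ⟨κ, f3⟩ := ex (m + 3) (by omega) le_rfl
  have r2 := step (m + 2) (by omega) le_rfl _ _ f1 f3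
  obtain ⟨ζ, f4⟩ := exists_ev i0 (hτ.mono (GT _ (by omega))) (inv _ (by omega) le_rfl) mb
  have r3 := ev_pair hτ (GT 2 le_rfl) (GT _ (by omega)) f2 f1 f4 i0 cc
    (fun u hu v hv => hb ▸ h.anti (by omega) (h.c1 _ _ u hu v hv)) (fun u hu v hv => cL u (GT _ le_rfl hu) v hv)
    (fun u hu v hv => hb ▸ h.c0 _ u hu v (TS _ hv)) hu hv uv
  have f5 : Ev τ ⊥ W (1 : ZMod p) := ev_one_of e1'.mB mb bot_le fun u hu => by
    rw [t3 u (c.gd.le2 hu)]; exact g3 u hu
  by_cases k : W ≤ G (m + 4)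
  · obtain ⟨w, hw, hw'⟩ : ∃ w ∈ W, w ∉ (⊥ : Subgroup Ω) := by
      by_contra k
      push Not at k
      have := c.cW
      rw [show W = ⊥ from eq_bot_iff.mpr k, card_bot] at this
      omega
    exact t2 (by linear_combination f4.eq_of_le f5 i0 k le_rfl hw hw' - r3)
  · obtain ⟨w, hw, hw'⟩ := SetLike.not_le_iff_exists.mp k
    exact t2 (by linear_combination f3.eq_of_le f5 (h.ip _ (by omega)) iW.le bot_le hw hw' - r2)

theorem main (hp5 : 5 ≤ p) (hS : IsPGroup p S) (hn : Nat.card S = p ^ n) (h5 : 5 ≤ n)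
    (hmax : Subgroup.lowerCentralSeries S (n - 2) ≠ ⊥) (hF : F.IsSaturated p) (hE : F.IsEssential p E)
    (hnp : ¬ ((Nat.card E = p ^ 2 ∧ IsElementaryAbelian p E) ∨
      (Nat.card E = p ^ 3 ∧ IsExtraspecial p E ∧ Monoid.exponent E = p))) : p ^ 4 ≤ Nat.card E := by
  have hF' : Sat p F := ⟨hS, hF⟩
  obtain ⟨G, h, hb, -⟩ := exists_mxc hn (by omega) hmax
  obtain ⟨m, rfl⟩ : ∃ m, n = m + 5 := ⟨n - 5, by omega⟩
  have hES := hE.1.1
  have := finite_of_le hES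
  have nf := hF'.nf hE
  obtain ⟨k, hk⟩ := card_eq_pow hS hES
  have k2 : ¬ k ≤ 1 := fun e => nf.not_le (hk.trans_le ((pow_le_iff.mpr e).trans
    (by rw [pow_one]; exact Nat.le_mul_of_pos_right _ Nat.card_pos)))
  rw [hk]
  refine pow_le_iff.mpr ?_
  by_contra k4
  obtain rfl | rfl : k = 2 ∨ k = 3 := by omega
  · have ab := IsPGroup.isMulCommutative_of_card_eq_prime_sq hk
    refine hnp (Or.inl ⟨hk, elemAb_of ⟨ab, fun y => ?_⟩⟩)
    obtain ⟨K, -, k1, k3⟩ := exists_omega (hS.to_le hES) p (mul_pow_of_comm ab p)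
    obtain ⟨j, hj⟩ := IsPGroup.iff_card.mp ((hS.to_le hES).to_subgroup (frattini E))
    have j0 : j = 0 := by
      by_contra e
      exact nf.not_le (by rw [hk, hj, ← pow_succ']; exact pow_le_iff.mpr (by omega))
    have k4 := k3 rfl
    rw [hj, j0, pow_zero, one_mul] at k4
    exact (k1 y).mp (eq_top_of_le_card K k4 ▸ mem_top y)
  · obtain ⟨a, b⟩ | ⟨a, ⟨-, b⟩ | ⟨b, -⟩⟩ := nf.cube hk
    · exact no_cube h hb hF' hp5 ⟨hE, a, fun u hu => congrArg Subtype.val (b ⟨u, hu⟩), hk⟩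
    · have : Nontrivial E := Finite.one_lt_card_iff_nontrivial.mp (hk ▸ Nat.one_lt_pow (by omega) hp.out.one_lt)
      exact hnp (Or.inr ⟨hk, isExtraspecial_of_cube hk a, (Monoid.exponent_eq_prime_iff hp.out).mpr fun y hy =>
        orderOf_eq_prime (b y) hy⟩)
    · omega

end Cfsg.Lib.McE
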