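import Cfsg.Agent.Lib.Amalg.Ops
import Cfsg.Agent.Lib.Transfer.Tate
import Cfsg.Agent.Lib.PGrp.OmegaBasic
import Cfsg.Agent.Lib.Core.Frattini

/-! Sylow subgroups whose derived subgroup has index `p²`. -/

set_option autoImplicit false
set_option linter.unusedSectionVars false

namespace Cfsg.Lib.Amalg.PP2

open Subgroup
open Cfsg.Lib.Core hiding isPGroup_subgroupOf isPGroup_subgroupOf_iff isPGroup_map_subtype_iff
open scoped commutatorElement

variable {G : Type*} [Group G] [Finite G] {p : ℕ} [hp : Fact p.Prime]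

theorem der_le_of_sup {Q W : Subgroup G} {x : G} (hn : Q ⊔ zpowers x ≤ 𝐍 W) (h : ⁅Q, Q ⊔ zpowers x⁆ ≤ W) :
    ⁅Q ⊔ zpowers x, Q ⊔ zpowers x⁆ ≤ W := by
  refine comm_sup_le h (comm_sup_le' ?_ ?_ (le_sup_left.trans hn) (le_sup_right.trans hn)) (le_sup_left.trans hn)
    (le_sup_right.trans hn)
  · rw [commutator_comm]; exact (commutator_mono le_rfl le_sup_right).trans h
  · rw [comm_eq_bot_iff.2 (le_centralizer _)]; exact bot_le

theorem sup_eq_of_prime {A H : Subgroup G} (h : A.relIndex H ∣ p) (hA : A ≤ H) {x : G} (hx : x ∈ H) (hx' : x ∉ A) :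
    A ⊔ zpowers x = H := by
  have h2 : A ⊔ zpowers x ≤ H := sup_le hA (zpowers_le.2 hx)
  have e := relIndex_mul_relIndex A _ H le_sup_left h2
  have h3 : A.relIndex (A ⊔ zpowers x) ≠ 1 := fun e => hx' (relIndex_eq_one.1 e (mem_sup_right (mem_zpowers x)))
  rcases (Nat.dvd_prime hp.out).1 ((Dvd.intro _ e).trans h) with h4 | h4
  · exact absurd h4 h3
  rw [← e, h4] at h
  exact le_antisymm h2 (relIndex_eq_one.1 (Nat.dvd_one.1 (Nat.dvd_of_mul_dvd_mul_left hp.out.pos (by simpa using h))))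

theorem der_le {P Q : Subgroup G} (hP : IsPGroup p P) (hQ : Q ≤ P) (hn : P ≤ 𝐍 Q) (h : (Q ⊔ ⁅P, P⁆).relIndex P ∣ p) :
    ⁅P, P⁆ ≤ Q := by
  have hE : Q ⊔ ⁅P, P⁆ ≤ P := sup_le hQ (comm_le_of_le le_rfl le_rfl)
  by_cases h1 : P ≤ Q ⊔ ⁅P, P⁆
  · exact (comm_le_of_le le_rfl le_rfl).trans (PGrp.eq_of_sup_commutator hP hQ h1).ge
  obtain ⟨x, hx, hx'⟩ := SetLike.not_le_iff_exists.1 h1
  have e := sup_eq_of_prime h hE hx hx'
  have e2 := PGrp.eq_of_sup_commutator hP (sup_le hQ (zpowers_le.2 hx)) (by rw [sup_right_comm, e])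
  rw [← e2] at hn ⊢
  exact der_le_of_sup hn (comm_le_left hn)

theorem index_cases {P Q : Subgroup G} (hP : IsPGroup p P) (hQ : Q ≤ P) (hn : P ≤ 𝐍 Q)
    (h : (⁅P, P⁆ : Subgroup G).relIndex P = p ^ 2) (hD : ¬ Q ≤ ⁅P, P⁆) : ⁅P, P⁆ ≤ Q ∧ Q.relIndex P ∣ p := by
  have hE : Q ⊔ ⁅P, P⁆ ≤ P := sup_le hQ (comm_le_of_le le_rfl le_rfl)
  have e := relIndex_mul_relIndex _ _ P (le_sup_right : ⁅P, P⁆ ≤ Q ⊔ ⁅P, P⁆) hE
  have h3 : (⁅P, P⁆ : Subgroup G).relIndex (Q ⊔ ⁅P, P⁆) ≠ 1 := fun e => hD (le_sup_left.trans (relIndex_eq_one.1 e))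
  rw [h] at e
  obtain ⟨i, -, hi⟩ := (Nat.dvd_prime_pow hp.out).1 (Dvd.intro _ e)
  have h4 : (Q ⊔ ⁅P, P⁆).relIndex P ∣ p := by
    rcases i with _ | i
    · exact absurd hi h3
    refine Nat.dvd_of_mul_dvd_mul_left hp.out.pos ?_
    rw [← sq, ← e, hi]
    exact Nat.mul_dvd_mul_right (dvd_pow_self p i.succ_ne_zero) _
  have h5 := der_le hP hQ hn h4
  exact ⟨h5, by rwa [sup_eq_left.2 h5] at h4⟩

theorem relIndex_cent_le {P : Subgroup G} {y : G} (hy : y ∈ P) :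
    (centralizer {y}).relIndex P ≤ Nat.card (⁅P, P⁆ : Subgroup G) := by
  refine Nat.card_le_card_of_injective (α := P ⧸ (centralizer {y}).subgroupOf P)
    (Quotient.lift (fun g : P => (⟨⁅(g : G), y⁆, commutator_mem_commutator g.2 hy⟩ : (⁅P, P⁆ : Subgroup G))) ?_) ?_
  · intro a b hab
    have h := mem_centralizer_singleton_iff.1 (mem_subgroupOf.1 (QuotientGroup.leftRel_apply.1 hab))
    refine Subtype.ext ?_
    simp only [coe_mul, coe_inv] at h
    simp only [commutatorElement_def]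
    calc _ = (b : G) * ((a : G)⁻¹ * b)⁻¹ * (y * ((a : G)⁻¹ * b)) * (b : G)⁻¹ * y⁻¹ := by group
      _ = _ := by rw [← h]; group
  · rintro ⟨a⟩ ⟨b⟩ h
    refine Quotient.sound (QuotientGroup.leftRel_apply.2 (mem_subgroupOf.2 (mem_centralizer_singleton_iff.2 ?_)))
    have h' : ⁅(a : G), y⁆ = ⁅(b : G), y⁆ := congrArg Subtype.val h
    simp only [commutatorElement_def] at h'
    simp only [coe_mul, coe_inv]
    calc _ = (a : G)⁻¹ * (b * y * (b : G)⁻¹ * y⁻¹) * y * b := by group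
      _ = _ := by rw [← h']; group

theorem card_cent {P A : Subgroup G} (hA : A ≤ P) (hn : P ≤ 𝐍 A) (hc : A ≤ 𝐂 A) (hi : A.relIndex P = p)
    (h : (⁅P, P⁆ : Subgroup G).relIndex P = p ^ 2) {y : G} (hy : y ∈ P) (hy' : y ∉ A) :
    Nat.card (centralizer {y} ⊓ P : Subgroup G) = p ^ 2 := by
  have e := sup_eq_of_prime hi.dvd hA hy hy'
  have cA : ∀ a ∈ A, ∀ g ∈ P, ⁅a, g⁆ ∈ A := fun a ha g hg => comm_le_left hn (commutator_mem_commutator ha hg)
  let f : A →* G := MonoidHom.mk' (fun a => ⁅(a : G), y⁆) fun a b => by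
    have := hc a.2 _ (cA b b.2 y hy)
    have h2 := hc (cA a a.2 y hy) _ (cA b b.2 y hy)
    calc _ = (a : G) * ⁅(b : G), y⁆ * (a : G)⁻¹ * ⁅(a : G), y⁆ := by simp only [coe_mul, commutatorElement_def]; group
      _ = _ := by rw [← this, mul_inv_cancel_right, h2]
  have fA : f.range ≤ A := by rintro _ ⟨a, rfl⟩; exact cA a a.2 y hy
  have fn : P ≤ 𝐍 f.range := by
    rw [← e]
    refine sup_le ((le_cent_symm (fA.trans hc)).trans (cent_le_norm _)) (zpowers_le.2 (mem_normalizer_of_conj_mem ?_))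
    rintro _ ⟨a, rfl⟩
    refine ⟨⟨y * a * y⁻¹, conj_mem_of_mem_normalizer (hn hy) a.2⟩, ?_⟩
    change ⁅y * a * y⁻¹, y⁆ = y * ⁅(a : G), y⁆ * y⁻¹
    simp only [commutatorElement_def]; group
  have fr : f.range = ⁅P, P⁆ := by
    refine le_antisymm (by rintro _ ⟨a, rfl⟩; exact commutator_mem_commutator (hA a.2) hy) ?_
    rw [← e] at fn ⊢
    refine der_le_of_sup fn (comm_sup_le' ?_ ?_ (le_sup_left.trans fn) (le_sup_right.trans fn))
    · rw [comm_eq_bot_iff.2 hc]; exact bot_le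
    · rw [commutator_comm, zpowers_eq_closure]
      refine comm_closure_le ?_ ?_
      · rintro _ rfl k hk
        rw [← commutatorElement_inv]
        exact inv_mem ⟨⟨k, hk⟩, rfl⟩
      · rintro _ rfl
        exact fn (mem_sup_right (mem_zpowers _))
  have fk : f.ker = (centralizer {y}).subgroupOf A := by
    ext a
    exact commutatorElement_eq_one_iff_mul_comm.trans mem_centralizer_singleton_iff.symm
  have e1 := f.ker.card_mul_index
  rw [index_ker, fr, fk, card_subgroupOf_eq_card_inf] at e1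
  have e2 := card_mul_relIndex hA
  have e3 := card_mul_relIndex (comm_le_of_le le_rfl le_rfl : ⁅P, P⁆ ≤ P)
  have e4 := card_inf_mul_relIndex A (centralizer {y} ⊓ P)
  have e5 : A.relIndex (centralizer {y} ⊓ P) = p := by
    rw [← relIndex_sup_of_le_normalizer (inf_le_right.trans hn), ← hi]
    congr 1
    refine le_antisymm (sup_le inf_le_right hA) (e.ge.trans (sup_le le_sup_right (zpowers_le.2 (mem_sup_left
      ⟨mem_centralizer_singleton_iff.2 rfl, hy⟩))))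
  rw [e5, ← inf_assoc, inf_eq_left.2 (inf_le_left.trans hA), inf_comm] at e4
  rw [hi, ← e1, ← e3, h, mul_assoc, mul_comm, mul_assoc, sq, mul_comm p p] at e2
  have := Nat.eq_of_mul_eq_mul_left Nat.card_pos e2
  rw [← e4, sq]
  nlinarith

theorem key {P Q R Q₁ : Subgroup G} (hP : IsPGroup p P) (hQ : Q ≤ P) (hn : P ≤ 𝐍 Q) (hi : Q.relIndex P = p)
    (h : (⁅P, P⁆ : Subgroup G).relIndex P = p ^ 2) (hD : ⁅P, P⁆ ≤ Q) {x : G} (hx : x ∈ P) (hx' : x ∉ Q)
    (hR : Q ≤ 𝐍 R) (h1 : Q₁ ≤ Q) (h2 : ∀ q ∈ Q, ∃ a ∈ Q₁, a⁻¹ * q ∈ R)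
    (h3 : ∀ i, 0 < i → i < p → ∀ a ∈ Q₁, x ^ i * a * (x ^ i)⁻¹ ∈ R) : ⁅Q, Q⁆ ≤ R := by
  classical
  have hW : Q ≤ 𝐍 (R ⊓ Q ⊔ ⁅Q, Q⁆) :=
    le_normalizer_sup (le_normalizer_inf hR le_normalizer) (left_le_normalizer_comm _ _)
  let W := (R ⊓ Q ⊔ ⁅Q, Q⁆).subgroupOf Q
  haveI : W.Normal := normal_subgroupOf_of_le_normalizer hW
  letI : CommGroup (Q ⧸ W) := { (inferInstance : Group (Q ⧸ W)) with
    mul_comm := by
      rintro ⟨a⟩ ⟨b⟩
      refine commutatorElement_eq_one_iff_mul_comm.1 ?_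
      change ⁅QuotientGroup.mk' W a, QuotientGroup.mk' W b⁆ = 1
      rw [← map_commutatorElement]
      exact (QuotientGroup.eq_one_iff _).2 (mem_sup_right (commutator_mem_commutator a.2 b.2)) }
  let φ : Q →* Q ⧸ W := QuotientGroup.mk' W
  let κ := Q.normalizerMonoidHom
  let c : MulAut Q := κ ⟨x, hn hx⟩
  let ψ : Q →* Q ⧸ W := ∏ i ∈ Finset.range p, φ.comp (c ^ i : MulAut Q).toMonoidHom
  have hψ : ∀ q, ψ q = ∏ i ∈ Finset.range p, φ ((c ^ i) q) := fun q => MonoidHom.finsetProd_apply _ _ _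
  have hc : ∀ (i : ℕ) (q : Q), ((c ^ i) q : G) = x ^ i * q * (x ^ i)⁻¹ := fun i q => by
    rw [← map_pow]; rfl
  have hxp : x ^ p ∈ Q := hi ▸ Transfer.pow_relIndex_mem' hn hx
  let St : Subgroup (MulAut Q) :=
    { carrier := {σ | ∀ q, ψ (σ q) = ψ q}
      one_mem' := fun _ => rfl
      mul_mem' := fun {a b} ha hb q => by rw [MulAut.mul_apply, ha, hb]
      inv_mem' := fun {a} ha q => by rw [← ha, MulAut.apply_inv_self] }
  have hS : P ≤ (St.comap κ).map (𝐍 Q).subtype := by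
    rw [← sup_eq_of_prime hi.dvd hQ hx hx']
    refine sup_le (fun g hg => ⟨⟨g, le_normalizer hg⟩, fun q => ?_, rfl⟩) (zpowers_le.2 ⟨⟨x, hn hx⟩, fun q => ?_, rfl⟩)
    · rw [show κ ⟨g, le_normalizer hg⟩ q = ⟨g, hg⟩ * q * (⟨g, hg⟩ : Q)⁻¹ from rfl, map_mul, map_mul, map_inv,
        mul_inv_cancel_comm]
    · have e1 := Finset.prod_range_succ' (fun i => φ ((c ^ i) q)) p
      rw [Finset.prod_range_succ, show (c ^ p) q = ⟨_, hxp⟩ * q * (⟨_, hxp⟩ : Q)⁻¹ from Subtype.ext (hc p q), map_mul,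
        map_mul, map_inv, mul_inv_cancel_comm, pow_zero, MulAut.one_apply, mul_left_inj] at e1
      rw [hψ, hψ, e1]
      rfl
  have hS' : ∀ g ∈ P, ∀ q q' : Q, (q' : G) = g * q * g⁻¹ → ψ q' = ψ q := by
    intro g hg q q' e
    obtain ⟨g, hg', rfl⟩ := hS hg
    rw [show q' = κ g q from Subtype.ext e]
    exact hg' q
  have hK : ⁅P, P⁆ ≤ ψ.ker.map Q.subtype := by
    have n1 : P ≤ 𝐍 (ψ.ker.map Q.subtype) := fun g hg => mem_normalizer_of_conj_mem (by
      rintro _ ⟨q, hq, rfl⟩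
      exact ⟨⟨_, conj_mem_of_mem_normalizer (hn hg) q.2⟩, (hS' g hg q _ rfl).trans hq, rfl⟩)
    have n2 : ⁅Q, P⁆ ≤ ψ.ker.map Q.subtype := by
      rw [commutator_comm, commutator_le]
      intro g hg q hq
      refine ⟨⟨_, conj_mem_of_mem_normalizer (hn hg) hq⟩ * (⟨q, hq⟩ : Q)⁻¹, ?_, rfl⟩
      change ψ _ = 1
      rw [map_mul, map_inv, hS' g hg ⟨q, hq⟩ _ rfl, mul_inv_cancel]
    rw [← sup_eq_of_prime hi.dvd hQ hx hx'] at n1 n2 ⊢
    exact der_le_of_sup n1 n2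
  have hs : Function.Surjective ψ := by
    rintro ⟨q⟩
    obtain ⟨a, ha, ha'⟩ := h2 q q.2
    refine ⟨⟨a, h1 ha⟩, ?_⟩
    rw [hψ, Finset.prod_eq_single_of_mem 0 (Finset.mem_range.2 hp.out.pos)]
    · exact QuotientGroup.eq.2 (mem_sup_left ⟨ha', Q.mul_mem (Q.inv_mem (h1 ha)) q.2⟩)
    · intro i hi1 hi2
      refine (QuotientGroup.eq_one_iff _).2 (mem_sup_left ⟨?_, ((c ^ i) _).2⟩)
      change ((c ^ i) _ : G) ∈ R
      rw [hc]
      exact h3 i (Nat.pos_of_ne_zero hi2) (Finset.mem_range.1 hi1) a ha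
  have e1 : (R ⊓ Q ⊔ ⁅Q, Q⁆).relIndex Q = (ψ.ker.map Q.subtype).relIndex Q := by
    rw [relIndex, relIndex, map_subtype_subgroupOf, index_ker, MonoidHom.range_eq_top.2 hs, card_top]; rfl
  have e2 := relIndex_mul_relIndex _ _ P hD hQ
  rw [h, hi, sq] at e2
  refine (der_le (hP.to_le hQ) inf_le_right (le_normalizer_inf hR le_normalizer) ?_).trans inf_le_left
  rw [e1, ← Nat.eq_of_mul_eq_mul_right hp.out.pos e2]
  exact relIndex_dvd_of_le_left _ hK

theorem tate {P H T : Subgroup G} (hP : Syl p P H) (hT : T ≤ H) (hn : H ≤ 𝐍 T) (h : P ⊓ T ≤ ⁅P, P⁆) :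
    Transfer.PNil p T := by
  haveI := normal_subgroupOf_of_le_normalizer hn
  have := (Transfer.tate hP.toSylow (T.subgroupOf H) (le_trans ?_ (commutator_le_frattiniOf hP.toSylow.isPGroup'))).map
    H.subtype
  · rwa [map_subgroupOf_of_le hT] at this
  · rw [← map_le_map_iff_of_injective H.subtype_injective, map_commutator, hP.map_toSylow]
    rintro _ ⟨y, hy, rfl⟩
    exact h ⟨hy.2, hy.1⟩

theorem struct {P : Subgroup G} (hP : Syl p P ⊤) (hO : pPrimeCore p G = ⊥) (hc : (⁅P, P⁆ : Subgroup G).normalCore = ⊥)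
    (hnas : ¬ ∃ S : Subgroup G, S.Normal ∧ IsSimpleGroup S ∧ ¬ IsMulCommutative S ∧ 𝐂 S = ⊥)
    (h : (⁅P, P⁆ : Subgroup G).relIndex P = p ^ 2) (hna : ⁅P, P⁆ ≠ ⊥) :
    ∃ N : Subgroup G, N.Normal ∧ P ⊓ N ≤ 𝐂 (P ⊓ N) ∧ (P ⊓ N).relIndex P = p := by
  have hO' : ∀ N : Subgroup G, N.Normal → ¬ p ∣ Nat.card N → N = ⊥ := fun N _ hN =>
    le_bot_iff.1 (hO ▸ le_pPrimeCore ((Nat.Prime.coprime_iff_not_dvd hp.out).2 hN).symm)
  have k1 : ∀ N : Subgroup G, N.Normal → N ≠ ⊥ → ⁅P, P⁆ ≤ P ⊓ N ∧ (P ⊓ N).relIndex P ∣ p := by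
    intro N _ hN
    refine index_cases hP.isPGroup inf_le_left (le_normalizer_inf le_normalizer le_normalizer_of_normal) h fun e => hN ?_
    have h1 := hO' _ (Transfer.resOf_normal N) (tate hP le_top le_normalizer_of_normal e)
    have h2 : IsPGroup p N := isPGroup_iff_mem.2 fun x hx => by
      simpa [h1] using Transfer.exists_pow_mem_resOf (p := p) hx
    exact le_bot_iff.1 (hc ▸ normal_le_normalCore.2 ((le_inf (hP.le_of_normal h2 le_top le_normalizer_of_normal)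
      le_rfl).trans e))
  obtain ⟨N, hN, hN0, -, hm⟩ := exists_minimal_normal_le (⊤ : Subgroup G) (fun e => hna (le_bot_iff.1 (e ▸ le_top)))
  obtain ⟨k2, k3⟩ := k1 N hN hN0
  suffices hs : P ⊓ N ≤ 𝐂 (P ⊓ N) by
    refine ⟨N, hN, hs, ((Nat.dvd_prime hp.out).1 k3).resolve_left fun e => hna ?_⟩
    rw [inf_eq_left.2 ((relIndex_eq_one.1 e).trans inf_le_right)] at hs
    exact comm_eq_bot_iff.2 hs
  rcases hm (N ⊓ 𝐂 N) inferInstance inf_le_left with hZ | hZ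
  swap
  · exact (inf_le_right.trans (hZ.ge.trans inf_le_right)).trans (centralizer_anti inf_le_right)
  have hC : 𝐂 N = ⊥ := by
    by_contra e
    exact hna (le_bot_iff.1 (hZ ▸ le_inf (k2.trans inf_le_right) ((k1 _ inferInstance e).1.trans inf_le_right)))
  have hNna : ¬ N ≤ 𝐂 N := fun e => hN0 (le_bot_iff.1 (hC ▸ e))
  obtain ⟨K, hK, hK0, hK1⟩ : ∃ K : Subgroup N, K.Normal ∧ K ≠ ⊥ ∧ K ≠ ⊤ := by
    by_contra! hh
    haveI := (Subgroup.nontrivial_iff_ne_bot N).2 hN0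
    exact hnas ⟨N, hN, ⟨fun K hK => or_iff_not_imp_left.2 (hh K hK)⟩,
      fun e => hNna (le_centralizer_iff_isMulCommutative.2 e), hC⟩
  let Mn : Subgroup G → Prop := fun T => T ≤ N ∧ T ≠ ⊥ ∧ N ≤ 𝐍 T
  obtain ⟨T₀, t1, t2, t3⟩ := exists_minimal_le Mn (H := K.map N.subtype) ⟨map_subtype_le _, fun e => hK0
    ((map_eq_bot_iff_of_injective _ N.subtype_injective).1 e), le_normalizer_map_of_normal K⟩
  have cjM : ∀ g T, Mn T → Mn (cj g T) := fun g T hT => ⟨cj_le_of_le_of_mem_normalizer hT.1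
    (le_normalizer_of_normal (mem_top g)), fun e => hT.2.1 (cj_eq_bot_iff.1 e), by
      have := cj_mono g hT.2.2
      rwa [cj_normal, cj_normalizer] at this⟩
  have cjm : ∀ g K, Mn K → K ≤ cj g T₀ → K = cj g T₀ := fun g K hK hle => by
    rw [← t3 _ (cjM g⁻¹ K hK) (le_cj_iff.1 hle), cj_cj_inv]
  have cm : ∀ g g', cj g T₀ ≠ cj g' T₀ → cj g T₀ ≤ 𝐂 (cj g' T₀) := by
    intro g g' hne
    have a := cjM g _ t2
    have b := cjM g' _ t2
    rw [← comm_eq_bot_iff]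
    by_contra e
    have m : Mn (cj g T₀ ⊓ cj g' T₀) := ⟨inf_le_left.trans a.1, fun e' => e (le_bot_iff.1 (e' ▸
      comm_le_inf (b.1.trans a.2.2) (a.1.trans b.2.2))), le_normalizer_inf a.2.2 b.2.2⟩
    exact hne ((cjm g _ m inf_le_left).symm.trans (cjm g' _ m inf_le_right))
  have hsup : ⨆ g, cj g T₀ = N := by
    rw [← normalClosure_eq_iSup_cj]
    exact (hm _ inferInstance (normalClosure_le_normal t2.1)).resolve_left fun e =>
      t2.2.1 (le_bot_iff.1 (e ▸ le_normalClosure))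
  have hT0 : T₀ ≠ N := fun e => hK1 (by
    rw [eq_top_iff, ← map_le_map_iff_of_injective N.subtype_injective, map_subtype_top]; exact e.ge.trans t1)
  have other : ∀ g, ∃ g', cj g' T₀ ≠ cj g T₀ := fun g => by
    by_contra! e
    exact hT0 (le_antisymm t2.1 (hsup.ge.trans (iSup_le fun g' => by rw [e g', ← e 1, cj_one])))
  have zT : ∀ g, cj g T₀ ⊓ 𝐂 (cj g T₀) = ⊥ := fun g => by
    by_contra e
    have a := cjM g _ t2
    have e2 := cjm g _ ⟨inf_le_left.trans a.1, e, le_normalizer_inf a.2.2 (le_normalizer_centralizer a.2.2)⟩ inf_le_left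
    refine a.2.1 (le_bot_iff.1 (hC ▸ le_cent_symm (hsup.ge.trans (iSup_le fun g' => ?_))))
    by_cases e3 : cj g' T₀ = cj g T₀
    · rw [e3]; exact e2.ge.trans inf_le_right
    · exact cm _ _ e3
  have npn : ∀ g, ¬ Transfer.PNil p (cj g T₀) := by
    intro g hg
    have a := cjM g _ t2
    by_cases e : Transfer.resOf p (cj g T₀) = ⊥
    · have h2 : IsPGroup p (cj g T₀) := isPGroup_iff_mem.2 fun x hx => by
        obtain ⟨k, hk⟩ := Transfer.exists_pow_mem_resOf (p := p) hx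
        rw [e, mem_bot] at hk; exact ⟨k, hk⟩
      exact inf_center_ne_bot h2 le_rfl le_normalizer a.2.1 (zT g)
    · have e2 := cjm g _ ⟨(Transfer.resOf_le _).trans a.1, e, a.2.2.trans (Transfer.normalizer_le_normalizer_resOf _)⟩
        (Transfer.resOf_le _)
      rw [Transfer.PNil, e2, card_cj] at hg
      have : ∀ S : Subgroup G, S ∈ Set.range (fun g => cj g T₀) → (N ≤ 𝐍 S ∧ S ≤ N) ∧ (Nat.card S).Coprime p := by
        rintro _ ⟨g', rfl⟩
        exact ⟨⟨(cjM g' _ t2).2.2, (cjM g' _ t2).1⟩, by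
          rw [card_cj]; exact ((Nat.Prime.coprime_iff_not_dvd hp.out).2 hg).symm⟩
      have h5 := sSup_induction (fun S => (N ≤ 𝐍 S ∧ S ≤ N) ∧ (Nat.card S).Coprime p)
        ⟨⟨le_normalizer_of_normal, bot_le⟩, by simp⟩ (fun A B hA hB => ⟨⟨le_normalizer_sup hA.1.1 hB.1.1,
          sup_le hA.1.2 hB.1.2⟩, coprime_sup hA.2 hB.2 (hA.1.2.trans hB.1.1)⟩) _ this
      rw [sSup_range, hsup] at h5
      exact hN0 (hO' N hN ((Nat.Prime.coprime_iff_not_dvd hp.out).1 h5.2.symm))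
  rw [← comm_eq_bot_iff, eq_bot_iff, ← hC, ← hsup, centralizer_iSup, hsup]
  refine le_iInf fun g => ?_
  have a := cjM g _ t2
  set T := cj g T₀ with hT
  have hPH : Syl p P (N ⊔ P) := hP.of_le le_sup_right le_top
  by_cases hn : P ≤ 𝐍 T
  · exfalso
    have n1 : N ⊔ P ≤ 𝐍 T := sup_le a.2.2 hn
    have n2 : N ⊔ P ≤ 𝐍 (N ⊓ 𝐂 T) := le_normalizer_inf le_normalizer_of_normal (le_normalizer_centralizer n1)
    obtain ⟨g', hg'⟩ := other g
    have b1 := index_cases hP.isPGroup inf_le_left (le_normalizer_inf le_normalizer hn) h fun e =>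
      npn g (tate hPH (a.1.trans le_sup_left) n1 e)
    have b2 := index_cases hP.isPGroup inf_le_left (le_normalizer_inf le_normalizer (le_sup_right.trans n2)) h fun e =>
      npn g' ((tate hPH (inf_le_left.trans le_sup_left) n2 e).mono (le_inf (cjM g' _ t2).1 (cm _ _ hg')))
    exact hna (le_bot_iff.1 (zT g ▸ le_inf (b1.1.trans inf_le_right) (b2.1.trans (inf_le_right.trans inf_le_right))))
  obtain ⟨x, hx, hx'⟩ := SetLike.not_le_iff_exists.1 hn
  have hQT : P ⊓ N ≤ 𝐍 T := inf_le_right.trans a.2.2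
  have hi : (P ⊓ N).relIndex P = p := ((Nat.dvd_prime hp.out).1 k3).resolve_left fun e =>
    hn ((relIndex_eq_one.1 e).trans hQT)
  have hTR : N ≤ T ⊔ 𝐂 T := hsup.ge.trans (iSup_le fun g' => by
    by_cases e3 : cj g' T₀ = T
    · rw [e3]; exact le_sup_left
    · exact (cm _ _ e3).trans le_sup_right)
  have hQ : Syl p (P ⊓ N) N := hP.inf_normal_top N
  refine key (Q₁ := P ⊓ N ⊓ T) hP.isPGroup inf_le_left (le_normalizer_inf le_normalizer le_normalizer_of_normal) hi h k2 hx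
    (fun e => hx' (hQT e)) (le_normalizer_centralizer hQT) inf_le_left (fun q hq => ?_) fun i i0 ip b hb => ?_
  · obtain ⟨t, ht, r, hr, rfl⟩ := (mem_sup_of_le_normalizer' (cent_le_norm T)).1 (hTR hq.2)
    refine ⟨t, ⟨?_, ht⟩, by simpa using hr⟩
    have hS := hQ.inf_normal a.1 a.2.2
    obtain ⟨k, hk⟩ := isPGroup_iff_mem.1 hQ.isPGroup _ hq
    have ct : Commute t r := hr t ht
    rw [ct.mul_pow] at hk
    have tk : t ^ p ^ k = 1 := by
      have : t ^ p ^ k ∈ T ⊓ 𝐂 T := ⟨pow_mem ht _, by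
        rw [eq_inv_of_mul_eq_one_left hk]; exact (𝐂 T).inv_mem ((𝐂 T).pow_mem hr _)⟩
      rwa [zT g] at this
    refine (hS.mem_of_mem_normalizer tk ht (mem_normalizer_of_conj_mem fun y hy => ?_)).1
    have e : t * y * t⁻¹ = t * r * y * (t * r)⁻¹ := by
      rw [mul_assoc t r y, ← hr y hy.2]; group
    rw [e]
    exact ⟨(P ⊓ N).mul_mem ((P ⊓ N).mul_mem hq hy.1) ((P ⊓ N).inv_mem hq), e ▸ T.mul_mem (T.mul_mem ht hy.2) (T.inv_mem ht)⟩
  · refine cm (x ^ i * g) g (fun e => hx' ?_) (by rw [cj_mul]; exact conj_mem_cj _ hb.2)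
    rw [cj_mul, cj_eq_self_iff] at e
    obtain ⟨k, hk⟩ := isPGroup_iff_mem.1 hP.isPGroup _ hx
    exact mem_of_coprime_pows (Nat.Coprime.pow_right k (Nat.coprime_of_lt_prime i0.ne' ip hp.out).symm) e
      (hk ▸ one_mem _)

theorem main {P : Subgroup G} (hP : Syl p P ⊤) (hbig : p ^ 2 ∣ Nat.card G) (hO : pPrimeCore p G = ⊥)
    (hc : (⁅P, P⁆ : Subgroup G).normalCore = ⊥)
    (hnas : ¬ ∃ S : Subgroup G, S.Normal ∧ IsSimpleGroup S ∧ ¬ IsMulCommutative S ∧ 𝐂 S = ⊥) :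
    (⁅P, P⁆ : Subgroup G).relIndex P = p ^ 2 ↔
      ∃ x : G, (∃ k : ℕ, orderOf x = p ^ k) ∧ (Nat.card (centralizer ({x} : Set G))).factorization p = 2 := by
  have hD : ⁅P, P⁆ ≤ P := comm_le_of_le le_rfl le_rfl
  constructor
  · intro h
    by_cases hna : ⁅P, P⁆ = ⊥
    · refine ⟨1, ⟨0, by simp⟩, ?_⟩
      rw [hna, relIndex_bot_left, hP.card_eq_pow] at h
      rw [show centralizer ({1} : Set G) = ⊤ from eq_top_iff.2 fun g _ => mem_centralizer_singleton_iff.2 (by simp)]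
      exact Nat.pow_right_injective hp.out.two_le h
    obtain ⟨N, hN, h1, h2⟩ := struct hP hO hc hnas h hna
    have cc : ∀ y ∈ P, y ∉ N → Nat.card (centralizer {y} ⊓ P : Subgroup G) = p ^ 2 := fun y hy hy' =>
      card_cent inf_le_left (le_normalizer_inf le_normalizer le_normalizer_of_normal) h1 h2 h hy fun e => hy' e.2
    obtain ⟨x, hx, hx'⟩ := SetLike.not_le_iff_exists.1 fun e : P ≤ N => hp.out.one_lt.ne' (h2.symm.trans
      (relIndex_eq_one.2 (le_inf le_rfl e)))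
    refine ⟨x, pow_eq_one_iff_orderOf.1 (isPGroup_iff_mem.1 hP.isPGroup x hx), ?_⟩
    obtain ⟨S, hS, hS'⟩ := exists_syl_ge (P := centralizer {x} ⊓ P) (hP.isPGroup.to_le inf_le_right) inf_le_left
    obtain ⟨g, -, hg⟩ := hP.exists_conj_le hS.isPGroup le_top
    have xS : x ∈ S := hS' ⟨mem_centralizer_singleton_iff.2 rfl, hx⟩
    have l1 := card_le_of_le hS'
    have l2 := card_le_of_le (le_inf (cj_centralizer_singleton g x ▸ cj_mono g hS.le) hg)
    rw [cc _ (hg (conj_mem_cj g xS)) (fun e => hx' (by simpa [mul_assoc] using hN.conj_mem _ e g⁻¹)), card_cj] at l2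
    rw [cc x hx hx'] at l1
    exact Nat.pow_right_injective hp.out.two_le (hS.card_eq_pow.symm.trans (le_antisymm l2 l1))
  · rintro ⟨x, ⟨k, hk⟩, hx⟩
    obtain ⟨g, -, hg⟩ := hP.exists_conj_le (isPGroup_zpowers_of_orderOf hk) le_top
    have hy : g * x * g⁻¹ ∈ P := hg (conj_mem_cj g (mem_zpowers x))
    rw [← card_cj g, cj_centralizer_singleton] at hx
    generalize g * x * g⁻¹ = y at hx hy
    obtain ⟨S, hS, hS'⟩ := exists_syl_ge (P := centralizer {y} ⊓ P) (hP.isPGroup.to_le inf_le_right) inf_le_left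
    have l1 := card_le_of_le hS'
    rw [hS.card_eq_pow, hx] at l1
    have l2 := relIndex_cent_le hy
    have l3 := card_inf_mul_relIndex (centralizer {y}) P
    have l4 := card_mul_relIndex hD
    have l5 : (⁅P, P⁆ : Subgroup G).relIndex P ≤ p ^ 2 := by
      refine Nat.le_of_mul_le_mul_left ?_ (Nat.card_pos (α := (⁅P, P⁆ : Subgroup G)))
      rw [l4, ← l3, mul_comm]
      exact Nat.mul_le_mul l2 l1
    obtain ⟨n, hn⟩ := IsPGroup.iff_card.1 hP.isPGroup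
    obtain ⟨i, -, hi⟩ := (Nat.dvd_prime_pow hp.out).1 (hn ▸ Dvd.intro_left _ l4)
    rw [hi] at l5 ⊢
    have i2 := (Nat.pow_le_pow_iff_right hp.out.one_lt).1 l5
    congr 1
    by_contra i3
    have d1 : (⁅P, P⁆ : Subgroup G).relIndex P ∣ p := by
      rw [hi]; simpa using pow_dvd_pow p (show i ≤ 1 by omega)
    have d2 := le_bot_iff.1 (der_le hP.isPGroup bot_le le_normalizer_of_normal (by rwa [bot_sup_eq]))
    rw [d2, relIndex_bot_left, hP.card_eq_pow, card_top] at hi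
    have := (hp.out.pow_dvd_iff_le_factorization Nat.card_pos.ne').1 hbig
    have := Nat.pow_right_injective hp.out.two_le hi
    omega

end Cfsg.Lib.Amalg.PP2
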