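import Cfsg.Agent.Lib.Amalg.Ops

/-! The Sims-Glauberman chain of conjugates of an element of prime order. -/

set_option autoImplicit false
set_option linter.unusedSectionVars false

namespace Cfsg.Lib.Amalg.Sims

open Subgroup Cfsg.Lib.Core
open scoped commutatorElement

variable {G : Type*} [Group G] [Finite G] {p : ℕ}

theorem sup_eq_of_card (hp : p.Prime) {T M X : Subgroup G} (hT : T ≤ M)
    (h : Nat.card M = p * Nat.card T) (hX : X ≤ M) (hn : ¬ X ≤ T) : T ⊔ X = M := by
  have h0 := card_mul_relIndex hT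
  rw [h, mul_comm] at h0
  have hi : T.relIndex M = p := Nat.eq_of_mul_eq_mul_right Nat.card_pos h0
  have h1 := relIndex_mul_relIndex T (T ⊔ X) M le_sup_left (sup_le hT hX)
  rcases (Nat.dvd_prime hp).1 (hi ▸ Dvd.intro _ h1) with e | e
  · exact absurd (le_sup_right.trans (relIndex_eq_one.1 e)) hn
  · rw [e, hi, Nat.mul_eq_left hp.ne_zero] at h1
    exact le_antisymm (sup_le hT hX) (relIndex_eq_one.1 h1)

theorem comm_mem_of_card (hp : p.Prime) {T M : Subgroup G} (hT : T ≤ M) {k : ℕ}
    (h : Nat.card M = p ^ (k + 1)) (h' : Nat.card T = p ^ k) {a b : G} (ha : a ∈ M) (hb : b ∈ M) :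
    ⁅a, b⁆ ∈ T := by
  haveI := Fact.mk hp
  have h0 := card_mul_relIndex hT
  rw [h, h', pow_succ] at h0
  have hi : (T.subgroupOf M).index = p := Nat.eq_of_mul_eq_mul_left (pow_pos hp.pos k) h0
  haveI : (T.subgroupOf M).Normal := normal_of_index_eq_minFac_card (by
    rw [hi, h, hp.pow_minFac (by omega)])
  haveI : IsCyclic (M ⧸ T.subgroupOf M) := isCyclic_of_prime_card (p := p) hi
  have : (QuotientGroup.mk' (T.subgroupOf M)) ⁅(⟨a, ha⟩ : M), ⟨b, hb⟩⁆ = 1 := by
    rw [map_commutatorElement, commutatorElement_eq_one_iff_mul_comm]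
    exact mul_comm' _ _
  exact mem_subgroupOf.1 ((QuotientGroup.eq_one_iff (N := T.subgroupOf M) _).1 this)

/-- the conjugates -/
def sx (g a : G) (i : ℤ) : G := (g ^ i)⁻¹ * a * g ^ i

/-- the subgroups generated by intervals of conjugates -/
def X (g a : G) (i j : ℤ) : Subgroup G := closure (sx g a '' Set.Ico i j)

variable {g a : G} {t : ℕ}

theorem sx_add (i c : ℤ) : sx g a (i + c) = (g ^ c)⁻¹ * sx g a i * g ^ c := by
  simp only [sx, zpow_add]; group

theorem mem_X {i j k : ℤ} (h1 : i ≤ k) (h2 : k < j) : sx g a k ∈ X g a i j :=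
  subset_closure ⟨k, ⟨h1, h2⟩, rfl⟩

theorem X_le {i j : ℤ} {H : Subgroup G} : X g a i j ≤ H ↔ ∀ k, i ≤ k → k < j → sx g a k ∈ H := by
  rw [X, closure_le]
  exact ⟨fun h k h1 h2 => h ⟨k, ⟨h1, h2⟩, rfl⟩, by rintro h _ ⟨k, ⟨h1, h2⟩, rfl⟩; exact h k h1 h2⟩

theorem X_mono {i j k l : ℤ} (h1 : k ≤ i) (h2 : j ≤ l) : X g a i j ≤ X g a k l :=
  X_le.2 fun _ h3 h4 => mem_X (h1.trans h3) (h4.trans_le h2)

theorem X_bot {i j : ℤ} (h : j ≤ i) : X g a i j = ⊥ :=
  eq_bot_iff.2 (X_le.2 fun k h1 h2 => absurd h1 (by omega))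

theorem cj_X (i j c : ℤ) : cj (g ^ c)⁻¹ (X g a i j) = X g a (i + c) (j + c) := by
  apply le_antisymm
  · rw [cj_le_iff, X_le]
    intro k h1 h2
    rw [mem_cj, inv_inv, inv_inv, ← sx_add]
    exact mem_X (by omega) (by omega)
  · rw [X_le]
    intro k h1 h2
    rw [mem_cj, inv_inv]
    have := sx_add (g := g) (a := a) k (-c)
    rw [zpow_neg, inv_inv] at this
    rw [← this]
    exact mem_X (by omega) (by omega)

theorem X_sup {i j k l : ℤ} (h1 : i ≤ k) (h2 : k ≤ j) (h3 : j ≤ l) :
    X g a i j ⊔ X g a k l = X g a i l := by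
  refine le_antisymm (sup_le (X_mono le_rfl h3) (X_mono h1 le_rfl)) (X_le.2 fun m h4 h5 => ?_)
  by_cases h : m < j
  · exact mem_sup_left (mem_X h4 h)
  · exact mem_sup_right (mem_X (by omega) h5)

/-- the chain condition -/
def Chain (p t : ℕ) (g a : G) : Prop := ∀ k : ℕ, k ≤ t → Nat.card (X g a 0 k) = p ^ k

theorem Chain.card (h : Chain p t g a) {i j : ℤ} (k : ℕ) (e : j = i + k) (hk : k ≤ t) :
    Nat.card (X g a i j) = p ^ k := by
  have := cj_X (g := g) (a := a) 0 k i
  rw [zero_add, add_comm, ← e] at this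
  rw [← this, card_cj, h k hk]

theorem Chain.left (hp : p.Prime) (h : Chain p t g a) {i j : ℤ} (hj : j ≤ i + t) {z : G}
    (hz : z ∈ X g a i j) (hz' : z ∉ X g a (i + 1) j) {H : Subgroup G} (h1 : X g a (i + 1) j ≤ H)
    (h2 : z ∈ H) : sx g a i ∈ H := by
  have hij : i < j := by
    by_contra hc
    rw [X_bot (by omega), mem_bot] at hz
    exact hz' (hz ▸ one_mem _)
  obtain ⟨k, hk⟩ := Int.eq_ofNat_of_zero_le (show 0 ≤ j - i - 1 by omega)
  have := sup_eq_of_card hp (X_mono (g := g) (a := a) (show i ≤ i + 1 by omega) (le_refl j))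
    (by rw [h.card (k + 1) (by push_cast; omega) (by omega), h.card k (by omega) (by omega), pow_succ'])
    (zpowers_le.2 hz) (by rwa [zpowers_le])
  exact (sup_le h1 (zpowers_le.2 h2)) (this ▸ mem_X le_rfl hij)

theorem Chain.right (hp : p.Prime) (h : Chain p t g a) {i j : ℤ} (hj : j + 1 ≤ i + t) {z : G}
    (hz : z ∈ X g a i (j + 1)) (hz' : z ∉ X g a i j) {H : Subgroup G} (h1 : X g a i j ≤ H)
    (h2 : z ∈ H) : sx g a j ∈ H := by
  have hij : i < j + 1 := by
    by_contra hc
    rw [X_bot (by omega), mem_bot] at hz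
    exact hz' (hz ▸ one_mem _)
  obtain ⟨k, hk⟩ := Int.eq_ofNat_of_zero_le (show 0 ≤ j - i by omega)
  have := sup_eq_of_card hp (X_mono (g := g) (a := a) (le_refl i) (show j ≤ j + 1 by omega))
    (by rw [h.card (k + 1) (by push_cast; omega) (by omega), h.card k (by omega) (by omega), pow_succ'])
    (zpowers_le.2 hz) (by rwa [zpowers_le])
  exact (sup_le h1 (zpowers_le.2 h2)) (this ▸ mem_X (by omega) (by omega))

theorem Chain.not_mem_left (hp : p.Prime) (h : Chain p t g a) {i j : ℤ} (hij : i < j)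
    (hj : j ≤ i + t) : sx g a i ∉ X g a (i + 1) j := by
  intro hc
  obtain ⟨k, hk⟩ := Int.eq_ofNat_of_zero_le (show 0 ≤ j - i - 1 by omega)
  have e : X g a i j = X g a (i + 1) j := by
    refine le_antisymm (X_le.2 fun m h1 h2 => ?_) (X_mono (by omega) le_rfl)
    rcases h1.eq_or_lt with rfl | h1
    · exact hc
    · exact mem_X (by omega) h2
  have h1 := h.card (i := i) (j := j) (k + 1) (by push_cast; omega) (by omega)
  rw [e, h.card k (by omega) (by omega)] at h1
  exact absurd (Nat.pow_right_injective hp.two_le h1) (by omega)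

theorem Chain.ne_one (hp : p.Prime) (h : Chain p t g a) (ht : 1 ≤ t) (i : ℤ) : sx g a i ≠ 1 :=
  fun e => h.not_mem_left hp (i := i) (j := i + 1) (by omega) (by omega) (e ▸ one_mem _)

theorem Chain.inf (hp : p.Prime) (h : Chain p t g a) {z : G} {j k l : ℤ} (hjl : j ≤ l) (n : ℕ) :
    ∀ i, k = i + n → l ≤ i + t → z ∈ X g a i j → z ∈ X g a k l → z ∈ X g a k j := by
  induction n with
  | zero => intro i e _ h1 _; simpa [e] using h1
  | succ n ih =>
    intro i e hl h1 h2
    refine ih (i + 1) (by push_cast at e; omega) (by omega) ?_ h2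
    by_contra hc
    have hij : i < j := by
      by_contra hc'
      rw [X_bot (by omega), mem_bot] at h1
      exact hc (h1 ▸ one_mem _)
    exact h.not_mem_left hp (i := i) (j := l) (by omega) hl
      (h.left hp (by omega) h1 hc (X_mono le_rfl hjl) (X_mono (by push_cast at e; omega) le_rfl h2))

theorem Chain.inf' (hp : p.Prime) (h : Chain p t g a) {z : G} {i j k l : ℤ} (hjl : j ≤ l)
    (hik : i ≤ k) (hl : l ≤ i + t) (h1 : z ∈ X g a i j) (h2 : z ∈ X g a k l) : z ∈ X g a k j := by
  obtain ⟨n, hn⟩ := Int.eq_ofNat_of_zero_le (show 0 ≤ k - i by omega)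
  exact h.inf hp hjl n i (by omega) hl h1 h2

theorem Chain.comm (hp : p.Prime) (h : Chain p t g a) {i j : ℤ} (hij : i ≤ j) (hj : j + 1 ≤ i + t)
    {b c : G} (hb : b ∈ X g a i (j + 1)) (hc : c ∈ X g a i (j + 1)) : ⁅b, c⁆ ∈ X g a (i + 1) j := by
  obtain ⟨k, hk⟩ := Int.eq_ofNat_of_zero_le (show 0 ≤ j - i by omega)
  have c0 := h.card (i := i) (j := j + 1) (k + 1) (by push_cast; omega) (by omega)
  exact h.inf' hp (i := i) (l := j + 1) (by omega) (by omega) (by omega)
    (comm_mem_of_card hp (X_mono le_rfl (by omega)) c0 (h.card k (by omega) (by omega)) hb hc)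
    (comm_mem_of_card hp (X_mono (by omega) le_rfl) c0 (h.card k (by omega) (by omega)) hb hc)

theorem commute_shift {i j : ℤ} (c : ℤ) (h : Commute (sx g a i) (sx g a j)) :
    Commute (sx g a (i + c)) (sx g a (j + c)) := by
  rw [sx_add, sx_add]
  have := h.conj (g ^ c)⁻¹
  rwa [inv_inv] at this

theorem commute_X {i j : ℤ} {y w : G} (h : ∀ k, i ≤ k → k < j → Commute y (sx g a k))
    (hw : w ∈ X g a i j) : Commute y w := by
  have : X g a i j ≤ centralizer {y} :=
    X_le.2 fun k h1 h2 => mem_centralizer_singleton_iff.2 (h k h1 h2).eq.symm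
  exact (mem_centralizer_singleton_iff.1 (this hw)).symm

/-- the critical distance -/
structure Crit (t : ℕ) (g a : G) (u : ℕ) : Prop where
  pos : 1 ≤ u
  le : u ≤ t
  comm : ∀ i j : ℤ, i < j + u → j < i + u → Commute (sx g a i) (sx g a j)
  ncomm : u < t → ¬ Commute (sx g a 0) (sx g a u)

theorem exists_crit (ht : 1 ≤ t) : ∃ u, Crit t g a u := by
  classical
  have hex : ∃ u : ℕ, 1 ≤ u ∧ (u = t ∨ ¬ Commute (sx g a 0) (sx g a u)) := ⟨t, ht, Or.inl rfl⟩
  have hle : Nat.find hex ≤ t := Nat.find_min' hex ⟨ht, Or.inl rfl⟩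
  have key : ∀ i j : ℤ, i ≤ j → j < i + Nat.find hex → Commute (sx g a i) (sx g a j) := by
    intro i j h1 h2
    rcases h1.eq_or_lt with rfl | h1
    · exact Commute.refl _
    obtain ⟨k, hk⟩ := Int.eq_ofNat_of_zero_le (show 0 ≤ j - i by omega)
    have := Nat.find_min hex (m := k) (by omega)
    push Not at this
    have := commute_shift i (this (by omega)).2
    rwa [zero_add, show (k : ℤ) + i = j by omega] at this
  refine ⟨Nat.find hex, (Nat.find_spec hex).1, hle, fun i j h1 h2 => ?_, fun h =>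
    (Nat.find_spec hex).2.resolve_left h.ne⟩
  rcases le_total i j with h | h
  · exact key i j h h2
  · exact (key j i h h1).symm

theorem Crit.ncomm' {u : ℕ} (c : Crit t g a u) (hu : u < t) (i : ℤ) :
    ¬ Commute (sx g a i) (sx g a (i + u)) := fun h => by
  have := commute_shift (-i) h
  rw [add_neg_cancel, show i + u + -i = u by omega] at this
  exact c.ncomm hu this

theorem Crit.mem (hp : p.Prime) (h : Chain p t g a) {u : ℕ} (c : Crit t g a u) (hu : u < t) :
    ⁅sx g a 0, sx g a u⁆ ∈ X g a (t - u) (2 * u - t + 1) := by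
  have hu1 := c.pos
  have hz : ⁅sx g a 0, sx g a u⁆ ∈ X g a 1 u := by
    simpa using h.comm hp (i := 0) (j := u) (by omega) (by omega) (mem_X le_rfl (by omega))
      (mem_X (by omega) (by omega))
  have hL : ∀ n : ℕ, (n : ℤ) + 1 ≤ t - u → ⁅sx g a 0, sx g a u⁆ ∈ X g a (n + 1) u := by
    intro n
    induction n with
    | zero => intro _; simpa using hz
    | succ n ih =>
      intro hn
      have ih := ih (by push_cast at hn; omega)
      push_cast at hn ⊢
      by_contra hc
      have hnu : (n : ℤ) + 1 < u := by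
        by_contra hc'
        rw [X_bot (by omega), mem_bot] at ih
        exact hc (ih ▸ one_mem _)
      refine c.ncomm' hu (n + 1) (mem_centralizer_singleton_iff.1 (h.left hp (by omega) ih hc
        (X_le.2 fun k h1 h2 => mem_centralizer_singleton_iff.2 (c.comm _ _ (by omega) (by omega)))
        (mem_centralizer_singleton_iff.2 ?_)))
      set y := sx g a (n + 1 + u)
      have hw : ⁅(sx g a 0)⁻¹, y⁆ ∈ X g a (0 + 1) (n + 1 + u) :=
        h.comm hp (by omega) (by omega) (inv_mem (mem_X le_rfl (by omega))) (mem_X (by omega) (by omega))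
      have h1 : Commute (sx g a u) ⁅(sx g a 0)⁻¹, y⁆ :=
        commute_X (fun k h1 h2 => c.comm _ _ (by omega) (by omega)) hw
      have h2 : Commute (sx g a u) y := c.comm _ _ (by omega) (by omega)
      generalize sx g a 0 = b at h1 ⊢
      generalize sx g a u = d at h1 h2 ⊢
      have e1 : y * b * y⁻¹ = b * ⁅b⁻¹, y⁆ := by simp only [commutatorElement_def]; group
      have e2 : y * ⁅b, d⁆ * y⁻¹ = (y * b * y⁻¹) * (y * d * y⁻¹) * (y * b * y⁻¹)⁻¹ * (y * d * y⁻¹)⁻¹ := by
        simp only [commutatorElement_def]; group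
      rw [← h2.eq, mul_inv_cancel_right, e1, mul_inv_rev, mul_assoc b, ← h1.eq] at e2
      rw [← mul_inv_eq_iff_eq_mul.1 (e2.trans (by simp only [commutatorElement_def]; group) : _ = ⁅b, d⁆)]
  have hR : ∀ n : ℕ, 2 * (u : ℤ) - t + 1 ≤ u - n → ⁅sx g a 0, sx g a u⁆ ∈ X g a 1 (u - n) := by
    intro n
    induction n with
    | zero => intro _; simpa using hz
    | succ n ih =>
      intro hn
      have ih := ih (by push_cast at hn; omega)
      push_cast at hn ⊢
      rw [show (u : ℤ) - n = u - (n + 1) + 1 by omega] at ih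
      by_contra hc
      have hnu : (1 : ℤ) < u - n := by
        by_contra hc'
        rw [X_bot (by omega), mem_bot] at ih
        exact hc (ih ▸ one_mem _)
      have hnc := c.ncomm' hu (-(n + 1))
      rw [show -((n : ℤ) + 1) + u = u - (n + 1) by omega] at hnc
      refine hnc (Eq.symm (mem_centralizer_singleton_iff.1 (h.right hp (by omega) ih hc
        (X_le.2 fun k h1 h2 => mem_centralizer_singleton_iff.2 (c.comm _ _ (by omega) (by omega)))
        (mem_centralizer_singleton_iff.2 ?_))))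
      set y := sx g a (-(n + 1))
      have hw : ⁅(sx g a u)⁻¹, y⁆ ∈ X g a (-(n + 1) + 1) u :=
        h.comm hp (by omega) (by omega) (inv_mem (mem_X (by omega) (by omega))) (mem_X le_rfl (by omega))
      have h1 : Commute (sx g a 0) ⁅(sx g a u)⁻¹, y⁆ :=
        commute_X (fun k h1 h2 => c.comm _ _ (by omega) (by omega)) hw
      have h2 : Commute (sx g a 0) y := c.comm _ _ (by omega) (by omega)
      generalize sx g a 0 = b at h1 h2 ⊢
      generalize sx g a u = d at h1 ⊢
      have e1 : y * d * y⁻¹ = d * ⁅d⁻¹, y⁆ := by simp only [commutatorElement_def]; group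
      have e2 : y * ⁅b, d⁆ * y⁻¹ = (y * b * y⁻¹) * (y * d * y⁻¹) * (y * b * y⁻¹)⁻¹ * (y * d * y⁻¹)⁻¹ := by
        simp only [commutatorElement_def]; group
      rw [← h2.eq, mul_inv_cancel_right, e1, mul_inv_rev, mul_assoc b, mul_assoc d, ← h1.inv_left.eq] at e2
      rw [← mul_inv_eq_iff_eq_mul.1 (e2.trans (by simp only [commutatorElement_def]; group) : _ = ⁅b, d⁆)]
  obtain ⟨n, hn⟩ := Int.eq_ofNat_of_zero_le (show 0 ≤ (t : ℤ) - u - 1 by omega)
  have h1 := hL n (by omega)
  have h2 := hR n (by omega)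
  rw [show (n : ℤ) + 1 = t - u by omega] at h1
  rw [show (u : ℤ) - n = 2 * u - t + 1 by omega] at h2
  exact h.inf' hp (i := 1) (l := u) (by omega) (by omega) (by omega) h2 h1

theorem Crit.bound (hp : p.Prime) (h : Chain p t g a) {u : ℕ} (c : Crit t g a u) (hu : u < t) :
    2 * t ≤ 3 * u := by
  by_contra hc
  have := c.mem hp h hu
  rw [X_bot (by omega), mem_bot, commutatorElement_eq_one_iff_commute] at this
  exact c.ncomm hu this

theorem Crit.bound' (hp : p.Prime) (h : Chain p t g a) {u : ℕ} (c : Crit t g a u) {n : ℕ}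
    (h2 : X g a 0 t ⊓ 𝐂 (X g a 0 (t + n)) = ⊥) : 2 * u ≤ t + n := by
  by_contra hc
  have h1 := c.pos
  have h3 := c.le
  refine h.ne_one hp (by omega) (u - 1) (mem_bot.1 (h2 ▸ mem_inf.2 ⟨mem_X (by omega) (by omega), ?_⟩))
  exact mem_centralizer_iff.2 fun w hw =>
    (commute_X (fun k h1 h2 => c.comm _ _ (by omega) (by omega)) hw).eq.symm

/-- the descending intersections -/
def D (g : G) (P : Subgroup G) : ℕ → Subgroup G
  | 0 => P
  | k + 1 => D g P k ⊓ cj g (D g P k)

theorem exists_chain (hp : p.Prime) {P : Subgroup G} (hN : P ≤ 𝐍 (P ⊓ cj g P))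
    (hi : (P ⊓ cj g P).relIndex P = p) (h1 : ∀ Q ≤ P, P ≤ 𝐍 Q → cj g Q = Q → Q = ⊥) :
    ∃ t a, 1 ≤ t ∧ Chain p t g a ∧ P = X g a 0 t := by
  classical
  have hle : ∀ k, D g P (k + 1) ≤ D g P k := fun k => inf_le_left
  have hP : ∀ k, D g P k ≤ P := fun k => by
    induction k with
    | zero => exact le_rfl
    | succ k ih => exact (hle k).trans ih
  have hn : ∀ k, D g P k ≤ 𝐍 (D g P (k + 1)) ∧ (D g P (k + 1)).relIndex (D g P k) ∣ p := fun k => by
    induction k with
    | zero => exact ⟨hN, hi ▸ dvd_rfl⟩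
    | succ k ih =>
      have h2 : cj g (D g P k) ≤ 𝐍 (cj g (D g P (k + 1))) := by
        rw [← cj_normalizer]; exact cj_mono g ih.1
      refine ⟨le_normalizer_inf le_normalizer (inf_le_right.trans h2), ?_⟩
      show (D g P (k + 1) ⊓ cj g (D g P (k + 1))).relIndex (D g P (k + 1)) ∣ p
      rw [inf_relIndex_left]
      have h3 : (cj g (D g P (k + 1))).relIndex (cj g (D g P k)) ∣ p := by
        rw [relIndex_map_map_of_injective _ _ (MulEquiv.injective _)]; exact ih.2
      haveI := (normal_subgroupOf_iff_le_normalizer (cj_mono g (hle k))).2 h2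
      have h4 := relIndex_dvd_index_of_normal ((cj g (D g P (k + 1))).subgroupOf (cj g (D g P k)))
        ((D g P (k + 1)).subgroupOf (cj g (D g P k)))
      rw [relIndex_subgroupOf (show D g P (k + 1) ≤ cj g (D g P k) from inf_le_right)] at h4
      exact h4.trans h3
  have hex : ∃ k, D g P (k + 1) = D g P k := by
    by_contra hc
    push Not at hc
    have : ∀ k, Nat.card (D g P k) + k ≤ Nat.card P := fun k => by
      induction k with
      | zero => exact le_rfl
      | succ k ih => have := card_lt_of_lt (lt_of_le_of_ne (hle k) (hc k)); omega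
    have := this (Nat.card P + 1)
    omega
  obtain ⟨t, ht, hmin⟩ : ∃ t, D g P (t + 1) = D g P t ∧ ∀ k < t, D g P (k + 1) ≠ D g P k :=
    ⟨Nat.find hex, Nat.find_spec hex, fun k hk => Nat.find_min hex hk⟩
  have hc : ∀ k < t, Nat.card (D g P k) = p * Nat.card (D g P (k + 1)) := fun k hk => by
    rw [← card_mul_relIndex (hle k), mul_comm]
    rcases (Nat.dvd_prime hp).1 (hn k).2 with e | e
    · exact absurd (le_antisymm (hle k) (relIndex_eq_one.1 e)) (hmin k hk)
    · rw [e]
  have ht1 : 1 ≤ t := by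
    by_contra h0
    obtain rfl : t = 0 := by omega
    have : P ⊓ cj g P = P := ht
    rw [this, relIndex_self] at hi
    exact hp.one_lt.ne hi
  have hs : ∀ k, k + 1 < t → D g P (k + 1) ⊔ cj g⁻¹ (D g P (k + 1)) = D g P k := fun k hk => by
    refine sup_eq_of_card hp (hle k) (hc k (by omega)) ?_ fun hc' => hmin (k + 1) hk ?_
    · rw [cj_le_iff, inv_inv]; exact inf_le_right
    · exact inf_eq_left.2 (le_cj_iff.2 hc')
  have hQ : cj g (D g P t) = D g P t :=
    (eq_of_le_of_card_le' (ht.ge.trans inf_le_right) (card_cj _ _).le).symm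
  have hQn : ∀ m k, k + 1 + m = t → D g P k ≤ 𝐍 (D g P t) := fun m => by
    induction m with
    | zero => intro k e; exact e ▸ (hn k).1
    | succ m ih =>
      intro k e
      have := ih (k + 1) (by omega)
      rw [← hs k (by omega)]
      refine sup_le this ?_
      rw [cj_le_iff, inv_inv, cj_normalizer, hQ]
      exact this
  have hb : D g P t = ⊥ := h1 _ (hP t) (hQn (t - 1) 0 (by omega)) hQ
  obtain ⟨s, rfl⟩ : ∃ s, t = s + 1 := ⟨t - 1, by omega⟩
  have hcs : Nat.card (D g P s) = p := by rw [hc s (by omega), hb, card_bot, mul_one]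
  obtain ⟨a, ha, ha1⟩ := (D g P s).bot_or_exists_ne_one.resolve_left fun e => by
    rw [e, card_bot] at hcs; exact hp.one_lt.ne hcs
  have hX : ∀ m k : ℕ, k + m = s → D g P k = X g a 0 (m + 1 : ℕ) ∧ Nat.card (D g P k) = p ^ (m + 1) :=
    fun m => by
    induction m with
    | zero =>
      intro k e
      obtain rfl : k = s := by omega
      refine ⟨?_, by rw [hcs, zero_add, pow_one]⟩
      have e0 : sx g a 0 = a := by simp [sx]
      rw [← sup_eq_of_card hp bot_le (by rw [hcs, card_bot, mul_one]) (zpowers_le.2 ha)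
        (by rwa [zpowers_le, mem_bot]), bot_sup_eq]
      refine le_antisymm (zpowers_le.2 (by simpa [e0] using mem_X (g := g) (a := a) (i := 0) (j := 1) (k := 0) le_rfl (by omega))) (X_le.2 fun k h1 h2 => ?_)
      obtain rfl : k = 0 := by push_cast at h2; omega
      rw [e0]; exact mem_zpowers a
    | succ m ih =>
      intro k e
      obtain ⟨i1, i2⟩ := ih (k + 1) (by omega)
      refine ⟨?_, by rw [hc k (by omega), i2, pow_succ' p (m + 1)]⟩
      have := cj_X (g := g) (a := a) 0 (m + 1 : ℕ) 1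
      rw [zpow_one] at this
      rw [← hs k (by omega), i1, this, X_sup (by omega) (by omega) (by omega)]
      push_cast; rfl
  refine ⟨s + 1, a, ht1, fun k hk => ?_, (hX s 0 (by omega)).1⟩
  rcases k with _ | k
  · rw [X_bot (by simp), card_bot, pow_zero]
  · obtain ⟨i1, i2⟩ := hX k (s - k) (by omega)
    rw [← i1, i2]

theorem iSup_X (n : ℕ) (ht : 1 ≤ t) :
    ⨆ i ∈ Finset.range (n + 1), cj (g ^ i)⁻¹ (X g a 0 t) = X g a 0 (t + n) := by
  have e : ∀ i : ℕ, cj (g ^ i)⁻¹ (X g a 0 t) = X g a i (t + i) := fun i => by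
    rw [← zpow_natCast, cj_X, zero_add]
  simp only [e]
  refine le_antisymm (iSup₂_le fun i hi => X_mono (by omega) (by have := Finset.mem_range.1 hi; omega))
    (X_le.2 fun k h1 h2 => ?_)
  obtain ⟨m, rfl⟩ := Int.eq_ofNat_of_zero_le h1
  exact (le_iSup₂_of_le (f := fun (i : ℕ) (_ : i ∈ Finset.range (n + 1)) => X g a i (t + i)) (min m n)
    (Finset.mem_range.2 (by omega)) le_rfl) (mem_X (by omega) (by omega))

end Cfsg.Lib.Amalg.Sims
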