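import Cfsg.Agent.Lib.Amalg.Sims
import Cfsg.Agent.Lib.Linear.Triangle

/-! Groups with `H/O₂(H)` dihedral: auxiliary lemmas for Glauberman's theorem. -/

set_option autoImplicit false
set_option linter.unusedSectionVars false

namespace Cfsg.Lib.Amalg.Sims

open Subgroup DihedralGroup
open Cfsg.Lib.Core hiding isPGroup_subgroupOf isPGroup_subgroupOf_iff isPGroup_map_subtype_iff
open scoped commutatorElement

variable {L : Type*} [Group L] [Finite L]

theorem dih {n : ℕ} (hn : 2 ≤ n) (e : L ⧸ pCore 2 L ≃* DihedralGroup n) {P : Subgroup L}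
    (hP : IsPGroup 2 P) (hi : ¬ 2 ∣ P.index) :
    Odd n ∧ pCore 2 L ≤ P ∧ (pCore 2 L).relIndex P = 2 ∧ ∃ h, P ⊔ cj h⁻¹ P = ⊤ ∧
      P ⊓ cj h⁻¹ P = pCore 2 L ∧ ∀ a ∈ P, ∀ b ∈ cj h⁻¹ P, a ∉ pCore 2 L → b ∉ pCore 2 L →
        (a * b) ^ n ∈ pCore 2 L := by
  haveI : Fact (Nat.Prime 2) := ⟨Nat.prime_two⟩
  haveI : NeZero n := ⟨by omega⟩
  let φ : L →* DihedralGroup n := e.toMonoidHom.comp (QuotientGroup.mk' _)
  have hφ : Function.Surjective φ := e.surjective.comp (QuotientGroup.mk'_surjective _)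
  have hk : ∀ x, φ x = 1 ↔ x ∈ pCore 2 L := fun x => by
    simp [φ, QuotientGroup.eq_one_iff]
  have hker : φ.ker = pCore 2 L := by ext x; exact hk x
  have hodd : Odd n := by
    by_contra hc
    obtain ⟨m, hm⟩ := Nat.not_odd_iff_even.1 hc
    have h0 : (m : ZMod n) + m = 0 := by rw [← Nat.cast_add, ← hm, ZMod.natCast_self]
    have hc : ∀ g : DihedralGroup n, g * r m = r m * g := by
      rintro (i | i)
      · simp [add_comm]
      · simp only [sr_mul_r, r_mul_sr, sr.injEq]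
        rw [sub_eq_add_neg, neg_eq_of_add_eq_zero_left h0]
    haveI : (zpowers (r (m : ZMod n))).Normal := ⟨fun x hx g => by
      rw [(show Commute g x from mem_center_iff.1 (zpowers_le.2 (mem_center_iff.2 hc) hx) g).eq,
        mul_inv_cancel_right]; exact hx⟩
    have h1 := eq_bot_of_pCore_eq_bot ((pCore_eq_bot_iff_of_equiv e).1 pCore_quotient_pCore)
      (isPGroup_zpowers_of_pow_eq_one (x := r (m : ZMod n)) (k := 1) (by
        rw [pow_one, sq, r_mul_r, h0, r_zero]))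
    rw [zpowers_eq_bot, ← r_zero, r.injEq, ZMod.natCast_eq_zero_iff] at h1
    exact absurd (Nat.le_of_dvd (by omega) h1) (by omega)
  have hMP : pCore 2 L ≤ P := pCore_le_sylow (hP.toSylow hi)
  have hrot : ∀ x ∈ P, ∀ i, φ x = r i → i = 0 := fun x hx i e' => by
    obtain ⟨k, hk⟩ := isPGroup_iff_forall_mem.1 hP x hx
    have h1 : φ x ^ 2 ^ k = 1 := by rw [← map_pow, hk, map_one]
    have h2 : φ x ^ n = 1 := by rw [e', r_pow, ZMod.natCast_self, mul_zero, r_zero]
    have h3 := pow_gcd_eq_one.2 ⟨h1, h2⟩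
    rw [Nat.Coprime.pow_left k (Nat.coprime_two_left.2 hodd), pow_one, e', ← r_zero] at h3
    exact r.inj h3
  obtain ⟨x, hx, i, hi⟩ : ∃ x ∈ P, ∃ i, φ x = sr i := by
    by_contra hc
    push Not at hc
    have : P = φ.ker := le_antisymm (fun x hx => by
      rcases h : φ x with i | i
      · rw [MonoidHom.mem_ker, h, hrot x hx i h, r_zero]
      · exact absurd h (hc x hx i)) (hker ▸ hMP)
    rw [this, index_ker, MonoidHom.range_eq_top.2 hφ, card_top, nat_card] at hi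
    exact hi (dvd_mul_right _ _)
  have hPi : ∀ a ∈ P, a ∉ pCore 2 L → φ a = sr i := fun a ha ha' => by
    rcases h : φ a with j | j
    · exact absurd ((hk a).1 (by rw [h, hrot a ha j h, r_zero])) ha'
    · have := hrot _ (mul_mem hx ha) (j - i) (by rw [map_mul, hi, h, sr_mul_sr])
      rw [sub_eq_zero.1 this]
  obtain ⟨h, hh⟩ := hφ (r 1)
  have hPj : ∀ b ∈ cj h⁻¹ P, b ∉ pCore 2 L → φ b = sr (i + 2) := by
    rintro _ ⟨a, ha, rfl⟩ hb
    have := hPi a ha fun h' => hb (Normal.conj_mem inferInstance a h' _)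
    show φ (h⁻¹ * a * h⁻¹⁻¹) = _
    simp only [map_mul, map_inv, hh, this, inv_inv, inv_r, r_mul_sr, sr_mul_r]
    congr 1; ring
  have hx' : x ∉ pCore 2 L := fun h' => by rw [← hk, hi, one_def] at h'; cases h'
  have hxc : h⁻¹ * x * h⁻¹⁻¹ ∉ pCore 2 L := fun h' =>
    hx' (by simpa [mul_assoc] using Normal.conj_mem inferInstance _ h' h)
  refine ⟨hodd, hMP, ?_, h, ?_, ?_, fun a ha b hb ha' hb' => ?_⟩
  · rw [relIndex, index_eq_two_iff]
    refine ⟨⟨x, hx⟩, fun b => ?_⟩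
    simp only [mem_subgroupOf, coe_mul, ← hk, map_mul, hi]
    by_cases hb : (b : L) ∈ pCore 2 L
    · rw [(hk _).2 hb, one_mul, one_def]
      exact Or.inr ⟨rfl, fun h => by cases h⟩
    · rw [hPi _ b.2 hb, sr_mul_self]
      exact Or.inl ⟨rfl, fun h => by rw [one_def] at h; cases h⟩
  · have h1 : (P ⊔ cj h⁻¹ P).map φ = ⊤ := by
      have h2 : r 2 ∈ (P ⊔ cj h⁻¹ P).map φ := ⟨_, mul_mem (mem_sup_left hx)
        (mem_sup_right (conj_mem_cj h⁻¹ hx)), by
          rw [map_mul, hi, hPj _ (conj_mem_cj h⁻¹ hx) hxc, sr_mul_sr, add_sub_cancel_left]⟩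
      have h3 : ∀ j, r j ∈ (P ⊔ cj h⁻¹ P).map φ := fun j => by
        obtain ⟨m, hm⟩ := hodd
        have := pow_mem h2 ((m + 1) * j.val)
        rw [r_pow] at this
        convert this using 2
        have h4 : ((2 * m + 1 : ℕ) : ZMod n) = 0 := by rw [← hm, ZMod.natCast_self]
        push_cast at h4 ⊢
        rw [ZMod.natCast_zmod_val]
        linear_combination (-j) * h4
      rw [eq_top_iff]
      rintro (j | j) -
      · exact h3 j
      · have := mul_mem (show sr i ∈ (P ⊔ cj h⁻¹ P).map φ from ⟨x, mem_sup_left hx, hi⟩) (h3 (j - i))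
        rwa [sr_mul_r, add_sub_cancel] at this
    have h2 := comap_map_eq_self (f := φ) (H := P ⊔ cj h⁻¹ P) (hker ▸ hMP.trans le_sup_left)
    rw [← h2, h1, comap_top]
  · refine le_antisymm (fun a ha => ?_) (le_inf hMP ?_)
    · by_contra hc
      have := (hPi a ha.1 hc).symm.trans (hPj a ha.2 hc)
      rw [sr.injEq, left_eq_add] at this
      have h2 : n ∣ 2 := (ZMod.natCast_eq_zero_iff 2 n).1 (by exact_mod_cast this)
      have := Nat.le_of_dvd two_pos h2
      obtain rfl : n = 2 := by omega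
      exact absurd hodd (by decide)
    · rw [← cj_normal h⁻¹ (pCore 2 L)]; exact cj_mono _ hMP
  · rw [← hk, map_pow, map_mul, hPi a ha ha', hPj b hb hb', sr_mul_sr, r_pow, ZMod.natCast_self,
      mul_zero, r_zero]

/-- the homomorphism defined by an involution -/
def z2 {Q : Type*} [Group Q] (c : Q) (h : c * c = 1) : Multiplicative (ZMod 2) →* Q :=
  MonoidHom.mk' (fun x => c ^ x.toAdd.val) fun a b => by
    rw [toAdd_mul, ZMod.val_add, ← pow_eq_pow_mod _ (by rw [sq, h]), pow_add]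

theorem z2_cases {Q : Type*} [Group Q] (c : Q) (h : c * c = 1) (x : Multiplicative (ZMod 2)) :
    x = 1 ∨ z2 c h x = c := by
  have : ∀ x : Multiplicative (ZMod 2), x = 1 ∨ x.toAdd.val = 1 := by decide
  exact (this x).imp_right fun e => by simp [z2, e]

theorem z2_one {Q : Type*} [Group Q] (c : Q) (h : c * c = 1) : z2 c h (Multiplicative.ofAdd 1) = c :=
  (z2_cases c h _).resolve_left (by decide)

theorem prod_iso {A Q : Type*} [Group A] [Group Q] (φ : A →* Q) (hφ : Function.Injective φ) {c : Q}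
    (hc : c * c = 1) (hz : ∀ g, Commute g c) (hn : c ∉ φ.range)
    (hg : ∀ K : Subgroup Q, φ.range ≤ K → c ∈ K → K = ⊤) : Nonempty (Q ≃* A × Multiplicative (ZMod 2)) := by
  let ψ := φ.noncommCoprod (z2 c hc) fun a b => (hz _).pow_right _
  refine ⟨(MulEquiv.ofBijective ψ ⟨(injective_iff_map_eq_one _).2 ?_,
    MonoidHom.range_eq_top.1 (hg _ ?_ ⟨(1, Multiplicative.ofAdd 1), by
      show φ 1 * z2 c hc _ = c
      rw [map_one, one_mul, z2_one]⟩)⟩).symm⟩
  · rintro ⟨a, b⟩ h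
    have h' : φ a * z2 c hc b = 1 := h
    rcases z2_cases c hc b with rfl | e
    · rw [map_one, mul_one] at h'
      rw [(injective_iff_map_eq_one _).1 hφ a h']; rfl
    · exact absurd ⟨a⁻¹, by rw [map_inv, inv_eq_of_mul_eq_one_right h', e]⟩ hn
  · rintro _ ⟨a, rfl⟩
    exact ⟨(a, 1), by
      show φ a * z2 c hc 1 = φ a
      rw [map_one, mul_one]⟩

theorem eq_one_of_mem_odd {x : L} (h : x ∈ pPrimeCore 2 L) (h2 : x * x = 1) : x = 1 := by
  have h1 := coprime_orderOf_of_mem (coprime_card_pPrimeCore 2 L) h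
  exact orderOf_eq_one_iff.1 (Nat.eq_one_of_self_dvd_of_coprime' h1 (orderOf_dvd_of_pow_eq_one (by rw [sq, h2])))
  where Nat.eq_one_of_self_dvd_of_coprime' {a b : ℕ} (h : a.Coprime b) (h' : a ∣ b) : a = 1 :=
    Nat.Coprime.eq_one_of_dvd h h'

theorem mem_odd {x : L} {m : ℕ} (hm : Odd m) (h : x ^ m = 1)
    (hg : ∀ K : Subgroup L, (∀ g, g * x * g⁻¹ = x ∨ g * x * g⁻¹ = x⁻¹ → g ∈ K) → K = ⊤) :
    x ∈ pPrimeCore 2 L := by
  haveI : (zpowers x).Normal := by
    rw [← normalizer_eq_top_iff]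
    refine hg _ fun g hg => mem_normalizer_of_conj_mem ?_
    rintro _ ⟨k, rfl⟩
    rw [← conj_zpow]
    rcases hg with e | e <;> rw [e]
    · exact zpow_mem (mem_zpowers x) _
    · exact zpow_mem (inv_mem (mem_zpowers x)) _
  refine le_pPrimeCore (N := zpowers x) ?_ (mem_zpowers x)
  rw [Nat.card_zpowers]
  exact Nat.Coprime.coprime_dvd_left (orderOf_dvd_of_pow_eq_one h) (Nat.coprime_two_right.2 hm)

theorem s4_quot {α β v w c : L} {n : ℕ} (hn : Odd n) (ha : α * α = 1) (hb : β * β = 1)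
    (hv : v * v = 1) (hw : w * w = 1) (hw1 : w ≠ 1) (h1 : w * v = v * w) (h2 : α * v = v * α)
    (h3 : α * w = v * w * α) (h4 : β * v = v * w * β) (h5 : β * w = w * β) (h6 : (α * β) ^ n = 1)
    (hc : ∀ g, Commute g c) (hg : ∀ K : Subgroup L, α ∈ K → β ∈ K → v ∈ K → w ∈ K → c ∈ K → K = ⊤) :
    ∃ φ : Equiv.Perm (Fin 4) →* L ⧸ pPrimeCore 2 L, Function.Injective φ ∧
      ∀ K, φ.range ≤ K → (c : L ⧸ pPrimeCore 2 L) ∈ K → K = ⊤ := by
  have a1 : ∀ z, w * (v * z) = v * (w * z) := fun z => by rw [← mul_assoc, h1, mul_assoc]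
  have a2 : ∀ z, α * (v * z) = v * (α * z) := fun z => by rw [← mul_assoc, h2, mul_assoc]
  have a3 : ∀ z, α * (w * z) = v * (w * (α * z)) := fun z => by rw [← mul_assoc, h3]; simp only [mul_assoc]
  have a4 : ∀ z, β * (v * z) = v * (w * (β * z)) := fun z => by rw [← mul_assoc, h4]; simp only [mul_assoc]
  have a5 : ∀ z, β * (w * z) = w * (β * z) := fun z => by rw [← mul_assoc, h5, mul_assoc]
  have a6 : ∀ z, v * (v * z) = z := fun z => by rw [← mul_assoc, hv, one_mul]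
  have a7 : ∀ z, w * (w * z) = z := fun z => by rw [← mul_assoc, hw, one_mul]
  have a8 : ∀ z, α * (α * z) = z := fun z => by rw [← mul_assoc, ha, one_mul]
  have a9 : ∀ z, β * (β * z) = z := fun z => by rw [← mul_assoc, hb, one_mul]
  have i1 := inv_eq_of_mul_eq_one_right ha
  have i2 := inv_eq_of_mul_eq_one_right hb
  have i3 := inv_eq_of_mul_eq_one_right hv
  have i4 := inv_eq_of_mul_eq_one_right hw
  have hO : (α * β) ^ 3 ∈ pPrimeCore 2 L := mem_odd hn (by rw [← pow_mul, mul_comm, pow_mul, h6, one_pow])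
    fun K hK => hg K (hK _ (Or.inr (by simp [pow_succ, mul_assoc, i1, i2, a8, ha])))
      (hK _ (Or.inr (by simp [pow_succ, mul_assoc, i1, i2, a9, hb])))
      (hK _ (Or.inl (by
        simp only [pow_succ, pow_zero, one_mul, mul_assoc, i3, h1, h2, h3, h4, h5, a1, a2, a3, a4, a5, a6, a7])))
      (hK _ (Or.inl (by
        simp only [pow_succ, pow_zero, one_mul, mul_assoc, i4, h1, h2, h3, h4, h5, a1, a2, a3, a4, a5, a6, a7])))
      (hK _ (Or.inl (by rw [← (hc _).eq, mul_inv_cancel_right])))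
  let π := QuotientGroup.mk' (pPrimeCore 2 L)
  have e1 : (α * β * v) ^ 3 = (α * β) ^ 3 := by
    simp only [pow_succ, pow_zero, one_mul, mul_assoc, h1, h2, h3, h4, h5, a1, a2, a3, a4, a5, a6, a7]
  have e2 : (α * (α * β * v)) ^ 2 = w := by
    simp only [pow_succ, pow_zero, one_mul, mul_assoc, h1, h2, h3, h4, h5, a1, a2, a3, a4, a5, a6, a7, a8, a9,
      hb, mul_one]
  obtain ⟨φ, f1, f2⟩ := Linear.exists_hom_S4 (x := π α) (y := π (α * β * v)) (by rw [← map_mul, ha, map_one])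
    (by rw [← map_pow, e1]; exact (QuotientGroup.eq_one_iff _).2 hO)
    (by rw [← map_mul, ← map_pow, show 4 = 2 * 2 from rfl, pow_mul, e2, sq, hw, map_one])
  have f3 : φ ((Linear.s4x * Linear.s4y) ^ 2) = π w := by
    rw [map_pow, map_mul, f1, f2, ← map_mul, ← map_pow, e2]
  refine ⟨φ, Linear.injective_S4 φ fun h => hw1 (eq_one_of_mem_odd
    ((QuotientGroup.eq_one_iff _).1 (f3.symm.trans h)) hw), fun K hK hcK => ?_⟩
  have m1 : α ∈ K.comap π := hK ⟨_, f1⟩
  have m2 : α * β * v ∈ K.comap π := hK ⟨_, f2⟩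
  have m3 : w ∈ K.comap π := hK ⟨_, f3⟩
  have m4 : v ∈ K.comap π := by
    have := mul_mem (mul_mem (mul_mem m1 m3) m1) m3
    rwa [h3, mul_assoc (v * w) α α, ha, mul_one, mul_assoc, hw, mul_one] at this
  have m5 : β ∈ K.comap π := by
    have := mul_mem (mul_mem m1 m2) m4
    simpa only [mul_assoc, a8, hv, mul_one] using this
  rw [← map_comap_mk' _ K, hg _ m1 m5 m4 m3 hcK, ← MonoidHom.range_eq_map, QuotientGroup.range_mk']

theorem four_quot {α β c : L} {n : ℕ} (hn : Odd n) (ha : α * α = 1) (hb : β * β = 1) (hcc : c * c = 1)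
    (ha1 : α ≠ 1) (hc1 : c ≠ 1) (hac : α * c ≠ 1) (h6 : (α * β) ^ n = 1)
    (hc : ∀ g, Commute g c) (hg : ∀ K : Subgroup L, α ∈ K → β ∈ K → c ∈ K → K = ⊤) :
    Nonempty (L ⧸ pPrimeCore 2 L ≃* Multiplicative (ZMod 2) × Multiplicative (ZMod 2)) := by
  have i1 := inv_eq_of_mul_eq_one_right ha
  have i2 := inv_eq_of_mul_eq_one_right hb
  have hO : α * β ∈ pPrimeCore 2 L := mem_odd hn h6
    fun K hK => hg K (hK _ (Or.inr (by rw [← mul_assoc, ha, one_mul, mul_inv_rev, i2])))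
      (hK _ (Or.inr (by rw [← mul_assoc, mul_inv_cancel_right, mul_inv_rev, i1, i2])))
      (hK _ (Or.inl (by rw [← (hc _).eq, mul_inv_cancel_right])))
  let π := QuotientGroup.mk' (pPrimeCore 2 L)
  have k : ∀ x, x * x = 1 → π x = 1 → x = 1 := fun x h1 h2 =>
    eq_one_of_mem_odd ((QuotientGroup.eq_one_iff _).1 h2) h1
  have ha' : π α * π α = 1 := by rw [← map_mul, ha, map_one]
  refine prod_iso (z2 (π α) ha') ((injective_iff_map_eq_one _).2 fun x hx =>
    (z2_cases _ ha' x).resolve_right fun e => ha1 (k _ ha (e ▸ hx))) (c := π c)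
    (by rw [← map_mul, hcc, map_one]) (fun g => ?_) ?_ fun K hK hcK => ?_
  · obtain ⟨g, rfl⟩ := QuotientGroup.mk'_surjective _ g
    exact (hc g).map π
  · rintro ⟨x, hx⟩
    rcases z2_cases _ ha' x with rfl | e
    · exact hc1 (k _ hcc (by rw [← hx, map_one]))
    · refine hac (k _ (by rw [mul_assoc, ← mul_assoc c, ← (hc α).eq, mul_assoc, hcc, mul_one, ha]) ?_)
      rw [map_mul, ← hx, e, ha']
  · have m1 : α ∈ K.comap π := hK ⟨_, z2_one _ ha'⟩
    have m2 : β ∈ K.comap π := by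
      have := mul_mem m1 (le_comap_mk' _ K hO)
      rwa [← mul_assoc, ha, one_mul] at this
    rw [← map_comap_mk' _ K, hg _ m1 m2 hcK, ← MonoidHom.range_eq_map, QuotientGroup.range_mk']

end Cfsg.Lib.Amalg.Sims
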