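import Cfsg.Agent.Lib.Amalg.Sims2

/-! Glauberman's theorem on subgroups with `H/O₂(H)` dihedral. -/

set_option autoImplicit false
set_option linter.unusedSectionVars false

namespace Cfsg.Lib.Amalg.Sims

open Subgroup
open Cfsg.Lib.Core hiding isPGroup_subgroupOf isPGroup_subgroupOf_iff isPGroup_map_subtype_iff
open scoped commutatorElement

variable {G : Type*} [Group G] [Finite G] {g a : G} {t : ℕ}

theorem Chain.sq (h : Chain 2 t g a) (ht : 1 ≤ t) (i : ℤ) : sx g a i * sx g a i = 1 := by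
  have := pow_card_eq_one' (x := (⟨_, mem_X (g := g) (a := a) (le_refl i) (lt_add_one i)⟩ : X g a i (i + 1)))
  rw [h.card 1 (by simp) ht, pow_one, pow_two] at this
  exact congrArg Subtype.val this

theorem Chain.eq (h : Chain 2 t g a) (ht : 1 ≤ t) {i j : ℤ} (e : j = i + 1) {z : G} (hz : z ∈ X g a i j) :
    z = 1 ∨ z = sx g a i := by
  subst e
  have : X g a i (i + 1) ≤ zpowers (sx g a i) := X_le.2 fun k h1 h2 => by
    obtain rfl : k = i := by omega
    exact mem_zpowers _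
  obtain ⟨k, rfl⟩ := this hz
  have h2 : sx g a i ^ (2 : ℤ) = 1 := by rw [zpow_two, h.sq ht]
  rcases Int.even_or_odd' k with ⟨m, rfl | rfl⟩
  · left; show sx g a i ^ (2 * m) = 1; rw [zpow_mul, h2, one_zpow]
  · right; show sx g a i ^ (2 * m + 1) = _; rw [zpow_add, zpow_mul, h2, one_zpow, one_mul, zpow_one]

theorem Crit.commX {u : ℕ} (c : Crit t g a u) {i j : ℤ} (hj : j ≤ i + u) {z w : G}
    (hz : z ∈ X g a i j) (hw : w ∈ X g a i j) : Commute z w :=
  commute_X (fun k _ _ => (commute_X (fun l _ _ => c.comm _ _ (by omega) (by omega)) hz).symm) hw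

theorem Crit.sqX (h : Chain 2 t g a) {u : ℕ} (c : Crit t g a u) {i j : ℤ} (hj : j ≤ i + u) {z : G}
    (hz : z ∈ X g a i j) : z * z = 1 := by
  have ht : 1 ≤ t := c.pos.trans c.le
  induction hz using closure_induction with
  | mem x hx => obtain ⟨k, -, rfl⟩ := hx; exact h.sq ht k
  | one => exact one_mul 1
  | mul x y hx hy e1 e2 =>
    rw [mul_assoc, ← mul_assoc y, ← (c.commX hj hx hy).eq, mul_assoc, e2, mul_one, e1]
  | inv x hx e => rw [← mul_inv_rev, e, inv_one]

theorem mem_norm_X {i j : ℤ} {b : G} (h : ∀ k, i ≤ k → k < j → ⁅b, sx g a k⁆ ∈ X g a i j) :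
    b ∈ 𝐍 (X g a i j) := by
  refine mem_normalizer_of_conj_mem (cj_le_iff'.1 ?_)
  rw [cj_le_iff, X_le]
  intro k h1 h2
  rw [mem_cj, inv_inv]
  have := mul_mem (h k h1 h2) (mem_X h1 h2)
  rwa [commutatorElement_def, inv_mul_cancel_right] at this

theorem comm_shift {i j k l : ℤ} (c : ℤ) (h : ⁅sx g a i, sx g a j⁆ ∈ X g a k l) :
    ⁅sx g a (i + c), sx g a (j + c)⁆ ∈ X g a (k + c) (l + c) := by
  rw [← cj_X, mem_cj, sx_add, sx_add]
  convert h using 1
  simp only [commutatorElement_def]; group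

theorem comm_shift' {i j : ℤ} (c : ℤ) :
    ⁅sx g a (i + c), sx g a (j + c)⁆ = (g ^ c)⁻¹ * ⁅sx g a i, sx g a j⁆ * g ^ c := by
  rw [sx_add, sx_add]; simp only [commutatorElement_def]; group

theorem six (h : Chain 2 6 g a) (c : Crit 6 g a 4) : X g a 0 8 ≤ 𝐍 (X g a 2 6) := by
  have hp := Nat.prime_two
  have h4 : ⁅sx g a 0, sx g a 4⁆ ∈ X g a 2 3 := by simpa using c.mem hp h (by omega)
  have h5 : ⁅sx g a 0, sx g a 5⁆ ∈ X g a 1 5 := by
    simpa using h.comm hp (i := 0) (j := 5) (by omega) (by omega) (mem_X le_rfl (by omega))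
      (mem_X (by omega) (by omega))
  have hs := c.sqX h (by omega) h5
  have s0 := h.sq (by omega) 0
  have s5 := h.sq (by omega) 5
  have h6 : ⁅sx g a 0, sx g a 5⁆ ∈ X g a 1 4 := by
    by_contra hc
    refine c.ncomm (by omega) (Eq.symm (mem_centralizer_singleton_iff.1 (h.right hp (i := 1) (j := 4) (by omega) h5 hc
      (X_le.2 fun k h1 h2 => mem_centralizer_singleton_iff.2 (c.comm _ _ (by omega) (by omega)))
      (mem_centralizer_singleton_iff.2 ?_))))
    conv_rhs => rw [← inv_eq_of_mul_eq_one_right hs]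
    simp only [commutatorElement_def, mul_inv_rev, inv_inv, inv_eq_of_mul_eq_one_right s0,
      inv_eq_of_mul_eq_one_right s5, mul_assoc]
  have h7 : ⁅sx g a 0, sx g a 5⁆ ∈ X g a 2 5 := by
    by_contra hc
    refine c.ncomm' (by omega) 1 (mem_centralizer_singleton_iff.1 (h.left hp (i := 1) (j := 5) (by omega) h5 hc
      (X_le.2 fun k h1 h2 => mem_centralizer_singleton_iff.2 (c.comm _ _ (by omega) (by omega)))
      (mem_centralizer_singleton_iff.2 ?_)))
    show _ * sx g a 5 = sx g a 5 * _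
    conv_lhs => rw [← inv_eq_of_mul_eq_one_right hs]
    simp only [commutatorElement_def, mul_inv_rev, inv_inv, inv_eq_of_mul_eq_one_right s0,
      inv_eq_of_mul_eq_one_right s5, mul_assoc]
  have h8 : ⁅sx g a 0, sx g a 5⁆ ∈ X g a 2 4 :=
    h.inf' hp (i := 1) (l := 5) (by omega) (by omega) (by omega) h6 h7
  refine X_le.2 fun k h1 h2 => mem_norm_X fun l h3 h4' => ?_
  by_cases hc : k < l + 4 ∧ l < k + 4
  · rw [commutatorElement_eq_one_iff_commute.2 (c.comm _ _ hc.1 hc.2)]; exact one_mem _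
  by_cases e1 : l = k + 4
  · have := comm_shift k h4
    rw [zero_add, add_comm 4, ← e1] at this
    exact X_mono (by omega) (by omega) this
  by_cases e2 : k = l + 4
  · have := inv_mem (comm_shift l h4)
    rw [zero_add, add_comm 4, ← e2, commutatorElement_inv] at this
    exact X_mono (by omega) (by omega) this
  by_cases e3 : l = k + 5
  · have := comm_shift k h8
    rw [zero_add, add_comm 5, ← e3] at this
    exact X_mono (by omega) (by omega) this
  · have := inv_mem (comm_shift l h8)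
    rw [zero_add, add_comm 5, ← show k = l + 5 by omega, commutatorElement_inv] at this
    exact X_mono (by omega) (by omega) this

theorem gen_X {H : Subgroup G} {i j : ℤ} (e : H = X g a i j) (K : Subgroup H)
    (h : ∀ k (hk : sx g a k ∈ H), i ≤ k → k < j → ⟨_, hk⟩ ∈ K) : K = ⊤ := by
  subst e
  have : X g a i j ≤ K.map (X g a i j).subtype := X_le.2 fun k h1 h2 => ⟨_, h k (mem_X h1 h2) h1 h2, rfl⟩
  rw [eq_top_iff]
  rintro ⟨x, hx⟩ -
  obtain ⟨y, hy, rfl⟩ := this hx
  exact hy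

theorem mul_of_comm {b d z : G} (hb : b * b = 1) (hd : d * d = 1) (h : ⁅b, d⁆ = z) :
    b * d = z * d * b ∧ d * b = z⁻¹ * b * d := by
  subst h
  simp only [commutatorElement_def, mul_inv_rev, inv_inv, inv_mul_cancel_right, mul_assoc,
    inv_mul_cancel_left, inv_mul_cancel, mul_one, and_self]

theorem commute_of_pow {ρ x : G} {n k : ℕ} (hn : Odd n) (h1 : Commute (ρ ^ n) x)
    (h2 : Commute (ρ ^ 2 ^ k) x) : Commute ρ x := by
  obtain ⟨m, hm⟩ : ∃ m : ℤ × ℤ, (n : ℤ) * m.1 + ((2 ^ k : ℕ) : ℤ) * m.2 = 1 := by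
    have h := Nat.gcd_eq_gcd_ab n (2 ^ k)
    rw [Nat.Coprime.pow_right k (Nat.coprime_two_right.2 hn)] at h
    exact ⟨(_, _), h.symm⟩
  have : ρ ∈ centralizer {x} := by
    have h3 : ρ ^ n ∈ centralizer {x} := mem_centralizer_singleton_iff.2 h1
    have h4 : ρ ^ 2 ^ k ∈ centralizer {x} := mem_centralizer_singleton_iff.2 h2
    have := mul_mem (zpow_mem h3 m.1) (zpow_mem h4 m.2)
    rwa [← zpow_natCast, ← zpow_natCast, ← zpow_mul, ← zpow_mul, ← zpow_add, hm, zpow_one] at this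
  exact mem_centralizer_singleton_iff.1 this

/-- the central element `(x₀ x_t)ⁿ` -/
theorem Crit.central (h : Chain 2 t g a) {u : ℕ} (c : Crit t g a u) (hu : t ≤ u + 1) {n : ℕ}
    (hρ : (sx g a 0 * sx g a t) ^ n ∈ X g a 1 t) :
    ∀ x ∈ X g a 0 (t + 1), Commute x ((sx g a 0 * sx g a t) ^ n) := by
  have ht : 1 ≤ t := c.pos.trans c.le
  have hs := c.sqX h (by omega) hρ
  have s0 := h.sq ht 0
  have s1 := h.sq ht t
  have h0 : Commute (sx g a 0) ((sx g a 0 * sx g a t) ^ n) := by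
    have : sx g a 0 * (sx g a 0 * sx g a t) ^ n * (sx g a 0)⁻¹ = ((sx g a 0 * sx g a t) ^ n)⁻¹ := by
      rw [← conj_pow, ← inv_pow, ← mul_assoc, s0, one_mul, mul_inv_rev, inv_eq_of_mul_eq_one_right s1]
    rw [inv_eq_of_mul_eq_one_right hs] at this
    exact mul_inv_eq_iff_eq_mul.1 this
  intro x hx
  refine (commute_X (fun k h1 h2 => ?_) hx).symm
  rcases h1.eq_or_lt with rfl | h1
  · exact h0.symm
  rcases (show k ≤ t by omega).eq_or_lt with rfl | h2
  · have := h0.mul_left ((Commute.refl (sx g a 0 * sx g a t)).pow_right n)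
    rw [← mul_assoc, s0, one_mul] at this
    exact this.symm
  · exact c.commX (by omega) hρ (mem_X (by omega) h2)

theorem two (h : Chain 2 2 g a) (c : Crit 2 g a 2) {n : ℕ} (hn : Odd n) {H : Subgroup G}
    (e : H = X g a 0 3) (hρ : (sx g a 0 * sx g a 2) ^ n ∈ X g a 1 2) :
    Nonempty (H ⧸ pPrimeCore 2 H ≃* Multiplicative (ZMod 2) × Multiplicative (ZMod 2)) := by
  have hp := Nat.prime_two
  have m : ∀ k, 0 ≤ k → k < 3 → sx g a k ∈ H := fun k h1 h2 => e ▸ mem_X h1 h2
  have hz : ∀ x ∈ X g a 0 3, Commute x ((sx g a 0 * sx g a 2) ^ n) := c.central h (by omega) hρ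
  have hs := c.sqX h (by omega) hρ
  set z := (sx g a 0 * sx g a 2) ^ n with hzd
  have hzH : z ∈ H := e ▸ X_mono (by omega) (by omega) hρ
  have hz2 : Commute (sx g a 2) z := hz _ (mem_X (by omega) (by omega))
  have hz0 : Commute (sx g a 0) z := hz _ (mem_X (by omega) (by omega))
  refine four_quot (α := ⟨_, m 0 (by omega) (by omega)⟩) (β := ⟨_, mul_mem (m 2 (by omega) (by omega)) hzH⟩)
    (c := ⟨_, m 1 (by omega) (by omega)⟩) hn (Subtype.ext (h.sq (by omega) _)) (Subtype.ext ?_)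
    (Subtype.ext (h.sq (by omega) _)) (fun e => h.ne_one hp (by omega) _ (congrArg Subtype.val e))
    (fun e => h.ne_one hp (by omega) _ (congrArg Subtype.val e)) (fun e' => ?_) (Subtype.ext ?_)
    (fun x => Subtype.ext (commute_X (fun k h1 h2 => c.comm _ _ (by omega) (by omega)) (e.le x.2)).eq.symm)
    fun K h1 h2 h3 => gen_X e K fun k hk h4 h5 => ?_
  · show sx g a 2 * z * (sx g a 2 * z) = 1
    rw [mul_assoc, ← mul_assoc z, ← hz2.eq, mul_assoc, hs, mul_one, h.sq (by omega)]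
  · refine h.not_mem_left hp (i := 0) (j := 2) (by omega) (by omega) ?_
    rw [eq_inv_of_mul_eq_one_left (show sx g a 0 * sx g a 1 = 1 from congrArg Subtype.val e')]
    exact inv_mem (mem_X (by omega) (by omega))
  · show (sx g a 0 * (sx g a 2 * z)) ^ n = 1
    obtain ⟨k, rfl⟩ := hn
    rw [← mul_assoc, (hz0.mul_left hz2).mul_pow, ← hzd, pow_succ', pow_mul, pow_two, hs, one_pow, mul_one, hs]
  · obtain rfl | rfl | rfl : k = 0 ∨ k = 1 ∨ k = 2 := by omega
    · exact h1
    · exact h3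
    · have : (⟨z, hzH⟩ : H) ∈ K := by
        rcases h.eq (by omega) (by omega) hρ with e1 | e1
        · exact (show (⟨z, hzH⟩ : H) = 1 from Subtype.ext e1) ▸ one_mem _
        · exact (show (⟨z, hzH⟩ : H) = ⟨_, m 1 (by omega) (by omega)⟩ from Subtype.ext e1) ▸ h3
      have := mul_mem h2 (inv_mem this)
      convert this using 1
      exact Subtype.ext (mul_inv_cancel_right _ _).symm

theorem three (h : Chain 2 3 g a) (c : Crit 3 g a 2) {n : ℕ} (hn : Odd n) {H : Subgroup G}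
    (e : H = X g a 0 4) (hρ : (sx g a 0 * sx g a 3) ^ n ∈ X g a 1 3) :
    Nonempty (H ⧸ pPrimeCore 2 H ≃* Equiv.Perm (Fin 4)) := by
  have hp := Nat.prime_two
  have m : ∀ k, 0 ≤ k → k < 4 → sx g a k ∈ H := fun k h1 h2 => e ▸ mem_X h1 h2
  have hz := c.central h (by omega) hρ
  have sq := h.sq (by omega)
  have h1 : ⁅sx g a 0, sx g a 2⁆ = sx g a 1 :=
    (h.eq (by omega) (by omega) (show _ ∈ X g a 1 2 by simpa using c.mem hp h (by omega))).resolve_left
      fun e => c.ncomm (by omega) (commutatorElement_eq_one_iff_commute.1 e)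
  have h2 : ⁅sx g a 1, sx g a 3⁆ = sx g a 2 := by
    have := comm_shift' (g := g) (a := a) (i := 0) (j := 2) 1
    rwa [h1, ← sx_add] at this
  have hz1 : (sx g a 0 * sx g a 3) ^ n ∈ X g a 1 2 := by
    by_contra hc
    exact c.ncomm (by omega) (Eq.symm (mem_centralizer_singleton_iff.1 (h.right hp (i := 1) (j := 2) (by omega) hρ hc
      (X_le.2 fun k h1 h2 => mem_centralizer_singleton_iff.2 (c.comm _ _ (by omega) (by omega)))
      (mem_centralizer_singleton_iff.2 (hz _ (mem_X (by omega) (by omega))).eq.symm))))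
  have hz2 : (sx g a 0 * sx g a 3) ^ n = 1 := (h.eq (by omega) (by omega) hz1).resolve_right fun e =>
    c.ncomm' (by omega) 1 (e ▸ (hz _ (mem_X (by omega) (by omega))).symm)
  have c12 : Commute (sx g a 1) (sx g a 2) := c.comm _ _ (by omega) (by omega)
  obtain ⟨φ, f1, f2⟩ := s4_quot (α := (⟨_, m 0 (by omega) (by omega)⟩ : H)) (β := ⟨_, m 3 (by omega) (by omega)⟩)
    (v := ⟨_, m 1 (by omega) (by omega)⟩) (w := ⟨_, m 2 (by omega) (by omega)⟩) (c := 1) hn
    (Subtype.ext (sq _)) (Subtype.ext (sq _)) (Subtype.ext (sq _)) (Subtype.ext (sq _))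
    (fun e => h.ne_one hp (by omega) _ (congrArg Subtype.val e)) (Subtype.ext c12.eq.symm)
    (Subtype.ext (c.comm _ _ (by omega) (by omega)).eq) (Subtype.ext (mul_of_comm (sq _) (sq _) h1).1)
    (Subtype.ext (by
      show sx g a 3 * sx g a 1 = sx g a 1 * sx g a 2 * sx g a 3
      rw [(mul_of_comm (sq _) (sq _) h2).2, inv_eq_of_mul_eq_one_right (sq _), c12.eq]))
    (Subtype.ext (c.comm _ _ (by omega) (by omega)).eq) (Subtype.ext hz2) Commute.one_right
    fun K h1 h2 h3 h4 _ => gen_X e K fun k hk h5 h6 => by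
      obtain rfl | rfl | rfl | rfl : k = 0 ∨ k = 1 ∨ k = 2 ∨ k = 3 := by omega
      all_goals assumption
  exact ⟨(MulEquiv.ofBijective φ ⟨f1, MonoidHom.range_eq_top.1 (f2 _ le_rfl (one_mem _))⟩).symm⟩

theorem four_comm (h : Chain 2 4 g a) (c : Crit 4 g a 3) {n : ℕ} (hn : Odd n)
    (hρ : (sx g a 0 * sx g a 4) ^ n ∈ X g a 1 4) : ⁅sx g a 0, sx g a 3⁆ = sx g a 1 * sx g a 2 := by
  have hp := Nat.prime_two
  have sq := h.sq (by omega)
  have hz : ∀ x ∈ X g a 0 5, Commute x ((sx g a 0 * sx g a 4) ^ n) := c.central h (by omega) hρ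
  have h1 : ⁅sx g a 0, sx g a 3⁆ ∈ X g a 1 3 := by simpa using c.mem hp h (by omega)
  have h0 : ⁅sx g a 0, sx g a 3⁆ ≠ 1 := fun e => c.ncomm (by omega) (commutatorElement_eq_one_iff_commute.1 e)
  have sh := comm_shift' (g := g) (a := a) (i := 0) (j := 3) 1
  have cm : ∀ i j : ℤ, i < j + 3 → j < i + 3 → ∀ z, sx g a i * (sx g a j * z) = sx g a j * (sx g a i * z) :=
    fun i j h1 h2 z => by rw [← mul_assoc, (c.comm _ _ h1 h2).eq, mul_assoc]
  have sq' : ∀ i z, sx g a i * (sx g a i * z) = z := fun i z => by rw [← mul_assoc, sq, one_mul]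
  have ml : ∀ {b d z : G}, b * d = z → ∀ y, b * (d * y) = z * y := fun e y => by rw [← mul_assoc, e]
  have n1 : ⁅sx g a 0, sx g a 3⁆ ≠ sx g a 1 := fun e => by
    rw [e, ← sx_add] at sh
    have r1 := ml (mul_of_comm (sq _) (sq _) e).1
    have r2 := ml (mul_of_comm (sq _) (sq _) sh).2
    rw [inv_eq_of_mul_eq_one_right (sq _)] at r2
    norm_num only at r2
    have := commute_of_pow (k := 2) hn (hz _ (mem_X (k := 3) (by omega) (by omega))).symm (by
      show _ * _ = _ * _
      rw [show 2 ^ 2 = 4 from rfl, ← mul_one (_ * sx g a 3), ← mul_one (sx g a 3 * _)]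
      simp only [pow_succ, pow_zero, one_mul, mul_assoc, r1, r2, cm 0 1, cm 0 2, cm 4 2, cm 4 3, cm 2 1,
        cm 3 1, cm 3 2, sq', Int.reduceAdd, Int.reduceLT])
    have h2 := this.mul_left (c.comm 4 3 (by omega) (by omega))
    rw [mul_assoc, sq, mul_one] at h2
    exact c.ncomm (by omega) h2
  have n2 : ⁅sx g a 0, sx g a 3⁆ ≠ sx g a 2 := fun e => by
    rw [e, ← sx_add] at sh
    have r1 := ml (mul_of_comm (sq _) (sq _) e).1
    have r2 := ml (mul_of_comm (sq _) (sq _) sh).2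
    rw [inv_eq_of_mul_eq_one_right (sq _)] at r2
    norm_num only at r2
    have := commute_of_pow (k := 2) hn (hz _ (mem_X (k := 1) (by omega) (by omega))).symm (by
      show _ * _ = _ * _
      rw [show 2 ^ 2 = 4 from rfl, ← mul_one (_ * sx g a 1), ← mul_one (sx g a 1 * _)]
      simp only [pow_succ, pow_zero, one_mul, mul_assoc, r1, r2, cm 0 1, cm 0 2, cm 4 2, cm 4 3, cm 2 1,
        cm 3 1, cm 3 2, sq', Int.reduceAdd, Int.reduceLT])
    have h2 := (c.comm 0 1 (by omega) (by omega)).mul_left this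
    rw [← mul_assoc, sq, one_mul] at h2
    exact c.ncomm' (by omega) 1 h2.symm
  have h2 : ⁅sx g a 0, sx g a 3⁆ ∉ X g a 2 3 := fun hc =>
    (h.eq (by omega) (by omega) hc).elim h0 n2
  have h3 : sx g a 1 * ⁅sx g a 0, sx g a 3⁆ ∈ X g a 2 3 := by
    have hi : ((X g a 2 3).subgroupOf (X g a 1 3)).index = 2 := by
      have := card_mul_relIndex (X_mono (g := g) (a := a) (show (1 : ℤ) ≤ 2 by omega) (le_refl 3))
      rw [h.card 1 (by omega) (by omega), h.card 2 (by omega) (by omega)] at this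
      show relIndex _ _ = 2
      omega
    exact (mul_mem_iff_of_index_two hi (a := ⟨_, mem_X le_rfl (by omega)⟩) (b := ⟨_, h1⟩)).2
      (iff_of_false (h.not_mem_left hp (i := 1) (j := 3) (by omega) (by omega)) h2)
  rcases h.eq (by omega) (by omega) h3 with e | e
  · exact absurd (by rw [← sq' 1 ⁅_, _⁆, e, mul_one]) n1
  · rw [← e, sq']

theorem four (h : Chain 2 4 g a) (c : Crit 4 g a 3) {n : ℕ} (hn : Odd n) {H : Subgroup G}
    (e : H = X g a 0 5) (hρ : (sx g a 0 * sx g a 4) ^ n ∈ X g a 1 4) :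
    Nonempty (H ⧸ pPrimeCore 2 H ≃* Equiv.Perm (Fin 4) × Multiplicative (ZMod 2)) := by
  have hp := Nat.prime_two
  have m : ∀ k, 0 ≤ k → k < 5 → sx g a k ∈ H := fun k h1 h2 => e ▸ mem_X h1 h2
  have hz : ∀ x ∈ X g a 0 5, Commute x ((sx g a 0 * sx g a 4) ^ n) := c.central h (by omega) hρ
  have hs := c.sqX h (by omega) hρ
  have sq := h.sq (by omega)
  have h1 := four_comm h c hn hρ
  have h2 : ⁅sx g a 1, sx g a 4⁆ = sx g a 2 * sx g a 3 := by
    have := comm_shift' (g := g) (a := a) (i := 0) (j := 3) 1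
    rw [h1] at this
    refine this.trans ?_
    rw [show (2 : ℤ) = 1 + 1 from rfl, show (3 : ℤ) = 1 + 1 + 1 from rfl, sx_add (1 + 1), sx_add 1 1]
    group
  have hz1 : (sx g a 0 * sx g a 4) ^ n ∈ X g a 1 3 := by
    by_contra hc
    exact c.ncomm (by omega) (Eq.symm (mem_centralizer_singleton_iff.1 (h.right hp (i := 1) (j := 3) (by omega) hρ hc
      (X_le.2 fun k h1 h2 => mem_centralizer_singleton_iff.2 (c.comm _ _ (by omega) (by omega)))
      (mem_centralizer_singleton_iff.2 (hz _ (mem_X (by omega) (by omega))).eq.symm))))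
  have hz2 : (sx g a 0 * sx g a 4) ^ n ∈ X g a 2 3 := by
    by_contra hc
    exact c.ncomm' (by omega) 1 (mem_centralizer_singleton_iff.1 (h.left hp (i := 1) (j := 3) (by omega) hz1 hc
      (X_le.2 fun k h1 h2 => mem_centralizer_singleton_iff.2 (c.comm _ _ (by omega) (by omega)))
      (mem_centralizer_singleton_iff.2 (hz _ (mem_X (by omega) (by omega))).eq.symm)))
  set z := (sx g a 0 * sx g a 4) ^ n with hzd
  have hzH : z ∈ H := e ▸ X_mono (by omega) (by omega) hρ
  have cz : ∀ i : ℤ, 0 ≤ i → i < 5 → ∀ y, z * (sx g a i * y) = sx g a i * (z * y) := fun i h1 h2 y => by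
    rw [← mul_assoc, ← (hz _ (mem_X h1 h2)).eq, mul_assoc]
  have cm : ∀ i j : ℤ, i < j + 3 → j < i + 3 → ∀ z, sx g a i * (sx g a j * z) = sx g a j * (sx g a i * z) :=
    fun i j h1 h2 z => by rw [← mul_assoc, (c.comm _ _ h1 h2).eq, mul_assoc]
  have sq' : ∀ i z, sx g a i * (sx g a i * z) = z := fun i z => by rw [← mul_assoc, sq, one_mul]
  have ml : ∀ {b d z : G}, b * d = z → ∀ y, b * (d * y) = z * y := fun e y => by rw [← mul_assoc, e]
  have r1 := ml (mul_of_comm (sq _) (sq _) h1).1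
  have r2 := ml (mul_of_comm (sq _) (sq _) h2).2
  rw [mul_inv_rev, inv_eq_of_mul_eq_one_right (sq _), inv_eq_of_mul_eq_one_right (sq _)] at r2
  have ext : ∀ {x y : H}, (x : G) * 1 = y * 1 → x = y := fun e => Subtype.ext (by simpa using e)
  have c2 : ∀ x : H, Commute x ⟨_, m 2 (by omega) (by omega)⟩ := fun x =>
    Subtype.ext (commute_X (fun k h1 h2 => c.comm _ _ (by omega) (by omega)) (e.le x.2)).eq.symm
  obtain ⟨φ, f1, f2⟩ := s4_quot (α := (⟨_, m 0 (by omega) (by omega)⟩ : H))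
    (β := ⟨_, mul_mem (m 4 (by omega) (by omega)) hzH⟩)
    (v := ⟨_, mul_mem (m 1 (by omega) (by omega)) (m 2 (by omega) (by omega))⟩)
    (w := ⟨_, mul_mem (m 2 (by omega) (by omega)) (m 3 (by omega) (by omega))⟩)
    (c := ⟨_, m 2 (by omega) (by omega)⟩) hn (Subtype.ext (sq _))
    (ext (by simp only [coe_mul, coe_one, mul_assoc, cz 4, sq', sq, mul_one, hs, Int.reduceLT, Int.reduceLE]))
    (ext (by simp only [coe_mul, coe_one, mul_assoc, cm 2 1, sq', Int.reduceLT, Int.reduceAdd, one_mul]))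
    (ext (by simp only [coe_mul, coe_one, mul_assoc, cm 3 2, sq', Int.reduceLT, Int.reduceAdd, one_mul]))
    (fun e' => h.not_mem_left hp (i := 2) (j := 4) (by omega) (by omega) (by
      rw [eq_inv_of_mul_eq_one_left (show sx g a 2 * sx g a 3 = 1 from congrArg Subtype.val e')]
      exact inv_mem (mem_X (by omega) (by omega))))
    (ext (by simp only [coe_mul, mul_assoc, cm 2 1, cm 3 1, cm 3 2, sq', Int.reduceLT, Int.reduceAdd]))
    (ext (by simp only [coe_mul, mul_assoc, cm 0 1, cm 0 2, sq', Int.reduceLT, Int.reduceAdd]))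
    (ext (by simp only [coe_mul, mul_assoc, cm 0 1, cm 0 2, cm 2 1, r1, sq', Int.reduceLT, Int.reduceAdd]))
    (ext (by simp only [coe_mul, mul_assoc, cz 1, cz 2, cm 4 2, cm 2 1, cm 3 1, cm 3 2, r2, sq', Int.reduceLT,
      Int.reduceAdd, Int.reduceLE]))
    (ext (by simp only [coe_mul, mul_assoc, cz 3, cz 2, cm 4 2, cm 4 3, sq', Int.reduceLT,
      Int.reduceAdd, Int.reduceLE]))
    (Subtype.ext (by
      show (sx g a 0 * (sx g a 4 * z)) ^ n = 1
      obtain ⟨k, rfl⟩ := hn
      rw [← mul_assoc, ((hz _ (mem_X (by omega) (by omega))).mul_left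
        (hz _ (mem_X (by omega) (by omega)))).mul_pow, ← hzd, pow_succ', pow_mul, pow_two, hs, one_pow,
        mul_one, hs])) c2
    fun K h1 h2 h3 h4 h5 => gen_X e K fun k hk h6 h7 => by
      obtain rfl | rfl | rfl | rfl | rfl : k = 0 ∨ k = 1 ∨ k = 2 ∨ k = 3 ∨ k = 4 := by omega
      · exact h1
      · convert mul_mem h3 (inv_mem h5) using 1
        exact Subtype.ext (mul_inv_cancel_right _ _).symm
      · exact h5
      · convert mul_mem (inv_mem h5) h4 using 1
        exact Subtype.ext (inv_mul_cancel_left _ _).symm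
      · have : (⟨z, hzH⟩ : H) ∈ K := by
          rcases h.eq (by omega) (by omega) hz2 with e1 | e1
          · exact (show (⟨z, hzH⟩ : H) = 1 from Subtype.ext e1) ▸ one_mem _
          · exact (show (⟨z, hzH⟩ : H) = ⟨_, m 2 (by omega) (by omega)⟩ from Subtype.ext e1) ▸ h5
        convert mul_mem h2 (inv_mem this) using 1
        exact Subtype.ext (mul_inv_cancel_right _ _).symm
  have hc : ∀ y : H ⧸ pPrimeCore 2 H, Commute y ((⟨_, m 2 (by omega) (by omega)⟩ : H) : H ⧸ pPrimeCore 2 H) :=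
    fun y => by
      obtain ⟨y, rfl⟩ := QuotientGroup.mk'_surjective _ y
      exact (c2 y).map (QuotientGroup.mk' _)
  refine prod_iso φ f1 (by rw [← QuotientGroup.mk_mul]; exact congrArg _ (Subtype.ext (sq _))) hc ?_ f2
  rintro ⟨s, hs⟩
  have : s = 1 := (show ∀ s : Equiv.Perm (Fin 4), (∀ r, r * s = s * r) → s = 1 by decide) s fun r =>
    f1 (by rw [map_mul, map_mul, hs, (hc _).eq])
  rw [this, map_one] at hs
  exact h.ne_one hp (by omega) 2 (congrArg Subtype.val (eq_one_of_mem_odd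
    ((QuotientGroup.eq_one_iff _).1 hs.symm) (Subtype.ext (sq _))))

end Cfsg.Lib.Amalg.Sims
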