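import Cfsg.Agent.Lib.BS.Higman

/-! `2`-groups with an involutory automorphism whose fixed points carry a Singer cycle: the tower. -/

set_option autoImplicit false
set_option linter.unusedSectionVars false

namespace Cfsg.Lib.Amalg.Sing

open Subgroup
open scoped commutatorElement

variable {Q : Type*} [Group Q] [Finite Q] {F : Type*} [Field F] [Finite F] [CharP F 2]

/-- The standing hypotheses. -/
structure Hy (α ρ : MulAut Q) (l : F) : Prop where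
  two : IsPGroup 2 Q
  aa : ∀ x, α (α x) = x
  com : ∀ x, α (ρ x) = ρ (α x)
  ord : ρ ^ (Nat.card F - 1) = 1
  gen : ∀ a : F, a ≠ 0 → ∃ k : ℕ, l ^ k = a
  big : 2 < Nat.card F

/-- A section isomorphic to the field. -/
structure Ln (ρ : MulAut Q) (l : F) (B A : Subgroup Q) (u : Q → F) : Prop where
  le : B ≤ A
  add : ∀ x ∈ A, ∀ y ∈ A, u (x * y) = u x + u y
  ker : ∀ x ∈ A, u x = 0 ↔ x ∈ B
  surj : ∀ c, ∃ x ∈ A, u x = c
  rho : ∀ x ∈ A, ρ x ∈ A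
  eqv : ∀ x ∈ A, u (ρ x) = l * u x

theorem f2 (a : F) : a + a = 0 := CharTwo.add_self_eq_zero a

theorem hua {l : F} (hl : ∀ a : F, a ≠ 0 → ∃ k : ℕ, l ^ k = a) (B : F →+ F →+ F)
    (h : ∀ a b, B (l * a) (l * b) = l * B a b) (a b : F) : B a b ^ 2 = B 1 1 ^ 2 * a * b := by
  have h1 : ∀ c a b, B (c * a) (c * b) = c * B a b := by
    intro c a b
    by_cases hc : c = 0
    · simp [hc]
    obtain ⟨k, rfl⟩ := hl c hc
    clear hc
    induction k with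
    | zero => simp
    | succ k ih => rw [pow_succ', mul_assoc, mul_assoc, h, ih, mul_assoc]
  have h2 : ∀ a, B (a * a) 1 = a * B 1 1 := by
    intro a
    by_cases h0 : a = 0
    · simp [h0]
    by_cases h3 : a + 1 = 0
    · have : a = 1 := by linear_combination h3 - f2 (1 : F)
      simp [this]
    have g : ∀ c, c ≠ 0 → B c 1 = c * B 1 c⁻¹ := fun c hc => by rw [← h1, mul_one, mul_inv_cancel₀ hc]
    have e : (a * (a + 1))⁻¹ = a⁻¹ + (a + 1)⁻¹ := by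
      field_simp; linear_combination - f2 a
    have e1 := g _ (mul_ne_zero h0 h3)
    have e2 := g _ h0
    have e3 := g _ h3
    rw [e, map_add, mul_add a a 1, mul_one, map_add, AddMonoidHom.add_apply] at e1
    rw [map_add, AddMonoidHom.add_apply] at e3
    linear_combination e1 - (a + 1) * e2 - a * e3 + f2 (a * B a 1)
  obtain ⟨a, rfl⟩ := BS.exists_sq' a
  obtain ⟨b, rfl⟩ := BS.exists_sq' b
  by_cases hb : b = 0
  · simp [hb]
  have : B (a * a) (b * b) = a * b * B 1 1 := by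
    have e := h1 (b * b) (a / b * (a / b)) 1
    rw [h2, mul_one, show b * b * (a / b * (a / b)) = a * a by field_simp] at e
    rw [e]; field_simp
  rw [this]; ring

namespace Ln

variable {ρ : MulAut Q} {l : F} {B A B' A' : Subgroup Q} {u u' : Q → F}

theorem one (h : Ln ρ l B A u) : u 1 = 0 := (h.ker 1 A.one_mem).2 B.one_mem

theorem zero (h : Ln ρ l B A u) {x : Q} (hx : x ∈ B) : u x = 0 := (h.ker x (h.le hx)).2 hx

theorem inv (h : Ln ρ l B A u) {x : Q} (hx : x ∈ A) : u x⁻¹ = u x := by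
  have := h.add x hx x⁻¹ (A.inv_mem hx)
  rw [mul_inv_cancel, h.one] at this
  linear_combination -this - f2 (u x)

theorem sq (h : Ln ρ l B A u) {x : Q} (hx : x ∈ A) : x * x ∈ B :=
  (h.ker _ (A.mul_mem hx hx)).1 (by rw [h.add x hx x hx, f2])

theorem eq (h : Ln ρ l B A u) {x y : Q} (hx : x ∈ A) (hy : y ∈ A) (e : u x = u y) : ∃ b ∈ B, y = x * b :=
  ⟨x⁻¹ * y, (h.ker _ (A.mul_mem (A.inv_mem hx) hy)).1 (by rw [h.add _ (A.inv_mem hx) _ hy, h.inv hx, e, f2]),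
    by group⟩

theorem pow (h : Ln ρ l B A u) (k : ℕ) {x : Q} (hx : x ∈ A) : (ρ ^ k) x ∈ A ∧ u ((ρ ^ k) x) = l ^ k * u x := by
  induction k with
  | zero => simpa using hx
  | succ k ih => rw [pow_succ', MulAut.mul_apply, h.eqv _ ih.1, ih.2, pow_succ', mul_assoc]; exact ⟨h.rho _ ih.1, rfl⟩

theorem ne (h : Ln ρ l B A u) : ∃ x ∈ A, x ∉ B := by
  obtain ⟨x, hx, e⟩ := h.surj 1
  exact ⟨x, hx, fun hb => one_ne_zero (e.symm.trans (h.zero hb))⟩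

variable (hl : ∀ a : F, a ≠ 0 → ∃ k : ℕ, l ^ k = a)
include hl

theorem trans (h : Ln ρ l B A u) {z x : Q} (hz : z ∈ A) (hz' : z ∉ B) (hx : x ∈ A) :
    x ∈ B ∨ ∃ k : ℕ, ∃ b ∈ B, x = (ρ ^ k) z * b := by
  by_cases hx' : x ∈ B
  · exact Or.inl hx'
  have h1 : u z ≠ 0 := fun e => hz' ((h.ker z hz).1 e)
  obtain ⟨k, hk⟩ := hl (u x / u z) (div_ne_zero (fun e => hx' ((h.ker x hx).1 e)) h1)
  exact Or.inr ⟨k, h.eq (h.pow k hz).1 hx (by rw [(h.pow k hz).2, hk, div_mul_cancel₀ _ h1])⟩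

theorem lin (h : Ln ρ l B A u) {f : Q → F} (h1 : ∀ x ∈ A, ∀ y ∈ A, f (x * y) = f x + f y) (h2 : ∀ x ∈ B, f x = 0)
    (h3 : ∀ x ∈ A, f (ρ x) = l * f x) : ∃ c, ∀ x ∈ A, f x = c * u x := by
  obtain ⟨z, hz, e⟩ := h.surj 1
  refine ⟨f z, fun x hx => ?_⟩
  rcases h.trans hl hz (fun hb => one_ne_zero (e.symm.trans (h.zero hb))) hx with hb | ⟨k, b, hb, rfl⟩
  · rw [h2 x hb, h.zero hb, mul_zero]
  · have : f ((ρ ^ k) z) = l ^ k * f z := by
      induction k with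
      | zero => simp
      | succ k ih =>
        rw [pow_succ', MulAut.mul_apply, h3 _ (h.pow k hz).1, ih (A.mul_mem (h.pow k hz).1 (h.le hb)), pow_succ',
          mul_assoc]
    rw [h1 _ (h.pow k hz).1 _ (h.le hb), h.add _ (h.pow k hz).1 _ (h.le hb), h2 b hb, h.zero hb, this, (h.pow k hz).2, e]
    ring

theorem bil (h : Ln ρ l B A u) (h' : Ln ρ l B' A' u') {f : Q → Q → F}
    (h1 : ∀ x ∈ A, ∀ y ∈ A, ∀ z ∈ A', f (x * y) z = f x z + f y z)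
    (h2 : ∀ x ∈ A', ∀ y ∈ A', ∀ z ∈ A, f z (x * y) = f z x + f z y)
    (h3 : ∀ x ∈ B, ∀ z ∈ A', f x z = 0) (h4 : ∀ x ∈ B', ∀ z ∈ A, f z x = 0)
    (h5 : ∀ x ∈ A, ∀ y ∈ A', f (ρ x) (ρ y) = l * f x y) : ∃ c, ∀ x ∈ A, ∀ y ∈ A', f x y ^ 2 = c * u x * u' y := by
  choose s hs hs' using h.surj
  choose t ht ht' using h'.surj
  have e : ∀ x ∈ A, ∀ y ∈ A', f (s (u x)) (t (u' y)) = f x y := by
    intro x hx y hy
    obtain ⟨b, hb, e1⟩ := h.eq hx (hs (u x)) (hs' _).symm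
    obtain ⟨b', hb', e2⟩ := h'.eq hy (ht (u' y)) (ht' _).symm
    rw [e1, h1 _ hx _ (h.le hb) _ (ht _), h3 _ hb _ (ht _), add_zero, e2, h2 _ hy _ (h'.le hb') _ hx, h4 _ hb' _ hx,
      add_zero]
  let T : F →+ F →+ F := AddMonoidHom.mk' (fun a => AddMonoidHom.mk' (fun b => f (s a) (t b)) fun b c => by
      have := e _ (hs a) _ (A'.mul_mem (ht b) (ht c))
      rw [h'.add _ (ht b) _ (ht c), ht', ht', hs'] at this
      rw [this, h2 _ (ht b) _ (ht c) _ (hs a)]) fun a b => AddMonoidHom.ext fun c => by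
      have := e _ (A.mul_mem (hs a) (hs b)) _ (ht c)
      rw [h.add _ (hs a) _ (hs b), hs', hs', ht'] at this
      change f (s (a + b)) (t c) = f (s a) (t c) + f (s b) (t c)
      rw [this, h1 _ (hs a) _ (hs b) _ (ht c)]
  refine ⟨T 1 1 ^ 2, fun x hx y hy => ?_⟩
  rw [← e x hx y hy]
  refine hua hl T (fun a b => ?_) _ _
  change f (s (l * a)) (t (l * b)) = l * f (s a) (t b)
  have := e _ (h.rho _ (hs a)) _ (h'.rho _ (ht b))
  rw [h.eqv _ (hs a), h'.eqv _ (ht b), hs', ht'] at this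
  rw [this, h5 _ (hs a) _ (ht b)]

theorem alt (h : Ln ρ l B A u) {f : Q → Q → F}
    (h1 : ∀ x ∈ A, ∀ y ∈ A, ∀ z ∈ A, f (x * y) z = f x z + f y z)
    (h2 : ∀ x ∈ A, ∀ y ∈ A, ∀ z ∈ A, f z (x * y) = f z x + f z y)
    (h3 : ∀ x ∈ B, ∀ z ∈ A, f x z = 0) (h4 : ∀ x ∈ B, ∀ z ∈ A, f z x = 0)
    (h5 : ∀ x ∈ A, ∀ y ∈ A, f (ρ x) (ρ y) = l * f x y) (h6 : ∀ x ∈ A, f x x = 0) :
    ∀ x ∈ A, ∀ y ∈ A, f x y = 0 := by
  obtain ⟨c, hc⟩ := h.bil hl h h1 h2 h3 h4 h5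
  obtain ⟨z, hz, e⟩ := h.surj 1
  have := hc z hz z hz
  rw [h6 z hz, e] at this
  intro x hx y hy
  have h7 := hc x hx y hy
  rw [show c = 0 by linear_combination -this, zero_mul, zero_mul] at h7
  exact pow_eq_zero_iff two_ne_zero |>.1 h7

end Ln

/-- A step of the tower. -/
structure St (α ρ : MulAut Q) (l : F) (N M : Subgroup Q) (π : Q → F) : Prop extends Ln ρ l N M π where
  nN : N.Normal
  aN : ∀ x ∈ N, α x ∈ N
  mem : ∀ g, g ∈ M ↔ g⁻¹ * α g ∈ N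

variable {α ρ : MulAut Q} {l : F} (H : Hy α ρ l)
include H

theorem Hy.cfix {N : Subgroup Q} [hN : N.Normal] (ha : ∀ x ∈ N, α x ∈ N) (h : N ≠ ⊤) :
    ∃ z, z ∉ N ∧ (∀ g, ⁅z, g⁆ ∈ N) ∧ z⁻¹ * α z ∈ N := by
  haveI : Nontrivial (Q ⧸ N) := QuotientGroup.nontrivial_iff.2 h
  haveI := (H.two.to_quotient N).center_nontrivial
  obtain ⟨⟨z, hz⟩, z1⟩ := exists_ne (1 : center (Q ⧸ N))
  obtain ⟨z, rfl⟩ := QuotientGroup.mk'_surjective N z
  have ha' : ∀ x, α x ∈ N ↔ x ∈ N := fun x => ⟨fun hx => H.aa x ▸ ha _ hx, ha x⟩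
  have hc : ∀ z, (∀ g, ⁅z, g⁆ ∈ N) ↔ QuotientGroup.mk' N z ∈ center (Q ⧸ N) := by
    intro z
    rw [mem_center_iff]
    refine ⟨fun h g => ?_, fun h g => ?_⟩
    · obtain ⟨g, rfl⟩ := QuotientGroup.mk'_surjective N g
      rw [eq_comm, ← commutatorElement_eq_one_iff_mul_comm, ← map_commutatorElement]
      exact (QuotientGroup.eq_one_iff _).2 (h g)
    · rw [← QuotientGroup.eq_one_iff, ← QuotientGroup.mk'_apply, map_commutatorElement,
        commutatorElement_eq_one_iff_mul_comm, h]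
  have z1' : z ∉ N := fun e => z1 (Subtype.ext ((QuotientGroup.eq_one_iff _).2 e))
  have hz' := (hc z).2 hz
  have haz : ∀ g, ⁅α z, g⁆ ∈ N := fun g => by
    rw [← H.aa g, ← map_commutatorElement]; exact ha _ (hz' _)
  by_cases h1 : z * α z ∈ N
  · classical
    have ex : ∃ k : ℕ, z ^ 2 ^ k ∈ N := by obtain ⟨k, hk⟩ := H.two z; exact ⟨k, hk ▸ N.one_mem⟩
    have k0 : Nat.find ex ≠ 0 := fun e => z1' (by simpa [e] using Nat.find_spec ex)
    obtain ⟨k, hk⟩ := Nat.exists_eq_succ_of_ne_zero k0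
    have s1 := Nat.find_spec ex
    have s2 := Nat.find_min ex (show k < Nat.find ex by omega)
    rw [hk, pow_succ, pow_mul, sq] at s1
    refine ⟨_, s2, (hc _).2 (by rw [map_pow]; exact pow_mem hz _), ?_⟩
    rw [← QuotientGroup.eq_one_iff, ← QuotientGroup.mk'_apply] at h1 s1 ⊢
    rw [map_mul] at h1 s1 ⊢
    rw [map_pow α, map_pow _ (α z), eq_inv_of_mul_eq_one_right h1, map_inv, inv_pow, ← map_pow, ← mul_inv_rev, s1,
      inv_one]
  · refine ⟨_, h1, (hc _).2 (by rw [map_mul]; exact mul_mem hz ((hc _).1 haz)), ?_⟩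
    rw [map_mul, H.aa]
    have := hN.conj_mem _ (haz z) (z * α z)⁻¹
    convert this using 1
    simp only [commutatorElement_def]; group

namespace St

variable {N M M' M'' : Subgroup Q} {π π' π'' : Q → F}

theorem cent (h : St α ρ l N M π) {x : Q} (hx : x ∈ M) (g : Q) : ⁅x, g⁆ ∈ N := by
  haveI := h.nN
  obtain ⟨y, hy, hy'⟩ := h.ne
  obtain ⟨z, z1, z2, z3⟩ := H.cfix h.aN (fun e => hy' (e ▸ mem_top y))
  have rN : ∀ k : ℕ, ∀ n ∈ N, (ρ ^ k) n ∈ N := fun k n hn =>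
    (h.ker _ (h.pow k (h.le hn)).1).1 (by rw [(h.pow k (h.le hn)).2, h.zero hn, mul_zero])
  have hn : ∀ n ∈ N, ⁅n, g⁆ ∈ N := fun n hn => commutator_le_left N ⊤ (commutator_mem_commutator hn (mem_top g))
  rcases h.trans H.gen ((h.mem z).2 z3) z1 hx with hb | ⟨k, b, hb, rfl⟩
  · exact hn x hb
  · have := rN k _ (z2 ((ρ ^ k).symm g))
    rw [map_commutatorElement, MulEquiv.apply_symm_apply] at this
    have e : ⁅(ρ ^ k) z * b, g⁆ = (ρ ^ k) z * ⁅b, g⁆ * ((ρ ^ k) z)⁻¹ * ⁅(ρ ^ k) z, g⁆ := by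
      simp only [commutatorElement_def]; group
    rw [e]
    exact N.mul_mem (h.nN.conj_mem _ (hn b hb) _) this

theorem cent' (h : St α ρ l N M π) {x : Q} (hx : x ∈ M) (g : Q) : ⁅g, x⁆ ∈ N := by
  rw [← commutatorElement_inv]; exact N.inv_mem (h.cent H hx g)

theorem conj (h : St α ρ l N M π) {x : Q} (hx : x ∈ M) (g : Q) : g * x * g⁻¹ ∈ M ∧ π (g * x * g⁻¹) = π x := by
  have e : g * x * g⁻¹ = ⁅g, x⁆ * x := by simp only [commutatorElement_def]; group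
  have := h.cent' H hx g
  rw [e, h.add _ (h.le this) _ hx, h.zero this, zero_add]
  exact ⟨M.mul_mem (h.le this) hx, rfl⟩

theorem nM (h : St α ρ l N M π) : M.Normal := ⟨fun _ hx g => (h.conj H hx g).1⟩

theorem aM (h : St α ρ l N M π) {x : Q} (hx : x ∈ M) : α x ∈ M ∧ π (α x) = π x := by
  have h1 := (h.mem x).1 hx
  rw [← mul_inv_cancel_left x (α x), h.add _ hx _ (h.le h1), h.zero h1, add_zero]
  exact ⟨M.mul_mem hx (h.le h1), rfl⟩

theorem cl (h : St α ρ l N M π) {x y z : Q} (h1 : ⁅x, z⁆ ∈ M) (h2 : ⁅y, z⁆ ∈ M) :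
    π ⁅x * y, z⁆ = π ⁅x, z⁆ + π ⁅y, z⁆ := by
  have e : ⁅x * y, z⁆ = x * ⁅y, z⁆ * x⁻¹ * ⁅x, z⁆ := by simp only [commutatorElement_def]; group
  rw [e, h.add _ (h.conj H h2 x).1 _ h1, (h.conj H h2 x).2, add_comm]

theorem cr (h : St α ρ l N M π) {x y z : Q} (h1 : ⁅z, x⁆ ∈ M) (h2 : ⁅z, y⁆ ∈ M) :
    π ⁅z, x * y⁆ = π ⁅z, x⁆ + π ⁅z, y⁆ := by
  have e : ⁅z, x * y⁆ = ⁅z, x⁆ * (x * ⁅z, y⁆ * x⁻¹) := by simp only [commutatorElement_def]; group
  rw [e, h.add _ h1 _ (h.conj H h2 x).1, (h.conj H h2 x).2]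

theorem cs (h : St α ρ l N M π) {x y : Q} (h1 : ⁅x, y⁆ ∈ M) : π ⁅y, x⁆ = π ⁅x, y⁆ := by
  rw [← commutatorElement_inv, h.inv h1]

theorem ce (h : St α ρ l N M π) {x y : Q} (h1 : ⁅x, y⁆ ∈ M) : π ⁅ρ x, ρ y⁆ = l * π ⁅x, y⁆ := by
  rw [← map_commutatorElement, h.eqv _ h1]

theorem next (h : St α ρ l N M π) (hM : M ≠ ⊤) : ∃ M', St α ρ l M M' fun g => π (g⁻¹ * α g) := by
  haveI := h.nM H
  have e : ∀ x y, (x * y)⁻¹ * α (x * y) = y⁻¹ * (x⁻¹ * α x) * y⁻¹⁻¹ * (y⁻¹ * α y) := fun x y => by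
    rw [map_mul]; group
  have er : ∀ x, (ρ x)⁻¹ * α (ρ x) = ρ (x⁻¹ * α x) := fun x => by rw [H.com, map_mul, map_inv]
  let M' : Subgroup Q :=
    { carrier := {g | g⁻¹ * α g ∈ M}
      one_mem' := by simp
      mul_mem' := fun {x y} hx hy => by
        change _ ∈ M
        rw [e]; exact M.mul_mem (h.conj H hx _).1 hy
      inv_mem' := fun {x} hx => by
        change _ ∈ M
        have := (h.conj H (M.inv_mem hx) x).1
        convert this using 1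
        rw [map_inv]; group }
  have hr : ∀ x ∈ M', ρ x ∈ M' ∧ π ((ρ x)⁻¹ * α (ρ x)) = l * π (x⁻¹ * α x) := fun x hx => by
    change _ ∈ M ∧ _
    rw [er]; exact ⟨h.rho _ hx, h.eqv _ hx⟩
  refine ⟨M', ⟨fun x hx => M.mul_mem (M.inv_mem hx) (h.aM H hx).1, fun x hx y hy => ?_, fun x hx => ?_, fun c => ?_,
    fun x hx => (hr x hx).1, fun x hx => (hr x hx).2⟩, inferInstance, fun x hx => (h.aM H hx).1, fun _ => Iff.rfl⟩
  · rw [e, h.add _ (h.conj H hx _).1 _ hy, (h.conj H hx _).2]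
  · rw [h.ker _ hx, h.mem]
  · obtain ⟨z, z1, -, z3⟩ := H.cfix (fun x hx => (h.aM H hx).1) hM
    by_cases hc : c = 0
    · exact ⟨1, M'.one_mem, by simp [hc, h.one]⟩
    have h1 : π (z⁻¹ * α z) ≠ 0 := fun e => z1 ((h.mem z).2 ((h.ker _ z3).1 e))
    obtain ⟨k, hk⟩ := H.gen _ (div_ne_zero hc h1)
    have : (ρ ^ k) z ∈ M' ∧ π (((ρ ^ k) z)⁻¹ * α ((ρ ^ k) z)) = l ^ k * π (z⁻¹ * α z) := by
      clear hk
      induction k with
      | zero => rw [pow_zero, pow_zero, one_mul]; exact ⟨z3, rfl⟩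
      | succ k ih =>
        rw [pow_succ', MulAut.mul_apply, (hr _ ih.1).2, ih.2, pow_succ', mul_assoc]
        exact ⟨(hr _ ih.1).1, rfl⟩
    exact ⟨_, this.1, by rw [this.2, hk, div_mul_cancel₀ _ h1]⟩

theorem stop (h : St α ρ l N M π) (h' : St α ρ l M M' π') (hs : ∀ x ∈ M', x * x ∈ N) : M' = ⊤ := by
  by_contra hM
  haveI := h'.nM H
  obtain ⟨z, z1, -, z3⟩ := H.cfix (fun x hx => (h'.aM H hx).1) hM
  refine z1 ((h'.mem z).2 ((h.mem _).2 ?_))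
  have := N.inv_mem (hs _ z3)
  convert this using 1
  rw [map_mul, map_inv, H.aa]; group

theorem stop' (h : St α ρ l N M π) (h' : St α ρ l M M' π') {z : Q} (hz : z ∈ M') (hz' : z ∉ M) (hs : z * z ∈ N) :
    M' = ⊤ := by
  refine h.stop H h' fun x hx => ?_
  rcases h'.trans H.gen hz hz' hx with hb | ⟨k, b, hb, rfl⟩
  · exact h.sq hb
  · have h1 : (ρ ^ k) z * (ρ ^ k) z ∈ N := by
      rw [← map_mul]
      exact (h.ker _ (h.pow k (h.le hs)).1).1 (by rw [(h.pow k (h.le hs)).2, h.zero hs, mul_zero])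
    have e : (ρ ^ k) z * b * ((ρ ^ k) z * b) = (ρ ^ k) z * (ρ ^ k) z * ⁅((ρ ^ k) z)⁻¹, b⁆ * (b * b) := by
      simp only [commutatorElement_def]; group
    rw [e]
    exact N.mul_mem (N.mul_mem h1 (h.cent' H hb _)) (h.sq hb)

/-- Two coordinates on an elementary abelian quotient of order `q²`. -/
theorem coord (h : St α ρ l N M π) (h' : St α ρ l M ⊤ π') (hs : ∀ x, x * x ∈ N) :
    ∃ (A : Subgroup Q) (v : Q → F), Ln ρ l N A π' ∧ (∀ x y, v (x * y) = v x + v y) ∧ (∀ x ∈ M, v x = π x) ∧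
      (∀ x, x ∈ A ↔ v x = 0) ∧ ∀ x, ∃ a ∈ A, ∃ m ∈ M, x = a * m := by
  obtain ⟨w, w1, w2⟩ := BS.exists_coord (g := (⟨fun _ _ => 0, by simp, by simp⟩ : BS.Bi Q F)) f2 M π h.add
    (fun _ _ _ => rfl) fun x => ⟨h.le (hs x), h.zero (hs x)⟩
  simp only [add_zero] at w1
  obtain ⟨m, hm⟩ : ∃ m, Nat.card F - 1 = m := ⟨_, rfl⟩
  have hl0 : l ≠ 0 := by
    rintro rfl
    obtain ⟨c, c1, c2⟩ := BS.exists_ne_ne H.big (0 : F) 1
    obtain ⟨k, hk⟩ := H.gen c c1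
    rcases k with _ | k
    · exact c2 (by simpa using hk.symm)
    · exact c1 (by simpa using hk.symm)
  have hlm : l ^ m = 1 := by
    cases nonempty_fintype F
    rw [← hm, Nat.card_eq_fintype_card]; exact FiniteField.pow_card_sub_one_eq_one l hl0
  have hm1 : (m : F) = 1 := by
    cases nonempty_fintype F
    rw [← hm, Nat.cast_sub Nat.card_pos, Nat.card_eq_fintype_card, FiniteField.cast_card_eq_zero, Nat.cast_one]
    linear_combination - f2 (1 : F)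
  let v : Q → F := fun x => ∑ k ∈ Finset.range m, l⁻¹ ^ k * w ((ρ ^ k) x)
  have v1 : ∀ x y, v (x * y) = v x + v y := fun x y => by
    simp only [v, map_mul, w1, mul_add, Finset.sum_add_distrib]
  have v2 : ∀ x ∈ M, v x = π x := fun x hx => by
    have : ∀ k ∈ Finset.range m, l⁻¹ ^ k * w ((ρ ^ k) x) = π x := fun k _ => by
      rw [w2 _ (h.pow k hx).1, (h.pow k hx).2, ← mul_assoc, ← mul_pow, inv_mul_cancel₀ hl0, one_pow, one_mul]
    simp only [v]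
    rw [Finset.sum_congr rfl this, Finset.sum_const, Finset.card_range, nsmul_eq_mul, hm1, one_mul]
  have v3 : ∀ x, v (ρ x) = l * v x := fun x => by
    have e1 := Finset.sum_range_succ' (fun k => l⁻¹ ^ k * w ((ρ ^ k) x)) m
    rw [Finset.sum_range_succ, ← hm, H.ord, hm, inv_pow l m, hlm, pow_zero, pow_zero, inv_one, add_left_inj] at e1
    simp only [v]
    rw [e1, Finset.mul_sum]
    refine Finset.sum_congr rfl fun k _ => ?_
    rw [pow_succ ρ, MulAut.mul_apply, pow_succ]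
    field_simp
  have v0 : v 1 = 0 := by simpa using v1 1 1
  have vi : ∀ x, v x⁻¹ = v x := fun x => by
    have := v1 x x⁻¹
    rw [mul_inv_cancel, v0] at this
    linear_combination -this - f2 (v x)
  let A : Subgroup Q :=
    { carrier := {x | v x = 0}
      one_mem' := v0
      mul_mem' := fun {x y} hx hy => by change _ = _ at hx hy ⊢; rw [v1, hx, hy, add_zero]
      inv_mem' := fun {x} hx => by change _ = _ at hx ⊢; rw [vi, hx] }
  have dec : ∀ x, ∃ a ∈ A, ∃ m ∈ M, x = a * m := fun x => by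
    obtain ⟨y, hy, e⟩ := h.surj (v x)
    exact ⟨x * y⁻¹, by change _ = _; rw [v1, vi, v2 y hy, e, f2], y, hy, by group⟩
  refine ⟨A, v, ⟨fun x hx => (v2 x (h.le hx)).trans (h.zero hx), fun x _ y _ => h'.add x trivial y trivial,
    fun x hx => ?_, fun c => ?_, fun x hx => by change _ = _ at hx ⊢; rw [v3, hx, mul_zero],
    fun x _ => h'.eqv x trivial⟩, v1, v2, fun _ => Iff.rfl, dec⟩
  · rw [h'.ker x trivial]
    exact ⟨fun e => (h.ker x e).1 ((v2 x e).symm.trans hx), fun e => h.le e⟩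
  · obtain ⟨x, -, e⟩ := h'.surj c
    obtain ⟨a, ha, m, hm, rfl⟩ := dec x
    exact ⟨a, ha, by rw [← e, h'.add _ trivial _ trivial, h'.zero hm, add_zero]⟩

omit H in
theorem comm_of_sq (hN : N.Normal) (hs : ∀ x, x * x ∈ N) (x y : Q) : ⁅x, y⁆ ∈ N := by
  have e : ⁅x, y⁆ = x * y * (x * y) * (y⁻¹ * (x⁻¹ * x⁻¹) * y⁻¹⁻¹) * (y⁻¹ * y⁻¹) := by
    simp only [commutatorElement_def]; group
  rw [e]
  exact N.mul_mem (N.mul_mem (hs _) (hN.conj_mem _ (hs _) _)) (hs _)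

/-- The mixed commutators in the special case. -/
theorem mixed (h : St α ρ l N M π) (hs : ∀ x, x * x ∈ M) {A A' : Subgroup Q} {u u' : Q → F} (hA : Ln ρ l M A u)
    (hA' : Ln ρ l M A' u') : ∃ c, ∀ x ∈ A, ∀ y ∈ A', π ⁅x, y⁆ ^ 2 = c * u x * u' y := by
  have hc := comm_of_sq (h.nM H) hs
  exact hA.bil H.gen hA' (fun _ _ _ _ _ _ => h.cl H (hc _ _) (hc _ _)) (fun _ _ _ _ _ _ => h.cr H (hc _ _) (hc _ _))
    (fun x hx z _ => h.zero (h.cent H hx z)) (fun x hx z _ => h.zero (h.cent' H hx z))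
    fun _ _ _ _ => h.ce H (hc _ _)

theorem pure (h : St α ρ l N M π) {A : Subgroup Q} {u : Q → F} (hA : Ln ρ l M A u) :
    ∀ x ∈ A, ∀ y ∈ A, ⁅x, y⁆ ∈ N := by
  have hc : ∀ x ∈ A, ∀ y ∈ A, ⁅x, y⁆ ∈ M := by
    intro x hx y hy
    rw [commutatorElement_def, ← hA.ker _ (A.mul_mem (A.mul_mem (A.mul_mem hx hy) (A.inv_mem hx)) (A.inv_mem hy)),
      hA.add _ (A.mul_mem (A.mul_mem hx hy) (A.inv_mem hx)) _ (A.inv_mem hy), hA.add _ (A.mul_mem hx hy) _ (A.inv_mem hx),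
      hA.add _ hx _ hy, hA.inv hx, hA.inv hy]
    linear_combination f2 (u x) + f2 (u y)
  intro x hx y hy
  rw [← h.ker _ (hc x hx y hy)]
  exact hA.alt H.gen (f := fun x y => π ⁅x, y⁆) (fun _ hx _ hy _ hz => h.cl H (hc _ hx _ hz) (hc _ hy _ hz))
    (fun _ hx _ hy _ hz => h.cr H (hc _ hz _ hx) (hc _ hz _ hy)) (fun x hx z _ => h.zero (h.cent H hx z))
    (fun x hx z _ => h.zero (h.cent' H hx z)) (fun _ hx _ hy => h.ce H (hc _ hx _ hy))
    (fun x _ => by simp [h.one]) x hx y hy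

theorem mixed_ne (h : St α ρ l N M π) (hs : ∀ x, x * x ∈ M) {A A' : Subgroup Q} {u u' : Q → F} (hA : Ln ρ l M A u)
    (hA' : Ln ρ l M A' u') (dec : ∀ x, ∃ a ∈ A, ∃ m ∈ A', x = a * m) (hna : ∃ x y : Q, ⁅x, y⁆ ∉ N) :
    ∃ x ∈ A, ∃ y ∈ A', π ⁅x, y⁆ ≠ 0 := by
  have hc := comm_of_sq (h.nM H) hs
  by_contra! hh
  obtain ⟨x, y, hxy⟩ := hna
  obtain ⟨a, ha, m, hm, rfl⟩ := dec x
  obtain ⟨b, hb, n, hn, rfl⟩ := dec y
  refine hxy ((h.ker _ (hc _ _)).1 ?_)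
  rw [h.cl H (hc _ _) (hc _ _), h.cr H (hc _ _) (hc _ _), h.cr H (hc _ _) (hc _ _), hh a ha n hn,
    h.cs H (hc b m), hh b hb m hm, h.zero (h.pure H hA a ha b hb), h.zero (h.pure H hA' m hm n hn)]
  simp

/-- There is no fourth step above a nonabelian quotient. -/
theorem no_four (h : St α ρ l N M π) (h' : St α ρ l M M' π') (h'' : St α ρ l M' M'' π'') {u : Q → F}
    (h3 : St α ρ l M'' ⊤ u) (hs : ∀ x, x * x ∈ M') (hna : ∃ x y : Q, ⁅x, y⁆ ∉ M) : False := by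
  obtain ⟨A, -, hA, -, -, -, dec⟩ := h''.coord H h3 hs
  have hc := comm_of_sq (h'.nM H) hs
  have p1 := h.pure H h'.toLn
  have key : ∀ (A A' : Subgroup Q) (u u' : Q → F), Ln ρ l M' A u → Ln ρ l M' A' u' →
      (∃ x ∈ A, ∃ y ∈ A', π' ⁅x, y⁆ ≠ 0) → ∀ z ∈ M', ∀ w ∈ A, π ⁅z, w⁆ = 0 := by
    intro A A' u u' hA hA' ⟨x₀, hx₀, y₀, hy₀, hne⟩
    obtain ⟨μ, hμ⟩ := h'.mixed H hs hA hA'
    have μ0 : μ ≠ 0 := fun e => hne (by
      have := hμ x₀ hx₀ y₀ hy₀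
      rw [e, zero_mul, zero_mul] at this
      exact pow_eq_zero_iff two_ne_zero |>.1 this)
    obtain ⟨c, hc'⟩ := h'.toLn.bil H.gen hA (f := fun z w => π ⁅z, w⁆)
      (fun _ hx _ hy _ _ => h.cl H (h'.cent H hx _) (h'.cent H hy _))
      (fun _ _ _ _ _ hz => h.cr H (h'.cent H hz _) (h'.cent H hz _)) (fun x hx z _ => h.zero (h.cent H hx z))
      (fun x hx z hz => h.zero (p1 z hz x hx)) fun _ hx _ _ => h.ce H (h'.cent H hx _)
    have cjj : ∀ z ∈ M', ∀ w g : Q, π ⁅z, g * w * g⁻¹⁆ = π ⁅z, w⁆ := by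
      intro z hz w g
      rw [show g * w * g⁻¹ = ⁅g, w⁆ * w by simp only [commutatorElement_def]; group,
        h.cr H (h'.cent H hz _) (h'.cent H hz _), h.zero (p1 z hz _ (hc g w)), zero_add]
    obtain ⟨a, a0, a1⟩ := BS.exists_ne_ne H.big (0 : F) 1
    obtain ⟨x, hx, ex⟩ := hA.surj 1
    obtain ⟨w, hw, ew⟩ := hA.surj a
    obtain ⟨y, hy, ey⟩ := hA'.surj 1
    have hw' : ⁅⁅x, y⁆, y * w * y⁻¹⁆ * ⁅⁅y, w⁆, w * x * w⁻¹⁆ * ⁅⁅w, x⁆, x * y * x⁻¹⁆ = 1 := by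
      simp only [commutatorElement_def]; group
    have e := congrArg π hw'
    rw [h.add _ (M.mul_mem (h'.cent H (hc _ _) _) (h'.cent H (hc _ _) _)) _ (h'.cent H (hc _ _) _),
      h.add _ (h'.cent H (hc _ _) _) _ (h'.cent H (hc _ _) _), cjj _ (hc _ _), cjj _ (hc _ _), h.one,
      h.zero (h.cent H (h'.pure H hA w hw x hx) _), add_zero] at e
    have e1 := hc' _ (hc x y) w hw
    have e2 := hc' _ (hc y w) x hx
    have e3 := hμ x hx y hy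
    have e4 := hμ w hw y hy
    rw [h'.cs H (hc w y)] at e2
    rw [ew] at e1 e4
    rw [ex] at e2 e3
    rw [ey] at e3 e4
    have e5 : π ⁅⁅x, y⁆, w⁆ = π ⁅⁅y, w⁆, x⁆ := by linear_combination e - f2 (π ⁅⁅y, w⁆, x⁆)
    rw [e5, e2] at e1
    have e6 : c ^ 2 * (μ * a * (a - 1)) = 0 := by
      linear_combination (-(c * π' ⁅w, y⁆ + c * π' ⁅x, y⁆ * a)) * e1 + c ^ 2 * e4 - c ^ 2 * a ^ 2 * e3
    have c0 : c = 0 := by simpa [μ0, a0, sub_ne_zero.2 a1] using e6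
    intro z hz w hw
    have := hc' z hz w hw
    rw [c0, zero_mul, zero_mul] at this
    exact pow_eq_zero_iff two_ne_zero |>.1 this
  obtain ⟨x, hx, y, hy, hne⟩ := h'.mixed_ne H hs hA h''.toLn dec hna
  have k1 := key _ _ _ _ hA h''.toLn ⟨x, hx, y, hy, hne⟩
  have k2 := key _ _ _ _ h''.toLn hA ⟨y, hy, x, hx, by rwa [h'.cs H (hc x y)]⟩
  have k3 : ∀ z ∈ M', ∀ w, ⁅z, w⁆ ∈ N := fun z hz w => by
    obtain ⟨a, ha, m, hm, rfl⟩ := dec w
    rw [← h.ker _ (h'.cent H hz _), h.cr H (h'.cent H hz _) (h'.cent H hz _), k1 z hz a ha, k2 z hz m hm, add_zero]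
  have := h.stop' H h' (hc x y) (fun e => hne (h'.zero e)) (by
    have e : ⁅x, y⁆ * ⁅x, y⁆ = ⁅⁅x, y⁆, x⁆ * ⁅x * x, y⁆ := by simp only [commutatorElement_def]; group
    rw [e]; exact N.mul_mem (k3 _ (hc _ _) _) (k3 _ (hs x) _))
  obtain ⟨z, -, hz⟩ := h''.ne
  exact hz (this ▸ mem_top z)

/-- The structure theorem. -/
theorem main (N : Subgroup Q) : ∀ {M : Subgroup Q} {π : Q → F}, St α ρ l N M π →
    ((∀ x y : Q, ⁅x, y⁆ ∈ N) ∧ ∃ B u, Ln ρ l B ⊤ u ∧ ∀ x ∈ B, ∃ y, ∃ n ∈ N, x = y * y * n) ∨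
    ((∀ x, x * x ∈ N) ∧ St α ρ l M ⊤ fun g => π (g⁻¹ * α g)) ∨
    ((∃ x y : Q, ⁅x, y⁆ ∉ N) ∧ (∀ x, x * x ∈ M) ∧ ∃ M', St α ρ l M M' (fun g => π (g⁻¹ * α g)) ∧
      St α ρ l M' ⊤ fun g => π ((g⁻¹ * α g)⁻¹ * α (g⁻¹ * α g))) := by
  induction N using WellFoundedGT.induction with
  | ind N ih =>
  intro M π h
  by_cases hM : M = ⊤
  · subst hM
    exact Or.inl ⟨fun x y => h.cent H trivial y, N, π, h.toLn, fun x hx => ⟨1, x, hx, by simp⟩⟩
  obtain ⟨M', h'⟩ := h.next H hM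
  have hlt : N < M := by
    obtain ⟨z, z1, z2⟩ := h.ne
    exact lt_of_le_of_ne h.le fun e => z2 (e ▸ z1)
  rcases ih M hlt h' with ⟨c1, B, u, hB, hB'⟩ | ⟨c1, h''⟩ | ⟨c1, c2, M'', h'', h3⟩
  · have hB0 : ∀ x ∈ B, ∀ z, π ⁅x, z⁆ = 0 := by
      intro x hx z
      obtain ⟨y, n, hn, rfl⟩ := hB' x hx
      rw [h.cl H (c1 _ _) (c1 _ _), h.cl H (c1 _ _) (c1 _ _), f2, h.zero (h.cent H hn z), add_zero]
    have ab : ∀ x y : Q, ⁅x, y⁆ ∈ N := fun x y => (h.ker _ (c1 x y)).1 (hB.alt H.gen (f := fun x y => π ⁅x, y⁆)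
      (fun _ _ _ _ _ _ => h.cl H (c1 _ _) (c1 _ _)) (fun _ _ _ _ _ _ => h.cr H (c1 _ _) (c1 _ _))
      (fun x hx z _ => hB0 x hx z) (fun x hx z _ => by rw [h.cs H (c1 _ _)]; exact hB0 x hx z)
      (fun _ _ _ _ => h.ce H (c1 _ _)) (fun x _ => by simp [h.one]) x trivial y trivial)
    by_cases hs : ∀ x ∈ M', x * x ∈ N
    · obtain rfl := h.stop H h' hs
      exact Or.inr (Or.inl ⟨fun x => hs x trivial, h'⟩)
    · push Not at hs
      obtain ⟨z, z1, z2⟩ := hs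
      refine Or.inl ⟨ab, B, u, hB, fun x hx => ?_⟩
      obtain ⟨y, m, hm, rfl⟩ := hB' x hx
      rcases h.trans H.gen (h'.sq z1) z2 hm with hb | ⟨k, b, hb, rfl⟩
      · exact ⟨y, m, hb, rfl⟩
      · rw [map_mul]
        generalize (ρ ^ k) z = w
        refine ⟨y * w, w⁻¹ * ⁅y⁻¹, w⁻¹⁆ * w⁻¹⁻¹ * b, N.mul_mem (h.nN.conj_mem _ (ab _ _) _) hb, ?_⟩
        simp only [commutatorElement_def]; group
  · by_cases hna : ∃ x y : Q, ⁅x, y⁆ ∉ N
    · exact Or.inr (Or.inr ⟨hna, c1, M', h', h''⟩)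
    · exfalso
      push Not at hna
      obtain ⟨z, -, z2⟩ := h''.ne
      refine z2 (h.stop' H h' ((h''.mem z).1 trivial) (fun e => z2 ((h'.mem z).2 e)) ?_ ▸ mem_top z)
      have e : z⁻¹ * α z * (z⁻¹ * α z) = z⁻¹ * ⁅α z, z⁻¹⁆ * z⁻¹⁻¹ * ((z * z)⁻¹ * α (z * z)) := by
        simp only [commutatorElement_def, map_mul]; group
      rw [e]
      exact N.mul_mem (h.nN.conj_mem _ (hna _ _) _) ((h.mem _).1 (c1 z))
  · exact (h.no_four H h' h'' h3 c2 c1).elim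

end St

end Cfsg.Lib.Amalg.Sing
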