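import Cfsg.Agent.Lib.Amalg.Sing1
import Cfsg.Agent.Lib.Fus.UT3
import Cfsg.Agent.Lib.R2.U34
import Mathlib.Algebra.QuadraticAlgebra.Basic

/-! `2`-groups with an involutory automorphism whose fixed points carry a Singer cycle: identification. -/

set_option autoImplicit false
set_option linter.unusedSectionVars false

namespace Cfsg.Lib.Amalg.Sing

open Subgroup
open scoped commutatorElement

variable {Q : Type*} [Group Q] [Finite Q]

theorem iso_l3 {F : Type*} [Field F] [Finite F] [CharP F 2] {C : Subgroup Q} {π p p' : Q → F}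
    (h1 : ∀ x ∈ C, ∀ y ∈ C, π (x * y) = π x + π y) (h2 : ∀ x ∈ C, π x = 0 → x = 1)
    (h3 : ∀ x y, p (x * y) = p x + p y) (h4 : ∀ x y, p' (x * y) = p' x + p' y)
    (h5 : ∀ x, x ∈ C ↔ p x = 0 ∧ p' x = 0) (h6 : ∀ x, x * x ∈ C ∧ π (x * x) = p x * p' x)
    (h7 : Nat.card Q = Nat.card F ^ 3) (P : Sylow 2 (Matrix.ProjectiveSpecialLinearGroup (Fin 3) F)) :
    Nonempty (Q ≃* (P : Subgroup (Matrix.ProjectiveSpecialLinearGroup (Fin 3) F))) := by
  obtain ⟨w, w1, w2⟩ := BS.exists_coord (g := (⟨fun x y => p x * p' y, fun x y z => by rw [h3, add_mul],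
    fun x y z => by rw [h4, mul_add]⟩ : BS.Bi Q F)) f2 C π h1 (fun z hz x => by simp [((h5 z).1 hz).1]) h6
  simp only at w1
  let f : Q →* Matrix.SpecialLinearGroup (Fin 3) F := MonoidHom.mk' (fun x => Fus.ut3 (p x) (p' x) (w x))
    fun x y => by rw [Fus.ut3_mul, h3, h4, w1]
  have hf : ∀ x, f x = 1 → x = 1 := fun x hx => by
    obtain ⟨e1, e2, e3⟩ := Fus.ut3_inj.1 (hx.trans Fus.ut3_zero.symm)
    have := (h5 x).2 ⟨e1, e2⟩
    exact h2 x this ((w2 x this).symm.trans e3)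
  have hr : f.range = Linear.slUnitri 3 F := by
    refine eq_of_le_of_card_ge (by rintro _ ⟨x, rfl⟩; exact Fus.ut3_mem _ _ _) ?_
    rw [Linear.card_slUnitri, ← Nat.card_congr (MonoidHom.ofInjective ((injective_iff_map_eq_one f).2 hf)).toEquiv, h7]
  let k := QuotientGroup.mk' (center (Matrix.SpecialLinearGroup (Fin 3) F))
  have hk : Function.Injective (k.comp f) := (injective_iff_map_eq_one _).2 fun x hx => hf x (by
    obtain ⟨r, -, hr'⟩ := Matrix.SpecialLinearGroup.mem_center_iff.1 ((QuotientGroup.eq_one_iff _).1 hx)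
    have h0 := (Linear.mem_slUnitri.1 (Fus.ut3_mem (p x) (p' x) (w x))).2 0
    have h0' := congrFun (congrFun hr' 0) 0
    have : r = 1 := by simpa using h0'.trans h0
    rw [this, map_one] at hr'
    exact Subtype.ext hr'.symm)
  let S := ((Linear.isPGroup_slUnitri (p := 2) (F := F) 3).toSylow (Linear.not_dvd_index_slUnitri 3)).mapSurjective
    (QuotientGroup.mk'_surjective (center (Matrix.SpecialLinearGroup (Fin 3) F)))
  have hS : (k.comp f).range = S := by rw [MonoidHom.range_comp, hr]; rfl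
  exact ⟨((MonoidHom.ofInjective hk).trans (MulEquiv.subgroupCongr hS)).trans (Sylow.equiv S P)⟩

theorem iso_u3 {K : Type*} [Field K] {σ : K →+* K} {q : ℕ} (c : Forms.IsConj σ q) (hK2 : (2 : K) = 0)
    {C : Subgroup Q} {π u : Q → K}
    (h1 : ∀ x ∈ C, ∀ y ∈ C, π (x * y) = π x + π y) (h2 : ∀ x ∈ C, π x = 0 → x = 1) (h2' : ∀ x, σ (π x) = π x)
    (h3 : ∀ x y, u (x * y) = u x + u y) (h5 : ∀ x, x ∈ C ↔ u x = 0)
    (h6 : ∀ x, x * x ∈ C ∧ π (x * x) = σ (u x) * u x) (h7 : Nat.card Q = q ^ 3) : Nonempty (Q ≃* U3.Heis c) := by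
  haveI := c.finite
  obtain ⟨θ, θ1⟩ := c.exists_trace_eq (a := 1) (map_one σ)
  obtain ⟨v, v1, v2⟩ := BS.exists_coord (g := (⟨fun x y => σ (u x) * u y, fun x y z => by rw [h3, map_add, add_mul],
    fun x y z => by rw [h3, mul_add]⟩ : BS.Bi Q K)) (fun m => by linear_combination m * hK2) C π h1
    (fun z hz x => by simp [(h5 z).1 hz]) h6
  simp only at v1
  obtain ⟨T, hT⟩ : ∃ T : Q → K, ∀ x, T x = v x + σ (v x) + u x * σ (u x) := ⟨_, fun _ => rfl⟩
  have Tσ : ∀ x, σ (T x) = T x := fun x => by rw [hT]; simp only [map_add, map_mul, c.σσ]; ring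
  have Tm : ∀ x y, T (x * y) = T x + T y := fun x y => by
    rw [hT, hT, hT, v1, h3]
    simp only [map_add, map_mul, c.σσ]
    linear_combination (σ (u x) * u y + u x * σ (u y)) * hK2
  let f : Q →* U3.Heis c := MonoidHom.mk' (fun x => ⟨u x, v x + θ * T x, by
      rw [map_add, map_mul, Tσ]; linear_combination T x * θ1 - hT x + (T x) * hK2⟩) fun x y =>
    U3.Heis.ext (h3 x y) (by
      simp only [U3.Heis.mul_b, v1, Tm]
      linear_combination σ (u x) * u y * hK2)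
  refine ⟨MulEquiv.ofBijective f ((Nat.bijective_iff_injective_and_card f).2
    ⟨(injective_iff_map_eq_one f).2 fun x hx => ?_, by rw [h7, U3.Heis.card]⟩)⟩
  have e1 : u x = 0 := congrArg U3.Heis.a hx
  have e3 : v x + θ * T x = 0 := congrArg U3.Heis.b hx
  have e4 := (h5 x).2 e1
  have e5 : T x = 0 := by rw [hT, v2 x e4, h2', e1]; linear_combination π x * hK2
  rw [e5, v2 x e4, mul_zero, add_zero] at e3
  exact h2 x e4 e3

theorem iso_form {F : Type} [Field F] [Finite F] [CharP F 2] {n : ℕ} (hF : Nat.card F = 2 ^ n) {C : Subgroup Q}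
    {π s t : Q → F} {a : F} (h1 : ∀ x ∈ C, ∀ y ∈ C, π (x * y) = π x + π y) (h2 : ∀ x ∈ C, π x = 0 → x = 1)
    (h3 : ∀ x y, s (x * y) = s x + s y) (h4 : ∀ x y, t (x * y) = t x + t y)
    (h5 : ∀ x, x ∈ C ↔ s x = 0 ∧ t x = 0) (h6 : ∀ x, x * x ∈ C ∧ π (x * x) = a * s x ^ 2 + s x * t x + t x ^ 2)
    (h7 : Nat.card Q = Nat.card F ^ 3) :
    (∃ (K : Type) (_ : Field K) (_ : Fintype K), Fintype.card K = 4 ^ n ∧
      ∀ S : Sylow 2 (Cfsg.PSU 3 K (2 ^ n)), Nonempty (Q ≃* (S : Subgroup (Cfsg.PSU 3 K (2 ^ n))))) ∨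
    ∀ P : Sylow 2 (Matrix.ProjectiveSpecialLinearGroup (Fin 3) F),
      Nonempty (Q ≃* (P : Subgroup (Matrix.ProjectiveSpecialLinearGroup (Fin 3) F))) := by
  by_cases hr : ∃ r : F, r ^ 2 = a + 1 * r
  · obtain ⟨r, hr⟩ := hr
    refine Or.inr (iso_l3 (p := fun x => t x + r * s x) (p' := fun x => t x + (r + 1) * s x) h1 h2
      (fun x y => by rw [h3, h4]; ring) (fun x y => by rw [h3, h4]; ring) (fun x => ?_) (fun x => ⟨(h6 x).1, ?_⟩) h7)
    · rw [h5]
      exact ⟨fun h => by simp [h.1, h.2], fun h => by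
        have : s x = 0 := by linear_combination h.2 - h.1
        simpa [this] using h.1⟩
    · rw [(h6 x).2]
      linear_combination (-s x ^ 2) * hr - f2 (r * s x * t x) - f2 (r * s x ^ 2)
  · push Not at hr
    haveI := Fact.mk hr
    left
    let K := QuadraticAlgebra F a 1
    haveI : Finite K := Finite.of_equiv _ (QuadraticAlgebra.equivProd a 1).symm
    letI : Fintype K := Fintype.ofFinite K
    have hK : Fintype.card K = (2 ^ n) ^ 2 := by
      rw [← Nat.card_eq_fintype_card, Nat.card_congr (QuadraticAlgebra.equivProd a 1), Nat.card_prod, hF, sq]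
    obtain ⟨σ, c⟩ := Forms.isConj_of_card hK
    have hK2 := U3.two_eq_zero c rfl
    let ι := algebraMap F K
    have hισ : ∀ x, σ (ι x) = ι x := fun x => by
      cases nonempty_fintype F
      rw [c.apply, ← map_pow, ← hF, Nat.card_eq_fintype_card, FiniteField.pow_card]
    let θ : K := QuadraticAlgebra.omega
    have θ2 : θ * θ = ι a + θ := by simpa using QuadraticAlgebra.omega_mul_omega_eq_algebraMap (R := F) (a := a) (b := 1)
    have dec : ∀ z : K, z = ι z.re + ι z.im * θ := fun z => by ext <;> simp [ι, θ, K]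
    have θ1 : σ θ = θ + 1 := by
      have e := congrArg σ θ2
      rw [map_mul, map_add, hισ] at e
      have : (σ θ - θ) * (σ θ - (θ + 1)) = 0 := by linear_combination e - θ2 + (θ * θ - σ θ * θ) * hK2
      rcases mul_eq_zero.1 this with h | h
      · obtain ⟨z, hz⟩ := c.exists_not_fixed
        exact absurd (by rw [dec z, map_add, map_mul, hισ, hισ, sub_eq_zero.1 h]) hz
      · exact sub_eq_zero.1 h
    refine ⟨K, inferInstance, inferInstance, by rw [hK, ← pow_mul, mul_comm, pow_mul]; rfl, fun S => ?_⟩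
    obtain ⟨e⟩ := U3.sylow_psu c rfl S
    obtain ⟨f⟩ := iso_u3 c hK2 (C := C) (π := fun x => ι (π x)) (u := fun x => ι (t x) + ι (s x) * θ)
      (fun x hx y hy => by rw [h1 x hx y hy, map_add]) (fun x hx h => h2 x hx (by simpa using h)) (fun x => hισ _)
      (fun x y => by rw [h3, h4, map_add, map_add]; ring) (fun x => by
        rw [h5]
        refine ⟨fun h => by simp [h.1, h.2], fun h => ⟨?_, ?_⟩⟩
        · simpa [ι, θ, K] using congrArg QuadraticAlgebra.im h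
        · simpa [ι, θ, K] using congrArg QuadraticAlgebra.re h)
      (fun x => ⟨(h6 x).1, by
        rw [(h6 x).2]
        simp only [map_add, map_mul, map_pow, hισ, θ1]
        linear_combination (-ι (s x) ^ 2) * θ2 - (ι (s x) ^ 2 * θ + ι (s x) * ι (t x) * θ) * hK2⟩) (by rw [h7, hF])
    exact ⟨f.trans e.symm⟩

section

variable {F : Type*} [Field F] [Finite F] [CharP F 2] {α ρ : MulAut Q} {l : F}

theorem Ln.card {B A : Subgroup Q} {u : Q → F} (h : Ln ρ l B A u) : Nat.card A = Nat.card B * Nat.card F := by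
  let f : A →* Multiplicative F := MonoidHom.mk' (fun x => Multiplicative.ofAdd (u x)) fun x y => h.add _ x.2 _ y.2
  have h1 : f.ker = B.subgroupOf A := by ext x; exact h.ker _ x.2
  have h2 : Function.Surjective f := fun c => by obtain ⟨x, hx, e⟩ := h.surj c.toAdd; exact ⟨⟨x, hx⟩, e⟩
  rw [← f.ker.card_mul_index, index_ker, MonoidHom.range_eq_top.2 h2, card_top, h1,
    Nat.card_congr (subgroupOfEquivOfLe h.le).toEquiv]
  rfl

theorem St.form (H : Hy α ρ l) {C M : Subgroup Q} {π π' : Q → F} (h : St α ρ l ⊥ C π) (h' : St α ρ l C M π')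
    (h'' : St α ρ l M ⊤ fun g => π' (g⁻¹ * α g)) (hs : ∀ x, x * x ∈ C) (hna : ∃ x y : Q, ⁅x, y⁆ ∉ (⊥ : Subgroup Q)) :
    ∃ (ν a : F) (s t : Q → F), ν ≠ 0 ∧ (∀ x y, s (x * y) = s x + s y) ∧ (∀ x y, t (x * y) = t x + t y) ∧
      (∀ x, x ∈ C ↔ s x = 0 ∧ t x = 0) ∧ ∀ x, π (x * x) / ν = a * s x ^ 2 + s x * t x + t x ^ 2 := by
  obtain ⟨A, v, hA, v1, v2, v3, dec⟩ := h'.coord H h'' hs
  set u : Q → F := fun g => π' (g⁻¹ * α g) with hu
  have u1 : ∀ x y, u (x * y) = u x + u y := fun x y => h''.add x trivial y trivial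
  have hc := St.comm_of_sq (h.nM H) hs
  have sqm : ∀ x y, π (x * y * (x * y)) = π (x * x) + π (y * y) + π ⁅x, y⁆ := by
    intro x y
    have e : x * y * (x * y) = x * x * (x⁻¹ * ⁅y, x⁆ * x⁻¹⁻¹) * (x⁻¹ * (x * (y * y) * x⁻¹) * x⁻¹⁻¹) := by
      simp only [commutatorElement_def]; group
    rw [e, h.add _ (C.mul_mem (hs x) (h.conj H (hc _ _) _).1) _ (h.conj H (h.conj H (hs y) _).1 _).1,
      h.add _ (hs x) _ (h.conj H (hc _ _) _).1, (h.conj H (hc _ _) _).2, (h.conj H (h.conj H (hs y) _).1 _).2,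
      (h.conj H (hs y) _).2, h.cs H (hc x y)]
    ring
  have lin : ∀ {A : Subgroup Q} {u : Q → F}, Ln ρ l C A u → ∃ c, ∀ x ∈ A, π (x * x) = c * u x := fun hA =>
    hA.lin H.gen (f := fun x => π (x * x))
      (fun x hx y hy => by rw [sqm, h.zero (h.pure H hA x hx y hy), add_zero]) (fun x hx => h.zero (h.sq hx))
      fun x _ => by rw [← map_mul, h.eqv _ (hs x)]
  obtain ⟨a, ha⟩ := lin hA
  obtain ⟨d, hd⟩ := lin h'.toLn
  obtain ⟨μ, hμ⟩ := h.mixed H hs hA h'.toLn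
  obtain ⟨x₀, hx₀, y₀, hy₀, hne⟩ := h.mixed_ne H hs hA h'.toLn dec hna
  choose r hr using BS.exists_sq' (F := F)
  have ri : ∀ {x y : F}, x ^ 2 = y ^ 2 → x = y := fun {x y} e => by
    have : (x - y) ^ 2 = 0 := by linear_combination e + f2 (y ^ 2) - f2 (x * y)
    exact sub_eq_zero.1 (pow_eq_zero_iff two_ne_zero |>.1 this)
  have ra : ∀ x y, r (x + y) = r x + r y := fun x y => ri (by
    linear_combination hr (x + y) - hr x - hr y - f2 (r x * r y))
  have r0 : ∀ x, r x = 0 ↔ x = 0 := fun x => ⟨fun e => by rw [← hr x, e, mul_zero], fun e => by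
    have := hr x; rw [e] at this ⊢; exact mul_self_eq_zero.1 this⟩
  have ν0 : r μ ≠ 0 := fun e => hne (by
    have := hμ x₀ hx₀ y₀ hy₀
    rw [(r0 μ).1 e, zero_mul, zero_mul] at this
    exact pow_eq_zero_iff two_ne_zero |>.1 this)
  have all : ∀ x, π (x * x) = a * u x + d * v x + r μ * r (u x) * r (v x) := by
    intro x
    obtain ⟨y, hy, m, hm, rfl⟩ := dec x
    rw [sqm, ha y hy, hd m hm, u1, v1, (v3 y).1 hy, h''.zero hm, v2 m hm, add_zero, zero_add]
    congr 1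
    refine ri ?_
    rw [hμ y hy m hm, mul_pow, mul_pow, sq, sq, sq, hr, hr, hr]
  have hdν : d = r μ := by
    obtain ⟨x, -, ex⟩ := h''.surj 1
    have m := (h''.mem x).1 trivial
    have e1 := all x
    have e2 := all (α x)
    rw [← map_mul, (h.aM H (hs x)).2, (h''.aM H (mem_top x)).2, ← mul_inv_cancel_left x (α x), v1, v2 _ m, ra] at e2
    change π' (x⁻¹ * α x) = 1 at ex
    rw [show u x = 1 from ex] at e1 e2
    rw [ex] at e2
    linear_combination e1 - e2 - r μ * hr 1 - f2 (r μ)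
  refine ⟨r μ, a / r μ, fun x => r (u x), fun x => r (v x), ν0, fun x y => by simp only [u1, ra],
    fun x y => by simp only [v1, ra],
    fun x => ?_, fun x => ?_⟩
  · rw [r0, r0, h''.ker x trivial]
    exact ⟨fun e => ⟨h'.le e, (v2 x (h'.le e)).trans (h'.zero e)⟩, fun e => (h'.ker x e.1).1 ((v2 x e.1).symm.trans e.2)⟩
  · rw [all, sq, sq, hr, hr, hdν]
    field_simp
    ring

end

theorem base {α ρ : MulAut Q} (hQ : IsPGroup 2 Q) {n : ℕ} (hn : 2 ≤ n) (hα : ∀ x, α (α x) = x)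
    (hρ : ρ ^ (2 ^ n - 1) = 1) (hc : ∀ x, α (ρ x) = ρ (α x)) {C : Subgroup Q} (hC : ∀ x, x ∈ C ↔ α x = x)
    (hCE : Cfsg.IsElementaryAbelian 2 C) (hCc : Nat.card C = 2 ^ n)
    (htr : ∀ x y : Q, x ∈ C → y ∈ C → x ≠ 1 → y ≠ 1 → ∃ k : ℕ, (ρ ^ k) x = y) :
    ∃ (F : Type) (_ : Field F) (_ : Fintype F) (_ : CharP F 2) (l : F) (π : Q → F), Nat.card F = 2 ^ n ∧ Hy α ρ l ∧
      St α ρ l ⊥ C π := by
  classical
  have h4 : 4 ≤ 2 ^ n := Nat.pow_le_pow_right (by norm_num : 0 < 2) hn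
  have r1 : ∀ x ∈ C, ρ x ∈ C := fun x hx => by rw [hC, hc, (hC x).1 hx]
  have r2 : ∀ x ∈ C, ρ.symm x ∈ C := fun x hx => by
    rw [hC]; apply ρ.injective; rw [← hc, ρ.apply_symm_apply, (hC x).1 hx]
  let τ : MulAut C := ⟨⟨fun x => ⟨ρ x, r1 _ x.2⟩, fun x => ⟨ρ.symm x, r2 _ x.2⟩, fun x => by simp, fun x => by simp⟩,
    fun x y => Subtype.ext (map_mul ρ _ _)⟩
  have hτ : ∀ (k : ℕ) (x : C), ((τ ^ k) x : Q) = (ρ ^ k) x := by
    intro k x
    induction k with
    | zero => rfl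
    | succ k ih => rw [pow_succ', pow_succ', MulAut.mul_apply, MulAut.mul_apply, ← ih]; rfl
  haveI : Nontrivial C := Finite.one_lt_card_iff_nontrivial.1 (by omega)
  haveI := hCE.1
  obtain ⟨F, _, _, π, χ, p1, p2, p3, -⟩ := BS.singer_act (zpowers τ).subtype (fun W hW => by
    by_cases h : W = ⊥
    · exact Or.inl h
    obtain ⟨⟨x, hx⟩, x1⟩ := (ne_bot_iff_exists_ne_one.1 h)
    refine Or.inr (eq_top_iff.2 fun y _ => ?_)
    by_cases y1 : y = 1
    · exact y1 ▸ W.one_mem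
    obtain ⟨k, hk⟩ := htr x y x.2 y.2 (fun e => x1 (Subtype.ext (Subtype.ext e))) fun e => y1 (Subtype.ext e)
    have := hW ⟨τ ^ k, pow_mem (mem_zpowers τ) k⟩ x hx
    rwa [show (zpowers τ).subtype ⟨τ ^ k, pow_mem (mem_zpowers τ) k⟩ x = y from Subtype.ext ((hτ k x).trans hk)] at this)
  have hF : Nat.card F = 2 ^ n := by rw [← hCc, Nat.card_congr (Equiv.ofBijective π p1)]
  have π1 : π 1 = 0 := by simpa using p2 1 1
  haveI : CharP F 2 := CharTwo.of_one_ne_zero_of_two_eq_zero one_ne_zero (by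
    obtain ⟨x, hx⟩ := p1.2 1
    have := p2 x x
    rw [show x * x = 1 from Subtype.ext ((sq (x : Q)).symm.trans (hCE.2 _ x.2)), π1, hx] at this
    linear_combination -this)
  have hL : Ln ρ (χ ⟨τ, mem_zpowers τ⟩) ⊥ C fun x => if h : x ∈ C then π ⟨x, h⟩ else 0 := by
    refine ⟨bot_le, fun x hx y hy => ?_, fun x hx => ?_, fun c => ?_, r1, fun x hx => ?_⟩
    · rw [dif_pos hx, dif_pos hy, dif_pos (C.mul_mem hx hy), ← p2]; rfl
    · rw [dif_pos hx, ← π1, p1.1.eq_iff, mem_bot, Subtype.ext_iff]; rfl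
    · obtain ⟨x, rfl⟩ := p1.2 c
      exact ⟨x, x.2, by rw [dif_pos x.2]⟩
    · rw [dif_pos hx, dif_pos (r1 x hx), ← p3]; rfl
  refine ⟨F, inferInstance, inferInstance, inferInstance, χ ⟨τ, mem_zpowers τ⟩, _, hF,
    ⟨hQ, hα, hc, hF ▸ hρ, fun a ha => ?_, by omega⟩, hL, inferInstance, fun x hx => by rw [mem_bot.1 hx, map_one]; rfl,
    fun g => by rw [hC, mem_bot, inv_mul_eq_one, eq_comm]⟩
  obtain ⟨x, hx, e1⟩ := hL.surj 1
  obtain ⟨y, hy, e2⟩ := hL.surj a
  obtain ⟨k, rfl⟩ := htr x y hx hy (fun e => one_ne_zero (e1.symm.trans (hL.zero e))) fun e => ha (e2.symm.trans (hL.zero e))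
  exact ⟨k, by rw [← e2, (hL.pow k hx).2, e1, mul_one]⟩

/-- The classification. -/
theorem classify {α ρ : MulAut Q} (hQ : IsPGroup 2 Q) {n : ℕ} (hn : 2 ≤ n) (hα : ∀ x, α (α x) = x)
    (hρ : ρ ^ (2 ^ n - 1) = 1) (hc : ∀ x, α (ρ x) = ρ (α x)) {C : Subgroup Q} (hC : ∀ x, x ∈ C ↔ α x = x)
    (hCE : Cfsg.IsElementaryAbelian 2 C) (hCc : Nat.card C = 2 ^ n)
    (htr : ∀ x y : Q, x ∈ C → y ∈ C → x ≠ 1 → y ≠ 1 → ∃ k : ℕ, (ρ ^ k) x = y) :
    ((∀ x y : Q, x * y = y * x) ∧ ∀ x, x * x = 1 → x ∈ C) ∨ ((∀ x : Q, x * x = 1) ∧ Nat.card Q = 2 ^ n * 2 ^ n) ∨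
    (∃ (K : Type) (_ : Field K) (_ : Fintype K), Fintype.card K = 4 ^ n ∧
      ∀ S : Sylow 2 (Cfsg.PSU 3 K (2 ^ n)), Nonempty (Q ≃* (S : Subgroup (Cfsg.PSU 3 K (2 ^ n))))) ∨
    ∃ (F : Type) (_ : Field F) (_ : Fintype F), Fintype.card F = 2 ^ n ∧
      ∀ P : Sylow 2 (Matrix.ProjectiveSpecialLinearGroup (Fin 3) F),
        Nonempty (Q ≃* (P : Subgroup (Matrix.ProjectiveSpecialLinearGroup (Fin 3) F))) := by
  obtain ⟨F, _, _, _, l, π, hF, H, h⟩ := base hQ hn hα hρ hc hC hCE hCc htr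
  rcases St.main H ⊥ h with ⟨c1, B, u, hB, hB'⟩ | ⟨c1, h'⟩ | ⟨c1, c2, M, h', h''⟩
  · have ab : ∀ x y : Q, x * y = y * x := fun x y => commutatorElement_eq_one_iff_mul_comm.1 (c1 x y)
    refine Or.inl ⟨ab, ?_⟩
    let f : Q →* Q := MonoidHom.mk' (fun x => x * x) fun x y => (show Commute y x from ab y x).mul_mul_mul_comm _ _
    have h1 : B ≤ f.range := fun x hx => by
      obtain ⟨y, m, hm, rfl⟩ := hB' x hx
      exact ⟨y, by rw [mem_bot.1 hm, mul_one]; rfl⟩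
    have h2 : C ≤ f.ker := fun x hx => (sq x).symm.trans (hCE.2 x hx)
    have h3 := f.ker.card_mul_index
    rw [index_ker, ← card_top (G := Q), hB.card, hF, ← hCc, mul_comm (Nat.card B)] at h3
    have h4 : Nat.card f.ker ≤ Nat.card C := by
      by_contra hh
      have := Nat.mul_lt_mul_of_lt_of_le (not_le.1 hh) (card_le_of_le h1) Nat.card_pos
      omega
    intro x hx
    rw [eq_of_le_of_card_ge h2 h4]; exact hx
  · exact Or.inr (Or.inl ⟨c1, by rw [← card_top (G := Q), h'.toLn.card, hCc, hF]⟩)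
  · obtain ⟨ν, a, s, t, ν0, s1, t1, st, hq⟩ := h.form H h' h'' c2 c1
    rcases iso_form hF (C := C) (π := fun x => π x / ν) (fun x hx y hy => by rw [h.add x hx y hy, add_div])
      (fun x hx e => (h.ker x hx).1 (by simpa [ν0] using e)) s1 t1 st (fun x => ⟨c2 x, hq x⟩)
      (by rw [← card_top (G := Q), h''.toLn.card, h'.toLn.card, hCc, hF]; ring) with e | e
    · exact Or.inr (Or.inr (Or.inl e))
    · exact Or.inr (Or.inr (Or.inr ⟨F, inferInstance, inferInstance, by rw [← Nat.card_eq_fintype_card, hF], e⟩))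

end Cfsg.Lib.Amalg.Sing
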