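import Cfsg.Agent.Lib.Amalg.StrongEmb

/-! Control of Sylow intersections by a family of subgroups. -/

set_option autoImplicit false
set_option linter.unusedSectionVars false

namespace Cfsg.Lib.Amalg

open Subgroup
open Cfsg.Lib.Core hiding isPGroup_subgroupOf isPGroup_subgroupOf_iff isPGroup_map_subtype_iff
  isPGroup_zpowers_of_orderOf
open Relation

variable {G : Type*} [Group G] {p : ℕ}

theorem subgroupOf_inf' (A B H : Subgroup G) :
    (A ⊓ B).subgroupOf H = A.subgroupOf H ⊓ B.subgroupOf H := rfl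

theorem mem_sylowMembers {𝓕 : Set (Subgroup G)} {S X : Subgroup G} :
    X ∈ sylowMembers p 𝓕 S ↔ X ∈ 𝓕 ∧ Syl p (S ⊓ X) X := by
  rw [syl_iff_exists_sylow]; rfl

theorem mem_functorFamily {f : Subgroup G → Set (Subgroup G)} {M X : Subgroup G} :
    X ∈ functorFamily p f M ↔ ∃ P, Syl p P M ∧ ∃ F ∈ f P, X = M ⊓ 𝐍 F :=
  ⟨fun ⟨P, h⟩ => ⟨_, syl_of_sylow P, h⟩, fun ⟨P, hP, h⟩ => by
    obtain ⟨S, rfl⟩ := hP.exists_sylow; exact ⟨S, h⟩⟩

theorem normalSet_cj {𝓕 : Set (Subgroup G)} (h : IsNormalSet 𝓕) {X : Subgroup G} (hX : X ∈ 𝓕)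
    (g : G) : cj g X ∈ 𝓕 := by
  have := h X hX g⁻¹
  rwa [subgroupConjRight, inv_inv] at this

/-- One step of a chain controlling the Sylow intersection `D`. -/
def Step (p : ℕ) (𝓕 : Set (Subgroup G)) (D A B : Subgroup G) : Prop :=
  D ≤ B ∧ ∃ X ∈ 𝓕, D ≤ X ∧ Syl p (A ⊓ X) X ∧ ∃ x ∈ X, cj x A = B

/-- `𝓕` controls Sylow intersections in `H`. -/
def Ctrl (p : ℕ) (𝓕 : Set (Subgroup G)) (H : Subgroup G) : Prop :=
  ∀ S T, Syl p S H → Syl p T H → S ⊓ T ≠ ⊥ → ReflTransGen (Step p 𝓕 (S ⊓ T)) S T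

theorem Step.mono {𝓕 𝓕' : Set (Subgroup G)} {D D' A B : Subgroup G} (h : Step p 𝓕 D A B)
    (h1 : 𝓕 ⊆ 𝓕') (h2 : D' ≤ D) : Step p 𝓕' D' A B :=
  let ⟨a, X, b, c, d⟩ := h
  ⟨h2.trans a, X, h1 b, h2.trans c, d⟩

theorem Step.conj {𝓕 : Set (Subgroup G)} (h𝓕 : IsNormalSet 𝓕) {D A B : Subgroup G}
    (h : Step p 𝓕 D A B) (g : G) : Step p 𝓕 (cj g D) (cj g A) (cj g B) := by
  obtain ⟨a, X, b, c, d, x, hx, rfl⟩ := h
  refine ⟨cj_mono g a, cj g X, normalSet_cj h𝓕 b g, cj_mono g c, by rw [← cj_inf]; exact d.conj g,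
    _, conj_mem_cj g hx, ?_⟩
  rw [← cj_mul, ← cj_mul, inv_mul_cancel_right]

theorem syl_inf_conj {A X : Subgroup G} (h : Syl p (A ⊓ X) X) {x : G} (hx : x ∈ X) :
    Syl p (cj x A ⊓ X) X := by
  have := h.conj_of_mem hx
  rwa [cj_inf, cj_of_mem hx] at this

theorem ctrl_top_iff {𝓕 : Set (Subgroup G)} : Ctrl p 𝓕 ⊤ ↔ ControlsSylowIntersections p 𝓕 := by
  constructor
  · intro h S T _ hne
    have h1 := h S T (syl_top S) (syl_top T) hne
    have h2 : ∀ B, ReflTransGen (Step p 𝓕 ((S : Subgroup G) ⊓ T)) S B → ∃ B' : Sylow p G,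
        (B' : Subgroup G) = B ∧ ReflTransGen
          (fun A B : Sylow p G => Step p 𝓕 ((S : Subgroup G) ⊓ T) A B) S B' := by
      intro B hB
      induction hB with
      | refl => exact ⟨S, rfl, .refl⟩
      | tail _ hs ih =>
        obtain ⟨B', rfl, ih⟩ := ih
        obtain ⟨a, X, b, c, d, x, hx, rfl⟩ := hs
        exact ⟨x • B', coe_smul_sylow x B', ih.tail (by
          rw [coe_smul_sylow]; exact ⟨a, X, b, c, d, x, hx, rfl⟩)⟩
    obtain ⟨B', e, h3⟩ := h2 _ h1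
    obtain rfl : B' = T := Sylow.ext e
    obtain ⟨n, c, a1, a2, a3⟩ := reflTransGen_iff_fin.1 h3
    choose b1 X b2 b3 b4 x b5 b6 using a3
    refine ⟨n, c, X, x, a1, a2, fun i => ⟨mem_sylowMembers.2 ⟨b2 i, b4 i⟩,
      mem_sylowMembers.2 ⟨b2 i, b6 i ▸ syl_inf_conj (b4 i) (b5 i)⟩, b5 i, ?_, le_inf (b1 i) (b3 i)⟩⟩
    rw [← b6 i]; exact cj_inv_cj _ _
  · intro h S T hS hT hne
    obtain ⟨S, rfl⟩ := syl_top_iff.1 hS
    obtain ⟨T, rfl⟩ := syl_top_iff.1 hT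
    by_cases e : S = T
    · rw [e]
    obtain ⟨n, c, X, x, a1, a2, a3⟩ := h S T e hne
    refine reflTransGen_iff_fin.2 ⟨n, fun i => c i, congrArg _ a1, congrArg _ a2, fun i => ?_⟩
    obtain ⟨b1, -, b3, b4, b5⟩ := a3 i
    refine ⟨b5.trans inf_le_left, X i, (mem_sylowMembers.1 b1).1, b5.trans inf_le_right,
      (mem_sylowMembers.1 b1).2, x i, b3, ?_⟩
    exact (congrArg (fun A => cj (x i) A) b4).symm.trans (cj_cj_inv _ _)

theorem ctrl_iff_subgroupOf {𝓕 : Set (Subgroup G)} {H : Subgroup G} (h𝓕 : ∀ X ∈ 𝓕, X ≤ H) :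
    ControlsSylowIntersections p ((fun X : Subgroup G => X.subgroupOf H) '' 𝓕) ↔ Ctrl p 𝓕 H := by
  rw [← ctrl_top_iff]
  constructor
  · intro h S T hS hT hne
    have h1 := h _ _ hS.subgroupOf_top hT.subgroupOf_top (by
      rw [← subgroupOf_inf', Ne, subgroupOf_eq_bot, disjoint_iff,
        inf_eq_left.2 (inf_le_left.trans hS.le)]; exact hne)
    have h2 := h1.lift (p := Step p 𝓕 (S ⊓ T)) (fun A => A.map H.subtype) (by
      rintro A B ⟨a, _, ⟨X, b, rfl⟩, c, d, x, hx, rfl⟩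
      have e : S ⊓ T = (S.subgroupOf H ⊓ T.subgroupOf H).map H.subtype := by
        rw [← subgroupOf_inf', map_subgroupOf_of_le (inf_le_left.trans hS.le)]
      refine ⟨e ▸ map_mono a, X, b, ?_, ?_, x, hx, cj_map_subtype x A⟩
      · rw [e, ← map_subgroupOf_of_le (h𝓕 X b)]; exact map_mono c
      · have := d.map_subtype
        rwa [map_inf _ _ _ H.subtype_injective, map_subgroupOf_of_le (h𝓕 X b)] at this)
    simpa only [Function.onFun, map_subgroupOf_of_le hS.le, map_subgroupOf_of_le hT.le] using h2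
  · intro h S T hS hT hne
    have h1 := h _ _ (syl_map_subtype_of_top hS) (syl_map_subtype_of_top hT) (by
      rwa [← map_inf _ _ _ H.subtype_injective, Ne,
        map_eq_bot_iff_of_injective _ H.subtype_injective])
    have h2 := h1.lift (p := Step p ((fun X : Subgroup G => X.subgroupOf H) '' 𝓕) (S ⊓ T))
      (fun A => A.subgroupOf H) (by
      rintro A B ⟨a, X, b, c, d, x, hx, rfl⟩
      have e : S ⊓ T = (S.map H.subtype ⊓ T.map H.subtype).subgroupOf H := by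
        rw [subgroupOf_inf', map_subtype_subgroupOf, map_subtype_subgroupOf]
      refine ⟨e ▸ subgroupOf_mono _ a, _, ⟨X, b, rfl⟩, e ▸ subgroupOf_mono _ c, ?_,
        ⟨x, h𝓕 X b hx⟩, hx, cj_subgroupOf _ A⟩
      rw [← subgroupOf_inf']; exact d.subgroupOf (h𝓕 X b))
    simpa only [Function.onFun, map_subtype_subgroupOf] using h2

theorem functorRegular_iff {f : Subgroup G → Set (Subgroup G)} {M : Subgroup G} :
    IsFunctorRegular p f M ↔ Ctrl p (functorFamily p f M) M :=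
  ctrl_iff_subgroupOf fun _ hX => by
    obtain ⟨P, -, F, -, rfl⟩ := mem_functorFamily.1 hX; exact inf_le_left

theorem normalSet_functorFamily {f : Subgroup G → Set (Subgroup G)} (hf : IsNormalizerFunctor p f) :
    IsNormalSet (functorFamily p f ⊤) := by
  intro X hX g
  obtain ⟨P, hP, F, hF, rfl⟩ := mem_functorFamily.1 hX
  refine mem_functorFamily.2 ⟨_, hP.conj_top g⁻¹, cj g⁻¹ F, ?_, ?_⟩
  · rw [(hf P hP.isPGroup).2]; exact ⟨F, hF, rfl⟩
  · rw [subgroupConjRight, cj_inf, cj_top, cj_normalizer]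

variable [hp : Fact p.Prime] [Finite G]

/-- A step inside `M` for the functor family: both ends lie in `N(F)`. -/
theorem Step.functor {f : Subgroup G → Set (Subgroup G)} (hf : IsNormalizerFunctor p f)
    {M D A B : Subgroup G} (hA : Syl p A M) (h : Step p (functorFamily p f M) D A B) :
    Syl p B M ∧ D ≤ B ∧ ∃ P, Syl p P M ∧ ∃ F ∈ f P, A ≤ 𝐍 F ∧ ∃ x ∈ 𝐍 F, cj x A = B := by
  obtain ⟨a, X, b, c, d, x, hx, rfl⟩ := h
  obtain ⟨P, hP, F, hF, rfl⟩ := mem_functorFamily.1 b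
  refine ⟨hA.conj_of_mem hx.1, a, P, hP, F, hF, ?_, x, hx.2, rfl⟩
  have := d.of_le_of_not_dvd inf_le_left (hP.not_dvd_relIndex_of_le
    (le_inf hP.le (le_normalizer.trans ((hf P hP.isPGroup).1 F hF).2)))
  exact (this.le_of_le inf_le_left hA.le hA.isPGroup).trans (inf_le_right.trans inf_le_right)

theorem Ctrl.lift_top {f : Subgroup G → Set (Subgroup G)} (hf : IsNormalizerFunctor p f)
    {M S A B : Subgroup G} (h : Ctrl p (functorFamily p f M) M) (hS : Syl p S ⊤) (hSM : S ≤ M)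
    (hA : Syl p A M) (hB : Syl p B M) (hne : A ⊓ B ≠ ⊥) :
    ReflTransGen (Step p (functorFamily p f ⊤) (A ⊓ B)) A B := by
  have h1 := h A B hA hB hne
  generalize A ⊓ B = D at h1
  suffices Syl p B M ∧ ReflTransGen (Step p (functorFamily p f ⊤) D) A B from this.2
  clear hB hne
  induction h1 with
  | refl => exact ⟨hA, .refl⟩
  | tail _ hs ih =>
    obtain ⟨a1, a2, P, a3, F, a4, a5, x, a6, rfl⟩ := hs.functor hf ih.1
    refine ⟨a1, ih.2.tail ⟨a2, 𝐍 F, mem_functorFamily.2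
      ⟨P, hS.of_contains hSM le_top a3, F, a4, (top_inf_eq _).symm⟩,
      a2.trans (cj_le_of_le_of_mem a5 a6), ?_, x, a6, rfl⟩⟩
    rw [inf_eq_left.2 a5]
    exact (hS.of_contains hSM le_top ih.1).of_le a5 le_top

theorem exists_syl_between {S G₁ G₂ : Subgroup G} (hS : Syl p S ⊤) (h1 : S ≤ G₁) (h2 : S ≤ G₂)
    (h : ∀ g : G, ∃ g₁ ∈ G₁, ∃ g₂ ∈ G₂, g = g₁ * g₂) (g : G) :
    ∃ U, Syl p U ⊤ ∧ S ⊓ cj g S ≤ U ∧ U ≤ G₁ ⊓ cj g G₂ := by
  obtain ⟨a, ha, b, hb, rfl⟩ := h g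
  obtain ⟨U, u1, u2⟩ := exists_syl_ge (hS.isPGroup.to_le (inf_le_left : S ⊓ cj (a * b) S ≤ S))
    (inf_le_inf h1 (cj_mono _ h2))
  refine ⟨U, (hS.conj_top a).of_contains (le_inf (cj_le_of_le_of_mem h1 ha) ?_) le_top u1, u2, u1.le⟩
  rw [cj_mul, cj_of_mem hb]; exact cj_mono a h2

end Cfsg.Lib.Amalg
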