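import Cfsg.Agent.Lib.Amalg.TVAmb
import Cfsg.Agent.Lib.KS9.Offender

/-! The action of a `p`-minimal group of characteristic `p` on `Ω₁ Z O_p`. -/

set_option autoImplicit false
set_option linter.unusedSectionVars false

namespace Cfsg.Lib.Amalg.TV

open Subgroup
open Cfsg.Lib.BG1 (mim mpre mker)
open Cfsg.Lib.Transfer (maxEl)

universe u

variable {G : Type u} [Group G] [Finite G] {p : ℕ} [Fact p.Prime]

/-- The basic situation. -/
structure TH (p : ℕ) (H T M : Subgroup G) : Prop where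
  ch : CharP p H
  syl : Syl p T H
  umax : UMax T H M
  cz : H ⊓ 𝐂 (omegaOneCenter p T) ≤ M
  nj : ¬ H ≤ 𝐍 (thompsonSubgroupOf p T)

namespace TH

variable {H T M : Subgroup G}

theorem norm (_h : TH p H T M) : H ≤ 𝐍 (omegaOneCenter p (pCoreOf p H)) := le_norm_omZ (le_norm_op H)

theorem cent_le (h : TH p H T M) : H ⊓ 𝐂 (omegaOneCenter p (pCoreOf p H)) ≤ M :=
  (inf_le_inf_left _ (centralizer_le (SetLike.coe_subset_coe.2
    (h.ch.omZ_le h.syl.le h.syl.op_le)))).trans h.cz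

theorem inf_cent_eq (h : TH p H T M) : T ⊓ 𝐂 (omegaOneCenter p (pCoreOf p H)) = pCoreOf p H := by
  refine le_antisymm ?_ (le_inf h.syl.op_le (le_cent_omZ _))
  refine le_trans (le_inf inf_le_left (inf_le_inf_right _ h.syl.le))
    (h.umax.inf_le_op h.syl le_rfl h.cent_le (Core.le_normalizer_inf le_normalizer
      (h.norm.trans (Core.normalizer_le_normalizer_centralizer _))))

theorem not_thompson_le (h : TH p H T M) :
    ¬ thompsonSubgroupOf p T ≤ 𝐂 (omegaOneCenter p (pCoreOf p H)) := fun c => h.nj (by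
  rw [← Transfer.thompsonOf_eq_of_le ((le_inf (Transfer.thompsonOf_le T) c).trans h.inf_cent_eq.le)
    h.syl.op_le]
  exact (le_norm_op H).trans (Transfer.normalizer_le_normalizer_thompsonOf _))

theorem exists_maxEl (h : TH p H T M) :
    ∃ A ∈ maxEl p T, ¬ A ≤ 𝐂 (omegaOneCenter p (pCoreOf p H)) := by
  by_contra hh
  push Not at hh
  exact h.not_thompson_le (Transfer.thompsonOf_le_iff.2 hh)

variable {P W : Type*} [Group P] [AddCommGroup W] [DistribMulAction P W] [Finite P] [Finite W]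
  {π : H →* P} {ι : Multiplicative W →* G}

theorem ph (h : TH p H T M) (hb : Br (omegaOneCenter p (pCoreOf p H)) H π ι) :
    PH W p (mim π T) (mim π M) := by
  refine hb.ph (isElemAb_omZ _) h.syl h.umax ?_
    (fun c => h.not_thompson_le ((Transfer.thompsonOf_le T).trans c))
    ((inf_le_inf_left _ (centralizer_le (SetLike.coe_subset_coe.2
      (le_inf (h.ch.omZ_le h.syl.le h.syl.op_le) (omZ_le_cent T))))).trans h.cz)
  have h1 : Syl p (mim π T) ⊤ := hb.mim_top ▸ BG1.syl_mim π h.syl le_rfl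
  have h2 : mpre π (pCore p P) ≤ M := by
    refine (BG1.mpre_mono π h1.pCore_le).trans ?_
    rw [BG1.mpre_mim h.syl.le, hb.mker_eq]
    exact sup_le h.cent_le h.umax.le
  have h3 := h.umax.inf_le_op h.syl le_rfl h2 (BG1.le_norm_mpre le_rfl le_normalizer_of_normal')
  have h4 := BG1.mim_mono π h3
  rw [BG1.mim_inf_mpre, inf_eq_right.2 h1.pCore_le,
    (hb.mim_eq_bot (op_le H)).2 (le_cent_omZ _)] at h4
  exact le_bot_iff.1 h4

theorem off (h : TH p H T M) (hb : Br (omegaOneCenter p (pCoreOf p H)) H π ι) {A : Subgroup G}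
    (hA : A ∈ maxEl p H) : IsElementaryAbelian p (mim π A) ∧ Nat.card W ≤ ms W (mim π A) :=
  hb.off_of_best hA.1 (KS9.maxEl_best (isElemAb_omZ _) ((omZ_le _).trans (op_le H)) hA)

theorem mem_maxEl (h : TH p H T M) {A : Subgroup G} (hA : A ∈ maxEl p T) : A ∈ maxEl p H := by
  refine ⟨hA.1.trans h.syl.le, hA.2.1, fun B hB hB' => ?_⟩
  obtain ⟨g, -, hg⟩ := h.syl.exists_conj_le (elemAb_isPGroup hB') hB
  rw [← card_cj g B]
  exact hA.2.2 _ hg (elemAb_map hB' _)

theorem exists_minOff (h : TH p H T M) (hb : Br (omegaOneCenter p (pCoreOf p H)) H π ι) :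
    ∃ B, B ≤ mim π (thompsonSubgroupOf p T) ∧ MinOff W p B := by
  obtain ⟨A, hA, hA'⟩ := h.exists_maxEl
  obtain ⟨h1, h2⟩ := h.off hb (h.mem_maxEl hA)
  obtain ⟨B, h3, h4, -⟩ := TV.exists_minOff h1
    (fun c => hA' ((hb.mim_eq_bot (hA.1.trans h.syl.le)).1 c)) h2
  exact ⟨B, h3.trans (BG1.mim_mono π (Transfer.le_thompsonOf hA)), h4⟩

theorem mim_thompson (h : TH p H T M) (hb : Br (omegaOneCenter p (pCoreOf p H)) H π ι)
    {B : Subgroup P} (hB : MinOff W p B) :
    mim π (thompsonSubgroupOf p H) = sSup (offs (P := P) W p (Nat.card B)) := by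
  have hh := h.ph hb
  apply le_antisymm
  · rw [BG1.mim_le_iff (Transfer.thompsonOf_le H), Transfer.thompsonOf_le_iff]
    intro A hA
    rw [← BG1.mim_le_iff hA.1]
    exact (hh.le_sSup hB (h.off hb hA).1 (h.off hb hA).2).trans (sSup_le_sSup fun _ e => e.1)
  · obtain ⟨C, h1, h2⟩ := h.exists_minOff hb
    obtain ⟨𝓔, hs⟩ := hh.exists_cs hB
    refine sSup_le fun X hX => ?_
    obtain ⟨g, rfl⟩ := hs.cls C ⟨h2, hh.card_eq h2 hB⟩ X hX
    refine cj_le_of_le_of_mem_normalizer (h1.trans (BG1.mim_mono π ?_))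
      ((hb.mim_top ▸ BG1.mim_norm π (Transfer.le_normalizer_thompsonOf H) :
        ⊤ ≤ 𝐍 (mim π (thompsonSubgroupOf p H))) trivial)
    exact Transfer.thompsonOf_le_iff.2 fun A hA => Transfer.le_thompsonOf (h.mem_maxEl hA)

end TH

end Cfsg.Lib.Amalg.TV
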